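import Mathlib
import Cfsg.Prelude.Def_Characters
import Cfsg.Prelude.Def_Blocks

/-!
Kernel / quotient / linear-character layer for the character vocabulary of `Def_Characters`.
Everything lives in `Cfsg.Agent.Lib.Helper79`.
-/

set_option autoImplicit false

namespace Cfsg.Agent.Lib.Helper79

open Cfsg Polynomial

universe u

/-! ### One-dimensional representations -/

/-- A representation on a one-dimensional space is irreducible. -/
theorem isIrreducible_of_finrank_eq_one {G : Type*} [Monoid G] {V : Type*} [AddCommGroup V]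
    [Module ℂ V] (ρ : Representation ℂ G V) (h : Module.finrank ℂ V = 1) : ρ.IsIrreducible := by
  have hs : IsSimpleModule ℂ V := isSimpleModule_iff_finrank_eq_one.mpr h
  have hso : IsSimpleOrder (Submodule ℂ V) := hs.toIsSimpleOrder
  refine
    { exists_pair_ne := ⟨⊥, ⊤, ?_⟩
      eq_bot_or_eq_top := ?_ }
  · intro hbt
    have : (⊥ : Submodule ℂ V) = ⊤ := congrArg Subrepresentation.toSubmodule hbt
    exact bot_ne_top this
  · intro σ
    rcases hso.eq_bot_or_eq_top σ.toSubmodule with h0 | h1
    · left
      exact Subrepresentation.toSubmodule_injective h0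
    · right
      exact Subrepresentation.toSubmodule_injective h1

/-- The one-dimensional representation attached to a homomorphism into `ℂˣ`. -/
noncomputable def linRep {G : Type*} [Monoid G] (φ : G →* ℂˣ) :
    Representation ℂ G (Fin 1 → ℂ) where
  toFun g := ((φ g : ℂˣ) : ℂ) • LinearMap.id
  map_one' := by simp; rfl
  map_mul' x y := by
    ext i j
    simp [mul_smul]
    ring

theorem linRep_character {G : Type*} [Monoid G] (φ : G →* ℂˣ) (g : G) :
    (linRep φ).character g = ((φ g : ℂˣ) : ℂ) := by
  simp [Representation.character, linRep]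

/-- A homomorphism to `ℂˣ` is an irreducible character. -/
theorem isIrrCharacter_of_monoidHom {G : Type u} [Group G] (φ : G →* ℂˣ) :
    IsIrrCharacter G (fun g => ((φ g : ℂˣ) : ℂ)) :=
  ⟨1, linRep φ, isIrreducible_of_finrank_eq_one _ (by simp), funext (linRep_character φ)⟩

theorem end_fin_one_eq_trace_smul (f : (Fin 1 → ℂ) →ₗ[ℂ] (Fin 1 → ℂ)) :
    f = (LinearMap.trace ℂ (Fin 1 → ℂ) f) • LinearMap.id := by
  have h1 : LinearMap.trace ℂ (Fin 1 → ℂ) f = (LinearMap.toMatrix' f) 0 0 := by
    rw [LinearMap.trace_eq_matrix_trace ℂ (Pi.basisFun ℂ (Fin 1))]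
    simp [Matrix.trace, LinearMap.toMatrix_eq_toMatrix']
  apply LinearMap.toMatrix'.injective
  ext i j
  fin_cases i; fin_cases j
  simp [h1]

/-- A character of degree one is a homomorphism to `ℂˣ`. -/
theorem exists_monoidHom_of_isCharacter_of_one {G : Type u} [Group G] {χ : G → ℂ}
    (h : IsCharacter G χ) (h1 : χ 1 = 1) : ∃ φ : G →* ℂˣ, ∀ g, χ g = ((φ g : ℂˣ) : ℂ) := by
  obtain ⟨n, ρ, rfl⟩ := h
  have hn : n = 1 := by
    have := Representation.char_one ρ
    rw [h1] at this
    simpa using this.symm
  subst hn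
  have hmul : ∀ g h : G, ρ.character (g * h) = ρ.character g * ρ.character h := by
    intro g h
    have e1 := end_fin_one_eq_trace_smul (ρ g)
    have e2 := end_fin_one_eq_trace_smul (ρ h)
    have : ρ (g * h) = (ρ.character g * ρ.character h) • LinearMap.id := by
      rw [map_mul, e1, e2]
      ext i j
      simp [Representation.character, mul_smul]
      ring
    unfold Representation.character at *
    rw [this]
    simp
  have hone : ρ.character 1 = 1 := h1
  let φ : G →* ℂ := ⟨⟨ρ.character, hone⟩, hmul⟩
  exact ⟨φ.toHomUnits, fun g => rfl⟩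

/-- A character of degree one is trivial on the commutator subgroup. -/
theorem isCharacter_one_commutator {G : Type u} [Group G] {χ : G → ℂ}
    (h : IsCharacter G χ) (h1 : χ 1 = 1) {g : G} (hg : g ∈ commutator G) : χ g = 1 := by
  obtain ⟨φ, hφ⟩ := exists_monoidHom_of_isCharacter_of_one h h1
  rw [hφ g]
  have : g ∈ φ.ker := (Abelianization.commutator_subset_ker φ) hg
  rw [MonoidHom.mem_ker] at this
  simp [this]

/-! ### Linear characters of groups that are not perfect -/

/-- A finite group that is not perfect has a nontrivial homomorphism to `ℂˣ`. -/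
theorem exists_monoidHom_ne_one {G : Type*} [Group G] [Finite G] (h : commutator G ≠ ⊤) :
    ∃ φ : G →* ℂˣ, φ ≠ 1 := by
  have hnt : Nontrivial (Abelianization G) := by
    by_contra hsub
    rw [not_nontrivial_iff_subsingleton] at hsub
    apply h
    rw [eq_top_iff]
    intro g _
    have : (Abelianization.of g) = 1 := Subsingleton.elim _ _
    rwa [← QuotientGroup.eq_one_iff]
  obtain ⟨a, ha⟩ := exists_ne (1 : Abelianization G)
  obtain ⟨φ, hφ⟩ := CommGroup.exists_apply_ne_one_of_hasEnoughRootsOfUnity (Abelianization G) ℂ ha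
  obtain ⟨g, rfl⟩ := QuotientGroup.mk_surjective a
  refine ⟨φ.comp Abelianization.of, fun h1 => hφ ?_⟩
  exact DFunLike.congr_fun h1 g

/-- A finite group that is not perfect has a homomorphism to `ℂˣ` whose kernel has prime index. -/
theorem exists_monoidHom_ker_index_prime {G : Type*} [Group G] [Finite G]
    (h : commutator G ≠ ⊤) : ∃ (φ : G →* ℂˣ) (p : ℕ), p.Prime ∧ φ.ker.index = p := by
  obtain ⟨φ, hφ⟩ := exists_monoidHom_ne_one h
  have hfin : Finite φ.range := Finite.of_surjective φ.rangeRestrict φ.rangeRestrict_surjective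
  have hcyc : IsCyclic φ.range := inferInstance
  set m := Nat.card φ.range with hm
  have hm0 : m ≠ 0 := Nat.card_pos.ne'
  have hm1 : m ≠ 1 := by
    intro h1
    apply hφ
    have : φ.range = ⊥ := Subgroup.card_eq_one.mp h1
    ext g
    have hg : φ g ∈ φ.range := ⟨g, rfl⟩
    rw [this, Subgroup.mem_bot] at hg
    simp [hg]
  obtain ⟨p, hp, hpm⟩ := Nat.exists_prime_and_dvd hm1
  obtain ⟨k, hk⟩ := hpm
  have hk0 : k ≠ 0 := by
    rintro rfl
    exact hm0 (by simpa using hk)
  refine ⟨φ.range.subtype.comp ((powMonoidHom k : φ.range →* φ.range).comp φ.rangeRestrict),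
    p, hp, ?_⟩
  rw [MonoidHom.ker_comp_of_injective _ _ (Subgroup.subtype_injective _)]
  rw [← MonoidHom.comap_ker, Subgroup.index_comap_of_surjective _ φ.rangeRestrict_surjective,
    IsCyclic.index_powMonoidHom_ker, ← hm, hk]
  rw [Nat.gcd_mul_left_left, Nat.mul_div_cancel _ (Nat.pos_of_ne_zero hk0)]

/-! ### Finite-order matrices with full trace -/

theorem root_pow_eq_one {n : ℕ} (A : Matrix (Fin n) (Fin n) ℂ) (q : ℕ) (hA : A ^ q = 1) (μ : ℂ)
    (hμ : μ ∈ A.charpoly.roots) : μ ^ q = 1 := by
  have hroot : A.charpoly.IsRoot μ := (mem_roots (Matrix.charpoly_monic A).ne_zero).1 hμ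
  have h1 : μ ∈ spectrum ℂ A := Matrix.mem_spectrum_iff_isRoot_charpoly.2 hroot
  have h2 : μ ^ q ∈ spectrum ℂ (A ^ q) := spectrum.pow_mem_pow A q h1
  rw [hA] at h2
  by_contra h
  apply (spectrum.mem_iff.1 h2)
  have : IsUnit (μ ^ q - 1) := IsUnit.mk0 _ (sub_ne_zero.2 h)
  have h3 := this.map (algebraMap ℂ (Matrix (Fin n) (Fin n) ℂ))
  simpa using h3

theorem card_roots_charpoly {n : ℕ} (A : Matrix (Fin n) (Fin n) ℂ) :
    Multiset.card A.charpoly.roots = n := by
  have h1 := (IsAlgClosed.splits A.charpoly)
  rw [Polynomial.splits_iff_card_roots] at h1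
  rw [h1, Matrix.charpoly_natDegree_eq_dim A]
  simp

/-- If complex numbers of norm one sum to their number then they are all `1`. -/
theorem roots_eq_one_of_sum {R : Multiset ℂ} (hnorm : ∀ μ ∈ R, ‖μ‖ = 1)
    (hsum : R.sum = (Multiset.card R : ℂ)) : ∀ μ ∈ R, μ = 1 := by
  induction R using Multiset.induction_on with
  | empty => simp
  | cons a s ih =>
    have hre : ∀ μ ∈ (a ::ₘ s), μ.re ≤ 1 := fun μ hμ => by
      have := Complex.re_le_norm μ
      rw [hnorm μ hμ] at this
      exact this
    have hsre : (s.map Complex.re).sum ≤ Multiset.card s := by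
      have := Multiset.sum_le_card_nsmul (s.map Complex.re) 1 (by
        intro x hx
        obtain ⟨μ, hμ, rfl⟩ := Multiset.mem_map.1 hx
        exact hre μ (Multiset.mem_cons_of_mem hμ))
      simpa using this
    have hsum' : a.re + (s.map Complex.re).sum = (Multiset.card s : ℝ) + 1 := by
      have := congrArg Complex.re hsum
      simp only [Multiset.sum_cons, Complex.add_re, Multiset.card_cons, Nat.cast_add,
        Nat.cast_one, Complex.natCast_re, Complex.one_re] at this
      have h2 : (s.sum).re = (s.map Complex.re).sum := by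
        have := map_multiset_sum Complex.reAddGroupHom s
        simpa using this
      rw [h2] at this
      exact this
    have ha1 : a.re = 1 := by
      have := hre a (Multiset.mem_cons_self a s)
      linarith
    have ha : a = 1 := by
      have hn := hnorm a (Multiset.mem_cons_self a s)
      have hsq : a.re ^ 2 + a.im ^ 2 = 1 := by
        have := Complex.sq_norm a
        rw [hn, Complex.normSq_apply] at this
        nlinarith [this]
      have him : a.im = 0 := by
        rw [ha1] at hsq
        nlinarith
      apply Complex.ext <;> simp [ha1, him]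
    intro μ hμ
    rcases Multiset.mem_cons.1 hμ with rfl | hμs
    · exact ha
    · apply ih (fun ν hν => hnorm ν (Multiset.mem_cons_of_mem hν)) _ μ hμs
      rw [ha] at hsum
      simp only [Multiset.sum_cons, Multiset.card_cons, Nat.cast_add, Nat.cast_one] at hsum
      linear_combination hsum

/-- A complex matrix of finite order whose trace equals its size is the identity. -/
theorem matrix_eq_one_of_trace_eq {n : ℕ} (A : Matrix (Fin n) (Fin n) ℂ) (m : ℕ) (hm : 0 < m)
    (hA : A ^ m = 1) (htr : A.trace = n) : A = 1 := by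
  have hroots1 : ∀ μ ∈ A.charpoly.roots, μ = 1 := by
    apply roots_eq_one_of_sum
    · intro μ hμ
      have := root_pow_eq_one A m hA μ hμ
      exact Complex.norm_eq_one_of_pow_eq_one this hm.ne'
    · rw [← Matrix.trace_eq_sum_roots_charpoly, htr, card_roots_charpoly]
  have hspec : ∀ k ∈ spectrum ℂ A, k = 1 := by
    intro k hk
    apply hroots1
    rw [mem_roots (Matrix.charpoly_monic A).ne_zero]
    exact Matrix.mem_spectrum_iff_isRoot_charpoly.1 hk
  rcases Nat.lt_or_ge m 2 with hlt | hge
  · have : m = 1 := by omega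
    subst this
    simpa using hA
  · set h : ℂ[X] := ∑ i ∈ Finset.range m, X ^ i with hh
    have hmul : (X - 1) * h = X ^ m - 1 := by
      rw [hh, mul_comm]
      exact geom_sum_mul X m
    have hdeg : 0 < degree h := by
      by_contra hle
      have hC := eq_C_of_degree_le_zero (not_lt.mp hle)
      have e0 : eval 0 h = 1 := by
        rw [hh, eval_finsetSum, Finset.sum_eq_single_of_mem 0 (Finset.mem_range.mpr hm)]
        · simp
        · intro b _ hb
          simp [hb]
      have e1 : eval 1 h = (m : ℂ) := by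
        simp [hh, eval_finsetSum]
      rw [hC] at e0 e1
      simp only [eval_C] at e0 e1
      rw [e0] at e1
      have : (m : ℂ) = ((1 : ℕ) : ℂ) := by simpa using e1.symm
      have := Nat.cast_injective this
      omega
    have hunit : IsUnit (aeval A h) := by
      rw [← spectrum.zero_notMem_iff ℂ]
      rw [spectrum.map_polynomial_aeval_of_degree_pos A h hdeg]
      rintro ⟨k, hk, hk0⟩
      rw [hspec k hk] at hk0
      simp [hh, eval_finsetSum] at hk0
      omega
    have h0 : (A - 1) * aeval A h = 0 := by
      have := congrArg (aeval A) hmul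
      simpa [hA] using this
    have := hunit.mul_left_eq_zero.mp h0
    exact sub_eq_zero.mp this

/-! ### Kernels of characters -/

/-- For a representation on `Fin n → ℂ`, an element of finite order acts trivially exactly when
the character takes the value `n` there. -/
theorem rep_apply_eq_one_iff {G : Type*} [Group G] {n : ℕ}
    (ρ : Representation ℂ G (Fin n → ℂ)) (g : G) (hg : IsOfFinOrder g) :
    ρ g = 1 ↔ ρ.character g = n := by
  constructor
  · intro h
    simp [Representation.character, h]
  · intro h
    have hm : 0 < orderOf g := hg.orderOf_pos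
    have hA : (LinearMap.toMatrixAlgEquiv' (ρ g)) ^ (orderOf g) = 1 := by
      rw [← map_pow, ← map_pow, pow_orderOf_eq_one, map_one, map_one]
    have htr : (LinearMap.toMatrixAlgEquiv' (ρ g)).trace = n := by
      rw [← h, Representation.character,
        LinearMap.trace_eq_matrix_trace ℂ (Pi.basisFun ℂ (Fin n)), LinearMap.toMatrix_eq_toMatrix']
      rfl
    have := matrix_eq_one_of_trace_eq _ _ hm hA htr
    apply LinearMap.toMatrixAlgEquiv'.injective
    rw [this, map_one]

theorem rep_character_one {G : Type*} [Group G] {n : ℕ}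
    (ρ : Representation ℂ G (Fin n → ℂ)) : ρ.character 1 = n := by
  simp

/-- The degree of the character of a representation on `Fin n → ℂ` is `n`. -/
theorem charDegree_rep {G : Type u} [Group G] {n : ℕ}
    (ρ : Representation ℂ G (Fin n → ℂ)) : charDegree ρ.character = n := by
  simp [charDegree]

/-- For a representation of a finite group on `Fin n → ℂ`: `χ g = χ 1` iff `g` acts trivially. -/
theorem rep_mem_ker_iff {G : Type*} [Group G] [Finite G] {n : ℕ}
    (ρ : Representation ℂ G (Fin n → ℂ)) (g : G) :
    g ∈ MonoidHom.ker ρ ↔ ρ.character g = ρ.character 1 := by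
  rw [MonoidHom.mem_ker, rep_apply_eq_one_iff ρ g (isOfFinOrder_of_finite g), rep_character_one]

/-- The kernel `{g | χ g = χ 1}` of a character of a finite group is a normal subgroup. -/
theorem exists_normal_ker {G : Type u} [Group G] [Finite G] {χ : G → ℂ} (h : IsCharacter G χ) :
    ∃ N : Subgroup G, N.Normal ∧ ∀ g, g ∈ N ↔ χ g = χ 1 := by
  obtain ⟨n, ρ, rfl⟩ := h
  exact ⟨MonoidHom.ker ρ, MonoidHom.normal_ker ρ, fun g => rep_mem_ker_iff ρ g⟩

theorem isCharacter_of_isIrrCharacter {G : Type u} [Group G] {χ : G → ℂ} (h : IsIrrCharacter G χ) :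
    IsCharacter G χ := by
  obtain ⟨n, ρ, _, h⟩ := h
  exact ⟨n, ρ, h⟩

/-- The kernel of a character of a finite group, as a subgroup. -/
noncomputable def charKer {G : Type u} [Group G] [Finite G] {χ : G → ℂ} (h : IsCharacter G χ) :
    Subgroup G := (exists_normal_ker h).choose

instance charKer_normal {G : Type u} [Group G] [Finite G] {χ : G → ℂ} (h : IsCharacter G χ) :
    (charKer h).Normal := (exists_normal_ker h).choose_spec.1

theorem mem_charKer {G : Type u} [Group G] [Finite G] {χ : G → ℂ} (h : IsCharacter G χ) (g : G) :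
    g ∈ charKer h ↔ χ g = χ 1 := (exists_normal_ker h).choose_spec.2 g

theorem card_charKer {G : Type u} [Group G] [Finite G] {χ : G → ℂ} (h : IsCharacter G χ) :
    Nat.card {g : G // χ g = χ 1} = Nat.card (charKer h) := by
  apply Nat.card_congr
  exact Equiv.subtypeEquivRight (fun g => (mem_charKer h g).symm)

/-! ### Transport of irreducibility, inflation, deflation, restriction -/

/-- If every operator of `ρ` is an operator of `ρ'` then irreducibility of `ρ` passes to `ρ'`. -/
theorem isIrreducible_of_forall_exists {G H V : Type*} [Monoid G] [Monoid H] [AddCommGroup V]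
    [Module ℂ V] (ρ : Representation ℂ G V) (ρ' : Representation ℂ H V)
    (h : ∀ g : G, ∃ k : H, ρ' k = ρ g) (hρ : ρ.IsIrreducible) : ρ'.IsIrreducible := by
  refine
    { exists_pair_ne := ⟨⊥, ⊤, ?_⟩
      eq_bot_or_eq_top := ?_ }
  · intro hbt
    have h1 : (⊥ : Submodule ℂ V) = ⊤ := congrArg Subrepresentation.toSubmodule hbt
    obtain ⟨a, b, hab⟩ := hρ.exists_pair_ne
    apply hab
    apply Subrepresentation.toSubmodule_injective
    have : ∀ s : Submodule ℂ V, s = ⊥ := fun s => by
      rw [eq_bot_iff]; intro x _; have : x ∈ (⊤ : Submodule ℂ V) := trivial; rwa [← h1] at this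
    rw [this a.toSubmodule, this b.toSubmodule]
  · intro σ
    let τ : Subrepresentation ρ := ⟨σ.toSubmodule, fun g v hv => by
      obtain ⟨k, hk⟩ := h g
      rw [← hk]
      exact σ.apply_mem_toSubmodule k hv⟩
    rcases hρ.eq_bot_or_eq_top τ with h0 | h1
    · left
      apply Subrepresentation.toSubmodule_injective
      exact congrArg (Subrepresentation.toSubmodule (ρ := ρ)) h0
    · right
      apply Subrepresentation.toSubmodule_injective
      exact congrArg (Subrepresentation.toSubmodule (ρ := ρ)) h1

/-- Restriction of a character to a subgroup is a character. -/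
theorem isCharacter_restrict {G : Type u} [Group G] {χ : G → ℂ} (h : IsCharacter G χ)
    (H : Subgroup G) : IsCharacter H (fun x : H => χ x) := by
  obtain ⟨n, ρ, rfl⟩ := h
  exact ⟨n, ρ.comp H.subtype, rfl⟩

/-- Composition of a character with a group homomorphism is a character. -/
theorem isCharacter_comp {G H : Type u} [Group G] [Group H] {χ : G → ℂ} (h : IsCharacter G χ)
    (f : H →* G) : IsCharacter H (fun x : H => χ (f x)) := by
  obtain ⟨n, ρ, rfl⟩ := h
  exact ⟨n, ρ.comp f, rfl⟩

/-- Composition of an irreducible character with a surjective homomorphism is irreducible. -/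
theorem isIrrCharacter_comp_surjective {G H : Type u} [Group G] [Group H] {χ : G → ℂ}
    (h : IsIrrCharacter G χ) (f : H →* G) (hf : Function.Surjective f) :
    IsIrrCharacter H (fun x : H => χ (f x)) := by
  obtain ⟨n, ρ, hirr, rfl⟩ := h
  refine ⟨n, ρ.comp f, ?_, rfl⟩
  apply isIrreducible_of_forall_exists ρ (ρ.comp f) _ hirr
  intro g
  obtain ⟨k, rfl⟩ := hf g
  exact ⟨k, rfl⟩

/-- Inflation of an irreducible character of a quotient. -/
theorem isIrrCharacter_inflate {G : Type u} [Group G] (N : Subgroup G) [N.Normal]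
    {ψ : G ⧸ N → ℂ} (h : IsIrrCharacter (G ⧸ N) ψ) :
    IsIrrCharacter G (fun g : G => ψ (g : G ⧸ N)) :=
  isIrrCharacter_comp_surjective h (QuotientGroup.mk' N) (QuotientGroup.mk'_surjective N)

/-- Deflation: an irreducible character of a finite group whose kernel contains the normal
subgroup `N` comes from an irreducible character of `G ⧸ N`. -/
theorem isIrrCharacter_deflate {G : Type u} [Group G] [Finite G] {χ : G → ℂ}
    (h : IsIrrCharacter G χ) (N : Subgroup G) [N.Normal] (hN : ∀ x ∈ N, χ x = χ 1) :
    ∃ ψ : G ⧸ N → ℂ, IsIrrCharacter (G ⧸ N) ψ ∧ ∀ g : G, ψ (g : G ⧸ N) = χ g := by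
  obtain ⟨n, ρ, hirr, rfl⟩ := h
  have hle : N ≤ MonoidHom.ker ρ := fun x hx => (rep_mem_ker_iff ρ x).2 (hN x hx)
  let ρ' : Representation ℂ (G ⧸ N) (Fin n → ℂ) := QuotientGroup.lift N ρ hle
  have hρ' : ∀ g : G, ρ' (g : G ⧸ N) = ρ g := fun g => QuotientGroup.lift_mk N hle g
  refine ⟨ρ'.character, ⟨n, ρ', ?_, rfl⟩, fun g => ?_⟩
  · apply isIrreducible_of_forall_exists ρ ρ' _ hirr
    intro g
    exact ⟨(g : G ⧸ N), hρ' g⟩
  · simp only [Representation.character, hρ' g]

/-- Deflation for characters. -/
theorem isCharacter_deflate {G : Type u} [Group G] [Finite G] {χ : G → ℂ}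
    (h : IsCharacter G χ) (N : Subgroup G) [N.Normal] (hN : ∀ x ∈ N, χ x = χ 1) :
    ∃ ψ : G ⧸ N → ℂ, IsCharacter (G ⧸ N) ψ ∧ ∀ g : G, ψ (g : G ⧸ N) = χ g := by
  obtain ⟨n, ρ, rfl⟩ := h
  have hle : N ≤ MonoidHom.ker ρ := fun x hx => (rep_mem_ker_iff ρ x).2 (hN x hx)
  let ρ' : Representation ℂ (G ⧸ N) (Fin n → ℂ) := QuotientGroup.lift N ρ hle
  have hρ' : ∀ g : G, ρ' (g : G ⧸ N) = ρ g := fun g => QuotientGroup.lift_mk N hle g
  refine ⟨ρ'.character, ⟨n, ρ', rfl⟩, fun g => ?_⟩
  simp only [Representation.character, hρ' g]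

end Cfsg.Agent.Lib.Helper79
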