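import Mathlib
import Cfsg.Agent.Lib.Helper79.Basic
import Cfsg.Agent.Lib.Helper80.Central
import Cfsg.Agent.Lib.Helper3.Ortho

/-!
Irreducible characters separate conjugacy classes; the product formula for class sums in the
form `χ 1 * avg_c χ (x * c y c⁻¹) = χ x * χ y`.
-/

set_option autoImplicit false

namespace Cfsg.Agent.Lib.Helper79

open Cfsg
open scoped ComplexConjugate

universe u

/-- Irreducible characters separate conjugacy classes. -/
theorem isConj_of_forall_irr_eq {G : Type u} [Group G] [Finite G] {g h : G}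
    (hgh : ∀ χ : IrrCharacter G, (χ : G → ℂ) g = (χ : G → ℂ) h) : IsConj g h := by
  classical
  have : Fintype G := Fintype.ofFinite G
  have : Fintype (IrrCharacter G) := Fintype.ofFinite _
  by_contra hne
  have h1 := Helper3.column_orthogonality g h
  have h2 := Helper3.column_orthogonality g g
  rw [if_neg hne] at h1
  rw [if_pos (IsConj.refl g)] at h2
  have h3 : ∑ χ : IrrCharacter G, (χ : G → ℂ) g * conj ((χ : G → ℂ) h) =
      ∑ χ : IrrCharacter G, (χ : G → ℂ) g * conj ((χ : G → ℂ) g) :=
    Finset.sum_congr rfl (fun χ _ => by rw [hgh χ])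
  rw [h1, h2] at h3
  have hpos : 0 < Nat.card (Subgroup.centralizer ({g} : Set G)) := Nat.card_pos
  have : (Nat.card (Subgroup.centralizer ({g} : Set G)) : ℂ) ≠ 0 := by exact_mod_cast hpos.ne'
  exact this h3.symm

/-- The class-sum product formula for an irreducible character:
`χ 1 * ∑_c χ (a * (c b c⁻¹)) = |G| χ a χ b`. -/
theorem irr_one_mul_sum_conj {G : Type u} [Group G] [Fintype G] (χ : IrrCharacter G) (a b : G) :
    (χ : G → ℂ) 1 * ∑ c : G, (χ : G → ℂ) (a * (c * b * c⁻¹)) =
      (Nat.card G : ℂ) * (χ : G → ℂ) a * (χ : G → ℂ) b := by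
  obtain ⟨χ, n, ρ, hirr, rfl⟩ := χ
  simp only
  have := Helper80.sum_char_mul_conj ρ a b
  rw [this, Representation.char_one]
  have hn : (Module.finrank ℂ (Fin n → ℂ) : ℂ) ≠ 0 := Helper80.finrank_ne_zero_of_irreducible ρ
  field_simp

theorem irr_one_ne_zero {G : Type u} [Group G] (χ : IrrCharacter G) : (χ : G → ℂ) 1 ≠ 0 := by
  obtain ⟨χ, n, ρ, hirr, rfl⟩ := χ
  simp only
  rw [Representation.char_one]
  exact Helper80.finrank_ne_zero_of_irreducible ρ

end Cfsg.Agent.Lib.Helper79
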