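import Mathlib
import Cfsg.Prelude.Def_Solvable

set_option autoImplicit false

namespace Cfsg.Agent.Lib.Helper79

open Cfsg
open scoped Pointwise

theorem mem_conj_smul_iff {G : Type*} [Group G] (H : Subgroup G) (g y : G) :
    y ∈ MulAut.conj g • H ↔ g⁻¹ * y * g ∈ H := by
  rw [Subgroup.mem_pointwise_smul_iff_inv_smul_mem]
  simp [MulAut.smul_def, MulAut.conj_symm_apply]

/-- A complement `H` of a normal subgroup `P` acting fixed-point-freely on `P` is a Frobenius
complement, and the Frobenius kernel (as a set) is `P`. -/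
theorem frobenius_of_fpf {G : Type*} [Group G] [Finite G] (P H : Subgroup G) [P.Normal]
    (hPne : P ≠ ⊥) (hHne : H ≠ ⊥) (hc : H.IsComplement' P)
    (hfpf : ∀ h ∈ H, h ≠ 1 → ∀ x ∈ P, x ≠ 1 → h * x ≠ x * h) :
    IsFrobeniusComplement H ∧ frobeniusKernel H = (P : Set G) := by
  have hdisj : ∀ z : G, z ∈ H → z ∈ P → z = 1 := by
    intro z hzH hzP
    have := hc.disjoint
    rw [Subgroup.disjoint_def] at this
    exact this hzH hzP
  have hdecomp : ∀ g : G, ∃ h ∈ H, ∃ x ∈ P, g = h * x := by
    intro g
    obtain ⟨⟨⟨h, hh⟩, ⟨x, hx⟩⟩, hg, -⟩ := (Subgroup.isComplement'_def.mp hc).existsUnique g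
    exact ⟨h, hh, x, hx, hg.symm⟩
  refine ⟨⟨hHne, ?_, ?_⟩, ?_⟩
  · intro htop
    apply hPne
    rw [eq_bot_iff]
    intro z hz
    rw [Subgroup.mem_bot]
    exact hdisj z (htop ▸ Subgroup.mem_top z) hz
  · intro g hg
    rw [eq_bot_iff]
    intro k hk
    rw [Subgroup.mem_bot]
    obtain ⟨hkH, hkg⟩ := Subgroup.mem_inf.mp hk
    rw [mem_conj_smul_iff] at hkg
    by_contra hk1
    obtain ⟨h₀, hh₀, x, hx, rfl⟩ := hdecomp g
    have hx1 : x ≠ 1 := by
      rintro rfl
      apply hg
      simpa using hh₀
    -- k' = (h₀ x)⁻¹ k (h₀ x) ∈ H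
    set k' := (h₀ * x)⁻¹ * k * (h₀ * x) with hk'
    have hk'1 : k' ≠ 1 := by
      intro h1
      apply hk1
      have : k = (h₀ * x) * k' * (h₀ * x)⁻¹ := by rw [hk']; group
      rw [this, h1]; group
    set k'' := h₀⁻¹ * k * h₀ with hk''
    have hk''H : k'' ∈ H := H.mul_mem (H.mul_mem (H.inv_mem hh₀) hkH) hh₀
    have hrel : k'' = x * k' * x⁻¹ := by rw [hk', hk'']; group
    have hmem : k'' * k'⁻¹ ∈ P := by
      have : k'' * k'⁻¹ = x * (k' * x⁻¹ * k'⁻¹) := by rw [hrel]; group
      rw [this]
      exact P.mul_mem hx (Subgroup.Normal.conj_mem inferInstance _ (P.inv_mem hx) _)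
    have hone := hdisj _ (H.mul_mem hk''H (H.inv_mem hkg)) hmem
    have hcomm : k' * x = x * k' := by
      have h1 : k'' = k' := by
        have := congrArg (· * k') hone
        simpa using this
      rw [hrel] at h1
      have := congrArg (· * x) h1
      simpa [mul_assoc] using this.symm
    exact hfpf k' hkg hk'1 x hx hx1 hcomm
  · ext y
    simp only [frobeniusKernel, Set.mem_ofPred_eq, SetLike.mem_coe]
    constructor
    · rintro (rfl | hy)
      · exact P.one_mem
      · by_contra hyP
        obtain ⟨h₀, hh₀, x₀, hx₀, rfl⟩ := hdecomp y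
        have hh₀1 : h₀ ≠ 1 := by
          rintro rfl
          apply hyP
          simpa using hx₀
        let f : P → P := fun x => ⟨(h₀⁻¹ * x * h₀) * (x : G)⁻¹, P.mul_mem
          (by
            have := Subgroup.Normal.conj_mem (inferInstance : P.Normal) x x.2 h₀⁻¹
            simpa using this) (P.inv_mem x.2)⟩
        have hf : Function.Injective f := by
          intro a b hab
          have hab' : (h₀⁻¹ * a * h₀) * (a : G)⁻¹ = (h₀⁻¹ * b * h₀) * (b : G)⁻¹ :=
            congrArg Subtype.val hab
          set u : G := (b : G)⁻¹ * a with hu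
          have huP : u ∈ P := P.mul_mem (P.inv_mem b.2) a.2
          have hcomm : h₀ * u = u * h₀ := by
            have h1 : h₀⁻¹ * u * h₀ = u := by
              have : h₀⁻¹ * u * h₀ = (h₀⁻¹ * b * h₀)⁻¹ * (h₀⁻¹ * a * h₀) := by rw [hu]; group
              rw [this]
              have h2 : (h₀⁻¹ * a * h₀) = (h₀⁻¹ * b * h₀) * (b : G)⁻¹ * a := by
                have := congrArg (· * (a : G)) hab'
                simpa [mul_assoc] using this
              rw [h2, hu]; group
            have := congrArg (h₀ * ·) h1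
            simpa [mul_assoc] using this.symm
          have hu1 : u = 1 := by
            by_contra hne
            exact hfpf h₀ hh₀ hh₀1 u huP hne hcomm
          apply Subtype.ext
          have : (a : G) = b * u := by rw [hu]; group
          rw [this, hu1, mul_one]
        have hsurj : Function.Surjective f := Finite.injective_iff_surjective.mp hf
        obtain ⟨x, hx⟩ := hsurj ⟨x₀, hx₀⟩
        have hx' : (h₀⁻¹ * x * h₀) * (x : G)⁻¹ = x₀ := congrArg Subtype.val hx
        apply hy (x : G)
        rw [mem_conj_smul_iff, ← hx']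
        have : (x : G)⁻¹ * (h₀ * (h₀⁻¹ * ↑x * h₀ * (x : G)⁻¹)) * ↑x = h₀ := by group
        rw [this]
        exact hh₀
    · intro hyP
      by_cases hy1 : y = 1
      · exact Or.inl hy1
      · right
        intro g hg
        rw [mem_conj_smul_iff] at hg
        apply hy1
        have hP : g⁻¹ * y * g ∈ P := by
          have := Subgroup.Normal.conj_mem (inferInstance : P.Normal) y hyP g⁻¹
          simpa using this
        have := hdisj _ hg hP
        have h2 : y = g * (g⁻¹ * y * g) * g⁻¹ := by group
        rw [h2, this]; group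

end Cfsg.Agent.Lib.Helper79
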