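import Mathlib
import Cfsg.Agent.Lib.Helper79.Basic
import Cfsg.Agent.Lib.Helper80.Integral
import Cfsg.Agent.Lib.Helper3.Eigen

set_option autoImplicit false

namespace Cfsg.Agent.Lib.Helper79

open Cfsg

/-- Row orthogonality in norm form: `∑ |χ g|² = |G|` for an irreducible representation. -/
theorem sum_normSq_character {G V : Type*} [Group G] [Fintype G] [AddCommGroup V] [Module ℂ V]
    [FiniteDimensional ℂ V] (ρ : Representation ℂ G V) [ρ.IsIrreducible] :
    ∑ g : G, Complex.normSq (ρ.character g) = (Nat.card G : ℝ) := by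
  have h := Helper80.sum_char_mul_char_inv ρ
  have h2 : ∑ g : G, ((Complex.normSq (ρ.character g) : ℝ) : ℂ) = (Nat.card G : ℂ) := by
    rw [← h]
    apply Finset.sum_congr rfl
    intro g _
    rw [Helper3.character_inv ρ g, Complex.mul_conj]
  have h3 : ((∑ g : G, Complex.normSq (ρ.character g) : ℝ) : ℂ) = ((Nat.card G : ℝ) : ℂ) := by
    push_cast
    exact h2
  exact Complex.ofReal_injective h3

/-- The square of the degree of an irreducible representation is at most the group order. -/
theorem finrank_sq_le_card {G V : Type*} [Group G] [Fintype G] [AddCommGroup V] [Module ℂ V]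
    [FiniteDimensional ℂ V] (ρ : Representation ℂ G V) [ρ.IsIrreducible] :
    (Module.finrank ℂ V) ^ 2 ≤ Nat.card G := by
  have h := sum_normSq_character ρ
  have h1 : Complex.normSq (ρ.character 1) ≤ ∑ g : G, Complex.normSq (ρ.character g) :=
    Finset.single_le_sum (f := fun g => Complex.normSq (ρ.character g))
      (fun g _ => Complex.normSq_nonneg _) (Finset.mem_univ 1)
  rw [h, Representation.char_one, Complex.normSq_natCast] at h1
  have : ((Module.finrank ℂ V ^ 2 : ℕ) : ℝ) ≤ (Nat.card G : ℝ) := by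
    push_cast
    nlinarith [h1]
  exact_mod_cast this

/-- The faithful irreducible representation of `G ⧸ ker ρ` induced by `ρ`. -/
theorem exists_quotient_ker_rep {G : Type*} [Group G] {n : ℕ}
    (ρ : Representation ℂ G (Fin n → ℂ)) (hirr : ρ.IsIrreducible) :
    ∃ ρ' : Representation ℂ (G ⧸ MonoidHom.ker ρ) (Fin n → ℂ), ρ'.IsIrreducible ∧
      (∀ g : G, ρ' (g : G ⧸ MonoidHom.ker ρ) = ρ g) ∧
      (∀ x : G ⧸ MonoidHom.ker ρ, ρ' x = 1 → x = 1) := by
  refine ⟨QuotientGroup.lift (MonoidHom.ker ρ) ρ le_rfl, ?_,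
    fun g => QuotientGroup.lift_mk _ le_rfl g, ?_⟩
  · apply isIrreducible_of_forall_exists ρ _ _ hirr
    intro g
    exact ⟨(g : G ⧸ MonoidHom.ker ρ), QuotientGroup.lift_mk _ le_rfl g⟩
  · intro x hx
    obtain ⟨g, rfl⟩ := QuotientGroup.mk_surjective x
    rw [QuotientGroup.lift_mk] at hx
    exact (QuotientGroup.eq_one_iff g).mpr hx

/-- A quotient of a perfect group is perfect. -/
theorem commutator_quotient_eq_top {G : Type*} [Group G] (hperf : commutator G = ⊤)
    (K : Subgroup G) [K.Normal] : commutator (G ⧸ K) = ⊤ := by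
  have hsurj := QuotientGroup.mk'_surjective K
  have := Subgroup.map_commutator (⊤ : Subgroup G) ⊤ (QuotientGroup.mk' K)
  rw [← commutator_def, hperf, ← MonoidHom.range_eq_map,
    MonoidHom.range_eq_top.mpr hsurj, ← commutator_def] at this
  exact this.symm

end Cfsg.Agent.Lib.Helper79
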