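import Mathlib
import Cfsg.Agent.Lib.Helper79.Degree
import Cfsg.Agent.Lib.Helper3.Ortho

/-!
Characters of commutative groups: `ψ 1 ≤ ⟨ψ, ψ⟩`, and the bound `|A| χ(1) ≤ |G|` for an
irreducible character `χ` of `G` and a commutative subgroup `A`.
-/

set_option autoImplicit false

namespace Cfsg.Agent.Lib.Helper79

open Cfsg
open scoped ComplexConjugate

universe u

/-- The multiplicity of a character in another is a natural number. -/
theorem classInner_character_eq_natCast {A : Type u} [Group A] [Fintype A] {ψ μ : A → ℂ}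
    (hψ : IsCharacter A ψ) (hμ : IsCharacter A μ) : ∃ m : ℕ, classInner ψ μ = (m : ℂ) := by
  obtain ⟨a, σ, rfl⟩ := hψ
  obtain ⟨b, ρ, rfl⟩ := hμ
  have hinv : Invertible (Nat.card A : ℂ) :=
    invertibleOfNonzero (by exact_mod_cast Nat.card_pos.ne')
  refine ⟨Module.finrank ℂ (Representation.IntertwiningMap ρ σ), ?_⟩
  rw [← Representation.card_inv_mul_sum_char_mul_char_eq_finrank ρ σ]
  unfold classInner
  congr 1
  apply Finset.sum_congr rfl
  intro g _
  rw [Helper3.character_inv ρ g]

/-- An irreducible character of a commutative group has degree one. -/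
theorem irr_one_eq_one_of_comm {A : Type u} [Group A] [IsMulCommutative A]
    (μ : IrrCharacter A) : (μ : A → ℂ) 1 = 1 := by
  obtain ⟨μ, n, ρ, hirr, rfl⟩ := μ
  simp only
  rw [Representation.char_one, Representation.IsIrreducible.finrank_eq_one_of_isMulCommutative ρ]
  simp

/-- For a character `ψ` of a finite commutative group, `|A| ψ(1) ≤ ∑ |ψ a|²`. -/
theorem card_mul_degree_le_sum_normSq_of_comm {A : Type u} [Group A] [Fintype A]
    [IsMulCommutative A] {ψ : A → ℂ} (hψ : IsCharacter A ψ) :
    (Nat.card A : ℝ) * (ψ 1).re ≤ ∑ a : A, Complex.normSq (ψ a) := by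
  classical
  have : Fintype (IrrCharacter A) := Fintype.ofFinite _
  have hm : ∀ μ : IrrCharacter A, ∃ m : ℕ, classInner ψ (μ : A → ℂ) = (m : ℂ) := fun μ =>
    classInner_character_eq_natCast hψ (Helper3.IsIrrCharacter.isCharacter μ.2)
  choose m hm using hm
  have hexp := Helper3.classFunction_eq_sum (Helper3.IsCharacter.isClassFunction hψ)
  have h1 : ψ 1 = ∑ μ : IrrCharacter A, (m μ : ℂ) := by
    have := congrFun hexp 1
    simp only [Finset.sum_apply, Pi.smul_apply, smul_eq_mul] at this
    rw [this]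
    apply Finset.sum_congr rfl
    intro μ _
    rw [hm μ, irr_one_eq_one_of_comm μ, mul_one]
  have h2 : classInner ψ ψ = ∑ μ : IrrCharacter A, ((m μ : ℂ) * (m μ : ℂ)) := by
    have hc : classInner ψ ψ =
        classInner (∑ χ : IrrCharacter A, classInner ψ (χ : A → ℂ) • (χ : A → ℂ)) ψ :=
      congrArg (fun f => classInner f ψ) hexp
    rw [hc, Helper3.classInner_sum_left]
    apply Finset.sum_congr rfl
    intro μ _
    rw [Helper3.classInner_smul_left, hm μ, Helper3.classInner_conj_symm, hm μ]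
    simp
  have h3 : classInner ψ ψ = (Nat.card A : ℂ)⁻¹ * ((∑ a : A, Complex.normSq (ψ a) : ℝ) : ℂ) := by
    unfold classInner
    congr 1
    push_cast
    apply Finset.sum_congr rfl
    intro a _
    rw [Complex.mul_conj]
  have hA : (Nat.card A : ℂ) ≠ 0 := by exact_mod_cast (Nat.card_pos (α := A)).ne'
  have h4 : ((∑ a : A, Complex.normSq (ψ a) : ℝ) : ℂ) =
      (Nat.card A : ℂ) * ∑ μ : IrrCharacter A, ((m μ : ℂ) * (m μ : ℂ)) := by
    rw [← h2, h3, ← mul_assoc, mul_inv_cancel₀ hA, one_mul]
  have h5 : (∑ a : A, Complex.normSq (ψ a) : ℝ) =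
      (Nat.card A : ℝ) * ∑ μ : IrrCharacter A, ((m μ : ℝ) * (m μ : ℝ)) := by
    apply Complex.ofReal_injective
    rw [h4]
    push_cast
    rfl
  have h6 : (ψ 1).re = ∑ μ : IrrCharacter A, (m μ : ℝ) := by
    rw [h1]
    have : (∑ μ : IrrCharacter A, (m μ : ℂ)) = ((∑ μ : IrrCharacter A, (m μ : ℝ) : ℝ) : ℂ) := by
      push_cast; rfl
    rw [this, Complex.ofReal_re]
  rw [h5, h6]
  apply mul_le_mul_of_nonneg_left _ (Nat.cast_nonneg _)
  apply Finset.sum_le_sum
  intro μ _
  have : (m μ : ℝ) ≤ (m μ : ℝ) * (m μ : ℝ) := by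
    rcases Nat.eq_zero_or_pos (m μ) with h0 | hpos
    · simp [h0]
    · have : (1 : ℝ) ≤ (m μ : ℝ) := by exact_mod_cast hpos
      nlinarith
  exact this

/-- For an irreducible representation of a finite group and a commutative subgroup `A`:
`|A| · deg ≤ |G|`. -/
theorem card_comm_subgroup_mul_degree_le {G : Type u} [Group G] [Finite G] {n : ℕ}
    (ρ : Representation ℂ G (Fin n → ℂ)) (hirr : ρ.IsIrreducible) (A : Subgroup G)
    [IsMulCommutative A] : Nat.card A * n ≤ Nat.card G := by
  classical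
  have : Fintype G := Fintype.ofFinite G
  have : Fintype A := Fintype.ofFinite A
  have hψ : IsCharacter A (fun a : A => ρ.character a) := ⟨n, ρ.comp A.subtype, rfl⟩
  have h1 := card_mul_degree_le_sum_normSq_of_comm hψ
  have h2 := sum_normSq_character ρ
  have h3 : ∑ a : A, Complex.normSq (ρ.character a) ≤ ∑ g : G, Complex.normSq (ρ.character g) := by
    rw [← Finset.sum_subtype (Finset.univ.filter (fun g : G => g ∈ A)) (by simp)
      (fun g => Complex.normSq (ρ.character g))]
    exact Finset.sum_le_sum_of_subset_of_nonneg (Finset.subset_univ _)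
      (fun g _ _ => Complex.normSq_nonneg _)
  have h4 : ((ρ.character ((1 : A) : G))).re = n := by
    simp
  rw [h4] at h1
  have : ((Nat.card A * n : ℕ) : ℝ) ≤ (Nat.card G : ℝ) := by
    push_cast
    linarith
  exact_mod_cast this

end Cfsg.Agent.Lib.Helper79
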