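import Mathlib
import Cfsg.Prelude.Def_Characters
import Cfsg.Agent.Lib.Helper3.Induced
import Cfsg.Agent.Lib.Helper3.CharOps
import Cfsg.Agent.Lib.Helper3.Degree
import Cfsg.Agent.Lib.Helper25.Ind
import Cfsg.Agent.Lib.Helper79.Classes
import Cfsg.Agent.Lib.Helper79.Basic

set_option autoImplicit false
set_option linter.unusedSectionVars false
set_option linter.style.haveILetI false

namespace Cfsg.Agent.Lib.Helper79

open Cfsg
open scoped ComplexConjugate commutatorElement

universe u

section Taketa

variable {G : Type u} [Group G] [Fintype G]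

/-- The induced function of a linear character takes its value at `1` on every element all of
whose conjugates lie in the kernel. -/
theorem indFun_eq_of_conj_mem_ker (H : Subgroup G) (lam : H →* ℂˣ) (g : G)
    (hg : ∀ x : G, ∃ h : H, (h : G) = x⁻¹ * g * x ∧ lam h = 1) :
    indFun H (fun h => ((lam h : ℂˣ) : ℂ)) g = indFun H (fun h => ((lam h : ℂˣ) : ℂ)) 1 := by
  rw [Cfsg.Agent.Lib.Helper25.indFun_apply, Cfsg.Agent.Lib.Helper25.indFun_apply]
  congr 1
  apply Finset.sum_congr rfl
  intro x _
  obtain ⟨h, hh, hl⟩ := hg x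
  rw [← hh, Cfsg.Agent.Lib.Helper25.extendByZero_coe, hl]
  have h1 : x⁻¹ * 1 * x = ((1 : H) : G) := by simp
  rw [h1, Cfsg.Agent.Lib.Helper25.extendByZero_coe, map_one]

/-- The value at `1` of the induced function of a linear character. -/
theorem indFun_monoidHom_one (H : Subgroup G) (lam : H →* ℂˣ) :
    indFun H (fun h => ((lam h : ℂˣ) : ℂ)) 1 = (Nat.card H : ℂ)⁻¹ * (Nat.card G : ℂ) := by
  rw [Cfsg.Agent.Lib.Helper25.indFun_apply]
  congr 1
  have h1 : ∀ x : G, x⁻¹ * 1 * x = ((1 : H) : G) := by intro x; simp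
  rw [Finset.sum_congr rfl (g := fun _ => (1 : ℂ))]
  · simp [Nat.card_eq_fintype_card]
  · intro x _
    rw [h1, Cfsg.Agent.Lib.Helper25.extendByZero_coe, map_one]
    rfl

/-- If the permutation character on the cosets of `H` takes its degree at `g`, then `g ∈ H`. -/
theorem mem_of_indFun_one_eq (H : Subgroup G) (g : G)
    (h : indFun H (fun _ : H => (1 : ℂ)) g = indFun H (fun _ : H => (1 : ℂ)) 1) : g ∈ H := by
  classical
  by_contra hg
  have hH0 : (Nat.card H : ℂ) ≠ 0 := by exact_mod_cast Nat.card_pos.ne'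
  have h1 := indFun_monoidHom_one H (1 : H →* ℂˣ)
  have h1' : indFun H (fun _ : H => (1 : ℂ)) 1 = (Nat.card H : ℂ)⁻¹ * (Nat.card G : ℂ) := by
    simpa using h1
  rw [h1', Cfsg.Agent.Lib.Helper25.indFun_apply] at h
  have h2 := mul_left_cancel₀ (inv_ne_zero hH0) h
  have h3 : ∀ x : G, extendByZero H (fun _ : H => (1 : ℂ)) (x⁻¹ * g * x) =
      if x⁻¹ * g * x ∈ H then 1 else 0 := by
    intro x
    split_ifs with hx
    · rw [Cfsg.Agent.Lib.Helper25.extendByZero_of_mem H _ hx]
    · rw [Cfsg.Agent.Lib.Helper25.extendByZero_of_not_mem H _ hx]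
  rw [Finset.sum_congr rfl (fun x _ => h3 x), Finset.sum_boole] at h2
  have h4 : (Finset.univ.filter (fun x : G => x⁻¹ * g * x ∈ H)).card = Nat.card G := by
    exact_mod_cast h2
  rw [Nat.card_eq_fintype_card, ← Finset.card_univ, Finset.card_filter_eq_iff] at h4
  have := h4 1 (Finset.mem_univ _)
  simp at this
  exact hg this

/-- The degree of an irreducible character is a natural number. -/
theorem exists_nat_irr_one (ψ : IrrCharacter G) : ∃ n : ℕ, (ψ : G → ℂ) 1 = (n : ℂ) := by
  obtain ⟨ψ, n, ρ, hirr, rfl⟩ := ψ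
  exact ⟨n, rep_character_one ρ⟩

/-- The inductive step in Taketa's theorem. -/
theorem taketa_aux
    (hM : ∀ χ : G → ℂ, IsIrrCharacter G χ → ∃ (H : Subgroup G) (lam : H →* ℂˣ),
      χ = indFun H (fun h => ((lam h : ℂˣ) : ℂ))) (d : ℕ) :
    ∃ k : ℕ, ∀ χ : G → ℂ, IsIrrCharacter G χ → ∀ m : ℕ, m ≤ d → χ 1 = (m : ℂ) →
      ∀ g ∈ derivedSeries G k, χ g = χ 1 := by
  classical
  haveI : Finite (IrrCharacter G) := Cfsg.Agent.Lib.Helper3.irrCharacter_finite
  haveI := Fintype.ofFinite (IrrCharacter G)
  induction d with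
  | zero =>
    refine ⟨0, ?_⟩
    intro χ hχ m hm h1 g _
    exfalso
    have hm0 : m = 0 := Nat.le_zero.mp hm
    rw [hm0, Nat.cast_zero] at h1
    exact irr_one_ne_zero ⟨χ, hχ⟩ h1
  | succ d ih =>
    obtain ⟨k, hk⟩ := ih
    refine ⟨k + 1, ?_⟩
    intro χ hχ m hm h1 g hg
    rcases Nat.lt_or_ge m (d + 1) with hlt | hge
    · exact hk χ hχ m (Nat.lt_succ_iff.mp hlt) h1 g (derivedSeries_antitone G (Nat.le_succ k) hg)
    · have hmd : m = d + 1 := le_antisymm hm hge
      obtain ⟨H, lam, hχeq⟩ := hM χ hχ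
      have hH0 : (Nat.card H : ℂ) ≠ 0 := by exact_mod_cast Nat.card_pos.ne'
      -- the permutation character
      set π : G → ℂ := indFun H (fun _ : H => (1 : ℂ)) with hπ
      have hπchar : IsCharacter G π :=
        Cfsg.Agent.Lib.Helper3.isCharacter_indFun H (Cfsg.Agent.Lib.Helper3.IsCharacter.one)
      have hπ1 : π 1 = ((d + 1 : ℕ) : ℂ) := by
        have h2 := indFun_monoidHom_one H (1 : H →* ℂˣ)
        have h2' : π 1 = (Nat.card H : ℂ)⁻¹ * (Nat.card G : ℂ) := by
          simpa using h2
        rw [h2', ← indFun_monoidHom_one H lam, ← hχeq, h1, hmd]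
      obtain ⟨mult, hmult, hsum⟩ := Cfsg.Agent.Lib.Helper3.IsCharacter.exists_mult hπchar
      choose deg hdeg using fun ψ : IrrCharacter G => exists_nat_irr_one ψ
      -- the trivial character
      let triv : IrrCharacter G := ⟨fun g => (((1 : G →* ℂˣ) g : ℂˣ) : ℂ),
        isIrrCharacter_of_monoidHom (1 : G →* ℂˣ)⟩
      have htriv : ∀ g : G, (triv : G → ℂ) g = 1 := fun g => rfl
      have hmtriv : mult triv = 1 := by
        have h2 := hmult triv
        rw [hπ, Cfsg.Agent.Lib.Helper25.frobenius_reciprocity H _ _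
          (Cfsg.Agent.Lib.Helper3.IsCharacter.isClassFunction
            (Cfsg.Agent.Lib.Helper3.IsIrrCharacter.isCharacter triv.2))] at h2
        have h3 : classInner (fun _ : H => (1 : ℂ)) (fun h : H => (triv : G → ℂ) h) = 1 := by
          unfold classInner
          simp only [htriv, map_one, mul_one, Finset.sum_const, Finset.card_univ, nsmul_eq_mul,
            ← Nat.card_eq_fintype_card]
          exact inv_mul_cancel₀ hH0
        rw [h3] at h2
        exact_mod_cast h2.symm
      have hdtriv : deg triv = 1 := by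
        have := hdeg triv
        rw [htriv] at this
        exact_mod_cast this.symm
      -- the degree sum
      have hsumdeg : ∑ ψ : IrrCharacter G, mult ψ * deg ψ = d + 1 := by
        have h2 := congrFun hsum 1
        rw [hπ1] at h2
        simp only [Finset.sum_apply, Pi.smul_apply, smul_eq_mul, hdeg] at h2
        have : ((d + 1 : ℕ) : ℂ) = ((∑ ψ : IrrCharacter G, mult ψ * deg ψ : ℕ) : ℂ) := by
          rw [h2]
          push_cast
          rfl
        exact_mod_cast this.symm
      have hdegle : ∀ ψ : IrrCharacter G, ψ ≠ triv → mult ψ ≠ 0 → deg ψ ≤ d := by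
        intro ψ hne hm0
        have hsub : ({ψ, triv} : Finset (IrrCharacter G)) ⊆ Finset.univ := Finset.subset_univ _
        have h2 := Finset.sum_le_sum_of_subset (f := fun ψ => mult ψ * deg ψ) hsub
        rw [Finset.sum_pair hne, hsumdeg, hmtriv, hdtriv] at h2
        have h3 : deg ψ ≤ mult ψ * deg ψ := Nat.le_mul_of_pos_left _ (Nat.pos_of_ne_zero hm0)
        omega
      -- Claim A: π is constant on the k-th derived subgroup
      have hA : ∀ y ∈ derivedSeries G k, π y = π 1 := by
        intro y hy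
        rw [hsum]
        simp only [Finset.sum_apply, Pi.smul_apply, smul_eq_mul]
        apply Finset.sum_congr rfl
        intro ψ _
        by_cases hm0 : mult ψ = 0
        · rw [hm0]; simp
        · by_cases hne : ψ = triv
          · rw [hne, htriv, htriv]
          · rw [hk ψ ψ.2 (deg ψ) (hdegle ψ hne hm0) (hdeg ψ) y hy]
      -- Claim B
      have hB : derivedSeries G k ≤ H := by
        intro y hy
        exact mem_of_indFun_one_eq H y (hA y hy)
      -- Claim C
      have hC : derivedSeries G (k + 1) ≤ (MonoidHom.ker lam).map H.subtype := by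
        rw [derivedSeries_succ, Subgroup.commutator_le]
        intro a ha b hb
        refine ⟨⁅(⟨a, hB ha⟩ : H), (⟨b, hB hb⟩ : H)⁆, ?_, rfl⟩
        apply Abelianization.commutator_subset_ker lam
        exact Subgroup.commutator_mem_commutator (Subgroup.mem_top _) (Subgroup.mem_top _)
      rw [hχeq]
      apply indFun_eq_of_conj_mem_ker
      intro x
      have hnorm : (derivedSeries G (k + 1)).Normal := derivedSeries_normal G (k + 1)
      have hx : x⁻¹ * g * x ∈ derivedSeries G (k + 1) := by
        have := hnorm.conj_mem g hg x⁻¹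
        simpa using this
      obtain ⟨h, hh, hhx⟩ := hC hx
      exact ⟨h, hhx, MonoidHom.mem_ker.mp hh⟩

/-- **Taketa**: a finite group all of whose irreducible characters are induced from linear
characters of subgroups is solvable. -/
theorem isSolvable_of_monomial
    (hM : ∀ χ : G → ℂ, IsIrrCharacter G χ → ∃ (H : Subgroup G) (lam : H →* ℂˣ),
      χ = indFun H (fun h => ((lam h : ℂˣ) : ℂ))) : Group.IsSolvable G := by
  obtain ⟨k, hk⟩ := taketa_aux hM (Nat.card G)
  refine ⟨⟨k, ?_⟩⟩
  rw [eq_bot_iff]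
  intro g hg
  rw [Subgroup.mem_bot]
  have h1 : IsConj g 1 := by
    apply isConj_of_forall_irr_eq
    rintro ⟨χ, n, ρ, hirr, rfl⟩
    haveI := hirr
    have hn : n ≤ Nat.card G := by
      have h2 := Cfsg.Agent.Lib.Helper3.finrank_dvd_card ρ
      rw [Module.finrank_fin_fun] at h2
      exact Nat.le_of_dvd Nat.card_pos h2
    exact hk ρ.character ⟨n, ρ, hirr, rfl⟩ n hn (rep_character_one ρ) g hg
  exact isConj_one_left.mp h1

end Taketa

end Cfsg.Agent.Lib.Helper79
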