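import Mathlib
import Cfsg.Prelude.Def_Characters
import Cfsg.Agent.Lib.Helper75.Clifford
import Cfsg.Agent.Lib.Helper3.Induced
import Cfsg.Agent.Lib.Helper3.CharOps
import Cfsg.Agent.Lib.Helper79.Taketa
import Cfsg.Agent.S0174

set_option autoImplicit false
set_option linter.unusedSectionVars false
set_option linter.style.haveILetI false

namespace Cfsg.Agent.Lib.Helper79

open Cfsg Cfsg.Agent.Lib.Helper75
open scoped ComplexConjugate

universe u

section Inertia

variable {G : Type u} [Group G]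

/-- The inertia subgroup of a function on a normal subgroup. -/
def inertia (N : Subgroup G) [hN : N.Normal] (θ : N → ℂ) : Subgroup G where
  carrier := {g | conjFun N g θ = θ}
  one_mem' := conjFun_one N θ
  mul_mem' := by
    intro a b ha hb
    change conjFun N (a * b) θ = θ
    rw [← conjFun_conjFun N b a, ha, hb]
  inv_mem' := by
    intro a ha
    change conjFun N a⁻¹ θ = θ
    have h1 : conjFun N a⁻¹ (conjFun N a θ) = θ := by
      rw [conjFun_conjFun, mul_inv_cancel, conjFun_one]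
    rw [ha] at h1
    exact h1

theorem mem_inertia (N : Subgroup G) [hN : N.Normal] (θ : N → ℂ) (g : G) :
    g ∈ inertia N θ ↔ conjFun N g θ = θ := Iff.rfl

theorem le_inertia (N : Subgroup G) [hN : N.Normal] {θ : N → ℂ} (hθ : IsClassFunction N θ) :
    N ≤ inertia N θ := fun _ hg => conjFun_of_mem N hg hθ

/-- The left action of `G` on functions on a normal subgroup. -/
@[reducible] def conjMulAction (N : Subgroup G) [hN : N.Normal] : MulAction G (N → ℂ) where
  smul g θ := conjFun N g⁻¹ θ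
  one_smul θ := by
    change conjFun N 1⁻¹ θ = θ
    rw [inv_one, conjFun_one]
  mul_smul g h θ := by
    change conjFun N (g * h)⁻¹ θ = conjFun N g⁻¹ (conjFun N h⁻¹ θ)
    rw [conjFun_conjFun, mul_inv_rev]

/-- Orbit-stabiliser: the number of conjugates is the index of the inertia group. -/
theorem ncard_conj_eq_index (N : Subgroup G) [hN : N.Normal] (θ : N → ℂ) :
    Set.ncard {ψ : N → ℂ | ∃ g : G, ψ = conjFun N g θ} = (inertia N θ).index := by
  letI := conjMulAction N
  have hsmul : ∀ (g : G) (ψ : N → ℂ), g • ψ = conjFun N g⁻¹ ψ := fun _ _ => rfl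
  have h1 := MulAction.index_stabilizer G θ
  have hstab : MulAction.stabilizer G θ = inertia N θ := by
    ext g
    rw [MulAction.mem_stabilizer_iff, hsmul, ← mem_inertia, inv_mem_iff]
  have horb : MulAction.orbit G θ = {ψ : N → ℂ | ∃ g : G, ψ = conjFun N g θ} := by
    ext ψ
    constructor
    · rintro ⟨g, rfl⟩
      exact ⟨g⁻¹, rfl⟩
    · rintro ⟨g, rfl⟩
      refine ⟨g⁻¹, ?_⟩
      change g⁻¹ • θ = _
      rw [hsmul, inv_inv]
  rw [hstab, horb] at h1
  exact h1.symm

/-- Value of `conjFun` at the identity. -/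
theorem conjFun_apply_one (N : Subgroup G) [hN : N.Normal] (g : G) (θ : N → ℂ) :
    conjFun N g θ 1 = θ 1 := by
  rw [conjFun_apply]
  congr 1
  apply Subtype.ext
  simp

/-- Degree formula in Clifford's theorem: `χ(1) = e · |G : T| · θ(1)`. -/
theorem clifford_degree [Fintype G] (N : Subgroup G) [hN : N.Normal] [Fintype N] {χ : G → ℂ}
    (hχ : IsIrrCharacter G χ) {θ : N → ℂ} (hθ : IsIrrCharacter N θ)
    (h : classInner (fun n : N => χ n) θ ≠ 0) :
    χ 1 = classInner (fun n : N => χ n) θ * ((inertia N θ).index : ℂ) * θ 1 := by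
  classical
  have h1 := Cfsg.Agent.S0174.result N hN χ hχ θ hθ h
  have hS : {ψ : N → ℂ | ∃ g : G, ψ = fun n : N => θ ⟨g * n * g⁻¹, hN.conj_mem n n.2 g⟩} =
      {ψ : N → ℂ | ∃ g : G, ψ = conjFun N g θ} := rfl
  rw [hS] at h1
  have hfin : {ψ : N → ℂ | ∃ g : G, ψ = conjFun N g θ}.Finite := by
    have : {ψ : N → ℂ | ∃ g : G, ψ = conjFun N g θ} = Set.range (fun g : G => conjFun N g θ) := by
      ext ψ
      constructor
      · rintro ⟨g, rfl⟩; exact ⟨g, rfl⟩
      · rintro ⟨g, rfl⟩; exact ⟨g, rfl⟩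
    rw [this]
    exact Set.finite_range _
  have h2 := congrFun h1 1
  rw [finsum_mem_eq_finite_toFinset_sum _ hfin] at h2
  simp only [Pi.smul_apply, Finset.sum_apply, smul_eq_mul] at h2
  have h3 : ∀ ψ ∈ hfin.toFinset, ψ 1 = θ 1 := by
    intro ψ hψ
    rw [Set.Finite.mem_toFinset] at hψ
    obtain ⟨g, rfl⟩ := hψ
    exact conjFun_apply_one N g θ
  rw [Finset.sum_congr rfl h3, Finset.sum_const, nsmul_eq_mul] at h2
  have h4 : hfin.toFinset.card = (inertia N θ).index := by
    rw [← ncard_conj_eq_index, Set.ncard_eq_toFinset_card _ hfin]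
  rw [h4] at h2
  change χ 1 = _ at h2
  rw [h2]
  ring

end Inertia

section Relative

variable {G : Type u} [Group G]

/-- Restriction of a function on a subgroup `T ≥ N` to `N`. -/
def resTo (N T : Subgroup G) (hNT : N ≤ T) (ψ : T → ℂ) : N → ℂ := fun n => ψ ⟨n, hNT n.2⟩

theorem resTo_apply (N T : Subgroup G) (hNT : N ≤ T) (ψ : T → ℂ) (n : N) :
    resTo N T hNT ψ n = ψ ⟨n, hNT n.2⟩ := rfl

theorem isCharacter_resTo (N T : Subgroup G) (hNT : N ≤ T) {ψ : T → ℂ} (hψ : IsCharacter T ψ) :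
    IsCharacter N (resTo N T hNT ψ) :=
  isCharacter_comp hψ (Subgroup.inclusion hNT)

/-- Composition with a group isomorphism preserves the inner product. -/
theorem classInner_comp_mulEquiv {H K : Type*} [Group H] [Group K] [Fintype H] [Fintype K]
    (e : H ≃* K) (φ ψ : K → ℂ) :
    classInner (fun x => φ (e x)) (fun x => ψ (e x)) = classInner φ ψ := by
  unfold classInner
  rw [Nat.card_congr e.toEquiv]
  congr 1
  exact Fintype.sum_equiv e.toEquiv _ _ (fun _ => rfl)

/-- If `T` stabilises the irreducible character `θ` of the normal subgroup `N ≤ T`, then any two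
irreducible constituents of the restriction to `N` of an irreducible character of `T`, one of
which is `θ`, coincide. -/
theorem eq_of_constituents_of_le_inertia [Finite G] (N : Subgroup G) [hN : N.Normal] [Fintype N]
    (T : Subgroup G) (hNT : N ≤ T) {θ μ : N → ℂ} (hθ : IsIrrCharacter N θ)
    (hμ : IsIrrCharacter N μ) (hT : T ≤ inertia N θ) {ψ : T → ℂ} (hψ : IsIrrCharacter T ψ)
    (h1 : classInner (resTo N T hNT ψ) θ ≠ 0) (h2 : classInner (resTo N T hNT ψ) μ ≠ 0) :
    μ = θ := by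
  classical
  haveI : Fintype T := Fintype.ofFinite T
  haveI hN' : (N.subgroupOf T).Normal := hN.subgroupOf T
  haveI : Fintype (N.subgroupOf T) := Fintype.ofFinite _
  let e : N.subgroupOf T ≃* N := Subgroup.subgroupOfEquivOfLe hNT
  have he : ∀ x : N.subgroupOf T, ((e x : N) : G) = ((x : T) : G) := fun x => rfl
  have hirr : ∀ {ν : N → ℂ}, IsIrrCharacter N ν →
      IsIrrCharacter (N.subgroupOf T) (fun x => ν (e x)) := fun hν =>
    isIrrCharacter_comp_surjective hν e.toMonoidHom e.surjective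
  have hres : (fun x : N.subgroupOf T => ψ x) = fun x => resTo N T hNT ψ (e x) := by
    funext x
    rw [resTo_apply]
    congr 1
  have hin : ∀ ν : N → ℂ, classInner (fun x : N.subgroupOf T => ψ x) (fun x => ν (e x)) =
      classInner (resTo N T hNT ψ) ν := by
    intro ν
    rw [hres]
    exact classInner_comp_mulEquiv e _ _
  obtain ⟨t, ht⟩ := clifford_conj (N.subgroupOf T) hψ (hirr hθ) (hirr hμ)
    (by rw [hin]; exact h1) (by rw [hin]; exact h2)
  have hconj : conjFun (N.subgroupOf T) t (fun x => θ (e x)) = fun x => θ (e x) := by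
    funext x
    rw [conjFun_apply]
    have h3 := hT t.2
    rw [mem_inertia] at h3
    have h4 := congrFun h3 (e x)
    rw [conjFun_apply] at h4
    rw [← h4]
    congr 1
  rw [hconj] at ht
  funext n
  have := congrFun ht (e.symm n)
  simpa using this

/-- Under the hypotheses of `eq_of_constituents_of_le_inertia`, the restriction is a multiple
of `θ`. -/
theorem resTo_eq_smul_of_le_inertia [Finite G] (N : Subgroup G) [hN : N.Normal] [Fintype N]
    (T : Subgroup G) (hNT : N ≤ T) {θ : N → ℂ} (hθ : IsIrrCharacter N θ)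
    (hT : T ≤ inertia N θ) {ψ : T → ℂ} (hψ : IsIrrCharacter T ψ)
    (h1 : classInner (resTo N T hNT ψ) θ ≠ 0) :
    resTo N T hNT ψ = classInner (resTo N T hNT ψ) θ • θ := by
  classical
  haveI : Finite (IrrCharacter N) := Cfsg.Agent.Lib.Helper3.irrCharacter_finite
  haveI := Fintype.ofFinite (IrrCharacter N)
  have hcf : IsClassFunction N (resTo N T hNT ψ) :=
    Cfsg.Agent.Lib.Helper3.IsCharacter.isClassFunction
      (isCharacter_resTo N T hNT (Cfsg.Agent.Lib.Helper3.IsIrrCharacter.isCharacter hψ))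
  have hexp := Cfsg.Agent.Lib.Helper3.classFunction_eq_sum hcf
  rw [Finset.sum_eq_single (⟨θ, hθ⟩ : IrrCharacter N)] at hexp
  · exact hexp
  · intro μ _ hne
    by_cases h2 : classInner (resTo N T hNT ψ) (μ : N → ℂ) = 0
    · rw [h2, zero_smul]
    · exfalso
      apply hne
      apply Subtype.ext
      exact eq_of_constituents_of_le_inertia N T hNT hθ μ.2 hT hψ h1 h2
  · intro h
    exact absurd (Finset.mem_univ _) h

/-- The value at `1` of an induced function. -/
theorem indFun_apply_one [Fintype G] (H : Subgroup G) (θ : H → ℂ) :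
    indFun H θ 1 = (Nat.card H : ℂ)⁻¹ * (Nat.card G : ℂ) * θ 1 := by
  rw [Cfsg.Agent.Lib.Helper25.indFun_apply, mul_assoc]
  congr 1
  rw [Finset.sum_congr rfl (g := fun _ => θ 1)]
  · simp [Nat.card_eq_fintype_card]
  · intro x _
    have h1 : x⁻¹ * 1 * x = ((1 : H) : G) := by simp
    rw [h1, Cfsg.Agent.Lib.Helper25.extendByZero_coe]

/-- **Clifford correspondence** (existence part): an irreducible character of `G` lying over the
irreducible character `θ` of the normal subgroup `N` is induced from an irreducible character of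
the inertia group of `θ` whose restriction to `N` is a multiple of `θ`. -/
theorem clifford_correspondence [Fintype G] (N : Subgroup G) [hN : N.Normal] [Fintype N]
    {χ : G → ℂ} (hχ : IsIrrCharacter G χ) {θ : N → ℂ} (hθ : IsIrrCharacter N θ)
    (h : classInner (fun n : N => χ n) θ ≠ 0) :
    ∃ ψ : inertia N θ → ℂ, IsIrrCharacter (inertia N θ) ψ ∧ χ = indFun (inertia N θ) ψ ∧
      ∃ f : ℂ, ∀ n : N, ψ ⟨n, le_inertia N
        (Cfsg.Agent.Lib.Helper3.IsCharacter.isClassFunction
          (Cfsg.Agent.Lib.Helper3.IsIrrCharacter.isCharacter hθ)) n.2⟩ = f * θ n := by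
  classical
  open Cfsg.Agent.Lib.Helper3 in
  set T := inertia N θ with hTdef
  have hNT : N ≤ T := le_inertia N (IsCharacter.isClassFunction (IsIrrCharacter.isCharacter hθ))
  haveI : Fintype T := Fintype.ofFinite T
  haveI : Finite (IrrCharacter T) := irrCharacter_finite
  haveI := Fintype.ofFinite (IrrCharacter T)
  haveI : Finite (IrrCharacter G) := irrCharacter_finite
  haveI := Fintype.ofFinite (IrrCharacter G)
  have hχc : IsCharacter G χ := IsIrrCharacter.isCharacter hχ
  have hχcf : IsClassFunction G χ := IsCharacter.isClassFunction hχc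
  have hθc : IsCharacter N θ := IsIrrCharacter.isCharacter hθ
  -- (1) decompose χ_T
  have hχT : IsCharacter T (fun t : T => χ t) := isCharacter_restrict hχc T
  obtain ⟨a, ha, hsumT⟩ := IsCharacter.exists_mult hχT
  -- (2) restrict to N
  have hχN : (fun n : N => χ n) =
      ∑ ψ : IrrCharacter T, (a ψ : ℂ) • resTo N T hNT (ψ : T → ℂ) := by
    funext n
    have h1 := congrFun hsumT ⟨n, hNT n.2⟩
    simp only [Finset.sum_apply, Pi.smul_apply, smul_eq_mul] at h1 ⊢
    exact h1
  have hb : ∀ ψ : IrrCharacter T, ∃ b : ℕ, classInner (resTo N T hNT (ψ : T → ℂ)) θ = (b : ℂ) :=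
    fun ψ => classInner_character_eq_natCast
      (isCharacter_resTo N T hNT (IsIrrCharacter.isCharacter ψ.2)) hθc
  choose b hb using hb
  have he : classInner (fun n : N => χ n) θ = ((∑ ψ : IrrCharacter T, a ψ * b ψ : ℕ) : ℂ) := by
    rw [hχN, classInner_sum_left]
    push_cast
    apply Finset.sum_congr rfl
    intro ψ _
    rw [classInner_smul_left, hb]
  -- (3) choose ψ
  obtain ⟨ψ, hψa, hψb⟩ : ∃ ψ : IrrCharacter T, a ψ ≠ 0 ∧ b ψ ≠ 0 := by
    by_contra hcon
    push Not at hcon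
    apply h
    rw [he]
    have : ∑ ψ : IrrCharacter T, a ψ * b ψ = 0 := by
      apply Finset.sum_eq_zero
      intro ψ _
      by_cases h0 : a ψ = 0
      · rw [h0, zero_mul]
      · rw [hcon ψ h0, mul_zero]
    rw [this, Nat.cast_zero]
  -- (4) restriction of ψ is homogeneous
  have hψb' : classInner (resTo N T hNT (ψ : T → ℂ)) θ ≠ 0 := by
    rw [hb]
    exact_mod_cast hψb
  have hhom := resTo_eq_smul_of_le_inertia N T hNT hθ le_rfl ψ.2 hψb'
  rw [hb] at hhom
  -- (5) degrees
  obtain ⟨l, hl⟩ := exists_nat_irr_one (⟨θ, hθ⟩ : IrrCharacter N)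
  have hl' : θ 1 = (l : ℂ) := hl
  have hψ1 : (ψ : T → ℂ) 1 = ((b ψ * l : ℕ) : ℂ) := by
    have h1 := congrFun hhom 1
    rw [resTo_apply, Pi.smul_apply, smul_eq_mul, hl'] at h1
    push_cast
    rw [← h1]
    rfl
  have hχ1 : χ 1 = (((∑ ψ : IrrCharacter T, a ψ * b ψ) * T.index * l : ℕ) : ℂ) := by
    rw [clifford_degree N hχ hθ h, he, hl']
    push_cast
    rfl
  -- (6) the induced character
  set Φ : G → ℂ := indFun T (ψ : T → ℂ) with hΦ
  have hΦchar : IsCharacter G Φ := isCharacter_indFun T (IsIrrCharacter.isCharacter ψ.2)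
  obtain ⟨m, hm, hsumG⟩ := IsCharacter.exists_mult hΦchar
  have hmχ : m ⟨χ, hχ⟩ = a ψ := by
    have h1 := hm ⟨χ, hχ⟩
    rw [hΦ, Cfsg.Agent.Lib.Helper25.frobenius_reciprocity T _ _ hχcf] at h1
    have h2 := ha ψ
    rw [classInner_conj_symm, h1, Complex.conj_natCast] at h2
    exact_mod_cast h2
  have hΦ1 : Φ 1 = ((T.index * (b ψ * l) : ℕ) : ℂ) := by
    rw [hΦ, indFun_apply_one, hψ1]
    have hT0 : (Nat.card T : ℂ) ≠ 0 := by exact_mod_cast Nat.card_pos.ne'
    have hidx : (Nat.card G : ℂ) = (T.index : ℂ) * (Nat.card T : ℂ) := by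
      exact_mod_cast T.index_mul_card.symm
    rw [hidx]
    push_cast
    field_simp
  choose deg hdeg using fun χ' : IrrCharacter G => exists_nat_irr_one χ'
  have hdegpos : ∀ χ' : IrrCharacter G, 0 < deg χ' := by
    intro χ'
    rcases Nat.eq_zero_or_pos (deg χ') with h0 | h0
    · exfalso
      have := hdeg χ'
      rw [h0, Nat.cast_zero] at this
      exact irr_one_ne_zero χ' this
    · exact h0
  have hsumdeg : ∑ χ' : IrrCharacter G, m χ' * deg χ' = T.index * (b ψ * l) := by
    have h2 := congrFun hsumG 1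
    rw [hΦ1] at h2
    simp only [Finset.sum_apply, Pi.smul_apply, smul_eq_mul, hdeg] at h2
    have : ((T.index * (b ψ * l) : ℕ) : ℂ) =
        ((∑ χ' : IrrCharacter G, m χ' * deg χ' : ℕ) : ℂ) := by
      rw [h2]
      push_cast
      rfl
    exact_mod_cast this.symm
  have hdegχ : deg ⟨χ, hχ⟩ = (∑ ψ : IrrCharacter T, a ψ * b ψ) * T.index * l := by
    have h1 := hdeg ⟨χ, hχ⟩
    change χ 1 = _ at h1
    rw [hχ1] at h1
    exact_mod_cast h1.symm
  have hble : b ψ ≤ ∑ ψ : IrrCharacter T, a ψ * b ψ := by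
    have h1 : a ψ * b ψ ≤ ∑ ψ : IrrCharacter T, a ψ * b ψ :=
      Finset.single_le_sum (f := fun ψ => a ψ * b ψ) (fun _ _ => Nat.zero_le _)
        (Finset.mem_univ ψ)
    have h2 : b ψ ≤ a ψ * b ψ := Nat.le_mul_of_pos_left _ (Nat.pos_of_ne_zero hψa)
    exact h2.trans h1
  have hle : ∑ χ' : IrrCharacter G, m χ' * deg χ' ≤ deg ⟨χ, hχ⟩ := by
    rw [hsumdeg, hdegχ]
    calc T.index * (b ψ * l) = b ψ * (T.index * l) := by ring
      _ ≤ (∑ ψ : IrrCharacter T, a ψ * b ψ) * (T.index * l) := Nat.mul_le_mul_right _ hble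
      _ = (∑ ψ : IrrCharacter T, a ψ * b ψ) * T.index * l := by ring
  -- (7) conclude
  have hmother : ∀ χ' : IrrCharacter G, χ' ≠ ⟨χ, hχ⟩ → m χ' = 0 := by
    intro χ' hne
    by_contra hm0
    have hsub : ({χ', ⟨χ, hχ⟩} : Finset (IrrCharacter G)) ⊆ Finset.univ := Finset.subset_univ _
    have h2 := Finset.sum_le_sum_of_subset (f := fun χ' => m χ' * deg χ') hsub
    rw [Finset.sum_pair hne] at h2
    have h3 : 0 < m χ' * deg χ' := Nat.mul_pos (Nat.pos_of_ne_zero hm0) (hdegpos χ')
    have h4 : deg ⟨χ, hχ⟩ ≤ m ⟨χ, hχ⟩ * deg ⟨χ, hχ⟩ :=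
      Nat.le_mul_of_pos_left _ (by rw [hmχ]; exact Nat.pos_of_ne_zero hψa)
    omega
  have hmone : m ⟨χ, hχ⟩ = 1 := by
    have h1 : m ⟨χ, hχ⟩ * deg ⟨χ, hχ⟩ ≤ ∑ χ' : IrrCharacter G, m χ' * deg χ' :=
      Finset.single_le_sum (f := fun χ' => m χ' * deg χ') (fun _ _ => Nat.zero_le _)
        (Finset.mem_univ _)
    have h2 := h1.trans hle
    have h3 : 0 < m ⟨χ, hχ⟩ := by rw [hmχ]; exact Nat.pos_of_ne_zero hψa
    have h4 := hdegpos ⟨χ, hχ⟩
    by_contra hne
    have h5 : 2 ≤ m ⟨χ, hχ⟩ := by omega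
    have h6 : 2 * deg ⟨χ, hχ⟩ ≤ m ⟨χ, hχ⟩ * deg ⟨χ, hχ⟩ := Nat.mul_le_mul_right _ h5
    omega
  have hΦχ : Φ = χ := by
    rw [hsumG, Finset.sum_eq_single (⟨χ, hχ⟩ : IrrCharacter G)]
    · rw [hmone, Nat.cast_one, one_smul]
    · intro χ' _ hne
      rw [hmother χ' hne, Nat.cast_zero, zero_smul]
    · intro h
      exact absurd (Finset.mem_univ _) h
  refine ⟨ψ, ψ.2, hΦχ.symm, (b ψ : ℂ), ?_⟩
  intro n
  have h1 := congrFun hhom n
  rw [resTo_apply, Pi.smul_apply, smul_eq_mul] at h1
  exact h1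

end Relative

end Cfsg.Agent.Lib.Helper79
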