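import Mathlib
import Cfsg.Prelude.Def_Characters
import Cfsg.Agent.Lib.Helper3.Degree
import Cfsg.Agent.Lib.Helper80.Schur
import Cfsg.Agent.Lib.Helper79.Basic

set_option autoImplicit false
set_option linter.unusedSectionVars false
set_option linter.style.haveILetI false

namespace Cfsg.Agent.Lib.Helper79

open Cfsg
open scoped ComplexConjugate

/-- The fibres of the quotient map all have the cardinality of the subgroup. -/
theorem card_filter_mk_eq {G : Type*} [Group G] [Fintype G] (Z : Subgroup G)
    [DecidableEq (G ⧸ Z)] (q : G ⧸ Z) :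
    (Finset.univ.filter (fun g : G => (g : G ⧸ Z) = q)).card = Nat.card Z := by
  classical
  have h := QuotientGroup.card_preimage_mk Z ({q} : Set (G ⧸ Z))
  simp only [Nat.card_unique, mul_one] at h
  rw [← h, Nat.card_eq_fintype_card, ← Fintype.card_subtype]
  apply Fintype.card_congr
  exact Equiv.subtypeEquivRight (fun g => by simp)

/-- Sum over a group of a function factoring through a quotient. -/
theorem sum_comp_quotient_mk {G : Type*} [Group G] [Fintype G] (Z : Subgroup G)
    [Fintype (G ⧸ Z)] (f : G ⧸ Z → ℂ) :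
    ∑ g : G, f (g : G ⧸ Z) = (Nat.card Z : ℂ) * ∑ q : G ⧸ Z, f q := by
  classical
  rw [← Finset.sum_fiberwise (s := Finset.univ) (g := fun g : G => (g : G ⧸ Z))
    (f := fun g => f (g : G ⧸ Z)), Finset.mul_sum]
  apply Finset.sum_congr rfl
  intro q _
  rw [Finset.sum_congr rfl (g := fun _ => f q)]
  · rw [Finset.sum_const, nsmul_eq_mul, card_filter_mk_eq]
  · intro g hg
    simp only [Finset.mem_filter, Finset.mem_univ, true_and] at hg
    rw [hg]

/-- A central element acts by a scalar which is a root of unity, in an irreducible complex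
representation of a finite group. -/
theorem exists_scalar_of_mem_center {G : Type*} [Group G] [Finite G] {V : Type*} [AddCommGroup V]
    [Module ℂ V] [FiniteDimensional ℂ V] (ρ : Representation ℂ G V) [ρ.IsIrreducible]
    {z : G} (hz : z ∈ Subgroup.center G) :
    ∃ c : ℂ, ρ z = c • LinearMap.id ∧ c * conj c = 1 := by
  have hcomm : ∀ g : G, ρ z ∘ₗ ρ g = ρ g ∘ₗ ρ z := by
    intro g
    change ρ z * ρ g = ρ g * ρ z
    rw [← map_mul, ← map_mul, (Subgroup.mem_center_iff.mp hz g)]
  obtain ⟨c, hc⟩ := Cfsg.Agent.Lib.Helper80.schur_scalar ρ (ρ z) hcomm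
  refine ⟨c, hc, ?_⟩
  have hV : Nontrivial V := Cfsg.Agent.Lib.Helper80.nontrivial_of_irreducible ρ
  have hk : 0 < orderOf z := orderOf_pos z
  have hpow : c ^ orderOf z = 1 := by
    have h1 : (ρ z) ^ orderOf z = 1 := by
      rw [← map_pow, pow_orderOf_eq_one, map_one]
    rw [hc] at h1
    have h2 : (c • (LinearMap.id : V →ₗ[ℂ] V)) ^ orderOf z = (c ^ orderOf z) • LinearMap.id := by
      rw [smul_pow]
      congr 1
      exact one_pow _
    rw [h2] at h1
    obtain ⟨v, hv⟩ := exists_ne (0 : V)
    have h3 := LinearMap.congr_fun h1 v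
    simp only [LinearMap.smul_apply, LinearMap.id_coe, id_eq, Module.End.one_apply] at h3
    have h4 : (c ^ orderOf z - 1) • v = 0 := by
      rw [sub_smul, h3, one_smul, sub_self]
    rcases smul_eq_zero.mp h4 with h5 | h5
    · exact sub_eq_zero.mp h5
    · exact absurd h5 hv
  have hnorm : ‖c‖ = 1 := Complex.norm_eq_one_of_pow_eq_one hpow hk.ne'
  rw [Complex.mul_conj, Complex.normSq_eq_norm_sq, hnorm]
  simp

/-- Degree divides the index of the centre, faithful case. -/
theorem finrank_dvd_index_center_of_faithful {G : Type*} [Group G] [Fintype G] {V : Type*}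
    [AddCommGroup V] [Module ℂ V] [FiniteDimensional ℂ V] (ρ : Representation ℂ G V)
    [hρ : ρ.IsIrreducible] (hfaith : ∀ g : G, ρ g = 1 → g = 1) :
    Module.finrank ℂ V ∣ (Subgroup.center G).index := by
  classical
  open Cfsg.Agent.Lib.Helper3 in
  set Z := Subgroup.center G with hZ
  haveI : Fintype (G ⧸ Z) := Fintype.ofFinite _
  have hV : Nontrivial V := Cfsg.Agent.Lib.Helper80.nontrivial_of_irreducible ρ
  have hn0 : Module.finrank ℂ V ≠ 0 := (Module.finrank_pos (R := ℂ) (M := V)).ne'
  have hn : (Module.finrank ℂ V : ℂ) ≠ 0 := by exact_mod_cast hn0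
  have hcf : IsClassFunction G ρ.character :=
    IsCharacter.isClassFunction (isCharacter_character ρ)
  -- translation by the centre
  have htrans : ∀ g : G, ∀ z ∈ Z, ∃ c : ℂ, c * conj c = 1 ∧
      ρ.character (g * z) = c * ρ.character g ∧ (c = 1 → z = 1) := by
    intro g z hz
    obtain ⟨c, hc, hcc⟩ := exists_scalar_of_mem_center ρ hz
    refine ⟨c, hcc, ?_, ?_⟩
    · unfold Representation.character
      rw [map_mul, hc]
      have : ρ g * c • (LinearMap.id : V →ₗ[ℂ] V) = c • ρ g := by
        rw [mul_smul_comm]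
        congr 1
      rw [this, map_smul, smul_eq_mul]
    · intro h1
      apply hfaith
      rw [hc, h1, one_smul]
      rfl
  -- the function F
  set F : G → ℂ := fun g => ρ.character g * conj (ρ.character g) / (Module.finrank ℂ V : ℂ) with hF
  have hFz : ∀ g : G, ∀ z ∈ Z, F (g * z) = F g := by
    intro g z hz
    obtain ⟨c, hcc, hc, _⟩ := htrans g z hz
    simp only [hF, hc, map_mul]
    have : c * ρ.character g * (conj c * conj (ρ.character g)) =
        (c * conj c) * (ρ.character g * conj (ρ.character g)) := by ring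
    rw [this, hcc, one_mul]
  have hFcf : IsClassFunction G F := by
    intro g x
    simp only [hF, hcf g x]
  let Fbar : G ⧸ Z → ℂ := fun q => Quotient.liftOn' q F (fun a b hab => by
    rw [QuotientGroup.leftRel_apply] at hab
    have := hFz a _ hab
    rw [← this]
    congr 1
    group)
  have hFbar : ∀ g : G, Fbar (g : G ⧸ Z) = F g := fun g => rfl
  have hFbarcf : IsClassFunction (G ⧸ Z) Fbar := by
    intro q r
    obtain ⟨g, rfl⟩ := QuotientGroup.mk_surjective q
    obtain ⟨x, rfl⟩ := QuotientGroup.mk_surjective r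
    have : ((x : G ⧸ Z) * (g : G ⧸ Z) * (x : G ⧸ Z)⁻¹) = ((x * g * x⁻¹ : G) : G ⧸ Z) := by
      simp
    rw [this, hFbar, hFbar, hFcf g x]
  -- integrality of each class contribution
  have hint : ∀ q : G ⧸ Z,
      IsIntegral ℤ (((Subgroup.centralizer ({q} : Set (G ⧸ Z))).index : ℂ) * Fbar q) := by
    intro q
    obtain ⟨g, rfl⟩ := QuotientGroup.mk_surjective q
    rw [hFbar]
    by_cases hχ : ρ.character g = 0
    · simp only [hF, hχ, zero_mul, zero_div, mul_zero]
      exact isIntegral_zero
    · have hcent : Subgroup.centralizer ({g} : Set G) =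
          (Subgroup.centralizer ({(g : G ⧸ Z)} : Set (G ⧸ Z))).comap (QuotientGroup.mk' Z) := by
        ext x
        rw [Subgroup.mem_comap, Subgroup.mem_centralizer_singleton_iff,
          Subgroup.mem_centralizer_singleton_iff]
        constructor
        · intro h
          change ((x : G ⧸ Z)) * (g : G ⧸ Z) = (g : G ⧸ Z) * (x : G ⧸ Z)
          rw [← QuotientGroup.mk_mul, ← QuotientGroup.mk_mul, h]
        · intro h
          change ((x : G ⧸ Z)) * (g : G ⧸ Z) = (g : G ⧸ Z) * (x : G ⧸ Z) at h
          rw [← QuotientGroup.mk_mul, ← QuotientGroup.mk_mul, QuotientGroup.eq] at h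
          -- z = (x g)⁻¹ (g x) ∈ Z
          obtain ⟨c, hcc, hc, hc1⟩ := htrans g _ h
          have h2 : g * ((x * g)⁻¹ * (g * x)) = x⁻¹ * g * x⁻¹⁻¹ := by
            group
          rw [h2, hcf g x⁻¹] at hc
          have hc' : c = 1 := by
            have : (c - 1) * ρ.character g = 0 := by rw [sub_mul, one_mul, ← hc, sub_self]
            rcases mul_eq_zero.mp this with h3 | h3
            · exact sub_eq_zero.mp h3
            · exact absurd h3 hχ
          have h3 := hc1 hc'
          exact inv_mul_eq_one.mp h3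
      have hidx : (Subgroup.centralizer ({(g : G ⧸ Z)} : Set (G ⧸ Z))).index =
          (Subgroup.centralizer ({g} : Set G)).index := by
        rw [hcent, Subgroup.index_comap_of_surjective _ (QuotientGroup.mk'_surjective Z)]
      rw [hidx]
      have h1 := isIntegral_omega ρ g
      have h2 : IsIntegral ℤ (conj (ρ.character g)) := by
        rw [← character_inv ρ g]
        exact isIntegral_character ρ g⁻¹
      have h3 := h1.mul h2
      have heq : ((Subgroup.centralizer ({g} : Set G)).index : ℂ) * F g =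
          ((Subgroup.centralizer ({g} : Set G)).index : ℂ) * ρ.character g /
            (Module.finrank ℂ V : ℂ) * conj (ρ.character g) := by
        simp only [hF]
        ring
      rw [heq]
      exact h3
  have hsumint : IsIntegral ℤ (∑ q : G ⧸ Z, Fbar q) := isIntegral_sum_of_class hFbarcf hint
  -- compute the sum
  have hsumF : ∑ g : G, F g = (Nat.card G : ℂ) / (Module.finrank ℂ V : ℂ) := by
    simp only [hF]
    rw [← Finset.sum_div, sum_character_mul_conj ρ]
  have hsum2 : ∑ g : G, F g = (Nat.card Z : ℂ) * ∑ q : G ⧸ Z, Fbar q := by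
    rw [← sum_comp_quotient_mk Z Fbar]
    exact Finset.sum_congr rfl (fun g _ => (hFbar g).symm)
  have hZ0 : (Nat.card Z : ℂ) ≠ 0 := by exact_mod_cast Nat.card_pos.ne'
  have hidx : (Z.index : ℂ) * (Nat.card Z : ℂ) = (Nat.card G : ℂ) := by
    exact_mod_cast Z.index_mul_card
  have hfinal : ∑ q : G ⧸ Z, Fbar q = (Z.index : ℂ) / (Module.finrank ℂ V : ℂ) := by
    have h1 : (Nat.card Z : ℂ) * ∑ q : G ⧸ Z, Fbar q =
        (Z.index : ℂ) * (Nat.card Z : ℂ) / (Module.finrank ℂ V : ℂ) := by
      rw [← hsum2, hsumF, hidx]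
    have h2 : ∑ q : G ⧸ Z, Fbar q =
        (Nat.card Z : ℂ)⁻¹ * ((Nat.card Z : ℂ) * ∑ q : G ⧸ Z, Fbar q) := by
      rw [← mul_assoc, inv_mul_cancel₀ hZ0, one_mul]
    rw [h2, h1]
    field_simp
  rw [hfinal] at hsumint
  exact nat_dvd_of_isIntegral_div hn0 hsumint

/-- The degree of an irreducible complex representation divides the index of the centre. -/
theorem finrank_dvd_index_center {G : Type*} [Group G] [Finite G] {V : Type*}
    [AddCommGroup V] [Module ℂ V] [FiniteDimensional ℂ V] (ρ : Representation ℂ G V)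
    [hρ : ρ.IsIrreducible] : Module.finrank ℂ V ∣ (Subgroup.center G).index := by
  classical
  haveI : Fintype G := Fintype.ofFinite G
  set K : Subgroup G := MonoidHom.ker ρ with hK
  haveI : Fintype (G ⧸ K) := Fintype.ofFinite _
  let ρ' : Representation ℂ (G ⧸ K) V := QuotientGroup.lift K ρ le_rfl
  have hρ'mk : ∀ g : G, ρ' (g : G ⧸ K) = ρ g := fun g => QuotientGroup.lift_mk _ le_rfl g
  haveI hirr : ρ'.IsIrreducible :=
    isIrreducible_of_forall_exists ρ ρ' (fun g => ⟨(g : G ⧸ K), hρ'mk g⟩) hρ
  have hfaith : ∀ x : G ⧸ K, ρ' x = 1 → x = 1 := by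
    intro x hx
    obtain ⟨g, rfl⟩ := QuotientGroup.mk_surjective x
    rw [hρ'mk] at hx
    exact (QuotientGroup.eq_one_iff g).mpr hx
  have h1 := finrank_dvd_index_center_of_faithful ρ' hfaith
  refine h1.trans ?_
  have hsurj : Function.Surjective (QuotientGroup.mk' K) := QuotientGroup.mk'_surjective K
  have hle : (Subgroup.center G).map (QuotientGroup.mk' K) ≤ Subgroup.center (G ⧸ K) := by
    rintro _ ⟨z, hz, rfl⟩
    rw [Subgroup.mem_center_iff]
    intro q
    obtain ⟨g, rfl⟩ := hsurj q
    rw [← map_mul, ← map_mul, Subgroup.mem_center_iff.mp hz g]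
  exact (Subgroup.index_dvd_of_le hle).trans (Subgroup.index_map_dvd _ hsurj)

end Cfsg.Agent.Lib.Helper79
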