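import Mathlib
import Cfsg.Prelude.Def_Characters
import Cfsg.Agent.Lib.Helper79.CliffordCorr
import Cfsg.Agent.Lib.Helper79.CenterIndex
import Cfsg.Agent.Lib.Helper79.Abelian

set_option autoImplicit false
set_option linter.unusedSectionVars false
set_option linter.style.haveILetI false

namespace Cfsg.Agent.Lib.Helper79

open Cfsg Cfsg.Agent.Lib.Helper75
open scoped ComplexConjugate

universe u

/-- If a subgroup acts by scalars in an irreducible representation, the degree divides its
index. -/
theorem finrank_dvd_index_of_scalar {G : Type*} [Group G] [Finite G] {V : Type*}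
    [AddCommGroup V] [Module ℂ V] [FiniteDimensional ℂ V] (ρ : Representation ℂ G V)
    [hρ : ρ.IsIrreducible] (A : Subgroup G) (hA : ∀ a ∈ A, ∃ c : ℂ, ρ a = c • LinearMap.id) :
    Module.finrank ℂ V ∣ A.index := by
  classical
  haveI : Fintype G := Fintype.ofFinite G
  set K : Subgroup G := MonoidHom.ker ρ with hK
  haveI : Fintype (G ⧸ K) := Fintype.ofFinite _
  let ρ' : Representation ℂ (G ⧸ K) V := QuotientGroup.lift K ρ le_rfl
  have hρ'mk : ∀ g : G, ρ' (g : G ⧸ K) = ρ g := fun g => QuotientGroup.lift_mk _ le_rfl g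
  haveI hirr : ρ'.IsIrreducible :=
    isIrreducible_of_forall_exists ρ ρ' (fun g => ⟨(g : G ⧸ K), hρ'mk g⟩) hρ
  have hfaith : ∀ x : G ⧸ K, ρ' x = 1 → x = 1 := by
    intro x hx
    obtain ⟨g, rfl⟩ := QuotientGroup.mk_surjective x
    rw [hρ'mk] at hx
    exact (QuotientGroup.eq_one_iff g).mpr hx
  have hinj : Function.Injective ρ' := by
    rw [← MonoidHom.ker_eq_bot_iff, eq_bot_iff]
    intro x hx
    exact hfaith x hx
  have h1 := finrank_dvd_index_center ρ'
  refine h1.trans ?_
  have hsurj : Function.Surjective (QuotientGroup.mk' K) := QuotientGroup.mk'_surjective K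
  have hle : A.map (QuotientGroup.mk' K) ≤ Subgroup.center (G ⧸ K) := by
    rintro _ ⟨a, ha, rfl⟩
    rw [Subgroup.mem_center_iff]
    intro q
    obtain ⟨g, rfl⟩ := hsurj q
    apply hinj
    obtain ⟨c, hc⟩ := hA a ha
    rw [map_mul, map_mul]
    change ρ' (g : G ⧸ K) * ρ' (a : G ⧸ K) = ρ' (a : G ⧸ K) * ρ' (g : G ⧸ K)
    rw [hρ'mk, hρ'mk, hc]
    rw [mul_smul_comm, smul_mul_assoc]
    congr 1
  exact (Subgroup.index_dvd_of_le hle).trans (Subgroup.index_map_dvd _ hsurj)

/-- Existence of an irreducible constituent of the restriction to a subgroup. -/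
theorem exists_irr_constituent_restrict {G : Type u} [Group G] [Fintype G] (A : Subgroup G)
    [Fintype A] {χ : G → ℂ} (hχ : IsIrrCharacter G χ) :
    ∃ θ : A → ℂ, IsIrrCharacter A θ ∧ classInner (fun a : A => χ a) θ ≠ 0 := by
  classical
  haveI : Finite (IrrCharacter A) := Cfsg.Agent.Lib.Helper3.irrCharacter_finite
  haveI := Fintype.ofFinite (IrrCharacter A)
  by_contra hcon
  push Not at hcon
  have hcf : IsClassFunction A (fun a : A => χ a) :=
    Cfsg.Agent.Lib.Helper3.IsCharacter.isClassFunction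
      (isCharacter_restrict (Cfsg.Agent.Lib.Helper3.IsIrrCharacter.isCharacter hχ) A)
  have hexp := Cfsg.Agent.Lib.Helper3.classFunction_eq_sum hcf
  have h0 : (fun a : A => χ a) = 0 := by
    rw [hexp]
    apply Finset.sum_eq_zero
    intro θ _
    rw [hcon θ θ.2, zero_smul]
  have h1 := congrFun h0 1
  exact irr_one_ne_zero ⟨χ, hχ⟩ h1

/-- If the inertia group of a constituent `θ` of the restriction of an irreducible representation
to an abelian normal subgroup `A` is everything, then `A` acts by scalars. -/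
theorem scalar_of_inertia_eq_top {G : Type u} [Group G] [Fintype G] (A : Subgroup G)
    [hAn : A.Normal] [Fintype A] (hA : ∀ a ∈ A, ∀ b ∈ A, a * b = b * a) {n : ℕ}
    (ρ : Representation ℂ G (Fin n → ℂ)) (hρ : ρ.IsIrreducible) {θ : A → ℂ}
    (hθ : IsIrrCharacter A θ) (h : classInner (fun a : A => ρ.character a) θ ≠ 0)
    (hT : inertia A θ = ⊤) : ∀ a ∈ A, ∃ c : ℂ, ρ a = c • LinearMap.id := by
  classical
  haveI : IsMulCommutative A := ⟨⟨fun a b => Subtype.ext (hA a a.2 b b.2)⟩⟩
  have hχ : IsIrrCharacter G ρ.character := ⟨n, ρ, hρ, rfl⟩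
  have h1 := Cfsg.Agent.S0174.result A hAn ρ.character hχ θ hθ h
  have hS : {ψ : A → ℂ | ∃ g : G, ψ = fun a : A => θ ⟨g * a * g⁻¹, hAn.conj_mem a a.2 g⟩} =
      {θ} := by
    ext ψ
    simp only [Set.mem_ofPred_eq, Set.mem_singleton_iff]
    constructor
    · rintro ⟨g, rfl⟩
      have hg : g ∈ inertia A θ := by rw [hT]; exact Subgroup.mem_top g
      exact hg
    · rintro rfl
      exact ⟨1, (conjFun_one A ψ).symm⟩
  rw [hS, finsum_mem_singleton] at h1
  -- θ is linear
  have hθ1 : θ 1 = 1 := irr_one_eq_one_of_comm ⟨θ, hθ⟩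
  obtain ⟨φ, hφ⟩ := exists_monoidHom_of_isCharacter_of_one
    (Cfsg.Agent.Lib.Helper3.IsIrrCharacter.isCharacter hθ) hθ1
  set e := classInner (fun a : A => ρ.character a) θ with he
  have hen : e = (n : ℂ) := by
    have h2 := congrFun h1 1
    simp only [Pi.smul_apply, smul_eq_mul, hθ1, mul_one] at h2
    rw [← h2]
    exact rep_character_one ρ
  intro a ha
  refine ⟨((φ ⟨a, ha⟩ : ℂˣ) : ℂ), ?_⟩
  have hχa : ρ.character a = (n : ℂ) * ((φ ⟨a, ha⟩ : ℂˣ) : ℂ) := by
    have h2 := congrFun h1 ⟨a, ha⟩
    simp only [Pi.smul_apply, smul_eq_mul] at h2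
    rw [h2, hen, hφ]
  set c : ℂ := ((φ ⟨a, ha⟩ : ℂˣ) : ℂ) with hc
  have hc0 : c ≠ 0 := Units.ne_zero _
  have hm : 0 < orderOf a := orderOf_pos a
  have hcpow : c ^ orderOf a = 1 := by
    rw [hc, ← Units.val_pow_eq_pow_val, ← map_pow]
    have : (⟨a, ha⟩ : A) ^ orderOf a = 1 := by
      apply Subtype.ext
      simp [pow_orderOf_eq_one]
    rw [this, map_one]
    rfl
  set M := LinearMap.toMatrixAlgEquiv' (ρ a) with hM
  have hMpow : (c⁻¹ • M) ^ orderOf a = 1 := by
    rw [smul_pow, inv_pow, hcpow, inv_one, one_smul, hM, ← map_pow, ← map_pow,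
      pow_orderOf_eq_one, map_one, map_one]
  have htr : (c⁻¹ • M).trace = n := by
    rw [Matrix.trace_smul, smul_eq_mul]
    have : M.trace = ρ.character a := by
      rw [Representation.character,
        LinearMap.trace_eq_matrix_trace ℂ (Pi.basisFun ℂ (Fin n)), LinearMap.toMatrix_eq_toMatrix']
      rfl
    rw [this, hχa]
    field_simp
  have hone := matrix_eq_one_of_trace_eq _ _ hm hMpow htr
  have hMc : M = c • (1 : Matrix (Fin n) (Fin n) ℂ) := by
    rw [← hone, smul_smul, mul_inv_cancel₀ hc0, one_smul]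
  apply LinearMap.toMatrixAlgEquiv'.injective
  rw [← hM, hMc, map_smul]
  congr 1
  exact (map_one _).symm

/-- **Itô**, character form, by induction on the order. -/
theorem ito_aux (k : ℕ) : ∀ (G : Type u) [Group G] [Fintype G], Nat.card G = k →
    ∀ (A : Subgroup G) [A.Normal], (∀ a ∈ A, ∀ b ∈ A, a * b = b * a) →
    ∀ (χ : G → ℂ), IsIrrCharacter G χ → ∀ d : ℕ, χ 1 = (d : ℂ) → d ∣ A.index := by
  classical
  induction k using Nat.strong_induction_on with
  | _ k ih =>
    intro G _ _ hk A hAn hA χ hχ d hd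
    haveI : Fintype A := Fintype.ofFinite A
    obtain ⟨θ, hθ, hne⟩ := exists_irr_constituent_restrict A hχ
    have hcorr := clifford_correspondence A hχ hθ hne
    have hAT : A ≤ inertia A θ := le_inertia A
        (Cfsg.Agent.Lib.Helper3.IsCharacter.isClassFunction
          (Cfsg.Agent.Lib.Helper3.IsIrrCharacter.isCharacter hθ))
    by_cases hT : inertia A θ = ⊤
    · -- homogeneous case
      obtain ⟨n, ρ, hρ, rfl⟩ := hχ
      have hdn : d = n := by
        have := rep_character_one ρ
        rw [hd] at this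
        exact_mod_cast this
      have hsc := scalar_of_inertia_eq_top A hA ρ hρ hθ hne hT
      haveI := hρ
      have := finrank_dvd_index_of_scalar ρ A hsc
      rw [Module.finrank_fin_fun] at this
      rw [hdn]
      exact this
    · -- induced case
      obtain ⟨ψ, hψ, hind, -⟩ := hcorr
      generalize inertia A θ = T at *
      haveI : Fintype T := Fintype.ofFinite T
      have hTlt : Nat.card T < k := by
        rw [← hk]
        have h1 := T.card_mul_index
        have h2 : T.index ≠ 1 := fun h => hT (Subgroup.index_eq_one.mp h)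
        have h3 : 0 < T.index := Nat.pos_of_ne_zero Subgroup.index_ne_zero_of_finite
        have h4 : 2 ≤ T.index := by omega
        have h5 : 0 < Nat.card T := Nat.card_pos
        nlinarith
      obtain ⟨d', hd'⟩ := exists_nat_irr_one (⟨ψ, hψ⟩ : IrrCharacter T)
      have hd'' : ψ 1 = (d' : ℂ) := hd'
      haveI : (A.subgroupOf T).Normal := hAn.subgroupOf T
      have hA' : ∀ a ∈ A.subgroupOf T, ∀ b ∈ A.subgroupOf T, a * b = b * a := by
        intro a ha b hb
        apply Subtype.ext
        exact hA a ha b hb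
      have h1 := ih (Nat.card T) hTlt T rfl (A.subgroupOf T) hA' ψ hψ d' hd''
      have h2 : d = T.index * d' := by
        have h3 := congrFun hind 1
        rw [indFun_apply_one, hd, hd''] at h3
        have hT0 : (Nat.card T : ℂ) ≠ 0 := by exact_mod_cast Nat.card_pos.ne'
        have hidx : (Nat.card G : ℂ) = (T.index : ℂ) * (Nat.card T : ℂ) := by
          exact_mod_cast T.index_mul_card.symm
        rw [hidx] at h3
        have h4 : (d : ℂ) = ((T.index * d' : ℕ) : ℂ) := by
          rw [h3]
          push_cast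
          field_simp
        exact_mod_cast h4
      rw [h2, ← Subgroup.relIndex_mul_index hAT, mul_comm]
      exact Nat.mul_dvd_mul h1 (dvd_refl _)

/-- **Itô's theorem**: the degree of an irreducible complex representation divides the index of
any abelian normal subgroup. -/
theorem ito {G : Type*} [Group G] [Finite G] {V : Type*} [AddCommGroup V] [Module ℂ V]
    [FiniteDimensional ℂ V] (ρ : Representation ℂ G V) [hρ : ρ.IsIrreducible] (H : Subgroup G)
    [H.Normal] (hH : ∀ a ∈ H, ∀ b ∈ H, a * b = b * a) : Module.finrank ℂ V ∣ H.index := by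
  classical
  haveI : Fintype G := Fintype.ofFinite G
  have hχ : IsIrrCharacter G ρ.character := Cfsg.Agent.Lib.Helper3.isIrrCharacter_character ρ hρ
  exact ito_aux (Nat.card G) G rfl H hH ρ.character hχ (Module.finrank ℂ V)
    (Representation.char_one ρ)

end Cfsg.Agent.Lib.Helper79
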