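/-
D3 hive (S2183, architect helper12), leaf D3-RL2 `rl2`: for a nonzero `φ`-fixed `d`, the long root element `x_22(d)`
(`22 = p₁+p₂+p₃+p₄ = 3a+b`) is conjugate inside `³D₄(q)` to `x_14(1)` (`14 = p₂ = b`).
Step 1: the Weyl element `n = nWordGL [0,2,3]` (`s_{p₁} s_{p₃} s_{p₄}`, a folded reflection, in the twisted group) maps
`x_22(d)` to `x_14(d)` (the sign `wSign` is `+1` here).
Step 2: the torus element `h = hw (LJ [1]) z = h_14(z)`, `z ∈ F_q`, `z² d = 1`, maps `x_14(d)` to `x_14(z² d) = x_14(1)`.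
Exact name + statement + header of tools/helper12/D3Skel.lean.txt; auxiliary names prefixed `d3rl2_`.
-/
import Cfsg.Agent.Lib.Helper12.D3Defs
import Cfsg.Agent.Lib.Helper36.ChevTwD4
import Cfsg.Agent.Lib.Helper36.ChevTwTorus

set_option autoImplicit false
set_option maxRecDepth 100000

namespace Cfsg.Agent.Lib.Helper12.D3

open Cfsg Cfsg.Lie Cfsg.Agent.Lib.Helper36 Cfsg.Agent.Lib.Helper75.D4g

variable (K : Type*) [Field K] (φ : K →+* K)

/-- square roots of `φ`-fixed elements in a finite field of characteristic 2 are `φ`-fixed (inlined copy of D3-SQRT) -/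
theorem d3rl2_sqrt [Fintype K] [CharP K 2] (e n : K) (he : φ e = e) (hn : φ n = n) (hn0 : n ≠ 0) :
    ∃ lam : K, φ lam = lam ∧ lam ^ 2 * n = e := by
  have : Fact (Nat.Prime 2) := ⟨Nat.prime_two⟩
  have hinj : Function.Injective (fun x : K => x ^ 2) := fun a b h =>
    frobenius_inj K 2 (by simpa [frobenius_def] using h)
  have hsurj : Function.Surjective (fun x : K => x ^ 2) := Finite.injective_iff_surjective.mp hinj
  obtain ⟨lam, hlam⟩ := hsurj (e * n⁻¹)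
  have hlam' : lam ^ 2 = e * n⁻¹ := hlam
  refine ⟨lam, hinj ?_, ?_⟩
  · show (φ lam) ^ 2 = lam ^ 2
    rw [← map_pow, hlam', map_mul, map_inv₀, he, hn]
  · rw [hlam', mul_assoc, inv_mul_cancel₀ hn0, mul_one]

theorem d3rl2_lt : ∀ i ∈ [0, 2, 3], i < chevD4.rank := by decide

/-- the Weyl element `s_{p₁} s_{p₃} s_{p₄}` maps `x_22(d)` to `x_14(d)` in characteristic 2 -/
theorem d3rl2_weyl [CharP K 2] (d : K) :
    nWordGL chevD4 hD4 K [0, 2, 3] * xg K 22 d * (nWordGL chevD4 hD4 K [0, 2, 3])⁻¹ = xg K 14 d := by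
  unfold xg
  rw [nWordGL_conj_sign chevD4 hD4 K _ d3rl2_lt 22 (by decide)]
  have r1 : wRoot chevD4 [0, 2, 3] 22 = 14 := by decide
  have s1 : wSign chevD4 [0, 2, 3] 22 = 1 := by decide
  rw [r1, s1]
  simp

/-- `hw (LJ [1]) z = h_14(z)` -/
theorem d3rl2_hw (z : K) : hw chevD4 hD4 K (LJ chevD4 K φ [1]) z = hGL chevD4 hD4 K 14 z := by
  unfold hw LJ LB pBlock
  simp
  rfl

/-- the torus element `h_14(z)` maps `x_14(t)` to `x_14(z² t)` -/
theorem d3rl2_torus (z : K) (hz : z ≠ 0) (t : K) :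
    hGL chevD4 hD4 K 14 z * xg K 14 t * (hGL chevD4 hD4 K 14 z)⁻¹ = xg K 14 (z ^ 2 * t) := by
  unfold xg
  rw [hGL_conj_xGL chevD4 hD4 K 14 14 (by decide) (by decide) z hz t]
  have g1 : gc chevD4 14 14 = 2 := by decide
  rw [g1, zpow_ofNat]

/-- D3-RL1 (inlined): `x_14(t) ~ x_14(1)` for nonzero `φ`-fixed `t` -/
theorem d3rl2_rl1 [Fintype K] [CharP K 2] {q : ℕ} (hK : Fintype.card K = q ^ 3) (hφ : ∀ t : K, φ t = t ^ q)
    (t : K) (ht : t ≠ 0) (hf : φ t = t) : Cj K q (xg K 14 t) (xg K 14 1) := by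
  obtain ⟨z, hz, hzt⟩ := d3rl2_sqrt K φ 1 t (map_one φ) hf ht
  have hz0 : z ≠ 0 := by
    rintro rfl
    simp at hzt
  refine ⟨hGL chevD4 hD4 K 14 z, ?_, ?_⟩
  · rw [twistedD4_eq K q φ hφ hK, ← d3rl2_hw K φ z]
    exact hw_LJ_mem chevD4 hD4 graphD4 orbsD4 fundD4 stepsD4 twOK_D4 K φ [1] (by simp [fundD4]) z (by simpa using hz)
  · rw [d3rl2_torus K z hz0 t, hzt]

/-- D3-RL2 -/
theorem rl2 [Fintype K] [CharP K 2] {q : ℕ} (hK : Fintype.card K = q ^ 3) (hφ : ∀ t : K, φ t = t ^ q)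
    (d : K) (hd : d ≠ 0) (hf : φ d = d) : Cj K q (xg K 22 d) (xg K 14 1) := by
  obtain ⟨h, hh, hc⟩ := d3rl2_rl1 K φ hK hφ d hd hf
  refine ⟨h * nWordGL chevD4 hD4 K [0, 2, 3], mul_mem hh ?_, ?_⟩
  · rw [twistedD4_eq K q φ hφ hK]
    exact nWord_fund_mem chevD4 hD4 graphD4 orbsD4 fundD4 K φ chkOrb_D4 chkFund_D4 [0, 2, 3] (by simp [fundD4])
  · rw [mul_inv_rev, ← hc, ← d3rl2_weyl K d]
    group

end Cfsg.Agent.Lib.Helper12.D3
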