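import Mathlib
import Cfsg.Agent.Lib.Helper48.TiDefs

/-! # The form swap (helper79)

For a bilinear form `B` and an isometry `f` with `f ^ r = 1`, the form
`swap B f u v = B u (f v) - B (f u) v` is alternating when `B` is symmetric and symmetric when `B`
is alternating, `f` is an isometry of it, and on the part of the space killed by a polynomial prime
to `X ^ 2 - 1` the `f`-invariant totally isotropic subspaces of `B` and of `swap B f` coincide. -/

set_option autoImplicit false
set_option linter.unusedSectionVars false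
set_option linter.style.haveILetI false

namespace Cfsg.Agent.Lib.Helper79.TsSwap

open Polynomial Module
open Cfsg.Agent.Lib.Helper2.BG Cfsg.Agent.Lib.Helper99 Cfsg.Agent.Lib.Helper48.Ti

variable {F V : Type*} [Field F] [AddCommGroup V] [Module F V]

/-- the swapped form `(u, v) ↦ B u (f v) - B (f u) v` -/
def swap (B : V →ₗ[F] V →ₗ[F] F) (f : Module.End F V) : V →ₗ[F] V →ₗ[F] F :=
  B.compl₂ f - B.comp f

theorem swap_apply (B : V →ₗ[F] V →ₗ[F] F) (f : Module.End F V) (u v : V) :
    swap B f u v = B u (f v) - B (f u) v := by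
  unfold swap
  rw [LinearMap.sub_apply, LinearMap.sub_apply, LinearMap.compl₂_apply, LinearMap.comp_apply]

/-- the swap of a symmetric form is alternating -/
theorem swap_self_of_symm {B : V →ₗ[F] V →ₗ[F] F} (hs : ∀ u v, B u v = B v u)
    (f : Module.End F V) (v : V) : swap B f v v = 0 := by
  rw [swap_apply, hs v (f v), sub_self]

/-- an alternating form is skew-symmetric -/
theorem skew_of_alt {B : V →ₗ[F] V →ₗ[F] F} (hB : ∀ v, B v v = 0) (u v : V) :
    B u v = - B v u := by
  have h := hB (u + v)
  simp only [map_add, LinearMap.add_apply, hB u, hB v] at h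
  linear_combination h

/-- the swap of an alternating form is symmetric -/
theorem swap_symm_of_alt {B : V →ₗ[F] V →ₗ[F] F} (hB : ∀ v, B v v = 0)
    (f : Module.End F V) (u v : V) : swap B f u v = swap B f v u := by
  rw [swap_apply, swap_apply, skew_of_alt hB u (f v), skew_of_alt hB (f u) v]
  ring

/-- `f` is an isometry of the swapped form -/
theorem isom_swap {B : V →ₗ[F] V →ₗ[F] F} {f : Module.End F V} (hf : Isom B f) :
    Isom (swap B f) f := by
  intro u v
  rw [swap_apply, swap_apply, hf, hf]

theorem pow_pred_mul {f : Module.End F V} {r : ℕ} (hr : 1 ≤ r) (hfr : f ^ r = 1) :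
    f * f ^ (r - 1) = 1 := by
  rw [← pow_succ', Nat.sub_add_cancel hr, hfr]

/-- the swapped form in terms of `f - f⁻¹` -/
theorem swap_eq {B : V →ₗ[F] V →ₗ[F] F} {f : Module.End F V} (hf : Isom B f) {r : ℕ}
    (hr : 1 ≤ r) (hfr : f ^ r = 1) (u w : V) :
    swap B f u w = B u ((f - f ^ (r - 1)) w) := by
  rw [swap_apply, LinearMap.sub_apply, map_sub]
  congr 1
  have h1 : f ((f ^ (r - 1)) w) = w := by
    have := congrArg (fun g : Module.End F V => g w) (pow_pred_mul hr hfr)
    simpa using this
  calc B (f u) w = B (f u) (f ((f ^ (r - 1)) w)) := by rw [h1]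
    _ = B u ((f ^ (r - 1)) w) := hf _ _

/-- on an invariant subspace killed by a polynomial prime to `X ^ 2 - 1`, the map `f - f⁻¹`
is onto -/
theorem exists_preimage [FiniteDimensional F V] {f : Module.End F V} {r : ℕ} (hr : 1 ≤ r)
    (hfr : f ^ r = 1) {P : F[X]} (hcop : IsCoprime (X ^ 2 - 1 : F[X]) P)
    {U : Submodule F V} (hUf : Inv f U) (hUP : ∀ v ∈ U, aeval f P v = 0) (v : V) (hv : v ∈ U) :
    ∃ w ∈ U, (f - f ^ (r - 1)) w = v := by
  have hmaps : ∀ w ∈ U, (f - f ^ (r - 1)) w ∈ U := by
    intro w hw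
    rw [LinearMap.sub_apply]
    exact U.sub_mem (hUf w hw) (hUf.pow (r - 1) w hw)
  set h : U →ₗ[F] U := (f - f ^ (r - 1)).restrict hmaps with hh
  have hinj : Function.Injective h := by
    rw [← LinearMap.ker_eq_bot, LinearMap.ker_eq_bot']
    intro w hw
    have hw0 : (f - f ^ (r - 1)) (w : V) = 0 := by
      have := congrArg (fun z : U => (z : V)) hw
      simpa [hh] using this
    have h2 : aeval f (X ^ 2 - 1 : F[X]) (w : V) = 0 := by
      have e : aeval f (X ^ 2 - 1 : F[X]) = f * (f - f ^ (r - 1)) := by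
        rw [mul_sub, pow_pred_mul hr hfr]
        simp [pow_two]
      rw [e, Module.End.mul_apply, hw0, map_zero]
    obtain ⟨a, b, hab⟩ := hcop
    have h3 : (w : V) = aeval f (a * (X ^ 2 - 1) + b * P) (w : V) := by
      rw [hab]; simp
    rw [map_add, map_mul, map_mul, LinearMap.add_apply, Module.End.mul_apply, Module.End.mul_apply,
      h2, hUP _ w.2, map_zero, map_zero, add_zero] at h3
    exact Subtype.ext h3
  have hsurj : Function.Surjective h := LinearMap.surjective_of_injective hinj
  obtain ⟨w, hw⟩ := hsurj ⟨v, hv⟩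
  refine ⟨w, w.2, ?_⟩
  have := congrArg (fun z : U => (z : V)) hw
  simpa [hh] using this

/-- invariant subspaces that are totally isotropic for `B` are so for the swapped form -/
theorem ti_swap_of_ti {B : V →ₗ[F] V →ₗ[F] F} {f : Module.End F V} {U : Submodule F V}
    (hUf : Inv f U) (hU : TI B U) : TI (swap B f) U := by
  intro u hu v hv
  rw [swap_apply, hU u hu (f v) (hUf v hv), hU (f u) (hUf u hu) v hv, sub_zero]

/-- invariant subspaces killed by `P` that are totally isotropic for the swapped form are so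
for `B` -/
theorem ti_of_ti_swap [FiniteDimensional F V] {B : V →ₗ[F] V →ₗ[F] F} {f : Module.End F V}
    (hf : Isom B f) {r : ℕ} (hr : 1 ≤ r) (hfr : f ^ r = 1) {P : F[X]}
    (hcop : IsCoprime (X ^ 2 - 1 : F[X]) P) {U : Submodule F V} (hUf : Inv f U)
    (hUP : ∀ v ∈ U, aeval f P v = 0) (hU : TI (swap B f) U) : TI B U := by
  intro u hu v hv
  obtain ⟨w, hw, rfl⟩ := exists_preimage hr hfr hcop hUf hUP v hv
  rw [← swap_eq hf hr hfr]
  exact hU u hu w hw

/-- relative nondegeneracy passes to the swapped form -/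
theorem nd_swap [FiniteDimensional F V] {B : V →ₗ[F] V →ₗ[F] F} {f : Module.End F V}
    (hf : Isom B f) {r : ℕ} (hr : 1 ≤ r) (hfr : f ^ r = 1) {P : F[X]}
    (hcop : IsCoprime (X ^ 2 - 1 : F[X]) P) {R : Submodule F V} (hRf : Inv f R)
    (hRP : ∀ v ∈ R, aeval f P v = 0) (hR : Nd B R) : Nd (swap B f) R := by
  intro u hu h
  apply hR u hu
  intro v hv
  obtain ⟨w, hw, rfl⟩ := exists_preimage hr hfr hcop hRf hRP v hv
  rw [← swap_eq hf hr hfr]
  exact h w hw

/-- the fixed vectors are in the radical of the swapped form -/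
theorem swap_fixed_left {B : V →ₗ[F] V →ₗ[F] F} {f : Module.End F V} (hf : Isom B f)
    {u : V} (hu : f u = u) (v : V) : swap B f u v = 0 := by
  rw [swap_apply, hu]
  have h1 : B u (f v) = B (f u) (f v) := by rw [hu]
  rw [h1, hf, sub_self]

end Cfsg.Agent.Lib.Helper79.TsSwap
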