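import Mathlib
import Cfsg.Agent.Lib.Helper2.TiFIXcore
import Cfsg.Agent.Lib.Helper79.TsSwap

/-! # Splitting invariant totally isotropic subspaces along `ker (f - 1) ⊕ ker P(f)` (helper79) -/

set_option autoImplicit false
set_option linter.unusedSectionVars false
set_option linter.style.haveILetI false

namespace Cfsg.Agent.Lib.Helper79.TsSwap

open Polynomial Module
open Cfsg.Agent.Lib.Helper2.BG Cfsg.Agent.Lib.Helper99 Cfsg.Agent.Lib.Helper48.Ti

variable {F V : Type*} [Field F] [AddCommGroup V] [Module F V]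

theorem fix_of_mem_ker {f : Module.End F V} {v : V} (hv : v ∈ LinearMap.ker (f - 1)) :
    f v = v := by
  rw [LinearMap.mem_ker, LinearMap.sub_apply, Module.End.one_apply, sub_eq_zero] at hv
  exact hv

theorem mem_ker_of_fix {f : Module.End F V} {v : V} (hv : f v = v) :
    v ∈ LinearMap.ker (f - 1) := by
  rw [LinearMap.mem_ker, LinearMap.sub_apply, Module.End.one_apply, sub_eq_zero]
  exact hv

/-- the other order of `fix_orth` -/
theorem fix_orth' {B : V →ₗ[F] V →ₗ[F] F} {f : Module.End F V} (hf : Isom B f) {P : F[X]}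
    (hcop : IsCoprime (X - 1 : F[X]) P) {u v : V} (hu : u ∈ LinearMap.ker (f - 1))
    (hv : v ∈ LinearMap.ker (aeval f P)) : B v u = 0 := by
  have hf' : Isom B.flip f := by
    intro a b
    rw [LinearMap.flip_apply, LinearMap.flip_apply]
    exact hf b a
  have := fix_orth hf' hcop hu hv
  rwa [LinearMap.flip_apply] at this

/-- the description of the invariant totally isotropic subspaces in terms of the fixed part and
the moved part -/
theorem good_iff_split [FiniteDimensional F V] {B : V →ₗ[F] V →ₗ[F] F} {f : Module.End F V}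
    (hf : Isom B f) {P : F[X]} (hcop : IsCoprime (X - 1 : F[X]) P)
    (hkill : aeval f ((X - 1) * P) = 0) (m : ℕ) :
    Good B f ⊤ m ↔ ∃ a b : ℕ, a + b = m ∧
      (∃ U : Submodule F V, U ≤ LinearMap.ker (f - 1) ∧ TI B U ∧ finrank F U = a) ∧
      (∃ U : Submodule F V, U ≤ LinearMap.ker (aeval f P) ∧ Inv f U ∧ TI B U ∧
        finrank F U = b) := by
  constructor
  · rintro ⟨U, -, hUf, hU, hUm⟩
    have hWP : ∀ v ∈ U, aeval f ((X - 1) * P) v = 0 := by
      intro v _; rw [hkill, LinearMap.zero_apply]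
    obtain ⟨_, _, hfr⟩ := finrank_inv_split hcop hUf hWP
    rw [fix_aeval_X_sub_one] at hfr
    refine ⟨_, _, (hfr.symm.trans hUm), ⟨U ⊓ LinearMap.ker (f - 1), inf_le_right, ?_, rfl⟩,
      ⟨U ⊓ LinearMap.ker (aeval f P), inf_le_right, hUf.inf (inv_ker_aeval f P), ?_, rfl⟩⟩
    · intro u hu v hv
      exact hU u hu.1 v hv.1
    · intro u hu v hv
      exact hU u hu.1 v hv.1
  · rintro ⟨a, b, hab, ⟨U₁, hU₁C, hU₁, hU₁a⟩, ⟨U₂, hU₂R, hU₂f, hU₂, hU₂b⟩⟩
    have hWP : ∀ v ∈ (⊤ : Submodule F V), aeval f ((X - 1) * P) v = 0 := by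
      intro v _; rw [hkill, LinearMap.zero_apply]
    obtain ⟨_, hdisj, _⟩ := finrank_inv_split hcop (inv_top f) hWP
    rw [fix_aeval_X_sub_one] at hdisj
    have hd12 : Disjoint U₁ U₂ := hdisj.mono hU₁C hU₂R
    refine ⟨U₁ ⊔ U₂, le_top, ?_, ?_, ?_⟩
    · apply Inv.sup _ hU₂f
      intro v hv
      rw [fix_of_mem_ker (hU₁C hv)]
      exact hv
    · intro u hu v hv
      obtain ⟨u₁, hu₁, u₂, hu₂, rfl⟩ := Submodule.mem_sup.mp hu
      obtain ⟨v₁, hv₁, v₂, hv₂, rfl⟩ := Submodule.mem_sup.mp hv
      simp only [map_add, LinearMap.add_apply, hU₁ u₁ hu₁ v₁ hv₁, hU₂ u₂ hu₂ v₂ hv₂,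
        fix_orth hf hcop (hU₁C hu₁) (hU₂R hv₂), fix_orth' hf hcop (hU₁C hv₁) (hU₂R hu₂),
        add_zero]
    · rw [finrank_sup_of_disjoint' _ _ hd12, hU₁a, hU₂b, hab]

/-- `fix_split` for a symmetric form -/
theorem fix_split_symm [FiniteDimensional F V] {B : V →ₗ[F] V →ₗ[F] F}
    (hs : ∀ u v, B u v = B v u) {f : Module.End F V} (hf : Isom B f) {P : F[X]}
    (hcop : IsCoprime (X - 1 : F[X]) P) (hkill : aeval f ((X - 1) * P) = 0)
    {Z : Submodule F V} (hZ : Nd B Z) (hZf : Inv f Z) :
    Nd B (Z ⊓ LinearMap.ker (f - 1)) ∧ Nd B (Z ⊓ LinearMap.ker (aeval f P)) ∧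
      finrank F ↥(Z ⊓ LinearMap.ker (f - 1)) + finrank F ↥(Z ⊓ LinearMap.ker (aeval f P))
        = finrank F Z := by
  have hWP : ∀ v ∈ Z, aeval f ((X - 1) * P) v = 0 := by
    intro v _; rw [hkill, LinearMap.zero_apply]
  obtain ⟨hsplit, _, hfr⟩ := finrank_inv_split hcop hZf hWP
  rw [fix_aeval_X_sub_one] at hsplit hfr
  refine ⟨?_, ?_, hfr.symm⟩
  · intro u hu hu0
    apply hZ u hu.1
    intro z hz
    rw [hsplit] at hz
    obtain ⟨z₁, hz₁, z₂, hz₂, rfl⟩ := Submodule.mem_sup.mp hz
    rw [map_add, hu0 z₁ hz₁, fix_orth hf hcop hu.2 hz₂.2, add_zero]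
  · intro u hu hu0
    apply hZ u hu.1
    intro z hz
    rw [hsplit] at hz
    obtain ⟨z₁, hz₁, z₂, hz₂, rfl⟩ := Submodule.mem_sup.mp hz
    rw [map_add, hu0 z₂ hz₂, hs u z₁, fix_orth hf hcop hz₁.2 hu.2, zero_add]

/-- a totally isotropic subspace of a relatively nondegenerate subspace has at most half the
dimension (reflexive forms) -/
theorem ti_bound_refl [FiniteDimensional F V] {B : V →ₗ[F] V →ₗ[F] F}
    (hrefl : ∀ u v, B u v = 0 → B v u = 0) {Z U : Submodule F V} (hZ : Nd B Z) (hUZ : U ≤ Z)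
    (hU : TI B U) : 2 * finrank F U ≤ finrank F Z := by
  -- the map `Z → Dual U`, `z ↦ B z ·` is onto, and its kernel contains `U`
  set φ : Z →ₗ[F] Module.Dual F U :=
    (B.domRestrict₁₂ Z U) with hφ
  have hφ_apply : ∀ (z : Z) (u : U), φ z u = B z u := fun z u => rfl
  -- injectivity of the flipped map `U → Dual Z`
  set ψ : U →ₗ[F] Module.Dual F Z := (B.domRestrict₁₂ U Z) with hψ
  have hψ_inj : Function.Injective ψ := by
    rw [← LinearMap.ker_eq_bot, LinearMap.ker_eq_bot']
    intro u hu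
    have h1 : ∀ z ∈ Z, B (u : V) z = 0 := by
      intro z hz
      have := congrArg (fun l : Module.Dual F Z => l ⟨z, hz⟩) hu
      simpa [hψ, LinearMap.domRestrict₁₂_apply] using this
    exact Subtype.ext (hZ u (hUZ u.2) h1)
  -- rank of `φ` equals rank of `ψ` (transpose), so `φ` is onto
  have hrank : finrank F (LinearMap.range φ) = finrank F U := by
    have hφψ : ∀ (z : Z) (u : U), φ z u = 0 ↔ ψ u z = 0 := by
      intro z u
      constructor
      · intro h; exact hrefl _ _ h
      · intro h; exact hrefl _ _ h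
    -- use rank-nullity: ker φ = {z | ∀ u, B z u = 0} = annihilator-like; dimension count
    have hker : finrank F (LinearMap.ker φ) + finrank F U = finrank F Z := by
      -- `ker φ` is the dual annihilator preimage of `range ψ`
      have hk : LinearMap.ker φ =
          ((LinearMap.range ψ).dualCoannihilator) := by
        ext z
        rw [LinearMap.mem_ker, Submodule.mem_dualCoannihilator]
        constructor
        · intro hz l hl
          obtain ⟨u, rfl⟩ := hl
          exact (hφψ z u).mp (by rw [hz]; rfl)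
        · intro hz
          ext u
          exact (hφψ z u).mpr (hz (ψ u) ⟨u, rfl⟩)
      rw [hk]
      have h2 := Subspace.finrank_dualCoannihilator_eq (K := F) (V := Z) (Φ := LinearMap.range ψ)
      have h3 := Subspace.finrank_add_finrank_dualAnnihilator_eq (K := F) (V := Module.Dual F Z)
        (LinearMap.range ψ)
      have h4 : finrank F (LinearMap.range ψ) = finrank F U :=
        LinearMap.finrank_range_of_inj hψ_inj
      have h5 : finrank F (Module.Dual F Z) = finrank F Z := Subspace.dual_finrank_eq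
      rw [h2]
      omega
    have := LinearMap.finrank_range_add_finrank_ker φ
    omega
  -- `U` (as a subspace of `Z`) is inside `ker φ`
  have hUker : finrank F U ≤ finrank F (LinearMap.ker φ) := by
    let ι : U →ₗ[F] LinearMap.ker φ :=
      { toFun := fun u => ⟨⟨u, hUZ u.2⟩, by
          rw [LinearMap.mem_ker]
          ext v
          exact hU u u.2 v v.2⟩
        map_add' := fun a b => rfl
        map_smul' := fun a b => rfl }
    have hι : Function.Injective ι := by
      intro a b hab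
      have := congrArg (fun z : LinearMap.ker φ => ((z : Z) : V)) hab
      exact Subtype.ext this
    exact LinearMap.finrank_le_finrank_of_injective hι
  have := LinearMap.finrank_range_add_finrank_ker φ
  omega

end Cfsg.Agent.Lib.Helper79.TsSwap
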