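import Mathlib
import Cfsg.Agent.Lib.Helper79.TsSplit

/-! # Transfer of invariant totally isotropic subspaces between an isometry and a partner
constructed from the swapped form on its moved part (helper79) -/

set_option autoImplicit false
set_option linter.unusedSectionVars false
set_option linter.style.haveILetI false

namespace Cfsg.Agent.Lib.Helper79.TsSwap

open Polynomial Module
open Cfsg.Agent.Lib.Helper2.BG Cfsg.Agent.Lib.Helper99 Cfsg.Agent.Lib.Helper48.Ti

section poly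

variable {F : Type*} [Field F]

/-- `X + 1` is prime to the `r`-th cyclotomic polynomial, `r` an odd prime, in characteristic
not two -/
theorem isCoprime_X_add_one_cyclotomic {r : ℕ} [hr : Fact r.Prime]
    (hr2 : r ≠ 2) : IsCoprime (X + 1 : F[X]) (cyclotomic r F) := by
  have hX : (X + 1 : F[X]) = X - C (-1 : F) := by simp
  rw [hX, (irreducible_X_sub_C (-1 : F)).coprime_iff_not_dvd, dvd_iff_isRoot, IsRoot.def,
    cyclotomic_prime, eval_geom_sum]
  have hodd : Odd r := hr.out.odd_of_ne_two hr2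
  have h : ∀ n : ℕ, Odd n → ∑ i ∈ Finset.range n, (-1 : F) ^ i = 1 := by
    intro n hn
    obtain ⟨k, rfl⟩ := hn
    induction k with
    | zero => simp
    | succ k ih =>
      have e : 2 * (k + 1) + 1 = (2 * k + 1) + 1 + 1 := by ring
      rw [e, Finset.sum_range_succ, Finset.sum_range_succ, ih]
      have e1 : (-1 : F) ^ (2 * k + 1) = -1 := by
        rw [pow_succ, pow_mul]; simp
      have e2 : (-1 : F) ^ (2 * k + 1 + 1) = 1 := by
        rw [pow_succ, e1]; simp
      rw [e1, e2]; ring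
  rw [h r hodd]
  exact one_ne_zero

/-- `X ^ 2 - 1` is prime to the `r`-th cyclotomic polynomial -/
theorem isCoprime_X_sq_sub_one_cyclotomic {r : ℕ} [hr : Fact r.Prime]
    (hr2 : r ≠ 2) (hrF : (r : F) ≠ 0) : IsCoprime (X ^ 2 - 1 : F[X]) (cyclotomic r F) := by
  have e : (X ^ 2 - 1 : F[X]) = (X - 1) * (X + 1) := by ring
  rw [e]
  exact IsCoprime.mul_left (isCoprime_X_sub_one_cyclotomic hrF)
    (isCoprime_X_add_one_cyclotomic hr2)

theorem X_sub_one_mul_cyclotomic {r : ℕ} [hr : Fact r.Prime] :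
    (X - 1 : F[X]) * cyclotomic r F = X ^ r - 1 := by
  rw [mul_comm]
  exact cyclotomic_prime_mul_X_sub_one F r

/-- an endomorphism of order dividing `r` is killed by `(X - 1) Φ_r` -/
theorem aeval_kill_of_pow {V : Type*} [AddCommGroup V] [Module F V] {f : Module.End F V}
    {r : ℕ} [hr : Fact r.Prime] (hfr : f ^ r = 1) :
    aeval f ((X - 1 : F[X]) * cyclotomic r F) = 0 := by
  rw [X_sub_one_mul_cyclotomic, map_sub, map_pow, aeval_X, map_one, hfr, sub_self]

/-- converse of `aeval_kill_of_pow` -/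
theorem pow_eq_one_of_aeval_kill {V : Type*} [AddCommGroup V] [Module F V] {f : Module.End F V}
    {r : ℕ} [hr : Fact r.Prime] (h : aeval f ((X - 1 : F[X]) * cyclotomic r F) = 0) :
    f ^ r = 1 := by
  rw [X_sub_one_mul_cyclotomic, map_sub, map_pow, aeval_X, map_one, sub_eq_zero] at h
  exact h

end poly

section transfer

variable {F V₁ V₂ : Type*} [Field F] [AddCommGroup V₁] [Module F V₁] [FiniteDimensional F V₁]
  [AddCommGroup V₂] [Module F V₂] [FiniteDimensional F V₂]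

/-- polynomial version of the intertwining relation -/
theorem aeval_intertwine {f₁ : Module.End F V₁} {f₂ : Module.End F V₂} {P : F[X]}
    (j : ↥(LinearMap.ker (aeval f₁ P)) →ₗ[F] V₂)
    (hjf : ∀ u : ↥(LinearMap.ker (aeval f₁ P)),
      f₂ (j u) = j ⟨f₁ u, inv_ker_aeval f₁ P u u.2⟩) (Q : F[X])
    (u : ↥(LinearMap.ker (aeval f₁ P))) :
    aeval f₂ Q (j u) = j ⟨aeval f₁ Q u, (inv_ker_aeval f₁ P).aeval Q u u.2⟩ := by
  induction Q using Polynomial.induction_on generalizing u with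
  | C a =>
    simp only [aeval_C, Module.algebraMap_end_apply]
    rw [← map_smul]
    rfl
  | add p q hp hq =>
    simp only [map_add, LinearMap.add_apply]
    rw [hp u, hq u, ← map_add]
    rfl
  | monomial n a ih =>
    have e : (C a * X ^ (n + 1) : F[X]) = X * (C a * X ^ n) := by ring
    have h1 : aeval f₂ (C a * X ^ (n + 1)) (j u) = f₂ (aeval f₂ (C a * X ^ n) (j u)) := by
      rw [e, map_mul, aeval_X, Module.End.mul_apply]
    rw [h1, ih u, hjf]
    congr 1
    apply Subtype.ext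
    show f₁ (aeval f₁ (C a * X ^ n) u) = aeval f₁ (C a * X ^ (n + 1)) u
    have h2 : aeval f₁ (C a * X ^ (n + 1)) = f₁ * aeval f₁ (C a * X ^ n) := by
      rw [e, map_mul (aeval f₁) X, aeval_X]
    rw [h2, Module.End.mul_apply]

/-- the transfer lemma -/
theorem good_transfer {B₁ : V₁ →ₗ[F] V₁ →ₗ[F] F} {B₂ : V₂ →ₗ[F] V₂ →ₗ[F] F}
    {f₁ : Module.End F V₁} {f₂ : Module.End F V₂}
    (hf₁ : Isom B₁ f₁) (hf₂ : Isom B₂ f₂) {r : ℕ} (hr : 1 ≤ r) (hfr₁ : f₁ ^ r = 1)
    {P : F[X]} (hcop : IsCoprime (X - 1 : F[X]) P) (hcop2 : IsCoprime (X ^ 2 - 1 : F[X]) P)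
    (hkill₁ : aeval f₁ ((X - 1) * P) = 0) (hkill₂ : aeval f₂ ((X - 1) * P) = 0)
    (hrefl₂ : ∀ u v, B₂ u v = 0 → B₂ v u = 0) (hNd₂ : Nd B₂ (LinearMap.ker (f₂ - 1)))
    (j : ↥(LinearMap.ker (aeval f₁ P)) →ₗ[F] V₂) (hj : Function.Injective j)
    (hjr : ∀ w ∈ LinearMap.ker (aeval f₂ P), ∃ u, j u = w)
    (hjf : ∀ u : ↥(LinearMap.ker (aeval f₁ P)),
      f₂ (j u) = j ⟨f₁ u, inv_ker_aeval f₁ P u u.2⟩)
    {l : F} (hl : l ≠ 0)
    (hjB : ∀ u v : ↥(LinearMap.ker (aeval f₁ P)),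
      B₂ (j u) (j v) = l * swap B₁ f₁ (u : V₁) (v : V₁))
    (hbase : ∀ a : ℕ, 2 * a ≤ finrank F (LinearMap.ker (f₂ - 1)) →
      ∃ U : Submodule F V₁, U ≤ LinearMap.ker (f₁ - 1) ∧ TI B₁ U ∧ finrank F U = a)
    {m : ℕ} (h : Good B₂ f₂ ⊤ m) : Good B₁ f₁ ⊤ m := by
  obtain ⟨a, b, hab, ⟨U₁, hU₁C, hU₁TI, hU₁a⟩, ⟨U₂, hU₂R, hU₂f, hU₂TI, hU₂b⟩⟩ :=
    (good_iff_split hf₂ hcop hkill₂ m).mp h
  have h2a : 2 * a ≤ finrank F (LinearMap.ker (f₂ - 1)) := by
    rw [← hU₁a]
    exact ti_bound_refl hrefl₂ hNd₂ hU₁C hU₁TI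
  obtain ⟨UC, hUCC, hUCTI, hUCa⟩ := hbase a h2a
  set S : Submodule F ↥(LinearMap.ker (aeval f₁ P)) := U₂.comap j with hS
  set UR : Submodule F V₁ := S.map (LinearMap.ker (aeval f₁ P)).subtype with hUR
  have hURle : UR ≤ LinearMap.ker (aeval f₁ P) := Submodule.map_subtype_le _ S
  have hURf : Inv f₁ UR := by
    intro v hv
    obtain ⟨u, hu, rfl⟩ := Submodule.mem_map.mp hv
    refine Submodule.mem_map.mpr ⟨⟨f₁ u, inv_ker_aeval f₁ P u u.2⟩, ?_, rfl⟩
    rw [hS, Submodule.mem_comap, ← hjf]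
    exact hU₂f _ hu
  have hURsw : TI (swap B₁ f₁) UR := by
    intro u hu v hv
    obtain ⟨u', hu', rfl⟩ := Submodule.mem_map.mp hu
    obtain ⟨v', hv', rfl⟩ := Submodule.mem_map.mp hv
    have h1 := hjB u' v'
    rw [hU₂TI _ hu' _ hv'] at h1
    have := mul_eq_zero.mp h1.symm
    rcases this with h0 | h0
    · exact absurd h0 hl
    · exact h0
  have hURTI : TI B₁ UR :=
    ti_of_ti_swap hf₁ hr hfr₁ hcop2 hURf (fun v hv => LinearMap.mem_ker.mp (hURle hv)) hURsw
  have hURb : finrank F UR = b := by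
    rw [hUR, Submodule.finrank_map_subtype_eq, ← hU₂b]
    have hmap : S.map j = U₂ := by
      rw [hS, Submodule.map_comap_eq, inf_eq_right]
      intro w hw
      obtain ⟨u, rfl⟩ := hjr w (hU₂R hw)
      exact ⟨u, rfl⟩
    rw [← hmap]
    exact ((Submodule.equivMapOfInjective j hj S).finrank_eq)
  exact (good_iff_split hf₁ hcop hkill₁ m).mpr
    ⟨a, b, hab, ⟨UC, hUCC, hUCTI, hUCa⟩, ⟨UR, hURle, hURf, hURTI, hURb⟩⟩

/-- structure of a partner isometry which is conjugate to `f₁` on the range of `j` and the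
identity on the orthogonal complement of that range -/
theorem ext_struct {B₂ : V₂ →ₗ[F] V₂ →ₗ[F] F} {f₁ : Module.End F V₁} {f₂ : Module.End F V₂}
    {P : F[X]} (hcop : IsCoprime (X - 1 : F[X]) P)
    (hrefl₂ : ∀ u v, B₂ u v = 0 → B₂ v u = 0)
    (β : V₁ →ₗ[F] V₁ →ₗ[F] F) (hβ : Nd β (LinearMap.ker (aeval f₁ P)))
    (j : ↥(LinearMap.ker (aeval f₁ P)) →ₗ[F] V₂) (hj : Function.Injective j)
    (hjf : ∀ u : ↥(LinearMap.ker (aeval f₁ P)),
      f₂ (j u) = j ⟨f₁ u, inv_ker_aeval f₁ P u u.2⟩)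
    {l : F} (hl : l ≠ 0)
    (hjB : ∀ u v : ↥(LinearMap.ker (aeval f₁ P)), B₂ (j u) (j v) = l * β (u : V₁) (v : V₁))
    (hperp : ∀ w, (∀ u, B₂ (j u) w = 0) → f₂ w = w) :
    aeval f₂ ((X - 1) * P) = 0 ∧ (∀ w ∈ LinearMap.ker (aeval f₂ P), ∃ u, j u = w) ∧
      finrank F (LinearMap.ker (f₂ - 1)) + finrank F (LinearMap.ker (aeval f₁ P))
        = finrank F V₂ := by
  -- the orthogonal projection onto the range of `j`
  have hproj : ∀ w : V₂, ∃ u, ∀ u', B₂ (j u') (w - j u) = 0 := by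
    intro w
    let T : ↥(LinearMap.ker (aeval f₁ P)) →ₗ[F] Module.Dual F ↥(LinearMap.ker (aeval f₁ P)) :=
      { toFun := fun u => (B₂.flip (j u)).comp j
        map_add' := by
          intro a b
          ext c
          simp [map_add]
        map_smul' := by
          intro a b
          ext c
          simp [map_smul] }
    have hT : ∀ u u', T u u' = B₂ (j u') (j u) := fun u u' => rfl
    have hTinj : Function.Injective T := by
      rw [← LinearMap.ker_eq_bot, LinearMap.ker_eq_bot']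
      intro u hu
      apply Subtype.ext
      apply hβ u u.2
      intro v hv
      have h1 : B₂ (j ⟨v, hv⟩) (j u) = 0 := by
        rw [← hT, hu]; rfl
      have h2 := hrefl₂ _ _ h1
      rw [hjB] at h2
      rcases mul_eq_zero.mp h2 with h0 | h0
      · exact absurd h0 hl
      · exact h0
    have hTsurj : Function.Surjective T := by
      exact (LinearMap.injective_iff_surjective_of_finrank_eq_finrank
        Subspace.dual_finrank_eq.symm).mp hTinj
    obtain ⟨u, hu⟩ := hTsurj ((B₂.flip w).comp j)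
    refine ⟨u, fun u' => ?_⟩
    have := congrArg (fun φ : Module.Dual F ↥(LinearMap.ker (aeval f₁ P)) => φ u') hu
    simp only [hT, LinearMap.comp_apply, LinearMap.flip_apply] at this
    rw [map_sub, this, sub_self]
  have hzero : ∀ u : ↥(LinearMap.ker (aeval f₁ P)), aeval f₂ P (j u) = 0 := by
    intro u
    rw [aeval_intertwine j hjf P u]
    have : (⟨aeval f₁ P u, (inv_ker_aeval f₁ P).aeval P u u.2⟩ :
        ↥(LinearMap.ker (aeval f₁ P))) = 0 := by
      apply Subtype.ext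
      exact LinearMap.mem_ker.mp u.2
    rw [this, map_zero]
  have hkill₂ : aeval f₂ ((X - 1) * P) = 0 := by
    apply LinearMap.ext
    intro w
    obtain ⟨u, hu⟩ := hproj w
    have hw' : f₂ (w - j u) = w - j u := hperp _ hu
    have e1 : aeval f₂ ((X - 1) * P) (j u) = 0 := by
      rw [map_mul, Module.End.mul_apply, hzero u, map_zero]
    have e2 : aeval f₂ ((X - 1) * P) (w - j u) = 0 := by
      rw [mul_comm, map_mul, Module.End.mul_apply, fix_aeval_X_sub_one, LinearMap.sub_apply,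
        Module.End.one_apply, hw', sub_self, map_zero]
    have : w = j u + (w - j u) := by abel
    rw [this, map_add, e1, e2, add_zero, LinearMap.zero_apply]
  have hWP : ∀ v ∈ (⊤ : Submodule F V₂), aeval f₂ ((X - 1) * P) v = 0 := by
    intro v _; rw [hkill₂, LinearMap.zero_apply]
  obtain ⟨_, hdisj, hfr⟩ := finrank_inv_split hcop (inv_top f₂) hWP
  rw [fix_aeval_X_sub_one] at hdisj hfr
  have hrange : ∀ w ∈ LinearMap.ker (aeval f₂ P), ∃ u, j u = w := by
    intro w hw
    obtain ⟨u, hu⟩ := hproj w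
    have hw' : f₂ (w - j u) = w - j u := hperp _ hu
    have h1 : w - j u ∈ LinearMap.ker (f₂ - 1) := mem_ker_of_fix hw'
    have h2 : w - j u ∈ LinearMap.ker (aeval f₂ P) := by
      rw [LinearMap.mem_ker, map_sub, LinearMap.mem_ker.mp hw, hzero u, sub_zero]
    have h3 := (Submodule.disjoint_def.mp hdisj) _ h1 h2
    exact ⟨u, (sub_eq_zero.mp h3).symm⟩
  refine ⟨hkill₂, hrange, ?_⟩
  have hker : LinearMap.ker (aeval f₂ P) = LinearMap.range j := by
    apply le_antisymm
    · intro w hw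
      obtain ⟨u, rfl⟩ := hrange w hw
      exact ⟨u, rfl⟩
    · rintro _ ⟨u, rfl⟩
      exact LinearMap.mem_ker.mpr (hzero u)
  rw [top_inf_eq, top_inf_eq, hker, LinearMap.finrank_range_of_inj hj, finrank_top] at hfr
  exact hfr.symm

end transfer

end Cfsg.Agent.Lib.Helper79.TsSwap
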