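import Mathlib
import Cfsg.Prelude.Def_Characters
import Cfsg.Agent.Lib.Helper32.PGroupCenter
import Cfsg.Agent.Lib.Helper79.Classes
import Cfsg.Agent.Lib.Helper79.CenterIndex

set_option autoImplicit false
set_option linter.unusedSectionVars false
set_option linter.style.haveILetI false

namespace Cfsg.Agent.Lib.Helper79

open Cfsg
open scoped ComplexConjugate

/-- For a non-identity element of a finite group some irreducible representation (on a
coordinate space) does not have it in its kernel. -/
theorem exists_irr_rep_not_mem_ker {G : Type*} [Group G] [Finite G] {z : G} (hz : z ≠ 1) :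
    ∃ (n : ℕ) (ρ : Representation ℂ G (Fin n → ℂ)), ρ.IsIrreducible ∧ ρ z ≠ 1 := by
  by_contra hcon
  push Not at hcon
  apply hz
  have h1 : IsConj z 1 := by
    apply isConj_of_forall_irr_eq
    rintro ⟨χ, n, ρ, hirr, rfl⟩
    simp only [Representation.character]
    rw [hcon n ρ hirr, ← map_one ρ]
  exact isConj_one_left.mp h1

/-- A faithful irreducible representation forces the centre to be cyclic. -/
theorem isCyclic_center_of_faithful_irr {G : Type*} [Group G] [Finite G] {V : Type*}
    [AddCommGroup V] [Module ℂ V] [FiniteDimensional ℂ V] (ρ : Representation ℂ G V)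
    [ρ.IsIrreducible] (hinj : Function.Injective ρ) : IsCyclic (Subgroup.center G) := by
  classical
  have hV : Nontrivial V := Cfsg.Agent.Lib.Helper80.nontrivial_of_irreducible ρ
  obtain ⟨v, hv⟩ := exists_ne (0 : V)
  have huniq : ∀ c c' : ℂ, c • (LinearMap.id : V →ₗ[ℂ] V) = c' • LinearMap.id → c = c' := by
    intro c c' h
    have h3 := LinearMap.congr_fun h v
    simp only [LinearMap.smul_apply, LinearMap.id_coe, id_eq] at h3
    have h4 : (c - c') • v = 0 := by rw [sub_smul, h3, sub_self]
    rcases smul_eq_zero.mp h4 with h5 | h5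
    · exact sub_eq_zero.mp h5
    · exact absurd h5 hv
  have hex : ∀ z : Subgroup.center G, ∃ c : ℂ, ρ (z : G) = c • LinearMap.id := fun z => by
    obtain ⟨c, hc, _⟩ := exists_scalar_of_mem_center ρ z.2
    exact ⟨c, hc⟩
  choose c hc using hex
  let f : Subgroup.center G →* ℂ :=
    { toFun := c
      map_one' := by
        apply huniq
        rw [← hc 1, one_smul]
        simp
        rfl
      map_mul' := by
        intro a b
        apply huniq
        rw [← hc (a * b)]
        simp only [Subgroup.coe_mul, map_mul]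
        rw [hc a, hc b, smul_mul_smul_comm]
        congr 1 }
  apply isCyclic_of_injective_ringHom f
  intro a b hab
  apply Subtype.ext
  apply hinj
  rw [hc a, hc b]
  change c a = c b at hab
  rw [hab]

/-- In a finite cyclic group, an element of prime order `p` lies in the subgroup generated by any
other element of order `p`. -/
theorem mem_zpowers_of_orderOf_eq_prime {Z : Type*} [Group Z] [Finite Z] [IsCyclic Z] {p : ℕ}
    (hp : p.Prime) {a b : Z} (ha : orderOf a = p) (hb : orderOf b = p) :
    a ∈ Subgroup.zpowers b := by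
  classical
  haveI : Fintype Z := Fintype.ofFinite Z
  have hS : (Finset.univ.filter (fun t : Z => t ^ p = 1)).card ≤ p :=
    IsCyclic.card_pow_eq_one_le hp.pos
  have hTS : (Subgroup.zpowers b : Set Z).toFinset ⊆ Finset.univ.filter (fun t : Z => t ^ p = 1) := by
    intro t ht
    rw [Set.mem_toFinset] at ht
    obtain ⟨k, rfl⟩ := ht
    simp only [Finset.mem_filter, Finset.mem_univ, true_and]
    rw [← zpow_natCast, ← zpow_mul, mul_comm, zpow_mul, zpow_natCast, ← hb, pow_orderOf_eq_one,
      one_zpow]
  have hTcard : (Subgroup.zpowers b : Set Z).toFinset.card = p := by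
    rw [Set.toFinset_card, ← Nat.card_eq_fintype_card]
    exact (Nat.card_zpowers b).trans hb
  have heq := Finset.eq_of_subset_of_card_le hTS (by rw [hTcard]; exact hS)
  have ha' : a ∈ Finset.univ.filter (fun t : Z => t ^ p = 1) := by
    simp only [Finset.mem_filter, Finset.mem_univ, true_and]
    rw [← ha, pow_orderOf_eq_one]
  rw [← heq, Set.mem_toFinset] at ha'
  exact ha'

/-- A finite `p`-group with cyclic centre has a faithful irreducible complex representation. -/
theorem exists_faithful_irr_of_isCyclic_center {G : Type*} [Group G] [Finite G] (p : ℕ)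
    [hp : Fact p.Prime] (hG : IsPGroup p G) (hZ : IsCyclic (Subgroup.center G)) :
    ∃ (n : ℕ) (ρ : Representation ℂ G (Fin n → ℂ)), ρ.IsIrreducible ∧ Function.Injective ρ := by
  classical
  rcases subsingleton_or_nontrivial G with hsub | hnt
  · refine ⟨1, 1, ?_, Function.injective_of_subsingleton _⟩
    apply isIrreducible_of_finrank_eq_one
    simp
  · have hZnt : Nontrivial (Subgroup.center G) := hG.center_nontrivial
    have hZp : IsPGroup p (Subgroup.center G) := hG.to_subgroup _
    have hdvd : p ∣ Nat.card (Subgroup.center G) := by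
      obtain ⟨n, hn0, hn⟩ := hZp.nontrivial_iff_card.mp hZnt
      exact hn.symm ▸ dvd_pow_self _ (ne_of_gt hn0)
    obtain ⟨z₀, hz₀⟩ := exists_prime_orderOf_dvd_card' (G := Subgroup.center G) p hdvd
    have hz₀ne : (z₀ : G) ≠ 1 := by
      intro h
      have h1 : z₀ = 1 := Subtype.ext h
      rw [h1, orderOf_one] at hz₀
      exact hp.out.one_lt.ne hz₀
    obtain ⟨n, ρ, hirr, hρ⟩ := exists_irr_rep_not_mem_ker hz₀ne
    refine ⟨n, ρ, hirr, ?_⟩
    rw [← MonoidHom.ker_eq_bot_iff]
    by_contra hK
    obtain ⟨x, hxK, hxZ, hx1⟩ :=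
      Cfsg.Agent.Lib.Helper32.exists_ne_one_mem_normal_inf_center hG (MonoidHom.ker ρ) hK
    obtain ⟨k, hk⟩ := (IsPGroup.iff_orderOf.mp hG) x
    have hk0 : k ≠ 0 := by
      intro h
      rw [h, pow_zero, orderOf_eq_one_iff] at hk
      exact hx1 hk
    obtain ⟨k', rfl⟩ := Nat.exists_eq_succ_of_ne_zero hk0
    set y : G := x ^ (p ^ k') with hy
    have hyord : orderOf y = p := by
      rw [hy, orderOf_pow_of_dvd (pow_ne_zero _ hp.out.ne_zero) (by rw [hk]; exact pow_dvd_pow _ (Nat.le_succ _)),
        hk, pow_succ, Nat.mul_div_cancel_left _ (pow_pos hp.out.pos _)]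
    have hyK : y ∈ MonoidHom.ker ρ := Subgroup.pow_mem _ hxK _
    have hyZ : y ∈ Subgroup.center G := Subgroup.pow_mem _ hxZ _
    have hy'ord : orderOf (⟨y, hyZ⟩ : Subgroup.center G) = p := by
      rw [← hyord]
      exact Subgroup.orderOf_mk y hyZ
    have hmem := mem_zpowers_of_orderOf_eq_prime hp.out hz₀ hy'ord
    obtain ⟨j, hj⟩ := hmem
    apply hρ
    have h2 : (z₀ : G) = y ^ j := by
      rw [← hj]
      simp
    rw [h2]
    exact (MonoidHom.mem_ker).mp (Subgroup.zpow_mem _ hyK j)

end Cfsg.Agent.Lib.Helper79
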