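import Mathlib
import Cfsg.Prelude.Def_Characters
import Cfsg.Agent.Lib.Helper75.BurnsideGallagher
import Cfsg.Agent.Lib.Helper15.Gallagher
import Cfsg.Agent.Lib.Helper79.Abelian

set_option autoImplicit false
set_option linter.unusedSectionVars false
set_option linter.style.haveILetI false

namespace Cfsg.Agent.Lib.Helper79

open Cfsg
open scoped ComplexConjugate

universe u

section LinearBG

variable {G : Type*} [Group G] [Finite G]

/-- Linear Burnside–Gallagher, per element: for a character with non-negative real values,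
`γ g ≠ 0` gives `φ(|G|) ≤ ∑_u γ (g ^ u)`. -/
theorem card_units_le_sum_re {γ : G → ℂ} (h : IsCharacter G γ) (hre : ∀ g, 0 ≤ (γ g).re)
    (him : ∀ g, (γ g).im = 0) (g : G) (hg : γ g ≠ 0) :
    (Fintype.card (ZMod (Nat.card G))ˣ : ℝ) ≤
      ∑ u : (ZMod (Nat.card G))ˣ, (γ (g ^ (u : ZMod (Nat.card G)).val)).re := by
  have h1 := Cfsg.Agent.Lib.Helper75.card_le_sum_of_one_le_prod
    (Finset.univ : Finset (ZMod (Nat.card G))ˣ)
    (fun u => (γ (g ^ (u : ZMod (Nat.card G)).val)).re) (fun _ _ => hre _) ?_
  · simpa using h1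
  · obtain ⟨z, hz⟩ := Cfsg.Agent.Lib.Helper75.exists_int_eq_galProd h g
    have hγ : ∀ x : G, γ x = (((γ x).re : ℝ) : ℂ) := by
      intro x
      apply Complex.ext
      · simp
      · simp [him x]
    have hprod : Cfsg.Agent.Lib.Helper75.galProd γ g =
        ((∏ u : (ZMod (Nat.card G))ˣ, (γ (g ^ (u : ZMod (Nat.card G)).val)).re : ℝ) : ℂ) := by
      unfold Cfsg.Agent.Lib.Helper75.galProd
      rw [Complex.ofReal_prod]
      apply Finset.prod_congr rfl
      intro u _
      exact hγ _
    rw [hprod] at hz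
    have hz' : (z : ℝ) = ∏ u : (ZMod (Nat.card G))ˣ, (γ (g ^ (u : ZMod (Nat.card G)).val)).re := by
      have : ((z : ℝ) : ℂ) = ((∏ u : (ZMod (Nat.card G))ˣ,
          (γ (g ^ (u : ZMod (Nat.card G)).val)).re : ℝ) : ℂ) := by
        rw [← hz]; simp
      exact_mod_cast this
    rw [← hz']
    have hz0 : z ≠ 0 := by
      intro h0
      rw [h0, Int.cast_zero] at hz'
      have := hz'.symm
      rw [Finset.prod_eq_zero_iff] at this
      obtain ⟨u, _, hu⟩ := this
      apply Cfsg.Agent.Lib.Helper75.character_pow_ne_zero h hg _ (ZMod.val_coe_unit_coprime u)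
      rw [hγ, hu]
      simp
    have hznn : (0 : ℝ) ≤ (z : ℝ) := by
      rw [hz']
      exact Finset.prod_nonneg (fun u _ => hre _)
    have hznn' : (0 : ℤ) ≤ z := by exact_mod_cast hznn
    have : (1 : ℤ) ≤ z := by omega
    exact_mod_cast this

/-- Linear Burnside–Gallagher, set form. -/
theorem card_le_sum_re_of_pow_closed {γ : G → ℂ} (h : IsCharacter G γ) (hre : ∀ g, 0 ≤ (γ g).re)
    (him : ∀ g, (γ g).im = 0) (S : Finset G)
    (hS : ∀ g ∈ S, ∀ k : ℕ, Nat.Coprime k (Nat.card G) → g ^ k ∈ S)
    (hne : ∀ g ∈ S, γ g ≠ 0) :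
    (S.card : ℝ) ≤ ∑ g ∈ S, (γ g).re := by
  classical
  have hN : NeZero (Nat.card G) := ⟨Nat.card_pos.ne'⟩
  have hperm : ∀ u : (ZMod (Nat.card G))ˣ,
      ∑ g ∈ S, (γ (g ^ (u : ZMod (Nat.card G)).val)).re = ∑ g ∈ S, (γ g).re := by
    intro u
    have hc : (Nat.card G).Coprime (u : ZMod (Nat.card G)).val :=
      (ZMod.val_coe_unit_coprime u).symm
    have himg : S.image (powCoprime hc) = S := by
      apply Finset.eq_of_subset_of_card_le
      · intro x hx
        obtain ⟨g, hg, rfl⟩ := Finset.mem_image.1 hx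
        exact hS g hg _ hc.symm
      · rw [Finset.card_image_of_injective _ (powCoprime hc).injective]
    conv_rhs => rw [← himg]
    rw [Finset.sum_image (fun x _ y _ hxy => (powCoprime hc).injective hxy)]
    rfl
  have hφ : (0 : ℝ) < Fintype.card (ZMod (Nat.card G))ˣ := by exact_mod_cast Fintype.card_pos
  have h1 : (S.card : ℝ) * Fintype.card (ZMod (Nat.card G))ˣ ≤
      ∑ g ∈ S, ∑ u : (ZMod (Nat.card G))ˣ, (γ (g ^ (u : ZMod (Nat.card G)).val)).re := by
    rw [← nsmul_eq_mul]
    exact Finset.card_nsmul_le_sum _ _ _ (fun g hg => card_units_le_sum_re h hre him g (hne g hg))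
  rw [Finset.sum_comm] at h1
  simp only [hperm] at h1
  rw [Finset.sum_const, Finset.card_univ, nsmul_eq_mul, mul_comm] at h1
  exact le_of_mul_le_mul_left h1 hφ

end LinearBG

section CosetVanish

open Cfsg.Agent.Lib.Helper15 Cfsg.Agent.Lib.Helper3

/-- The restriction of an irreducible character to a normal subgroup is reducible iff the
character vanishes on a whole coset. -/
theorem restrict_not_irr_iff_vanish_coset {G : Type u} [Group G] [Finite G] (N : Subgroup G)
    [N.Normal] (χ : IrrCharacter G) :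
    ¬ IsIrrCharacter N (fun n : N => (χ : G → ℂ) n) ↔
      ∃ x : G, ∀ n : N, (χ : G → ℂ) ((n : G) * x) = 0 := by
  classical
  haveI : Fintype G := Fintype.ofFinite G
  haveI : Fintype N := Fintype.ofFinite N
  haveI : Finite (IrrCharacter G) := irrCharacter_finite
  haveI := Fintype.ofFinite (IrrCharacter G)
  have hN0 : (Nat.card N : ℂ) ≠ 0 := by exact_mod_cast Nat.card_pos.ne'
  have hχc : IsCharacter G (χ : G → ℂ) := IsIrrCharacter.isCharacter χ.2
  have hχcf : IsClassFunction G (χ : G → ℂ) := IsCharacter.isClassFunction hχc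
  constructor
  · intro hnot
    by_contra hcon
    push Not at hcon
    set γ : G → ℂ := cosetAvg N (χ : G → ℂ) (χ : G → ℂ) with hγ
    -- γ is a character
    have hγsum := cosetAvg_eq_sum N hχc hχcf
    have hγchar : IsCharacter G γ := by
      rw [hγ, hγsum]
      apply IsCharacter.sum
      intro φ _
      obtain ⟨m, hm⟩ := classInner_character_eq_natCast hχc
        (IsCharacter.mul (IsIrrCharacter.isCharacter φ.2) hχc)
      rw [hm]
      exact IsCharacter.nsmul (IsIrrCharacter.isCharacter φ.2) m
    -- values of γ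
    have hγval : ∀ g : G, γ g =
        (((Nat.card N : ℝ)⁻¹ * ∑ n : N, Complex.normSq ((χ : G → ℂ) ((n : G) * g)) : ℝ) : ℂ) := by
      intro g
      rw [hγ]
      unfold cosetAvg
      push_cast
      congr 1
      apply Finset.sum_congr rfl
      intro n _
      rw [Complex.mul_conj]
    have hre : ∀ g : G, 0 ≤ (γ g).re := by
      intro g
      rw [hγval g, Complex.ofReal_re]
      apply mul_nonneg (inv_nonneg.mpr (Nat.cast_nonneg _))
      exact Finset.sum_nonneg (fun n _ => Complex.normSq_nonneg _)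
    have him : ∀ g : G, (γ g).im = 0 := by
      intro g
      rw [hγval g, Complex.ofReal_im]
    have hγne : ∀ g : G, γ g ≠ 0 := by
      intro g h0
      rw [hγval g] at h0
      have h1 : (Nat.card N : ℝ)⁻¹ * ∑ n : N, Complex.normSq ((χ : G → ℂ) ((n : G) * g)) = 0 := by
        exact_mod_cast h0
      have hNr : (Nat.card N : ℝ)⁻¹ ≠ 0 := by
        apply inv_ne_zero
        exact_mod_cast Nat.card_pos.ne'
      have h2 := (mul_eq_zero.mp h1).resolve_left hNr
      obtain ⟨n, hn⟩ := hcon g
      have h3 := (Finset.sum_eq_zero_iff_of_nonneg (fun n _ => Complex.normSq_nonneg _)).mp h2 n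
        (Finset.mem_univ _)
      exact hn (Complex.normSq_eq_zero.mp h3)
    -- γ 1
    have hχN : IsCharacter N (fun n : N => (χ : G → ℂ) n) := isCharacter_restrict hχc N
    obtain ⟨k, hk⟩ := classInner_character_eq_natCast hχN hχN
    have hγ1 : γ 1 = (k : ℂ) := by
      rw [hγ, cosetAvg_one, hk]
    have hk2 : 2 ≤ k := by
      by_contra hlt
      have hk01 : k = 0 ∨ k = 1 := by omega
      rcases hk01 with h0 | h1
      · apply hγne 1
        rw [hγ1, h0, Nat.cast_zero]
      · apply hnot
        apply isIrrCharacter_of_classInner_self_eq_one hχN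
        rw [hk, h1, Nat.cast_one]
    -- total sum
    have hsum : ∑ g : G, γ g = (Nat.card G : ℂ) := by
      have h0 := sum_coset_avg N (fun x => (χ : G → ℂ) x * conj ((χ : G → ℂ) x))
      have h1 : ∑ g : G, γ g = (Nat.card N : ℂ)⁻¹ *
          ∑ g : G, ∑ n : N, (fun x => (χ : G → ℂ) x * conj ((χ : G → ℂ) x)) ((n : G) * g) := by
        rw [Finset.mul_sum]
        rfl
      rw [h1, h0, ← mul_assoc, inv_mul_cancel₀ hN0, one_mul]
      have h2 := classInner_irr χ.2 χ.2
      rw [if_pos rfl] at h2
      unfold classInner at h2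
      have hG0 : (Nat.card G : ℂ) ≠ 0 := by exact_mod_cast Nat.card_pos.ne'
      have h3 := congrArg (fun z => (Nat.card G : ℂ) * z) h2
      simp only [mul_one] at h3
      rw [← mul_assoc, mul_inv_cancel₀ hG0, one_mul] at h3
      exact h3
    have hsumre : ∑ g : G, (γ g).re = (Nat.card G : ℝ) := by
      have := congrArg Complex.re hsum
      rw [Complex.re_sum, Complex.natCast_re] at this
      exact this
    -- apply the linear Burnside–Gallagher inequality
    have hBG := card_le_sum_re_of_pow_closed hγchar hre him (Finset.univ.erase (1 : G)) (by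
      intro g hg k hkc
      rw [Finset.mem_erase] at hg ⊢
      refine ⟨?_, Finset.mem_univ _⟩
      intro h1
      apply hg.1
      have hinj := (powCoprime hkc.symm).injective
      apply hinj
      change g ^ k = 1 ^ k
      rw [h1, one_pow]) (fun g _ => hγne g)
    rw [Finset.card_erase_of_mem (Finset.mem_univ _), Finset.card_univ] at hBG
    have hsplit : ∑ g ∈ Finset.univ.erase (1 : G), (γ g).re =
        (Nat.card G : ℝ) - (k : ℝ) := by
      have := Finset.add_sum_erase Finset.univ (fun g => (γ g).re) (Finset.mem_univ (1 : G))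
      rw [hsumre, hγ1, Complex.natCast_re] at this
      linarith
    rw [hsplit, ← Nat.card_eq_fintype_card] at hBG
    have hGpos : 0 < Nat.card G := Nat.card_pos
    have h4 : ((Nat.card G - 1 : ℕ) : ℝ) = (Nat.card G : ℝ) - 1 := by
      rw [Nat.cast_sub hGpos]
      simp
    rw [h4] at hBG
    have h5 : (2 : ℝ) ≤ (k : ℝ) := by exact_mod_cast hk2
    linarith
  · rintro ⟨x, hx⟩ hirr
    have h1 := coset_sum_norm N χ.2 hirr x
    rw [Finset.sum_eq_zero] at h1
    · exact hN0 h1.symm
    · intro n _
      rw [hx n, zero_mul]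

end CosetVanish

end Cfsg.Agent.Lib.Helper79
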