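import Mathlib
import Cfsg.Prelude.Def_Characters
import Cfsg.Agent.Lib.Helper79.CosetVanish
import Cfsg.Agent.Lib.Helper79.Ito
import Cfsg.Agent.Lib.Helper79.Basic
import Cfsg.Agent.Lib.Helper80.JointEigen
import Cfsg.Agent.Lib.Helper80.IrrApi
import Cfsg.Agent.Lib.Helper3.Ortho
import Cfsg.Agent.Lib.Helper3.CharOps
import Cfsg.Agent.S0894

set_option autoImplicit false
set_option linter.unusedSectionVars false
set_option linter.style.haveILetI false

namespace Cfsg.Agent.Lib.Helper79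

open Cfsg
open scoped ComplexConjugate

universe u

/-- If `p^a`-th roots of unity sum to zero, their number is divisible by `p`. -/
theorem prime_dvd_of_sum_roots_eq_zero {p a n : ℕ} (hp : p.Prime) (α : Fin n → ℂ)
    (hα : ∀ i, α i ^ (p ^ a) = 1) (hsum : ∑ i, α i = 0) : p ∣ n := by
  rcases Nat.eq_zero_or_pos a with rfl | ha
  · have h1 : ∀ i, α i = 1 := fun i => by simpa using hα i
    simp only [h1, Finset.sum_const, Finset.card_univ, Fintype.card_fin, nsmul_eq_mul, mul_one] at hsum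
    have : n = 0 := by exact_mod_cast hsum
    rw [this]; exact dvd_zero p
  obtain ⟨k, rfl⟩ : ∃ k, a = k + 1 := ⟨a - 1, by omega⟩
  have hpos : 0 < p ^ (k + 1) := pow_pos hp.pos _
  have hζ : IsPrimitiveRoot (Complex.exp (2 * Real.pi * Complex.I / ((p ^ (k + 1) : ℕ) : ℂ))) (p ^ (k + 1)) :=
    Complex.isPrimitiveRoot_exp _ hpos.ne'
  set ζ := Complex.exp (2 * Real.pi * Complex.I / ((p ^ (k + 1) : ℕ) : ℂ)) with hζdef
  have hex : ∀ i, ∃ j : ℕ, ζ ^ j = α i := by
    intro i
    have : NeZero (p ^ (k + 1)) := ⟨hpos.ne'⟩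
    obtain ⟨j, _, hj⟩ := hζ.eq_pow_of_pow_eq_one (hα i)
    exact ⟨j, hj⟩
  choose j hj using hex
  set P : Polynomial ℤ := ∑ i, Polynomial.X ^ (j i) with hP
  have haeval : Polynomial.aeval ζ P = 0 := by
    rw [hP, map_sum]
    simp only [map_pow, Polynomial.aeval_X, hj]
    exact hsum
  have hmin : Polynomial.cyclotomic (p ^ (k + 1)) ℤ = minpoly ℤ ζ :=
    Polynomial.cyclotomic_eq_minpoly hζ hpos
  have hdvd : minpoly ℤ ζ ∣ P := minpoly.isIntegrallyClosed_dvd (hζ.isIntegral hpos) haeval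
  rw [← hmin] at hdvd
  obtain ⟨Q, hQ⟩ := hdvd
  have heval : (n : ℤ) = (p : ℤ) * Q.eval 1 := by
    have h1 : P.eval 1 = (n : ℤ) := by
      rw [hP, Polynomial.eval_finsetSum]
      simp
    have h2 : (Polynomial.cyclotomic (p ^ (k + 1)) ℤ).eval 1 = (p : ℤ) := by
      have : Fact p.Prime := ⟨hp⟩
      exact Polynomial.eval_one_cyclotomic_prime_pow k
    rw [← h1, hQ, Polynomial.eval_mul, h2]
  have : (p : ℤ) ∣ (n : ℤ) := ⟨_, heval⟩
  exact_mod_cast this

/-- A character of degree prime to `p` does not vanish at `p`-elements. -/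
theorem character_ne_zero_of_pow_prime_pow_eq_one {G : Type*} [Group G] [Finite G] {χ : G → ℂ}
    (hχ : IsCharacter G χ) {p : ℕ} (hp : p.Prime) (d : ℕ) (hd : χ 1 = (d : ℂ)) (hpd : ¬ p ∣ d)
    (g : G) (a : ℕ) (hg : g ^ (p ^ a) = 1) : χ g ≠ 0 := by
  intro h0
  obtain ⟨n, α, β, hα, _, hval⟩ :=
    Cfsg.Agent.Lib.Helper80.exists_joint_eigenvalues hχ g 1 (by simp)
  have h1 := hval 0 0
  have h2 := hval 1 0
  simp only [pow_zero, mul_one, Finset.sum_const, Finset.card_univ, Fintype.card_fin,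
    nsmul_eq_mul] at h1
  simp only [pow_one, pow_zero, mul_one] at h2
  have hnd : n = d := by
    have : (n : ℂ) = (d : ℂ) := by rw [← h1, hd]
    exact_mod_cast this
  apply hpd
  rw [← hnd]
  apply prime_dvd_of_sum_roots_eq_zero hp α (a := a)
  · intro i
    obtain ⟨m, hm⟩ := orderOf_dvd_of_pow_eq_one hg
    rw [hm, pow_mul, hα i, one_pow]
  · rw [← h2, h0]


/-- centralizer of a coprime power -/
theorem centralizer_pow_coprime {G : Type*} [Group G] [Finite G] (g : G) (k : ℕ)
    (hk : Nat.Coprime k (Nat.card G)) :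
    Subgroup.centralizer ({g ^ k} : Set G) = Subgroup.centralizer ({g} : Set G) := by
  obtain ⟨m, hm⟩ : ∃ m : ℕ, (g ^ k) ^ m = g := by
    by_cases h1 : Nat.card G = 1
    · refine ⟨0, ?_⟩
      have : Subsingleton G := (Nat.card_eq_one_iff_unique.mp h1).1
      exact Subsingleton.elim _ _
    · have hG : 1 < Nat.card G := by
        have := Nat.card_pos (α := G); omega
      obtain ⟨m, -, hm⟩ := Nat.exists_mul_mod_eq_one_of_coprime hk hG
      refine ⟨m, ?_⟩
      rw [← pow_mul, ← pow_mod_natCard, hm, pow_one]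
  ext x
  simp only [Subgroup.mem_centralizer_iff, Set.mem_singleton_iff, forall_eq]
  constructor
  · intro h
    have h' : Commute (g ^ k) x := h
    have := h'.pow_left m
    rw [hm] at this
    exact this
  · intro h
    have h' : Commute g x := h
    exact h'.pow_left k

theorem card_irr_le_card_sylow_of_self_centralizing {G : Type u} [Group G] [Finite G] (p : ℕ)
    [Fact p.Prime] (P : Sylow p G) [(P : Subgroup G).Normal]
    (hab : ∀ a ∈ P, ∀ b ∈ P, a * b = b * a) (g : G) (hg : g ∈ P)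
    (hC : Subgroup.centralizer ({g} : Set G) = P) :
    Nat.card (IrrCharacter G) ≤ Nat.card P ∧
      (Nat.card (IrrCharacter G) = Nat.card P → commutator G ≤ P) := by
  classical
  haveI : Fintype G := Fintype.ofFinite G
  haveI : Finite (IrrCharacter G) := Cfsg.Agent.Lib.Helper3.irrCharacter_finite
  haveI := Fintype.ofFinite (IrrCharacter G)
  have hp : p.Prime := Fact.out
  obtain ⟨a, ha⟩ : ∃ a : ℕ, g ^ (p ^ a) = 1 := by
    obtain ⟨a, ha⟩ := P.isPGroup' ⟨g, hg⟩
    refine ⟨a, ?_⟩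
    have := congrArg Subtype.val ha
    simpa using this
  have hpidx : ¬ p ∣ (P : Subgroup G).index := Sylow.not_dvd_index P
  set N := Nat.card G with hN
  haveI : NeZero N := ⟨Nat.card_pos.ne'⟩
  let S : IrrCharacter G → ℝ := fun χ =>
    ∑ u : (ZMod N)ˣ, Complex.normSq ((χ : G → ℂ) (g ^ (u : ZMod N).val))
  have hφ : (0 : ℝ) < Fintype.card (ZMod N)ˣ := by exact_mod_cast Fintype.card_pos
  -- (1) each `S χ ≥ φ(N)`
  have hS : ∀ χ, (Fintype.card (ZMod N)ˣ : ℝ) ≤ S χ := by
    intro χ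
    have hχc : IsCharacter G (χ : G → ℂ) := Cfsg.Agent.Lib.Helper3.IsIrrCharacter.isCharacter χ.2
    have hγ : IsCharacter G ((χ : G → ℂ) * fun x => conj ((χ : G → ℂ) x)) :=
      Cfsg.Agent.Lib.Helper3.IsCharacter.mul hχc (Cfsg.Agent.Lib.Helper3.IsCharacter.conj hχc)
    have hval : ∀ x : G, ((χ : G → ℂ) * fun x => conj ((χ : G → ℂ) x)) x =
        ((Complex.normSq ((χ : G → ℂ) x) : ℝ) : ℂ) := by
      intro x
      simp only [Pi.mul_apply]
      rw [Complex.mul_conj]
    obtain ⟨d, hd⟩ := exists_nat_irr_one χ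
    have hdvd : d ∣ (P : Subgroup G).index :=
      ito_aux (Nat.card G) G rfl (P : Subgroup G) hab (χ : G → ℂ) χ.2 d hd
    have hpd : ¬ p ∣ d := fun h => hpidx (h.trans hdvd)
    have hne : (χ : G → ℂ) g ≠ 0 :=
      character_ne_zero_of_pow_prime_pow_eq_one hχc hp d hd hpd g a ha
    have := card_units_le_sum_re hγ (fun x => by rw [hval x, Complex.ofReal_re]; exact Complex.normSq_nonneg _)
      (fun x => by rw [hval x, Complex.ofReal_im]) g
      (by rw [hval g]; exact_mod_cast (Complex.normSq_pos.mpr hne).ne')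
    simp only [hval, Complex.ofReal_re] at this
    exact this
  -- (2) the total
  have hsum : ∑ χ, S χ = (Fintype.card (ZMod N)ˣ : ℝ) * (Nat.card P : ℝ) := by
    have hcol : ∀ u : (ZMod N)ˣ,
        ∑ χ : IrrCharacter G, Complex.normSq ((χ : G → ℂ) (g ^ (u : ZMod N).val)) =
          (Nat.card P : ℝ) := by
      intro u
      have h1 := Cfsg.Agent.Lib.Helper3.column_orthogonality (g ^ (u : ZMod N).val)
        (g ^ (u : ZMod N).val)
      rw [if_pos (IsConj.refl _), centralizer_pow_coprime g _ (ZMod.val_coe_unit_coprime u), hC] at h1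
      have h2 : ((∑ χ : IrrCharacter G, Complex.normSq ((χ : G → ℂ) (g ^ (u : ZMod N).val)) : ℝ) : ℂ)
          = ((Nat.card P : ℝ) : ℂ) := by
        rw [Complex.ofReal_sum]
        simp only [← Complex.mul_conj]
        rw [h1]
        simp
      exact_mod_cast h2
    change ∑ χ : IrrCharacter G, ∑ u : (ZMod N)ˣ, Complex.normSq ((χ : G → ℂ) (g ^ (u : ZMod N).val)) = _
    rw [Finset.sum_comm]
    simp only [hcol, Finset.sum_const, Finset.card_univ, nsmul_eq_mul]
  have hle : (Fintype.card (IrrCharacter G) : ℝ) * (Fintype.card (ZMod N)ˣ : ℝ) ≤ ∑ χ, S χ := by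
    rw [← nsmul_eq_mul]
    have := Finset.card_nsmul_le_sum (Finset.univ : Finset (IrrCharacter G)) S _ (fun χ _ => hS χ)
    simpa using this
  constructor
  · rw [hsum] at hle
    have : (Fintype.card (IrrCharacter G) : ℝ) ≤ (Nat.card P : ℝ) := by
      rw [mul_comm] at hle
      exact le_of_mul_le_mul_left hle hφ
    rw [Nat.card_eq_fintype_card]
    exact_mod_cast this
  · intro heq
    -- all `S χ = φ`
    have hSeq : ∀ χ, S χ = (Fintype.card (ZMod N)ˣ : ℝ) := by
      have h1 : ∑ _χ : IrrCharacter G, (Fintype.card (ZMod N)ˣ : ℝ) = ∑ χ, S χ := by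
        rw [hsum, Finset.sum_const, Finset.card_univ, nsmul_eq_mul,
          ← Nat.card_eq_fintype_card (α := IrrCharacter G), heq, mul_comm]
      have := (Finset.sum_eq_sum_iff_of_le (fun χ _ => hS χ)).mp h1
      intro χ
      exact (this χ (Finset.mem_univ _)).symm
    -- all irreducible characters of `G ⧸ P` are linear
    have hlin : ∀ ψ : IrrCharacter (G ⧸ (P : Subgroup G)),
        (ψ : G ⧸ (P : Subgroup G) → ℂ) 1 = 1 := by
      intro ψ
      let χ : IrrCharacter G := ⟨fun x : G => (ψ : G ⧸ (P : Subgroup G) → ℂ) (x : G ⧸ (P : Subgroup G)),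
        isIrrCharacter_inflate (P : Subgroup G) ψ.2⟩
      have h1 := hSeq χ
      have h2 : ∀ u : (ZMod N)ˣ, (χ : G → ℂ) (g ^ (u : ZMod N).val) = (ψ : G ⧸ (P : Subgroup G) → ℂ) 1 := by
        intro u
        change (ψ : G ⧸ (P : Subgroup G) → ℂ) ((g ^ _ : G) : G ⧸ (P : Subgroup G)) = _
        rw [(QuotientGroup.eq_one_iff _).mpr (Subgroup.pow_mem _ hg _)]
      change ∑ u : (ZMod N)ˣ, Complex.normSq ((χ : G → ℂ) (g ^ (u : ZMod N).val)) = _ at h1
      simp only [h2, Finset.sum_const, Finset.card_univ, nsmul_eq_mul] at h1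
      have h3 : Complex.normSq ((ψ : G ⧸ (P : Subgroup G) → ℂ) 1) = 1 := by
        have h4 : (Fintype.card (ZMod N)ˣ : ℝ) * Complex.normSq ((ψ : G ⧸ (P : Subgroup G) → ℂ) 1) =
            (Fintype.card (ZMod N)ˣ : ℝ) * 1 := by rw [h1, mul_one]
        exact mul_left_cancel₀ hφ.ne' h4
      obtain ⟨d, hd⟩ := exists_nat_irr_one ψ
      rw [hd] at h3 ⊢
      rw [Complex.normSq_natCast] at h3
      have h5 : d * d = 1 := by exact_mod_cast h3
      have h6 : d = 1 := Nat.eq_one_of_mul_eq_one_right h5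
      simp [h6]
    -- hence `G ⧸ P` is abelian
    haveI : Fintype (G ⧸ (P : Subgroup G)) := Fintype.ofFinite _
    haveI : Finite (IrrCharacter (G ⧸ (P : Subgroup G))) :=
      Cfsg.Agent.Lib.Helper3.irrCharacter_finite
    haveI := Fintype.ofFinite (IrrCharacter (G ⧸ (P : Subgroup G)))
    have hk : Nat.card (IrrCharacter (G ⧸ (P : Subgroup G))) = Nat.card (G ⧸ (P : Subgroup G)) := by
      have := Cfsg.Agent.Lib.Helper3.sum_sq_degree (G := G ⧸ (P : Subgroup G))
      simp only [hlin, one_pow, Finset.sum_const, Finset.card_univ, nsmul_eq_mul, mul_one] at this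
      rw [Nat.card_eq_fintype_card (α := IrrCharacter (G ⧸ (P : Subgroup G)))]
      exact_mod_cast this
    have hlincard : Nat.card {ψ : IrrCharacter (G ⧸ (P : Subgroup G)) //
        (ψ : G ⧸ (P : Subgroup G) → ℂ) 1 = 1} = Nat.card (IrrCharacter (G ⧸ (P : Subgroup G))) :=
      Nat.card_congr (Equiv.subtypeUnivEquiv hlin)
    have hidx : (commutator (G ⧸ (P : Subgroup G))).index = Nat.card (G ⧸ (P : Subgroup G)) := by
      rw [← Cfsg.Agent.S0894.card_linear, hlincard, hk]
    have hbot : commutator (G ⧸ (P : Subgroup G)) = ⊥ := by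
      have h1 := Subgroup.card_mul_index (commutator (G ⧸ (P : Subgroup G)))
      rw [hidx] at h1
      have h2 : Nat.card (commutator (G ⧸ (P : Subgroup G))) = 1 := by
        have hpos : 0 < Nat.card (G ⧸ (P : Subgroup G)) := Nat.card_pos
        nlinarith
      exact Subgroup.card_eq_one.mp h2
    have hmap : (commutator G).map (QuotientGroup.mk' (P : Subgroup G)) = ⊥ := by
      rw [← hbot, commutator_def, commutator_def, Subgroup.map_commutator,
        Subgroup.map_top_of_surjective _ (QuotientGroup.mk'_surjective _)]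
    have := (Subgroup.map_eq_bot_iff _).mp hmap
    rwa [QuotientGroup.ker_mk'] at this

end Cfsg.Agent.Lib.Helper79
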