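import Mathlib
import Cfsg.Prelude.Def_Characters
import Cfsg.Agent.Lib.Helper79.KGV

set_option autoImplicit false
set_option linter.unusedSectionVars false
set_option linter.style.haveILetI false

namespace Cfsg.Agent.Lib.Helper79

open Cfsg
open scoped ComplexConjugate

universe u

/-- Inflation of irreducible characters as a map. -/
noncomputable def inflIrr {G : Type u} [Group G] (P : Subgroup G) [P.Normal]
    (ψ : IrrCharacter (G ⧸ P)) : IrrCharacter G :=
  ⟨fun x : G => (ψ : G ⧸ P → ℂ) (x : G ⧸ P), isIrrCharacter_inflate P ψ.2⟩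

theorem inflIrr_apply {G : Type u} [Group G] (P : Subgroup G) [P.Normal]
    (ψ : IrrCharacter (G ⧸ P)) (x : G) :
    (inflIrr P ψ : G → ℂ) x = (ψ : G ⧸ P → ℂ) (x : G ⧸ P) := rfl

theorem inflIrr_injective {G : Type u} [Group G] (P : Subgroup G) [P.Normal] :
    Function.Injective (inflIrr P) := by
  intro ψ ψ' h
  apply Subtype.ext
  funext q
  obtain ⟨x, rfl⟩ := QuotientGroup.mk_surjective q
  have := congrFun (congrArg Subtype.val h) x
  exact this

/-- Refined `k(GV)`-type bound: for a normal abelian `p`-subgroup `P` of index prime to `p` and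
`g ∈ P`: `k(G) + |G/P| ≤ |C_G(g)| + k(G/P)`. -/
theorem card_irr_add_card_quotient_le {G : Type u} [Group G] [Finite G] (p : ℕ)
    [Fact p.Prime] (P : Subgroup G) [P.Normal] (hP : IsPGroup p P) (hpidx : ¬ p ∣ P.index)
    (hab : ∀ a ∈ P, ∀ b ∈ P, a * b = b * a) (g : G) (hg : g ∈ P) :
    Nat.card (IrrCharacter G) + Nat.card (G ⧸ P) ≤
      Nat.card (Subgroup.centralizer ({g} : Set G)) + Nat.card (IrrCharacter (G ⧸ P)) := by
  classical
  haveI : Fintype G := Fintype.ofFinite G
  haveI : Finite (IrrCharacter G) := Cfsg.Agent.Lib.Helper3.irrCharacter_finite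
  haveI := Fintype.ofFinite (IrrCharacter G)
  haveI : Fintype (G ⧸ P) := Fintype.ofFinite _
  haveI : Finite (IrrCharacter (G ⧸ P)) := Cfsg.Agent.Lib.Helper3.irrCharacter_finite
  haveI := Fintype.ofFinite (IrrCharacter (G ⧸ P))
  have hp : p.Prime := Fact.out
  obtain ⟨a, ha⟩ : ∃ a : ℕ, g ^ (p ^ a) = 1 := by
    obtain ⟨a, ha⟩ := hP ⟨g, hg⟩
    refine ⟨a, ?_⟩
    have := congrArg Subtype.val ha
    simpa using this
  set N := Nat.card G with hN
  haveI : NeZero N := ⟨Nat.card_pos.ne'⟩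
  let S : IrrCharacter G → ℝ := fun χ =>
    ∑ u : (ZMod N)ˣ, Complex.normSq ((χ : G → ℂ) (g ^ (u : ZMod N).val))
  have hφ : (0 : ℝ) < Fintype.card (ZMod N)ˣ := by exact_mod_cast Fintype.card_pos
  -- (1) each `S χ ≥ φ(N)`
  have hS : ∀ χ, (Fintype.card (ZMod N)ˣ : ℝ) ≤ S χ := by
    intro χ
    have hχc : IsCharacter G (χ : G → ℂ) := Cfsg.Agent.Lib.Helper3.IsIrrCharacter.isCharacter χ.2
    have hγ : IsCharacter G ((χ : G → ℂ) * fun x => conj ((χ : G → ℂ) x)) :=
      Cfsg.Agent.Lib.Helper3.IsCharacter.mul hχc (Cfsg.Agent.Lib.Helper3.IsCharacter.conj hχc)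
    have hval : ∀ x : G, ((χ : G → ℂ) * fun x => conj ((χ : G → ℂ) x)) x =
        ((Complex.normSq ((χ : G → ℂ) x) : ℝ) : ℂ) := by
      intro x
      simp only [Pi.mul_apply]
      rw [Complex.mul_conj]
    obtain ⟨d, hd⟩ := exists_nat_irr_one χ
    have hdvd : d ∣ P.index :=
      ito_aux (Nat.card G) G rfl P hab (χ : G → ℂ) χ.2 d hd
    have hpd : ¬ p ∣ d := fun h => hpidx (h.trans hdvd)
    have hne : (χ : G → ℂ) g ≠ 0 :=
      character_ne_zero_of_pow_prime_pow_eq_one hχc hp d hd hpd g a ha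
    have := card_units_le_sum_re hγ (fun x => by rw [hval x, Complex.ofReal_re]; exact Complex.normSq_nonneg _)
      (fun x => by rw [hval x, Complex.ofReal_im]) g
      (by rw [hval g]; exact_mod_cast (Complex.normSq_pos.mpr hne).ne')
    simp only [hval, Complex.ofReal_re] at this
    exact this
  -- (2) the total
  have hsum : ∑ χ, S χ = (Fintype.card (ZMod N)ˣ : ℝ) *
      (Nat.card (Subgroup.centralizer ({g} : Set G)) : ℝ) := by
    have hcol : ∀ u : (ZMod N)ˣ,
        ∑ χ : IrrCharacter G, Complex.normSq ((χ : G → ℂ) (g ^ (u : ZMod N).val)) =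
          (Nat.card (Subgroup.centralizer ({g} : Set G)) : ℝ) := by
      intro u
      have h1 := Cfsg.Agent.Lib.Helper3.column_orthogonality (g ^ (u : ZMod N).val)
        (g ^ (u : ZMod N).val)
      rw [if_pos (IsConj.refl _), centralizer_pow_coprime g _ (ZMod.val_coe_unit_coprime u)] at h1
      have h2 : ((∑ χ : IrrCharacter G, Complex.normSq ((χ : G → ℂ) (g ^ (u : ZMod N).val)) : ℝ) : ℂ)
          = ((Nat.card (Subgroup.centralizer ({g} : Set G)) : ℝ) : ℂ) := by
        rw [Complex.ofReal_sum]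
        simp only [← Complex.mul_conj]
        rw [h1]
        simp
      exact_mod_cast h2
    change ∑ χ : IrrCharacter G, ∑ u : (ZMod N)ˣ, Complex.normSq ((χ : G → ℂ) (g ^ (u : ZMod N).val)) = _
    rw [Finset.sum_comm]
    simp only [hcol, Finset.sum_const, Finset.card_univ, nsmul_eq_mul]
  -- (3) inflated characters
  have hSinfl : ∀ ψ : IrrCharacter (G ⧸ P), S (inflIrr P ψ) =
      (Fintype.card (ZMod N)ˣ : ℝ) * Complex.normSq ((ψ : G ⧸ P → ℂ) 1) := by
    intro ψ
    have h2 : ∀ u : (ZMod N)ˣ, (inflIrr P ψ : G → ℂ) (g ^ (u : ZMod N).val) =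
        (ψ : G ⧸ P → ℂ) 1 := by
      intro u
      rw [inflIrr_apply, (QuotientGroup.eq_one_iff _).mpr (Subgroup.pow_mem _ hg _)]
    change ∑ u : (ZMod N)ˣ, Complex.normSq ((inflIrr P ψ : G → ℂ) (g ^ (u : ZMod N).val)) = _
    simp only [h2, Finset.sum_const, Finset.card_univ, nsmul_eq_mul]
  have hsq : ∑ ψ : IrrCharacter (G ⧸ P), Complex.normSq ((ψ : G ⧸ P → ℂ) 1) =
      (Nat.card (G ⧸ P) : ℝ) := by
    have h1 := Cfsg.Agent.Lib.Helper3.sum_sq_degree (G := G ⧸ P)
    have h2 : ∀ ψ : IrrCharacter (G ⧸ P), (ψ : G ⧸ P → ℂ) 1 ^ 2 =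
        ((Complex.normSq ((ψ : G ⧸ P → ℂ) 1) : ℝ) : ℂ) := by
      intro ψ
      obtain ⟨d, hd⟩ := exists_nat_irr_one ψ
      rw [hd, Complex.normSq_natCast]
      push_cast
      ring
    simp only [h2] at h1
    have h3 : ((∑ ψ : IrrCharacter (G ⧸ P), Complex.normSq ((ψ : G ⧸ P → ℂ) 1) : ℝ) : ℂ) =
        ((Nat.card (G ⧸ P) : ℝ) : ℂ) := by
      rw [Complex.ofReal_sum, h1]
      simp
    exact_mod_cast h3
  set I : Finset (IrrCharacter G) := Finset.univ.image (inflIrr P) with hI
  have hIcard : I.card = Fintype.card (IrrCharacter (G ⧸ P)) := by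
    rw [hI, Finset.card_image_of_injective _ (inflIrr_injective P), Finset.card_univ]
  have hsplit : ∑ χ, S χ = ∑ χ ∈ I, S χ + ∑ χ ∈ Finset.univ \ I, S χ := by
    rw [← Finset.sum_union (Finset.disjoint_sdiff), Finset.union_sdiff_of_subset (Finset.subset_univ _)]
  have hpart1 : ∑ χ ∈ I, S χ = (Fintype.card (ZMod N)ˣ : ℝ) * (Nat.card (G ⧸ P) : ℝ) := by
    rw [hI, Finset.sum_image (fun x _ y _ h => inflIrr_injective P h)]
    simp only [hSinfl]
    rw [← Finset.mul_sum, hsq]
  have hpart2 : ((Finset.univ \ I).card : ℝ) * (Fintype.card (ZMod N)ˣ : ℝ) ≤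
      ∑ χ ∈ Finset.univ \ I, S χ := by
    rw [← nsmul_eq_mul]
    exact Finset.card_nsmul_le_sum _ S _ (fun χ _ => hS χ)
  have hcard2 : (Finset.univ \ I).card + Fintype.card (IrrCharacter (G ⧸ P)) =
      Fintype.card (IrrCharacter G) := by
    rw [← hIcard, Finset.card_sdiff_add_card_eq_card (Finset.subset_univ _), Finset.card_univ]
  have hfinal : ((Finset.univ \ I).card : ℝ) + (Nat.card (G ⧸ P) : ℝ) ≤
      (Nat.card (Subgroup.centralizer ({g} : Set G)) : ℝ) := by
    have h1 : (Fintype.card (ZMod N)ˣ : ℝ) * (((Finset.univ \ I).card : ℝ) + (Nat.card (G ⧸ P) : ℝ)) ≤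
        (Fintype.card (ZMod N)ˣ : ℝ) * (Nat.card (Subgroup.centralizer ({g} : Set G)) : ℝ) := by
      rw [← hsum, hsplit, hpart1]
      nlinarith [hpart2]
    exact le_of_mul_le_mul_left h1 hφ
  have hfinal' : (Finset.univ \ I).card + Nat.card (G ⧸ P) ≤
      Nat.card (Subgroup.centralizer ({g} : Set G)) := by exact_mod_cast hfinal
  rw [Nat.card_eq_fintype_card (α := IrrCharacter G),
    Nat.card_eq_fintype_card (α := IrrCharacter (G ⧸ P))]
  omega

/-- Conjugacy classes of isomorphic groups are equinumerous. -/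
theorem card_conjClasses_congr {A B : Type*} [Group A] [Group B] (e : A ≃* B) :
    Nat.card (ConjClasses A) = Nat.card (ConjClasses B) := by
  apply Nat.card_congr
  refine Quotient.congr e.toEquiv ?_
  intro a b
  constructor
  · intro h
    exact e.toMonoidHom.map_isConj h
  · intro h
    have h' : IsConj (e a) (e b) := h
    have h2 := e.symm.toMonoidHom.map_isConj h'
    have h3 : IsConj a b := by simpa using h2
    exact h3

/-- The centralizer of an element of a normal abelian subgroup with a complement. -/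
theorem card_centralizer_of_complement {X : Type*} [Group X] [Finite X] (V G : Subgroup X)
    (hab : ∀ a ∈ V, ∀ b ∈ V, a * b = b * a) (hGV : Subgroup.IsComplement' V G) (v : X)
    (hv : v ∈ V) :
    Nat.card (Subgroup.centralizer ({v} : Set X)) =
      Nat.card ↥(G ⊓ Subgroup.centralizer ({v} : Set X)) * Nat.card V := by
  set C := Subgroup.centralizer ({v} : Set X) with hC
  have hVC : V ≤ C := by
    intro u hu
    rw [hC, Subgroup.mem_centralizer_iff]
    intro y hy
    rw [Set.mem_singleton_iff] at hy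
    rw [hy]
    exact hab v hv u hu
  let φ : V × ↥(G ⊓ C) → C := fun x =>
    ⟨(x.1 : X) * (x.2 : X), C.mul_mem (hVC x.1.2) x.2.2.2⟩
  have hφ : Function.Bijective φ := by
    constructor
    · intro x y hxy
      have h1 : (x.1 : X) * (x.2 : X) = (y.1 : X) * (y.2 : X) := congrArg Subtype.val hxy
      have h2 := hGV.1 (a₁ := (x.1, ⟨(x.2 : X), x.2.2.1⟩)) (a₂ := (y.1, ⟨(y.2 : X), y.2.2.1⟩)) h1
      have h3 := congrArg Prod.fst h2
      have h4 := congrArg Prod.snd h2
      apply Prod.ext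
      · exact h3
      · apply Subtype.ext
        have h5 := congrArg Subtype.val h4
        exact h5
    · intro c
      obtain ⟨⟨u, h⟩, huh⟩ := hGV.2 (c : X)
      simp only at huh
      have hh : (h : X) ∈ C := by
        have : (h : X) = (u : X)⁻¹ * (c : X) := by rw [← huh]; group
        rw [this]
        exact C.mul_mem (C.inv_mem (hVC u.2)) c.2
      refine ⟨(u, ⟨(h : X), ⟨h.2, hh⟩⟩), ?_⟩
      apply Subtype.ext
      exact huh
  rw [← Nat.card_congr (Equiv.ofBijective φ hφ), Nat.card_prod, mul_comm]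

/-- `k(GV)`-type bound with a point stabilizer. -/
theorem kgv_stabilizer_bound {X : Type u} [Group X] [Finite X] (p : ℕ) [Fact p.Prime]
    (V : Subgroup X) [V.Normal] (hVp : IsPGroup p V) (hidx : ¬ p ∣ V.index)
    (hab : ∀ a ∈ V, ∀ b ∈ V, a * b = b * a) (G : Subgroup X)
    (hGV : Subgroup.IsComplement' V G) (v : X) (hv : v ∈ V) :
    Nat.card (ConjClasses X) + Nat.card G ≤
      Nat.card ↥(G ⊓ Subgroup.centralizer ({v} : Set X)) * Nat.card V +
        Nat.card (ConjClasses G) := by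
  have h := card_irr_add_card_quotient_le p V hVp hidx hab v hv
  rw [Cfsg.Agent.Lib.Helper3.card_irrCharacter, Cfsg.Agent.Lib.Helper3.card_irrCharacter] at h
  have e : X ⧸ V ≃* G := hGV.symm.QuotientMulEquiv
  rw [card_conjClasses_congr e, Nat.card_congr e.toEquiv,
    card_centralizer_of_complement V G hab hGV v hv] at h
  exact h

end Cfsg.Agent.Lib.Helper79
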