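import Mathlib
import Cfsg.Prelude.Def_Characters
import Cfsg.Agent.Lib.Helper74.FS5
import Cfsg.Agent.Lib.Helper25.CharBound
import Cfsg.Agent.Lib.Helper79.Taketa
import Cfsg.Agent.Lib.Helper79.CenterIndex

set_option autoImplicit false
set_option linter.unusedSectionVars false
set_option linter.style.haveILetI false

namespace Cfsg.Agent.Lib.Helper79

open Cfsg
open scoped ComplexConjugate

universe u

section PermFS

variable {G : Type u} [Group G] [Fintype G]

/-- The sum of the permutation character over squares counts square roots of elements of `H`. -/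
theorem sum_indFun_one_sq (H : Subgroup G) :
    ∑ g : G, indFun H (fun _ : H => (1 : ℂ)) (g * g) =
      (Nat.card H : ℂ)⁻¹ * ((Nat.card G : ℂ) * (Nat.card {g : G // g * g ∈ H} : ℂ)) := by
  classical
  simp only [Cfsg.Agent.Lib.Helper25.indFun_apply]
  rw [← Finset.mul_sum, Finset.sum_comm]
  congr 1
  have hx : ∀ x : G, ∑ g : G, extendByZero H (fun _ : H => (1 : ℂ)) (x⁻¹ * (g * g) * x) =
      (Nat.card {g : G // g * g ∈ H} : ℂ) := by
    intro x
    have h1 : ∀ g : G, extendByZero H (fun _ : H => (1 : ℂ)) (x⁻¹ * (g * g) * x) =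
        if (x⁻¹ * g * x) * (x⁻¹ * g * x) ∈ H then 1 else 0 := by
      intro g
      have : x⁻¹ * (g * g) * x = (x⁻¹ * g * x) * (x⁻¹ * g * x) := by group
      rw [this]
      split_ifs with h
      · rw [Cfsg.Agent.Lib.Helper25.extendByZero_of_mem H _ h]
      · rw [Cfsg.Agent.Lib.Helper25.extendByZero_of_not_mem H _ h]
    rw [Finset.sum_congr rfl (fun g _ => h1 g)]
    have h2 : ∑ g : G, (if (x⁻¹ * g * x) * (x⁻¹ * g * x) ∈ H then (1 : ℂ) else 0) =
        ∑ g : G, (if g * g ∈ H then (1 : ℂ) else 0) := by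
      apply Fintype.sum_equiv (MulAut.conj x⁻¹).toEquiv
      intro g
      simp
    rw [h2, Finset.sum_boole, Nat.card_eq_fintype_card, Fintype.card_subtype]
  rw [Finset.sum_congr rfl (fun x _ => hx x), Finset.sum_const, Finset.card_univ, nsmul_eq_mul,
    Nat.card_eq_fintype_card (α := G)]

/-- Squaring is a bijection of a finite group of odd order. -/
theorem sq_bijective_of_odd {Q : Type*} [Group Q] [Finite Q] (hodd : Odd (Nat.card Q)) :
    Function.Bijective (fun q : Q => q * q) := by
  obtain ⟨j, hj⟩ := hodd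
  have hinj : Function.Injective (fun q : Q => q * q) := by
    intro a b hab
    simp only at hab
    have h1 : ∀ q : Q, (q * q) ^ (j + 1) = q := by
      intro q
      rw [← pow_two, ← pow_mul]
      have : 2 * (j + 1) = Nat.card Q + 1 := by omega
      rw [this, pow_succ, pow_card_eq_one', one_mul]
    rw [← h1 a, ← h1 b, hab]
  exact Finite.injective_iff_bijective.mp hinj

/-- `Σ_χ [π,χ] ν(χ) = |G|⁻¹ Σ_g π(g²)` for a class function `π`. -/
theorem sum_classInner_mul_fs [Fintype (IrrCharacter G)] {π : G → ℂ} (hπ : IsClassFunction G π) :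
    ∑ χ : IrrCharacter G, classInner π (χ : G → ℂ) *
        ((Nat.card G : ℂ)⁻¹ * ∑ s : G, (χ : G → ℂ) (s * s)) =
      (Nat.card G : ℂ)⁻¹ * ∑ s : G, π (s * s) := by
  have hexp := Cfsg.Agent.Lib.Helper3.classFunction_eq_sum hπ
  have h1 : ∀ s : G, π (s * s) =
      ∑ χ : IrrCharacter G, classInner π (χ : G → ℂ) * (χ : G → ℂ) (s * s) := by
    intro s
    have := congrFun hexp (s * s)
    simp only [Finset.sum_apply, Pi.smul_apply, smul_eq_mul] at this
    exact this
  rw [Finset.sum_congr rfl (fun s _ => h1 s), Finset.sum_comm, Finset.mul_sum]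
  apply Finset.sum_congr rfl
  intro χ _
  rw [← Finset.mul_sum]
  ring

/-- The trivial character as an element of `IrrCharacter G`. -/
noncomputable def trivIrr' (G : Type u) [Group G] : IrrCharacter G :=
  ⟨fun g => (((1 : G →* ℂˣ) g : ℂˣ) : ℂ), isIrrCharacter_of_monoidHom (1 : G →* ℂˣ)⟩

theorem trivIrr'_apply (g : G) : (trivIrr' G : G → ℂ) g = 1 := rfl

/-- The multiplicity of the trivial character in a permutation character is one. -/
theorem classInner_indFun_one_trivIrr' (H : Subgroup G) :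
    classInner (indFun H (fun _ : H => (1 : ℂ))) (trivIrr' G : G → ℂ) = 1 := by
  classical
  haveI : Fintype H := Fintype.ofFinite H
  have hH0 : (Nat.card H : ℂ) ≠ 0 := by exact_mod_cast Nat.card_pos.ne'
  rw [Cfsg.Agent.Lib.Helper25.frobenius_reciprocity H _ _
    (Cfsg.Agent.Lib.Helper3.IsCharacter.isClassFunction
      (Cfsg.Agent.Lib.Helper3.IsIrrCharacter.isCharacter (trivIrr' G).2))]
  unfold classInner
  simp only [trivIrr'_apply, map_one, mul_one, Finset.sum_const, Finset.card_univ, nsmul_eq_mul,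
    ← Nat.card_eq_fintype_card]
  exact inv_mul_cancel₀ hH0

/-- The Frobenius–Schur indicator of the trivial character is one. -/
theorem fs_trivIrr' :
    (Nat.card G : ℂ)⁻¹ * ∑ s : G, (trivIrr' G : G → ℂ) (s * s) = 1 := by
  have hG0 : (Nat.card G : ℂ) ≠ 0 := by exact_mod_cast Nat.card_pos.ne'
  simp only [trivIrr'_apply, Finset.sum_const, Finset.card_univ, nsmul_eq_mul, mul_one,
    ← Nat.card_eq_fintype_card]
  exact inv_mul_cancel₀ hG0

/-- Every constituent of the permutation character on the cosets of `H` is trivial on the normal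
core of `H`. -/
theorem constituent_indFun_one_normalCore [Fintype (IrrCharacter G)] (H : Subgroup G)
    (χ : IrrCharacter G)
    (hχ : classInner (indFun H (fun _ : H => (1 : ℂ))) (χ : G → ℂ) ≠ 0) :
    ∀ k ∈ H.normalCore, (χ : G → ℂ) k = (χ : G → ℂ) 1 := by
  classical
  intro k hk
  set π : G → ℂ := indFun H (fun _ : H => (1 : ℂ)) with hπ
  have hπchar : IsCharacter G π :=
    Cfsg.Agent.Lib.Helper3.isCharacter_indFun H (Cfsg.Agent.Lib.Helper3.IsCharacter.one)
  obtain ⟨m, hm, hsum⟩ := Cfsg.Agent.Lib.Helper3.IsCharacter.exists_mult hπchar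
  have hπk : π k = π 1 := by
    have := indFun_eq_of_conj_mem_ker H (1 : H →* ℂˣ) k (by
      intro x
      have hx : x⁻¹ * k * x ∈ H := by
        have h1 := H.normalCore_normal.conj_mem k hk x⁻¹
        rw [inv_inv] at h1
        exact H.normalCore_le h1
      exact ⟨⟨_, hx⟩, rfl, rfl⟩)
    simpa using this
  have h1 : ∑ ψ : IrrCharacter G, (m ψ : ℝ) * (((ψ : G → ℂ) 1).re - ((ψ : G → ℂ) k).re) = 0 := by
    have h2 : π 1 - π k = 0 := by rw [hπk, sub_self]
    rw [hsum] at h2
    simp only [Finset.sum_apply, Pi.smul_apply, smul_eq_mul, ← Finset.sum_sub_distrib,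
      ← mul_sub] at h2
    have h3 := congrArg Complex.re h2
    rw [Complex.re_sum] at h3
    simp only [Complex.mul_re, Complex.natCast_re, Complex.natCast_im, zero_mul, sub_zero,
      Complex.sub_re, Complex.zero_re] at h3
    exact h3
  have hnonneg : ∀ ψ ∈ (Finset.univ : Finset (IrrCharacter G)),
      0 ≤ (m ψ : ℝ) * (((ψ : G → ℂ) 1).re - ((ψ : G → ℂ) k).re) := by
    intro ψ _
    apply mul_nonneg (Nat.cast_nonneg _)
    have := (Cfsg.Agent.Lib.Helper25.char_re_le
      (Cfsg.Agent.Lib.Helper3.IsIrrCharacter.isCharacter ψ.2) k).1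
    linarith
  have h4 := (Finset.sum_eq_zero_iff_of_nonneg hnonneg).mp h1 χ (Finset.mem_univ _)
  have hmχ : (m χ : ℝ) ≠ 0 := by
    have h5 := hm χ
    intro h0
    apply hχ
    rw [h5]
    have : m χ = 0 := by exact_mod_cast h0
    rw [this, Nat.cast_zero]
  rcases mul_eq_zero.mp h4 with h5 | h5
  · exact absurd h5 hmχ
  · exact (Cfsg.Agent.Lib.Helper25.char_re_le
      (Cfsg.Agent.Lib.Helper3.IsIrrCharacter.isCharacter χ.2) k).2 (by linarith)

/-- For an irreducible character trivial on a normal subgroup of odd index, the Frobenius–Schur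
sum equals the multiplicity of the trivial character. -/
theorem fs_eq_of_odd_index (K : Subgroup G) [K.Normal] (hodd : Odd K.index) (χ : IrrCharacter G)
    (hK : ∀ k ∈ K, (χ : G → ℂ) k = (χ : G → ℂ) 1) :
    (Nat.card G : ℂ)⁻¹ * ∑ s : G, (χ : G → ℂ) (s * s) =
      classInner (χ : G → ℂ) (trivIrr' G : G → ℂ) := by
  classical
  haveI : Fintype (G ⧸ K) := Fintype.ofFinite _
  obtain ⟨ψ, _, hψχ⟩ := isIrrCharacter_deflate χ.2 K hK
  unfold classInner
  congr 1
  have h1 : ∑ s : G, (χ : G → ℂ) (s * s) = ∑ s : G, (fun q : G ⧸ K => ψ (q * q)) (s : G ⧸ K) := by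
    apply Finset.sum_congr rfl
    intro s _
    simp only
    rw [← hψχ (s * s)]
    rfl
  have h2 : ∑ s : G, (χ : G → ℂ) s * conj ((trivIrr' G : G → ℂ) s) =
      ∑ s : G, ψ (s : G ⧸ K) := by
    apply Finset.sum_congr rfl
    intro s _
    rw [trivIrr'_apply, map_one, mul_one, hψχ]
  rw [h1, h2, sum_comp_quotient_mk K (fun q : G ⧸ K => ψ (q * q)), sum_comp_quotient_mk K ψ]
  congr 1
  have hodd' : Odd (Nat.card (G ⧸ K)) := hodd
  exact Fintype.sum_bijective _ (sq_bijective_of_odd hodd') _ _ (fun _ => rfl)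

/-- If `g * g ∈ H → g ∈ H` for all `g`, the normal core of `H` has odd index. -/
theorem odd_index_normalCore_of_sq_mem (H : Subgroup G) (hsq : ∀ g : G, g * g ∈ H → g ∈ H) :
    Odd H.normalCore.index := by
  classical
  set K := H.normalCore with hKdef
  have hKsq : ∀ g : G, g * g ∈ K → g ∈ K := by
    intro g hg b
    apply hsq
    have h1 : b * g * b⁻¹ * (b * g * b⁻¹) = b * (g * g) * b⁻¹ := by group
    rw [h1]
    exact hg b
  by_contra hodd
  rw [Nat.not_odd_iff_even, even_iff_two_dvd] at hodd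
  haveI : Fact (Nat.Prime 2) := ⟨Nat.prime_two⟩
  have hdvd : 2 ∣ Nat.card (G ⧸ K) := hodd
  obtain ⟨q, hq⟩ := exists_prime_orderOf_dvd_card' (G := G ⧸ K) 2 hdvd
  obtain ⟨g, rfl⟩ := QuotientGroup.mk_surjective q
  have h1 : ((g * g : G) : G ⧸ K) = 1 := by
    rw [QuotientGroup.mk_mul, ← pow_two, ← hq, pow_orderOf_eq_one]
  have h2 : g ∈ K := hKsq g ((QuotientGroup.eq_one_iff _).mp h1)
  have h3 : (g : G ⧸ K) = 1 := (QuotientGroup.eq_one_iff g).mpr h2
  rw [h3, orderOf_one] at hq
  omega

/-- The permutation character on the cosets of `H` has the principal character as its only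
real constituent of Frobenius–Schur indicator `+1` exactly when the core of `H` has odd index. -/
theorem card_real_constituents_eq_one_iff (H : Subgroup G) :
    Nat.card {χ : IrrCharacter G //
      classInner (indFun H (fun _ : H => (1 : ℂ))) (χ : G → ℂ) ≠ 0 ∧
      (∀ g : G, (starRingEnd ℂ) ((χ : G → ℂ) g) = (χ : G → ℂ) g) ∧
      (Nat.card G : ℂ)⁻¹ * ∑ g : G, (χ : G → ℂ) (g * g) = 1} = 1 ↔ Odd H.normalCore.index := by
  classical
  haveI : Finite (IrrCharacter G) := Cfsg.Agent.Lib.Helper3.irrCharacter_finite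
  haveI := Fintype.ofFinite (IrrCharacter G)
  set π : G → ℂ := indFun H (fun _ : H => (1 : ℂ)) with hπ
  have htrivmem : classInner π (trivIrr' G : G → ℂ) ≠ 0 ∧
      (∀ g : G, (starRingEnd ℂ) ((trivIrr' G : G → ℂ) g) = (trivIrr' G : G → ℂ) g) ∧
      (Nat.card G : ℂ)⁻¹ * ∑ g : G, (trivIrr' G : G → ℂ) (g * g) = 1 := by
    refine ⟨?_, ?_, fs_trivIrr'⟩
    · rw [hπ, classInner_indFun_one_trivIrr']
      exact one_ne_zero
    · intro g
      rw [trivIrr'_apply, map_one]
  constructor
  · -- card = 1 ⇒ odd index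
    intro hcard
    rw [Nat.card_eq_one_iff_unique] at hcard
    obtain ⟨hsub, _⟩ := hcard
    have huniq : ∀ χ : IrrCharacter G, classInner π (χ : G → ℂ) ≠ 0 →
        (Nat.card G : ℂ)⁻¹ * ∑ g : G, (χ : G → ℂ) (g * g) = 1 → χ = trivIrr' G := by
      intro χ h1 h2
      have hreal : ∀ g : G, (starRingEnd ℂ) ((χ : G → ℂ) g) = (χ : G → ℂ) g := by
        intro g
        rw [Complex.conj_eq_iff_im]
        by_contra him
        have := ((Cfsg.Agent.Lib.Helper74.fs_trichotomy χ.2).2).mpr ⟨g, him⟩
        rw [h2] at this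
        exact one_ne_zero this
      have := hsub.elim ⟨χ, h1, hreal, h2⟩ ⟨trivIrr' G, htrivmem⟩
      exact congrArg Subtype.val this
    apply odd_index_normalCore_of_sq_mem
    -- the counting
    have hπchar : IsCharacter G π :=
      Cfsg.Agent.Lib.Helper3.isCharacter_indFun H (Cfsg.Agent.Lib.Helper3.IsCharacter.one)
    have hπcf : IsClassFunction G π := Cfsg.Agent.Lib.Helper3.IsCharacter.isClassFunction hπchar
    obtain ⟨m, hm, -⟩ := Cfsg.Agent.Lib.Helper3.IsCharacter.exists_mult hπchar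
    have hmtriv : m (trivIrr' G) = 1 := by
      have := hm (trivIrr' G)
      rw [hπ, classInner_indFun_one_trivIrr'] at this
      exact_mod_cast this.symm
    -- integer indicators
    have ht : ∀ χ : IrrCharacter G, ∃ t : ℤ,
        (Nat.card G : ℂ)⁻¹ * ∑ g : G, (χ : G → ℂ) (g * g) = (t : ℂ) ∧
          (χ ≠ trivIrr' G → (m χ : ℤ) * t ≤ 0) ∧ (χ = trivIrr' G → t = 1) := by
      intro χ
      rcases (Cfsg.Agent.Lib.Helper74.fs_trichotomy χ.2).1 with h0 | h1 | h1
      · refine ⟨0, by rw [h0]; simp, fun _ => by simp, fun h => ?_⟩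
        exfalso
        rw [h, fs_trivIrr'] at h0
        exact one_ne_zero h0
      · refine ⟨1, by rw [h1]; simp, fun hne => ?_, fun _ => rfl⟩
        by_cases hm0 : m χ = 0
        · rw [hm0]; simp
        · exfalso
          apply hne
          apply huniq χ _ h1
          rw [hm χ]
          exact_mod_cast hm0
      · refine ⟨-1, by rw [h1]; simp, fun _ => ?_, fun h => ?_⟩
        · have : (0 : ℤ) ≤ (m χ : ℤ) := Int.natCast_nonneg _
          linarith
        · exfalso
          rw [h, fs_trivIrr'] at h1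
          norm_num at h1
    choose t ht1 ht2 ht3 using ht
    have hH0 : (Nat.card H : ℂ) ≠ 0 := by exact_mod_cast Nat.card_pos.ne'
    have hG0 : (Nat.card G : ℂ) ≠ 0 := by exact_mod_cast Nat.card_pos.ne'
    have hkey := sum_classInner_mul_fs hπcf
    rw [hπ, sum_indFun_one_sq H] at hkey
    rw [← hπ] at hkey
    have hkey2 : ((∑ χ : IrrCharacter G, (m χ : ℤ) * t χ : ℤ) : ℂ) * (Nat.card H : ℂ) =
        (Nat.card {g : G // g * g ∈ H} : ℂ) := by
      have h1 : ∑ χ : IrrCharacter G, classInner π (χ : G → ℂ) *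
          ((Nat.card G : ℂ)⁻¹ * ∑ s : G, (χ : G → ℂ) (s * s)) =
          ((∑ χ : IrrCharacter G, (m χ : ℤ) * t χ : ℤ) : ℂ) := by
        push_cast
        apply Finset.sum_congr rfl
        intro χ _
        rw [hm χ, ht1 χ]
      rw [← h1, hkey]
      field_simp
    have hkey3 : (∑ χ : IrrCharacter G, (m χ : ℤ) * t χ) * (Nat.card H : ℤ) =
        (Nat.card {g : G // g * g ∈ H} : ℤ) := by
      exact_mod_cast hkey2
    have hsumle : ∑ χ : IrrCharacter G, (m χ : ℤ) * t χ ≤ 1 := by
      rw [← Finset.add_sum_erase _ _ (Finset.mem_univ (trivIrr' G))]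
      have h1 : (m (trivIrr' G) : ℤ) * t (trivIrr' G) = 1 := by
        rw [hmtriv, ht3 _ rfl]
        simp
      have h2 : ∑ χ ∈ Finset.univ.erase (trivIrr' G), (m χ : ℤ) * t χ ≤ 0 := by
        apply Finset.sum_nonpos
        intro χ hχ
        exact ht2 χ (Finset.ne_of_mem_erase hχ)
      linarith
    have hNle : Nat.card {g : G // g * g ∈ H} ≤ Nat.card H := by
      have h1 : (Nat.card {g : G // g * g ∈ H} : ℤ) ≤ (Nat.card H : ℤ) := by
        rw [← hkey3]
        have : (0 : ℤ) ≤ (Nat.card H : ℤ) := Int.natCast_nonneg _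
        nlinarith
      exact_mod_cast h1
    intro g hg
    by_contra hgH
    have hlt : Nat.card H < Nat.card {g : G // g * g ∈ H} := by
      have hcH : Nat.card H = (Finset.univ.filter (fun x : G => x ∈ H)).card := by
        rw [Nat.card_eq_fintype_card]
        exact Fintype.card_subtype _
      have hcN : Nat.card {g : G // g * g ∈ H} =
          (Finset.univ.filter (fun x : G => x * x ∈ H)).card := by
        rw [Nat.card_eq_fintype_card]
        exact Fintype.card_subtype _
      rw [hcH, hcN]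
      apply Finset.card_lt_card
      rw [Finset.ssubset_iff_of_subset]
      · exact ⟨g, by simpa using hg, by simpa using hgH⟩
      · intro x hx
        simp only [Finset.mem_filter, Finset.mem_univ, true_and] at hx ⊢
        exact H.mul_mem hx hx
    omega
  · -- odd index ⇒ card = 1
    intro hodd
    rw [Nat.card_eq_one_iff_unique]
    refine ⟨⟨?_⟩, ⟨⟨trivIrr' G, htrivmem⟩⟩⟩
    have hall : ∀ a : {χ : IrrCharacter G //
        classInner π (χ : G → ℂ) ≠ 0 ∧
        (∀ g : G, (starRingEnd ℂ) ((χ : G → ℂ) g) = (χ : G → ℂ) g) ∧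
        (Nat.card G : ℂ)⁻¹ * ∑ g : G, (χ : G → ℂ) (g * g) = 1}, a.1 = trivIrr' G := by
      rintro ⟨χ, h1, _, h3⟩
      simp only
      have hK := constituent_indFun_one_normalCore H χ h1
      have h4 := fs_eq_of_odd_index H.normalCore hodd χ hK
      rw [h3, Cfsg.Agent.Lib.Helper3.classInner_irr χ.2 (trivIrr' G).2] at h4
      by_cases h5 : (χ : G → ℂ) = (trivIrr' G : G → ℂ)
      · exact Subtype.ext h5
      · rw [if_neg h5] at h4
        exact absurd h4 one_ne_zero
    intro a b
    apply Subtype.ext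
    rw [hall a, hall b]

end PermFS

end Cfsg.Agent.Lib.Helper79
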