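import Mathlib
import Cfsg.Prelude.Def_Characters
import Cfsg.Agent.Lib.Helper79.CliffordCorr
import Cfsg.Agent.Lib.Helper79.Abelian
import Cfsg.Agent.Lib.Helper79.Basic
import Cfsg.Agent.Lib.Helper79.Ito
import Cfsg.Agent.Lib.Helper79.PermFS
import Cfsg.Agent.Lib.Helper75.Twist
import Cfsg.Agent.Lib.Helper80.JointEigen
import Cfsg.Agent.Lib.Helper3.Ortho
import Cfsg.Agent.S0174

set_option autoImplicit false
set_option linter.unusedSectionVars false
set_option linter.style.haveILetI false

namespace Cfsg.Agent.Lib.Helper79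

open Cfsg Cfsg.Agent.Lib.Helper75
open scoped ComplexConjugate commutatorElement

universe u

/-- Sum of the irreducible characters of a finite commutative group. -/
theorem sum_irr_comm {Q : Type u} [Group Q] [Fintype Q] [IsMulCommutative Q]
    [Fintype (IrrCharacter Q)] [DecidableEq Q] (q : Q) :
    ∑ β : IrrCharacter Q, (β : Q → ℂ) q = if q = 1 then (Nat.card Q : ℂ) else 0 := by
  have h := congrFun (Cfsg.Agent.Lib.Helper3.leftRegular_character_eq_sum (G := Q)) q
  rw [Cfsg.Agent.Lib.Helper3.leftRegular_character] at h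
  rw [h, Finset.sum_apply]
  apply Finset.sum_congr rfl
  intro β _
  rw [Pi.smul_apply, irr_one_eq_one_of_comm, smul_eq_mul, one_mul]

/-- Twisting by the characters of a commutative quotient: the sum of the inner products
`[βϑ, ϑ]` is the norm of the restriction to the normal subgroup. -/
theorem sum_classInner_twist_eq {H : Type u} [Group H] [Fintype H] (N : Subgroup H) [N.Normal]
    [Fintype N] [IsMulCommutative (H ⧸ N)] [Fintype (IrrCharacter (H ⧸ N))] (ϑ : H → ℂ) :
    ∑ β : IrrCharacter (H ⧸ N),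
        classInner (fun g : H => (β : H ⧸ N → ℂ) (g : H ⧸ N) * ϑ g) ϑ =
      classInner (fun n : N => ϑ n) (fun n : N => ϑ n) := by
  classical
  haveI : Fintype (H ⧸ N) := Fintype.ofFinite _
  unfold classInner
  rw [← Finset.mul_sum, Finset.sum_comm]
  have h1 : ∀ g : H, ∑ β : IrrCharacter (H ⧸ N),
      (β : H ⧸ N → ℂ) (g : H ⧸ N) * ϑ g * conj (ϑ g) =
      if g ∈ N then (Nat.card (H ⧸ N) : ℂ) * (ϑ g * conj (ϑ g)) else 0 := by
    intro g
    have : ∑ β : IrrCharacter (H ⧸ N), (β : H ⧸ N → ℂ) (g : H ⧸ N) * ϑ g * conj (ϑ g) =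
        (∑ β : IrrCharacter (H ⧸ N), (β : H ⧸ N → ℂ) (g : H ⧸ N)) * (ϑ g * conj (ϑ g)) := by
      rw [Finset.sum_mul]
      apply Finset.sum_congr rfl
      intro β _
      ring
    rw [this, sum_irr_comm]
    by_cases hg : g ∈ N
    · rw [if_pos hg, if_pos ((QuotientGroup.eq_one_iff g).mpr hg)]
    · rw [if_neg hg, if_neg (fun h => hg ((QuotientGroup.eq_one_iff g).mp h)), zero_mul]
  rw [Finset.sum_congr rfl (fun g _ => h1 g)]
  rw [← Finset.sum_filter, Finset.sum_subtype (Finset.univ.filter (fun g : H => g ∈ N))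
    (p := fun g : H => g ∈ N) (by simp)]
  rw [← Finset.mul_sum, ← mul_assoc]
  congr 1
  have hc := Subgroup.card_eq_card_quotient_mul_card_subgroup N
  have hN0 : (Nat.card N : ℂ) ≠ 0 := by exact_mod_cast Nat.card_pos.ne'
  have hQ0 : (Nat.card (H ⧸ N) : ℂ) ≠ 0 := by exact_mod_cast Nat.card_pos.ne'
  rw [hc]
  push_cast
  field_simp

/-- Dichotomy for an invariant irreducible character over an abelian chief factor `K/L`:
either the restriction to `L` has norm one, or the character vanishes off `L`. -/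
theorem invariant_dichotomy {G : Type u} [Group G] [Fintype G] (K L : Subgroup G)
    [hK : K.Normal] [hL : L.Normal] [Fintype K] (N : Subgroup K) (hN : N = L.subgroupOf K)
    [hNn : N.Normal] [Fintype N] (hLK : L ≤ K)
    (hchief : ∀ M : Subgroup G, M.Normal → L ≤ M → M ≤ K → M = L ∨ M = K)
    (hab : ⁅K, K⁆ ≤ L) (ϑ : K → ℂ) (hϑ : IsIrrCharacter K ϑ)
    (hinv : ∀ (g : G) (n : K), ϑ ⟨g * n * g⁻¹, hK.conj_mem (n : G) n.2 g⟩ = ϑ n) :
    classInner (fun n : N => ϑ n) (fun n : N => ϑ n) = 1 ∨
      ∀ k : K, (k : G) ∉ L → ϑ k = 0 := by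
  classical
  haveI : IsMulCommutative (K ⧸ N) := by
    refine ⟨⟨fun a b => ?_⟩⟩
    induction a using QuotientGroup.induction_on with
    | H a =>
      induction b using QuotientGroup.induction_on with
      | H b =>
        rw [← QuotientGroup.mk_mul, ← QuotientGroup.mk_mul, QuotientGroup.eq]
        rw [hN, Subgroup.mem_subgroupOf]
        have h1 : ⁅(b⁻¹ : K).1, (a⁻¹ : K).1⁆ ∈ ⁅K, K⁆ :=
          Subgroup.commutator_mem_commutator (b⁻¹).2 (a⁻¹).2
        have h2 : (((a * b)⁻¹ * (b * a) : K) : G) = ⁅(b⁻¹ : K).1, (a⁻¹ : K).1⁆ := by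
          rw [commutatorElement_def]
          push_cast
          group
        rw [h2]
        exact hab h1
  haveI : Finite (IrrCharacter (K ⧸ N)) := Cfsg.Agent.Lib.Helper3.irrCharacter_finite
  haveI := Fintype.ofFinite (IrrCharacter (K ⧸ N))
  set s : Set G := {g | ∃ h : g ∈ K, ϑ ⟨g, h⟩ ≠ 0} with hs
  have hs_conj : ∀ g x : G, x ∈ s → g * x * g⁻¹ ∈ s := by
    rintro g x ⟨h, hne⟩
    refine ⟨hK.conj_mem x h g, ?_⟩
    rw [hinv g ⟨x, h⟩]
    exact hne
  have hsK : s ⊆ K := fun x hx => hx.1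
  set W : Subgroup G := Subgroup.normalClosure s ⊔ L with hW
  have hWn : W.Normal := by rw [hW]; infer_instance
  have hLW : L ≤ W := le_sup_right
  have hWK : W ≤ K := sup_le (Subgroup.normalClosure_le_normal hsK) hLK
  rcases hchief W hWn hLW hWK with h | h
  · right
    intro k hk
    by_contra hne
    have h1 : (k : G) ∈ s := ⟨k.2, hne⟩
    have h2 : (k : G) ∈ W := (le_sup_left : Subgroup.normalClosure s ≤ W)
      (Subgroup.subset_normalClosure h1)
    rw [h] at h2
    exact hk h2
  · left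
    rw [← sum_classInner_twist_eq N ϑ]
    rw [Finset.sum_eq_single (trivIrr' (K ⧸ N))]
    · have : (fun g : K => (trivIrr' (K ⧸ N) : K ⧸ N → ℂ) (g : K ⧸ N) * ϑ g) = ϑ := by
        funext g
        rw [trivIrr'_apply, one_mul]
      rw [this, Cfsg.Agent.Lib.Helper3.classInner_irr hϑ hϑ, if_pos rfl]
    · intro β _ hβ
      obtain ⟨hβc, hβ1⟩ := Cfsg.Agent.Lib.Helper80.irr_isLinear_of_comm β
      obtain ⟨f, hf⟩ := exists_monoidHom_of_isCharacter_of_one hβc hβ1
      have hβK : IsCharacter K (fun g : K => (β : K ⧸ N → ℂ) (g : K ⧸ N)) :=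
        isCharacter_comp hβc (QuotientGroup.mk' N)
      have hirr : IsIrrCharacter K (ϑ * fun g : K => (β : K ⧸ N → ℂ) (g : K ⧸ N)) :=
        isIrrCharacter_mul_of_linear hβK (by simpa using hβ1) hϑ
      have heq : (fun g : K => (β : K ⧸ N → ℂ) (g : K ⧸ N) * ϑ g) =
          (ϑ * fun g : K => (β : K ⧸ N → ℂ) (g : K ⧸ N)) := by
        funext g
        simp only [Pi.mul_apply]
        ring
      rw [heq, Cfsg.Agent.Lib.Helper3.classInner_irr hirr hϑ]
      rw [if_neg]
      intro hfix
      apply hβ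
      -- `β` is trivial
      set P : Subgroup G := (MonoidHom.ker (f.comp (QuotientGroup.mk' N))).map K.subtype with hP
      have hsP : s ⊆ P := by
        rintro x ⟨h, hne⟩
        rw [hP]
        refine ⟨⟨x, h⟩, ?_, rfl⟩
        rw [SetLike.mem_coe, MonoidHom.mem_ker, MonoidHom.comp_apply]
        have h1 := congrFun hfix ⟨x, h⟩
        simp only [Pi.mul_apply] at h1
        have h2 : (β : K ⧸ N → ℂ) ((⟨x, h⟩ : K) : K ⧸ N) = 1 := by
          have h3 : ϑ ⟨x, h⟩ * ((β : K ⧸ N → ℂ) ((⟨x, h⟩ : K) : K ⧸ N) - 1) = 0 := by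
            rw [mul_sub, h1, mul_one, sub_self]
          rcases mul_eq_zero.mp h3 with h4 | h4
          · exact absurd h4 hne
          · exact sub_eq_zero.mp h4
        rw [hf] at h2
        exact Units.ext h2
      have hLP : L ≤ P := by
        intro x hx
        rw [hP]
        refine ⟨⟨x, hLK hx⟩, ?_, rfl⟩
        rw [SetLike.mem_coe, MonoidHom.mem_ker, MonoidHom.comp_apply]
        have : (QuotientGroup.mk' N) ⟨x, hLK hx⟩ = 1 := by
          rw [QuotientGroup.mk'_apply, QuotientGroup.eq_one_iff, hN, Subgroup.mem_subgroupOf]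
          exact hx
        rw [this, map_one]
      have hWP : W ≤ P := by
        rw [hW]
        apply sup_le _ hLP
        rw [Subgroup.normalClosure, Subgroup.closure_le]
        intro x hx
        rw [Group.mem_conjugatesOfSet_iff] at hx
        obtain ⟨a, ha, hax⟩ := hx
        obtain ⟨c, hc⟩ := isConj_iff.mp hax
        rw [← hc]
        exact hsP (hs_conj c a ha)
      apply Subtype.ext
      funext q
      induction q using QuotientGroup.induction_on with
      | H k =>
        rw [trivIrr'_apply, hf]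
        have h1 : (k : G) ∈ P := hWP (by rw [h]; exact k.2)
        rw [hP] at h1
        obtain ⟨k', hk', hkk'⟩ := h1
        have h2 : k' = k := Subtype.ext hkk'
        rw [h2, SetLike.mem_coe, MonoidHom.mem_ker, MonoidHom.comp_apply] at hk'
        rw [QuotientGroup.mk'_apply] at hk'
        rw [hk']
        simp
    · intro h0
      exact absurd (Finset.mem_univ _) h0

/-- The inertia group (inside `K`) of a constituent of the restriction to `L` of a `G`-invariant
irreducible character of `K`, where `K/L` is abelian, is normal in `G`. -/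
theorem inertia_map_normal {G : Type u} [Group G] [Fintype G] (K L : Subgroup G)
    [hK : K.Normal] [hL : L.Normal] [Fintype K] (N : Subgroup K) (hN : N = L.subgroupOf K)
    [hNn : N.Normal] [Fintype N] (hab : ⁅K, K⁆ ≤ L) (ϑ : K → ℂ) (hϑ : IsIrrCharacter K ϑ)
    (hinv : ∀ (g : G) (n : K), ϑ ⟨g * n * g⁻¹, hK.conj_mem (n : G) n.2 g⟩ = ϑ n)
    (φ : N → ℂ) (hφ : IsIrrCharacter N φ) (hne : classInner (fun n : N => ϑ n) φ ≠ 0) :
    ((inertia N φ).map K.subtype).Normal := by
  classical
  have hmem_iff : ∀ x : K, x ∈ N ↔ (x : G) ∈ L := by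
    intro x
    rw [hN, Subgroup.mem_subgroupOf]
  have hφcf : IsClassFunction N φ := Cfsg.Agent.Lib.Helper3.IsCharacter.isClassFunction
    (Cfsg.Agent.Lib.Helper3.IsIrrCharacter.isCharacter hφ)
  have hNI : N ≤ inertia N φ := le_inertia N hφcf
  -- `I` is normal in `K`
  have hIK : ∀ k x : K, x ∈ inertia N φ → k * x * k⁻¹ ∈ inertia N φ := by
    intro k x hx
    have h1 : k * x * k⁻¹ = (k * x * k⁻¹ * x⁻¹) * x := by group
    rw [h1]
    apply Subgroup.mul_mem _ _ hx
    apply hNI
    rw [hmem_iff]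
    have h2 : ((k * x * k⁻¹ * x⁻¹ : K) : G) = ⁅(k : G), (x : G)⁆ := by
      rw [commutatorElement_def]
      push_cast
      rfl
    rw [h2]
    exact hab (Subgroup.commutator_mem_commutator k.2 x.2)
  constructor
  intro y hy g
  obtain ⟨k, hk, rfl⟩ := hy
  rw [SetLike.mem_coe] at hk
  -- the conjugation automorphism
  have hmemN : ∀ (c : G) (n : N), (⟨c * (n : K) * c⁻¹, hK.conj_mem _ (n : K).2 c⟩ : K) ∈ N := by
    intro c n
    rw [hmem_iff]
    have : ((n : K) : G) ∈ L := (hmem_iff _).mp n.2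
    exact hL.conj_mem _ this c
  let τ : N ≃* N :=
    { toFun := fun n => ⟨⟨g * (n : K) * g⁻¹, hK.conj_mem _ (n : K).2 g⟩, hmemN g n⟩
      invFun := fun n => ⟨⟨g⁻¹ * (n : K) * g⁻¹⁻¹, hK.conj_mem _ (n : K).2 g⁻¹⟩, hmemN g⁻¹ n⟩
      left_inv := by
        intro n
        apply Subtype.ext
        apply Subtype.ext
        simp only
        group
      right_inv := by
        intro n
        apply Subtype.ext
        apply Subtype.ext
        simp only
        group
      map_mul' := by
        intro a b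
        apply Subtype.ext
        apply Subtype.ext
        simp only [Subgroup.coe_mul]
        group }
  have hτ : ∀ n : N, (((τ n : N) : K) : G) = g * ((n : K) : G) * g⁻¹ := fun n => rfl
  set φ'' : N → ℂ := fun n => φ (τ n) with hφ''
  have hφ''irr : IsIrrCharacter N φ'' :=
    isIrrCharacter_comp_surjective hφ τ.toMonoidHom τ.surjective
  have hne'' : classInner (fun n : N => ϑ n) φ'' ≠ 0 := by
    have h1 : (fun n : N => ϑ n) = fun n : N => (fun m : N => ϑ m) (τ n) := by
      funext n
      simp only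
      have := hinv g (n : K)
      rw [← this]
      rfl
    rw [h1, hφ'', classInner_comp_mulEquiv τ (fun m : N => ϑ m) φ]
    exact hne
  obtain ⟨k₀, hk₀⟩ := clifford_conj N hϑ hφ hφ''irr hne hne''
  -- `k` fixes `φ''`
  have hkφ'' : conjFun N k φ'' = φ'' := by
    rw [hk₀, conjFun_conjFun]
    have h1 : k₀ * k = (k₀ * k * k₀⁻¹) * k₀ := by group
    rw [h1, ← conjFun_conjFun]
    congr 1
    exact (mem_inertia N φ _).mp (hIK k₀ k hk)
  refine ⟨⟨g * (k : G) * g⁻¹, hK.conj_mem _ k.2 g⟩, ?_, rfl⟩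
  rw [SetLike.mem_coe, mem_inertia]
  funext n
  obtain ⟨m, rfl⟩ := τ.surjective n
  rw [conjFun_apply]
  have h2 : (⟨(⟨g * (k : G) * g⁻¹, hK.conj_mem _ k.2 g⟩ : K) * ((τ m : N) : K) *
      (⟨g * (k : G) * g⁻¹, hK.conj_mem _ k.2 g⟩ : K)⁻¹,
      hNn.conj_mem (τ m) (τ m).2 _⟩ : N) =
      τ ⟨k * (m : K) * k⁻¹, hNn.conj_mem m m.2 k⟩ := by
    apply Subtype.ext
    apply Subtype.ext
    rw [hτ]
    push_cast
    rw [hτ]
    group
  rw [h2]
  have h3 := congrFun hkφ'' m
  rw [conjFun_apply] at h3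
  exact h3

/-- **Isaacs 6.18**: restriction of an invariant irreducible character of `K` to `L`, where
`K/L` is an abelian chief factor of `G`. -/
theorem invariant_restrict_abelian_chief {G : Type u} [Group G] [Fintype G] (K L : Subgroup G)
    [hK : K.Normal] [hL : L.Normal] (hLK : L < K)
    (hchief : ∀ M : Subgroup G, M.Normal → L ≤ M → M ≤ K → M = L ∨ M = K)
    (hab : ⁅K, K⁆ ≤ L) (ϑ : K → ℂ) (hϑ : IsIrrCharacter K ϑ)
    (hinv : ∀ (g : G) (n : K), ϑ ⟨g * n * g⁻¹, hK.conj_mem (n : G) n.2 g⟩ = ϑ n) :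
    IsIrrCharacter L (fun x : L => ϑ ⟨(x : G), hLK.le x.2⟩) ∨
      (∃ (φ : L → ℂ) (e : ℕ), IsIrrCharacter L φ ∧
        (fun x : L => ϑ ⟨(x : G), hLK.le x.2⟩) = (e : ℂ) • φ ∧ e ^ 2 = L.relIndex K) ∨
      (∃ F : Finset (L → ℂ), (∀ φ ∈ F, IsIrrCharacter L φ) ∧ F.card = L.relIndex K ∧
        (fun x : L => ϑ ⟨(x : G), hLK.le x.2⟩) = ∑ φ ∈ F, φ) := by
  classical
  haveI : Fintype K := Fintype.ofFinite K
  haveI hNn : (L.subgroupOf K).Normal := hL.subgroupOf K
  haveI : Fintype (L.subgroupOf K) := Fintype.ofFinite _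
  have hϑc : IsCharacter K ϑ := Cfsg.Agent.Lib.Helper3.IsIrrCharacter.isCharacter hϑ
  have hresc : IsCharacter (L.subgroupOf K) (fun n : L.subgroupOf K => ϑ n) :=
    Cfsg.Agent.Lib.Helper3.IsCharacter.restrict hϑc _
  -- transfer from `L.subgroupOf K` to `L`
  let eL : L.subgroupOf K ≃* L := Subgroup.subgroupOfEquivOfLe hLK.le
  let tr : (L.subgroupOf K → ℂ) → (L → ℂ) := fun ψ x => ψ (eL.symm x)
  have htr_res : tr (fun n => ϑ n) = fun x : L => ϑ ⟨(x : G), hLK.le x.2⟩ := by
    funext x
    rfl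
  have htr_irr : ∀ ψ : L.subgroupOf K → ℂ, IsIrrCharacter (L.subgroupOf K) ψ →
      IsIrrCharacter L (tr ψ) := fun ψ h =>
    isIrrCharacter_comp_surjective h eL.symm.toMonoidHom eL.symm.surjective
  have htr_inj : Function.Injective tr := by
    intro a b h
    funext n
    have := congrFun h (eL n)
    simpa [tr] using this
  rcases invariant_dichotomy K L (L.subgroupOf K) rfl hLK.le hchief hab ϑ hϑ hinv with h1 | hvan
  · left
    rw [← htr_res]
    exact htr_irr _ (Cfsg.Agent.Lib.Helper3.isIrrCharacter_of_classInner_self_eq_one hresc h1)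
  · right
    have hK0 : (Nat.card K : ℂ) ≠ 0 := by exact_mod_cast Nat.card_pos.ne'
    have hN0 : (Nat.card (L.subgroupOf K) : ℂ) ≠ 0 := by exact_mod_cast Nat.card_pos.ne'
    -- the norm of the restriction
    have hnorm : classInner (fun n : L.subgroupOf K => ϑ n) (fun n : L.subgroupOf K => ϑ n) =
        ((L.subgroupOf K).index : ℂ) := by
      have h1 := Cfsg.Agent.Lib.Helper3.classInner_irr hϑ hϑ
      rw [if_pos rfl] at h1
      unfold classInner at h1 ⊢
      have h2 : ∑ n : L.subgroupOf K, ϑ n * conj (ϑ n) = ∑ k : K, ϑ k * conj (ϑ k) := by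
        rw [← Finset.sum_subtype (Finset.univ.filter (fun k : K => k ∈ L.subgroupOf K))
          (p := fun k : K => k ∈ L.subgroupOf K) (by simp) (fun k => ϑ k * conj (ϑ k))]
        apply Finset.sum_subset (Finset.subset_univ _)
        intro k _ hk
        have hk' : (k : G) ∉ L := by
          intro h
          apply hk
          rw [Finset.mem_filter]
          exact ⟨Finset.mem_univ _, Subgroup.mem_subgroupOf.mpr h⟩
        rw [hvan k hk', zero_mul]
      rw [h2]
      have h3 : ∑ k : K, ϑ k * conj (ϑ k) = (Nat.card K : ℂ) := by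
        field_simp at h1
        exact h1
      rw [h3, ← Subgroup.card_mul_index (L.subgroupOf K)]
      push_cast
      field_simp
    obtain ⟨φ, hφ, hne⟩ := exists_irr_constituent_restrict (L.subgroupOf K) hϑ
    obtain ⟨e, he⟩ := classInner_character_eq_natCast hresc
      (Cfsg.Agent.Lib.Helper3.IsIrrCharacter.isCharacter hφ)
    have hcl := Cfsg.Agent.S0174.result (L.subgroupOf K) hNn ϑ hϑ φ hφ hne
    have hS : {ψ : L.subgroupOf K → ℂ | ∃ g : K, ψ = fun n : L.subgroupOf K =>
        φ ⟨g * n * g⁻¹, hNn.conj_mem n n.2 g⟩} =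
        {ψ : L.subgroupOf K → ℂ | ∃ g : K, ψ = conjFun (L.subgroupOf K) g φ} := rfl
    rw [hS] at hcl
    have hfin : {ψ : L.subgroupOf K → ℂ | ∃ g : K, ψ = conjFun (L.subgroupOf K) g φ}.Finite := by
      have : {ψ : L.subgroupOf K → ℂ | ∃ g : K, ψ = conjFun (L.subgroupOf K) g φ} =
          Set.range (fun g : K => conjFun (L.subgroupOf K) g φ) := by
        ext ψ
        constructor
        · rintro ⟨g, rfl⟩; exact ⟨g, rfl⟩
        · rintro ⟨g, rfl⟩; exact ⟨g, rfl⟩
      rw [this]
      exact Set.finite_range _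
    rw [finsum_mem_eq_finite_toFinset_sum _ hfin, he] at hcl
    set F' : Finset (L.subgroupOf K → ℂ) := hfin.toFinset with hF'
    have hF'mem : ∀ ψ, ψ ∈ F' ↔ ∃ g : K, ψ = conjFun (L.subgroupOf K) g φ := by
      intro ψ
      rw [hF', Set.Finite.mem_toFinset]
      rfl
    have hF'irr : ∀ ψ ∈ F', IsIrrCharacter (L.subgroupOf K) ψ := by
      intro ψ hψ
      obtain ⟨g, rfl⟩ := (hF'mem ψ).mp hψ
      exact conjFun_isIrrCharacter _ g hφ
    have hF'card : F'.card = (inertia (L.subgroupOf K) φ).index := by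
      rw [← ncard_conj_eq_index, Set.ncard_eq_toFinset_card _ hfin]
    -- norm via Clifford
    have hnorm2 : classInner (fun n : L.subgroupOf K => ϑ n) (fun n : L.subgroupOf K => ϑ n) =
        ((e ^ 2 * F'.card : ℕ) : ℂ) := by
      conv_lhs => rw [hcl]
      rw [Cfsg.Agent.Lib.Helper3.classInner_smul_left, Cfsg.Agent.Lib.Helper3.classInner_smul_right,
        Cfsg.Agent.Lib.Helper3.classInner_sum_left]
      have h1 : ∀ ψ ∈ F', classInner ψ (∑ ψ' ∈ F', ψ') = 1 := by
        intro ψ hψ
        rw [Cfsg.Agent.Lib.Helper3.classInner_sum_right]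
        rw [Finset.sum_eq_single ψ]
        · rw [Cfsg.Agent.Lib.Helper3.classInner_irr (hF'irr ψ hψ) (hF'irr ψ hψ), if_pos rfl]
        · intro ψ' hψ' hne'
          rw [Cfsg.Agent.Lib.Helper3.classInner_irr (hF'irr ψ hψ) (hF'irr ψ' hψ'),
            if_neg (fun h => hne' h.symm)]
        · intro h; exact absurd hψ h
      rw [Finset.sum_congr rfl h1, Finset.sum_const, nsmul_eq_mul, mul_one, Complex.conj_natCast]
      push_cast
      ring
    have hkey : e ^ 2 * F'.card = (L.subgroupOf K).index := by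
      have : ((e ^ 2 * F'.card : ℕ) : ℂ) = (((L.subgroupOf K).index : ℕ) : ℂ) := by
        rw [← hnorm2, hnorm]
      exact_mod_cast this
    -- the inertia group
    have hφcf : IsClassFunction (L.subgroupOf K) φ :=
      Cfsg.Agent.Lib.Helper3.IsCharacter.isClassFunction
        (Cfsg.Agent.Lib.Helper3.IsIrrCharacter.isCharacter hφ)
    have hNI : L.subgroupOf K ≤ inertia (L.subgroupOf K) φ := le_inertia _ hφcf
    set I' : Subgroup G := (inertia (L.subgroupOf K) φ).map K.subtype with hI'
    have hI'n : I'.Normal :=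
      inertia_map_normal K L (L.subgroupOf K) rfl hab ϑ hϑ hinv φ hφ hne
    have hLI' : L ≤ I' := by
      intro x hx
      refine ⟨⟨x, hLK.le hx⟩, hNI (Subgroup.mem_subgroupOf.mpr hx), rfl⟩
    have hI'K : I' ≤ K := by
      rintro x ⟨k, _, rfl⟩
      exact k.2
    rcases hchief I' hI'n hLI' hI'K with hIL | hIK
    · -- inertia group is `L`: case (c)
      right
      have hIeq : inertia (L.subgroupOf K) φ = L.subgroupOf K := by
        apply le_antisymm _ hNI
        intro x hx
        rw [Subgroup.mem_subgroupOf, ← hIL]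
        exact ⟨x, hx, rfl⟩
      rw [hIeq] at hF'card
      rw [hF'card] at hkey
      have hidx : 0 < (L.subgroupOf K).index := Nat.pos_of_ne_zero Subgroup.index_ne_zero_of_finite
      have he1 : e = 1 := by
        have h2 : e ^ 2 = 1 := by
          have : e ^ 2 * (L.subgroupOf K).index = 1 * (L.subgroupOf K).index := by
            rw [hkey, one_mul]
          exact Nat.eq_of_mul_eq_mul_right hidx this
        exact Nat.eq_one_of_mul_eq_one_right (by rw [← pow_two]; exact h2)
      refine ⟨F'.image tr, ?_, ?_, ?_⟩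
      · intro ψ hψ
        obtain ⟨ψ', hψ', rfl⟩ := Finset.mem_image.mp hψ
        exact htr_irr ψ' (hF'irr ψ' hψ')
      · rw [Finset.card_image_of_injective _ htr_inj, hF'card]
        rfl
      · rw [← htr_res, Finset.sum_image (fun a _ b _ h => htr_inj h)]
        conv_lhs => rw [hcl, he1]
        funext x
        simp only [tr, Nat.cast_one, one_smul, Finset.sum_apply]
    · -- inertia group is `K`: case (b)
      left
      have hItop : inertia (L.subgroupOf K) φ = ⊤ := by
        rw [eq_top_iff]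
        intro k _
        have : (k : G) ∈ I' := by rw [hIK]; exact k.2
        obtain ⟨k', hk', hkk'⟩ := this
        have : k' = k := Subtype.ext hkk'
        rw [← this]
        exact hk'
      rw [hItop, Subgroup.index_top] at hF'card
      have hφF' : φ ∈ F' := (hF'mem φ).mpr ⟨1, (conjFun_one _ φ).symm⟩
      have hF'eq : F' = {φ} := by
        obtain ⟨a, ha⟩ := Finset.card_eq_one.mp hF'card
        rw [ha] at hφF' ⊢
        rw [Finset.mem_singleton] at hφF'
        rw [hφF']
      rw [hF'card, mul_one] at hkey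
      refine ⟨tr φ, e, htr_irr φ hφ, ?_, ?_⟩
      · rw [← htr_res]
        conv_lhs => rw [hcl, hF'eq, Finset.sum_singleton]
        funext x
        simp only [tr, Pi.smul_apply]
      · rw [hkey]
        rfl

end Cfsg.Agent.Lib.Helper79
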