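import Mathlib
import Cfsg.Prelude.Def_Characters
import Cfsg.Agent.Lib.Helper79.Ito
import Cfsg.Agent.Lib.Helper25.IndQuot
import Cfsg.Agent.S0147

set_option autoImplicit false
set_option linter.unusedSectionVars false
set_option linter.style.haveILetI false

namespace Cfsg.Agent.Lib.Helper79

open Cfsg Cfsg.Agent.Lib.Helper75
open scoped ComplexConjugate

universe u

/-- A non-commutative nilpotent group has an abelian normal subgroup not contained in the
centre. -/
theorem exists_normal_comm_not_le_center {G : Type*} [Group G] [Group.IsNilpotent G]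
    (hG : ¬ ∀ a b : G, a * b = b * a) :
    ∃ A : Subgroup G, A.Normal ∧ (∀ a ∈ A, ∀ b ∈ A, a * b = b * a) ∧
      ¬ A ≤ Subgroup.center G := by
  classical
  set Z := Subgroup.center G with hZ
  haveI : Nontrivial (G ⧸ Z) := by
    by_contra hnt
    rw [not_nontrivial_iff_subsingleton] at hnt
    apply hG
    intro a b
    have ha : a ∈ Z := by
      rw [← QuotientGroup.eq_one_iff]
      exact Subsingleton.elim _ _
    exact ((Subgroup.mem_center_iff.mp ha) b).symm
  have hne := Group.IsNilpotent.center_ne_bot (G ⧸ Z)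
  obtain ⟨⟨q, hq⟩, hq1⟩ := (Subgroup.ne_bot_iff_exists_ne_one).mp hne
  have hq1' : q ≠ 1 := fun h => hq1 (Subtype.ext h)
  obtain ⟨x, rfl⟩ := QuotientGroup.mk_surjective q
  have hxZ : x ∉ Z := fun h => hq1' ((QuotientGroup.eq_one_iff x).mpr h)
  haveI hnorm : (Subgroup.zpowers (x : G ⧸ Z)).Normal := by
    constructor
    intro n hn g
    obtain ⟨k, rfl⟩ := hn
    have hc : (x : G ⧸ Z) ^ k ∈ Subgroup.center (G ⧸ Z) := Subgroup.zpow_mem _ hq k
    have := Subgroup.mem_center_iff.mp hc g
    rw [this, mul_inv_cancel_right]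
    exact ⟨k, rfl⟩
  refine ⟨(Subgroup.zpowers (x : G ⧸ Z)).comap (QuotientGroup.mk' Z), inferInstance, ?_, ?_⟩
  · -- commutative
    have hdecomp : ∀ a ∈ (Subgroup.zpowers (x : G ⧸ Z)).comap (QuotientGroup.mk' Z),
        ∃ (k : ℤ) (z : G), z ∈ Z ∧ a = x ^ k * z := by
      intro a ha
      obtain ⟨k, hk⟩ := ha
      refine ⟨k, (x ^ k)⁻¹ * a, ?_, by group⟩
      have h1 : ((x ^ k : G) : G ⧸ Z) = (a : G ⧸ Z) := by
        rw [QuotientGroup.mk_zpow]
        exact hk
      exact QuotientGroup.eq.mp h1
    intro a ha b hb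
    obtain ⟨i, za, hza, rfl⟩ := hdecomp a ha
    obtain ⟨j, zb, hzb, rfl⟩ := hdecomp b hb
    have c1 : Commute (x ^ i) (x ^ j) := Commute.zpow_zpow_self x i j
    have c2 : Commute (x ^ i) zb := (Subgroup.mem_center_iff.mp hzb (x ^ i))
    have c3 : Commute za (x ^ j) := (Subgroup.mem_center_iff.mp hza (x ^ j)).symm
    have c4 : Commute za zb := (Subgroup.mem_center_iff.mp hzb za)
    exact ((c1.mul_right c2).mul_left (c3.mul_right c4)).eq
  · intro hle
    apply hxZ
    apply hle
    change (QuotientGroup.mk' Z x) ∈ Subgroup.zpowers (x : G ⧸ Z)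
    exact Subgroup.mem_zpowers _

/-- Induction from the whole group does nothing to class functions. -/
theorem indFun_top {G : Type*} [Group G] [Fintype G] {χ : G → ℂ} (hχ : IsClassFunction G χ) :
    indFun (⊤ : Subgroup G) (fun h => χ h) = χ := by
  funext g
  rw [Cfsg.Agent.Lib.Helper25.indFun_apply]
  have h1 : ∀ x : G, extendByZero (⊤ : Subgroup G) (fun h => χ h) (x⁻¹ * g * x) = χ g := by
    intro x
    rw [Cfsg.Agent.Lib.Helper25.extendByZero_of_mem _ _ (Subgroup.mem_top _)]
    have := hχ g x⁻¹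
    simpa using this
  rw [Finset.sum_congr rfl (fun x _ => h1 x), Finset.sum_const, Finset.card_univ, nsmul_eq_mul]
  have h2 : Nat.card (⊤ : Subgroup G) = Fintype.card G := by
    rw [Subgroup.card_top, Nat.card_eq_fintype_card]
  rw [h2]
  have h3 : (Fintype.card G : ℂ) ≠ 0 := by
    exact_mod_cast Fintype.card_ne_zero
  field_simp

/-- Induced functions only depend on the subgroup up to equality. -/
theorem indFun_congr_subgroup {G : Type*} [Group G] [Fintype G] {H₁ H₂ : Subgroup G}
    (h : H₁ = H₂) (θ₁ : H₁ → ℂ) (θ₂ : H₂ → ℂ)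
    (hθ : ∀ (x : G) (h₁ : x ∈ H₁) (h₂ : x ∈ H₂), θ₁ ⟨x, h₁⟩ = θ₂ ⟨x, h₂⟩) :
    indFun H₁ θ₁ = indFun H₂ θ₂ := by
  subst h
  congr 1
  funext x
  exact hθ x x.2 x.2

/-- **Nilpotent groups are M-groups**, by induction on the order. -/
theorem nilpotent_monomial_aux (k : ℕ) : ∀ (G : Type u) [Group G] [Fintype G]
    [Group.IsNilpotent G], Nat.card G = k → ∀ χ : G → ℂ, IsIrrCharacter G χ →
    ∃ (H : Subgroup G) (lam : H →* ℂˣ), χ = indFun H (fun h => ((lam h : ℂˣ) : ℂ)) := by
  classical
  induction k using Nat.strong_induction_on with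
  | _ k ih =>
    intro G _ _ _ hk χ hχ
    have hχc : IsCharacter G χ := Cfsg.Agent.Lib.Helper3.IsIrrCharacter.isCharacter hχ
    have hχcf : IsClassFunction G χ := Cfsg.Agent.Lib.Helper3.IsCharacter.isClassFunction hχc
    obtain ⟨n, ρ, hρ, hρχ⟩ := hχ
    have hχ : IsIrrCharacter G χ := ⟨n, ρ, hρ, hρχ⟩
    by_cases hK : MonoidHom.ker ρ = ⊥
    · -- faithful
      have hinj : Function.Injective ρ := (MonoidHom.ker_eq_bot_iff ρ).mp hK
      by_cases hn1 : χ 1 = 1
      · -- linear
        obtain ⟨φ, hφ⟩ := exists_monoidHom_of_isCharacter_of_one hχc hn1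
        refine ⟨⊤, φ.comp (⊤ : Subgroup G).subtype, ?_⟩
        have : (fun h : (⊤ : Subgroup G) => (((φ.comp (⊤ : Subgroup G).subtype) h : ℂˣ) : ℂ)) =
            fun h : (⊤ : Subgroup G) => χ (h : G) := by
          funext h
          rw [hφ]
          rfl
        rw [this, indFun_top hχcf]
      · -- nonlinear
        have hnc : ¬ ∀ a b : G, a * b = b * a := by
          intro hc
          haveI : IsMulCommutative G := ⟨⟨hc⟩⟩
          exact hn1 (irr_one_eq_one_of_comm ⟨χ, hχ⟩)
        obtain ⟨A, hAn, hA, hAZ⟩ := exists_normal_comm_not_le_center hnc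
        haveI := hAn
        haveI : Fintype A := Fintype.ofFinite A
        obtain ⟨θ, hθ, hne⟩ := exists_irr_constituent_restrict A hχ
        have hcorr := clifford_correspondence A hχ hθ hne
        have hT : inertia A θ ≠ ⊤ := by
          intro hT
          apply hAZ
          subst hρχ
          have hsc := scalar_of_inertia_eq_top A hA ρ hρ hθ hne hT
          intro a ha
          rw [Subgroup.mem_center_iff]
          intro g
          apply hinj
          obtain ⟨c, hc⟩ := hsc a ha
          rw [map_mul, map_mul, hc, mul_smul_comm, smul_mul_assoc]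
          congr 1
        obtain ⟨ψ, hψ, hind, -⟩ := hcorr
        generalize inertia A θ = T at *
        haveI : Fintype T := Fintype.ofFinite T
        have hTlt : Nat.card T < k := by
          rw [← hk]
          have h1 := T.card_mul_index
          have h2 : T.index ≠ 1 := fun h => hT (Subgroup.index_eq_one.mp h)
          have h3 : 0 < T.index := Nat.pos_of_ne_zero Subgroup.index_ne_zero_of_finite
          have h4 : 2 ≤ T.index := by omega
          have h5 : 0 < Nat.card T := Nat.card_pos
          nlinarith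
        obtain ⟨H', lam', hψeq⟩ := ih (Nat.card T) hTlt T rfl ψ hψ
        obtain ⟨H, hHT, rfl⟩ : ∃ H : Subgroup G, H ≤ T ∧ H' = H.subgroupOf T :=
          ⟨H'.map T.subtype, Subgroup.map_subtype_le H',
            (Subgroup.comap_map_eq_self_of_injective (Subgroup.subtype_injective T) H').symm⟩
        let e : H.subgroupOf T ≃* H := Subgroup.subgroupOfEquivOfLe hHT
        refine ⟨H, lam'.comp e.symm.toMonoidHom, ?_⟩
        rw [hind, hψeq, ← Cfsg.Agent.S0147.result H T hHT]
        congr 2
    · -- not faithful: pass to the quotient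
      set K : Subgroup G := MonoidHom.ker ρ with hKdef
      haveI : Fintype (G ⧸ K) := Fintype.ofFinite _
      have hKχ : ∀ x ∈ K, χ x = χ 1 := by
        intro x hx
        rw [← hρχ]
        exact (rep_mem_ker_iff ρ x).mp hx
      obtain ⟨ψ, hψ, hψχ⟩ := isIrrCharacter_deflate hχ K hKχ
      have hlt : Nat.card (G ⧸ K) < k := by
        rw [← hk, Subgroup.card_eq_card_quotient_mul_card_subgroup K]
        have h1 : 1 < Nat.card K := (Subgroup.one_lt_card_iff_ne_bot K).mpr hK
        have h2 : 0 < Nat.card (G ⧸ K) := Nat.card_pos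
        nlinarith
      obtain ⟨Hbar, lambar, hψeq⟩ := ih (Nat.card (G ⧸ K)) hlt (G ⧸ K) rfl ψ hψ
      have hsurj : Function.Surjective (QuotientGroup.mk' K) := QuotientGroup.mk'_surjective K
      obtain ⟨H, hKH, rfl⟩ : ∃ H : Subgroup G, K ≤ H ∧ Hbar = H.map (QuotientGroup.mk' K) := by
        refine ⟨Hbar.comap (QuotientGroup.mk' K), ?_,
          (Subgroup.map_comap_eq_self_of_surjective hsurj Hbar).symm⟩
        intro x hx
        rw [Subgroup.mem_comap]
        have : QuotientGroup.mk' K x = 1 := (QuotientGroup.eq_one_iff x).mpr hx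
        rw [this]
        exact Subgroup.one_mem _
      refine ⟨H, lambar.comp ((QuotientGroup.mk' K).subgroupMap H), ?_⟩
      funext g
      rw [← hψχ g, hψeq]
      exact Cfsg.Agent.Lib.Helper25.indFun_inflation K H hKH _ _ (fun x => rfl) g

/-- A finite nilpotent group is an M-group. -/
theorem nilpotent_monomial {G : Type u} [Group G] [Fintype G] [Group.IsNilpotent G] (χ : G → ℂ)
    (hχ : IsIrrCharacter G χ) :
    ∃ (H : Subgroup G) (lam : H →* ℂˣ), χ = indFun H (fun h => ((lam h : ℂˣ) : ℂ)) :=
  nilpotent_monomial_aux (Nat.card G) G rfl χ hχ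

end Cfsg.Agent.Lib.Helper79
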