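import Mathlib
import Cfsg.Prelude.Def_Characters
import Cfsg.Agent.Lib.Helper79.Isaacs618
import Cfsg.Agent.Lib.Helper79.NilpM
import Cfsg.Agent.S0147

set_option autoImplicit false
set_option linter.unusedSectionVars false
set_option linter.style.haveILetI false

namespace Cfsg.Agent.Lib.Helper79

open Cfsg Cfsg.Agent.Lib.Helper75
open scoped ComplexConjugate

universe u

/-- A chief factor `K/L` of `G` lying above a term of the derived series is abelian. -/
theorem chief_factor_abelian {G : Type u} [Group G] (K L : Subgroup G) [hK : K.Normal]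
    [hL : L.Normal] (hLK : L < K)
    (hchief : ∀ M : Subgroup G, M.Normal → L ≤ M → M ≤ K → M = L ∨ M = K) (n : ℕ)
    (hn : derivedSeries G n ≤ L) : ⁅K, K⁆ ≤ L := by
  have hMn : (⁅K, K⁆ ⊔ L).Normal := inferInstance
  have hMK : ⁅K, K⁆ ⊔ L ≤ K := sup_le (Subgroup.commutator_le_left K K) hLK.le
  rcases hchief _ hMn le_sup_right hMK with h | h
  · rw [← h]
    exact le_sup_left
  · exfalso
    set f := QuotientGroup.mk' L with hf
    have hfs : Function.Surjective f := QuotientGroup.mk'_surjective L
    have h1 : K.map f = ⁅K.map f, K.map f⁆ := by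
      conv_lhs => rw [← h]
      rw [Subgroup.map_sup, Subgroup.map_commutator, hf, QuotientGroup.map_mk'_self, sup_bot_eq]
    have h2 : ∀ m, K.map f ≤ derivedSeries (G ⧸ L) m := by
      intro m
      induction m with
      | zero => exact le_top
      | succ m ih =>
        rw [h1, derivedSeries_succ]
        exact Subgroup.commutator_mono ih ih
    have h3 : derivedSeries (G ⧸ L) n = ⊥ := by
      rw [← map_derivedSeries_eq hfs n, eq_bot_iff]
      calc (derivedSeries G n).map f ≤ L.map f := Subgroup.map_mono hn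
        _ = ⊥ := by rw [hf, QuotientGroup.map_mk'_self]
    have h4 : K.map f ≤ ⊥ := h3 ▸ h2 n
    have h5 : K ≤ L := by
      intro x hx
      have : f x ∈ (⊥ : Subgroup (G ⧸ L)) := h4 (Subgroup.mem_map_of_mem f hx)
      rw [Subgroup.mem_bot] at this
      exact (QuotientGroup.eq_one_iff x).mp this
    exact hLK.not_ge h5

/-- The sum of a finset of irreducible characters has inner product one with each member. -/
theorem classInner_sum_finset_irr {L : Type u} [Group L] [Fintype L] (F : Finset (L → ℂ))
    (hF : ∀ φ ∈ F, IsIrrCharacter L φ) {φ : L → ℂ} (hφ : φ ∈ F) :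
    classInner (∑ ψ ∈ F, ψ) φ = 1 := by
  classical
  rw [Cfsg.Agent.Lib.Helper3.classInner_sum_left, Finset.sum_eq_single φ]
  · rw [Cfsg.Agent.Lib.Helper3.classInner_irr (hF φ hφ) (hF φ hφ), if_pos rfl]
  · intro ψ hψ hne
    rw [Cfsg.Agent.Lib.Helper3.classInner_irr (hF ψ hψ) (hF φ hφ), if_neg hne]
  · intro h
    exact absurd hφ h

/-- **Isaacs 6.22**, by induction on the order. -/
theorem relM_aux (k : ℕ) : ∀ (G : Type u) [Group G] [Fintype G] (N : Subgroup G) [N.Normal],
    Nat.card G = k → (∃ n, derivedSeries G n ≤ N) →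
    (∀ (H K L : Subgroup G), N ≤ L → L < K → K ≤ H → (∀ h ∈ H, ∀ k ∈ K, h * k * h⁻¹ ∈ K) →
      (∀ h ∈ H, ∀ l ∈ L, h * l * h⁻¹ ∈ L) →
      (∀ M : Subgroup G, L ≤ M → M ≤ K → (∀ h ∈ H, ∀ m ∈ M, h * m * h⁻¹ ∈ M) → M = L ∨ M = K) →
      ¬ IsSquare (L.relIndex K)) →
    ∀ χ : G → ℂ, IsIrrCharacter G χ →
      ∃ (H : Subgroup G) (hNH : N ≤ H) (ψ : H → ℂ), IsIrrCharacter H ψ ∧ indFun H ψ = χ ∧
        IsIrrCharacter N (fun n : N => ψ ⟨(n : G), hNH n.2⟩) := by
  classical
  induction k using Nat.strong_induction_on with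
  | _ k ih =>
    intro G _ _ N hNn hk hsolv hchief χ hχ
    have hχc : IsCharacter G χ := Cfsg.Agent.Lib.Helper3.IsIrrCharacter.isCharacter hχ
    have hχcf : IsClassFunction G χ := Cfsg.Agent.Lib.Helper3.IsCharacter.isClassFunction hχc
    by_cases hN : IsIrrCharacter N (fun n : N => χ n)
    · refine ⟨⊤, le_top, fun h => χ h, ?_, indFun_top hχcf, hN⟩
      exact isIrrCharacter_comp_surjective hχ (⊤ : Subgroup G).subtype
        (fun g => ⟨⟨g, Subgroup.mem_top g⟩, rfl⟩)
    · -- minimal normal `K ≥ N` with `χ_K` irreducible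
      obtain ⟨K, ⟨hKn, hNK, hKirr⟩, hKmin⟩ := wellFounded_lt.has_min
        {K : Subgroup G | K.Normal ∧ N ≤ K ∧ IsIrrCharacter K (fun x : K => χ x)}
        ⟨⊤, inferInstance, le_top, isIrrCharacter_comp_surjective hχ (⊤ : Subgroup G).subtype
          (fun g => ⟨⟨g, Subgroup.mem_top g⟩, rfl⟩)⟩
      have hNK' : N < K := by
        refine lt_of_le_of_ne hNK ?_
        intro h
        subst h
        exact hN hKirr
      -- maximal normal `L` with `N ≤ L < K`
      obtain ⟨L, ⟨hLn, hNL, hLK⟩, hLmax⟩ := wellFounded_gt.has_min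
        {M : Subgroup G | M.Normal ∧ N ≤ M ∧ M < K} ⟨N, hNn, le_refl N, hNK'⟩
      haveI := hKn
      haveI := hLn
      have hchief' : ∀ M : Subgroup G, M.Normal → L ≤ M → M ≤ K → M = L ∨ M = K := by
        intro M hMn hLM hMK
        by_cases hMK' : M = K
        · exact Or.inr hMK'
        · left
          have h1 : M < K := lt_of_le_of_ne hMK hMK'
          have h2 := hLmax M ⟨hMn, hNL.trans hLM, h1⟩
          by_contra hne
          exact h2 (lt_of_le_of_ne hLM (fun h => hne h.symm))
      obtain ⟨n, hn⟩ := hsolv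
      have hab : ⁅K, K⁆ ≤ L := chief_factor_abelian K L hLK hchief' n (hn.trans hNL)
      have hLirr : ¬ IsIrrCharacter L (fun x : L => χ x) := by
        intro h
        exact hKmin L ⟨hLn, hNL, h⟩ hLK
      have hinv : ∀ (g : G) (x : K), (fun x : K => χ x) ⟨g * x * g⁻¹, hKn.conj_mem (x : G) x.2 g⟩ =
          (fun x : K => χ x) x := by
        intro g x
        exact hχcf x g
      have hnsq : ¬ IsSquare (L.relIndex K) := by
        apply hchief ⊤ K L hNL hLK le_top
        · intro h _ k hk
          exact hKn.conj_mem k hk h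
        · intro h _ l hl
          exact hLn.conj_mem l hl h
        · intro M hLM hMK hM
          exact hchief' M ⟨fun m hm h => hM h (Subgroup.mem_top h) m hm⟩ hLM hMK
      rcases invariant_restrict_abelian_chief K L hLK hchief' hab (fun x : K => χ x) hKirr hinv
        with h | ⟨φ, e, _, _, he⟩ | ⟨F, hFirr, hFcard, hsum⟩
      · exact absurd h hLirr
      · exact absurd ⟨e, by rw [← he, sq]⟩ hnsq
      · -- the restriction to `L` is a sum of `|K:L|` distinct irreducibles
        haveI : Fintype L := Fintype.ofFinite L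
        have hsum' : (fun x : L => χ x) = ∑ φ ∈ F, φ := hsum
        have hcard : 1 < F.card := by
          rw [hFcard]
          have h0 : L.relIndex K ≠ 0 := by
            intro h
            have := Subgroup.relIndex_dvd_card L K
            rw [h] at this
            exact Nat.card_pos.ne' (Nat.eq_zero_of_zero_dvd this)
          have h1 : L.relIndex K ≠ 1 := by
            intro h
            exact hLK.not_ge (Subgroup.relIndex_eq_one.mp h)
          omega
        obtain ⟨φ, hφF, φ', hφ'F, hne⟩ := Finset.one_lt_card.mp hcard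
        have hφ := hFirr φ hφF
        have hφ' := hFirr φ' hφ'F
        have h1 : classInner (fun x : L => χ x) φ ≠ 0 := by
          rw [hsum', classInner_sum_finset_irr F hFirr hφF]
          exact one_ne_zero
        have h1' : classInner (fun x : L => χ x) φ' ≠ 0 := by
          rw [hsum', classInner_sum_finset_irr F hFirr hφ'F]
          exact one_ne_zero
        obtain ⟨g, hg⟩ := clifford_conj L hχ hφ hφ' h1 h1'
        have hT : inertia L φ ≠ ⊤ := by
          intro hT
          have hg' : g ∈ inertia L φ := hT ▸ Subgroup.mem_top g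
          rw [mem_inertia] at hg'
          rw [hg'] at hg
          exact hne hg.symm
        have hLT : L ≤ inertia L φ := le_inertia L
          (Cfsg.Agent.Lib.Helper3.IsCharacter.isClassFunction
            (Cfsg.Agent.Lib.Helper3.IsIrrCharacter.isCharacter hφ))
        obtain ⟨ξ, hξ, hind, -⟩ := clifford_correspondence L hχ hφ h1
        generalize inertia L φ = T at *
        haveI : Fintype T := Fintype.ofFinite T
        have hNT : N ≤ T := hNL.trans hLT
        have hTlt : Nat.card T < k := by
          rw [← hk]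
          have h1 := T.card_mul_index
          have h2 : T.index ≠ 1 := fun h => hT (Subgroup.index_eq_one.mp h)
          have h3 : 0 < T.index := Nat.pos_of_ne_zero Subgroup.index_ne_zero_of_finite
          have h4 : 2 ≤ T.index := by omega
          have h5 : 0 < Nat.card T := Nat.card_pos
          nlinarith
        haveI : (N.subgroupOf T).Normal := hNn.subgroupOf T
        have hsolvT : ∃ n, derivedSeries T n ≤ N.subgroupOf T := by
          refine ⟨n, ?_⟩
          have h := map_derivedSeries_le_derivedSeries T.subtype n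
          intro x hx
          rw [Subgroup.mem_subgroupOf]
          exact hn (h (Subgroup.mem_map_of_mem _ hx))
        have hchiefT : ∀ (H' K' L' : Subgroup T), N.subgroupOf T ≤ L' → L' < K' → K' ≤ H' →
            (∀ h ∈ H', ∀ k ∈ K', h * k * h⁻¹ ∈ K') →
            (∀ h ∈ H', ∀ l ∈ L', h * l * h⁻¹ ∈ L') →
            (∀ M : Subgroup T, L' ≤ M → M ≤ K' → (∀ h ∈ H', ∀ m ∈ M, h * m * h⁻¹ ∈ M) →
              M = L' ∨ M = K') → ¬ IsSquare (L'.relIndex K') := by
          intro H' K' L' hNL' hLK' hKH' hcK hcL hch
          rw [← Subgroup.relIndex_map_map_of_injective L' K' (Subgroup.subtype_injective T)]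
          apply hchief (H'.map T.subtype) (K'.map T.subtype) (L'.map T.subtype)
          · intro x hx
            exact ⟨⟨x, hNT hx⟩, hNL' (Subgroup.mem_subgroupOf.mpr hx), rfl⟩
          · exact (Subgroup.map_lt_map_iff_of_injective (Subgroup.subtype_injective T)).mpr hLK'
          · exact Subgroup.map_mono hKH'
          · rintro _ ⟨h, hh, rfl⟩ _ ⟨k, hk, rfl⟩
            exact ⟨h * k * h⁻¹, hcK h hh k hk, by simp⟩
          · rintro _ ⟨h, hh, rfl⟩ _ ⟨l, hl, rfl⟩
            exact ⟨h * l * h⁻¹, hcL h hh l hl, by simp⟩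
          · intro M hLM hMK hM
            have hMT : M ≤ T := hMK.trans (Subgroup.map_subtype_le K')
            have h1 : L' ≤ M.subgroupOf T := by
              intro x hx
              rw [Subgroup.mem_subgroupOf]
              exact hLM (Subgroup.mem_map_of_mem _ hx)
            have h2 : M.subgroupOf T ≤ K' := by
              intro x hx
              rw [Subgroup.mem_subgroupOf] at hx
              obtain ⟨y, hy, hyx⟩ := hMK hx
              have : y = x := Subtype.ext hyx
              rw [← this]
              exact hy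
            have h3 : ∀ h ∈ H', ∀ m ∈ M.subgroupOf T, h * m * h⁻¹ ∈ M.subgroupOf T := by
              intro h hh m hm
              rw [Subgroup.mem_subgroupOf] at hm ⊢
              have := hM (h : G) (Subgroup.mem_map_of_mem _ hh) (m : G) hm
              simpa using this
            rcases hch _ h1 h2 h3 with h | h
            · left
              rw [← Subgroup.map_subgroupOf_eq_of_le hMT, h]
            · right
              rw [← Subgroup.map_subgroupOf_eq_of_le hMT, h]
        obtain ⟨H', hNH', ψ', hψ', hind', hres'⟩ :=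
          ih (Nat.card T) hTlt T (N.subgroupOf T) rfl hsolvT hchiefT ξ hξ
        obtain ⟨H, hHT, rfl⟩ : ∃ H : Subgroup G, H ≤ T ∧ H' = H.subgroupOf T :=
          ⟨H'.map T.subtype, Subgroup.map_subtype_le H',
            (Subgroup.comap_map_eq_self_of_injective (Subgroup.subtype_injective T) H').symm⟩
        let e : H.subgroupOf T ≃* H := Subgroup.subgroupOfEquivOfLe hHT
        have hNH : N ≤ H := by
          intro x hx
          have := hNH' (Subgroup.mem_subgroupOf.mpr hx : (⟨x, hNT hx⟩ : T) ∈ N.subgroupOf T)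
          exact Subgroup.mem_subgroupOf.mp this
        refine ⟨H, hNH, fun x => ψ' (e.symm x), ?_, ?_, ?_⟩
        · exact isIrrCharacter_comp_surjective hψ' e.symm.toMonoidHom e.symm.surjective
        · rw [hind, ← hind', ← Cfsg.Agent.S0147.result H T hHT]
          congr 2
        · let eN : N.subgroupOf T ≃* N := Subgroup.subgroupOfEquivOfLe hNT
          have := isIrrCharacter_comp_surjective hres' eN.symm.toMonoidHom eN.symm.surjective
          convert this using 2
          change ψ' (e.symm _) = _
          congr 1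

/-- **Isaacs 6.22**: relative M-groups from non-square chief factors. -/
theorem relM_of_nonsquare_chief {G : Type u} [Group G] [Fintype G] (N : Subgroup G) [N.Normal]
    (hsolv : Group.IsSolvable (G ⧸ N))
    (hchief : ∀ (H K L : Subgroup G), N ≤ L → L < K → K ≤ H →
      (∀ h ∈ H, ∀ k ∈ K, h * k * h⁻¹ ∈ K) → (∀ h ∈ H, ∀ l ∈ L, h * l * h⁻¹ ∈ L) →
      (∀ M : Subgroup G, L ≤ M → M ≤ K → (∀ h ∈ H, ∀ m ∈ M, h * m * h⁻¹ ∈ M) → M = L ∨ M = K) →
      ¬ IsSquare (L.relIndex K)) (χ : G → ℂ) (hχ : IsIrrCharacter G χ) :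
    ∃ (H : Subgroup G) (hNH : N ≤ H) (ψ : H → ℂ), IsIrrCharacter H ψ ∧ indFun H ψ = χ ∧
      IsIrrCharacter N (fun n : N => ψ ⟨(n : G), hNH n.2⟩) := by
  refine relM_aux (Nat.card G) G N rfl ?_ hchief χ hχ
  obtain ⟨n, hn⟩ := hsolv.solvable
  refine ⟨n, ?_⟩
  have h := map_derivedSeries_eq (QuotientGroup.mk'_surjective N) n
  rw [hn] at h
  intro x hx
  have : QuotientGroup.mk' N x ∈ (⊥ : Subgroup (G ⧸ N)) := h ▸ Subgroup.mem_map_of_mem _ hx
  rw [Subgroup.mem_bot] at this
  exact (QuotientGroup.eq_one_iff x).mp this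

end Cfsg.Agent.Lib.Helper79
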