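import Mathlib
import Cfsg.Prelude.Def_Characters
import Cfsg.Agent.Lib.Helper79.Isaacs618
import Cfsg.Agent.Lib.Helper79.Classes
import Cfsg.Agent.Lib.Helper79.Taketa
import Cfsg.Agent.Lib.Helper79.NilpM
import Cfsg.Agent.Lib.Helper79.RelM
import Cfsg.Agent.Lib.Helper3.Induced
import Cfsg.Agent.Lib.Helper25.IndQuot
import Cfsg.Agent.S0147

set_option autoImplicit false
set_option linter.unusedSectionVars false
set_option linter.style.haveILetI false

namespace Cfsg.Agent.Lib.Helper79

open Cfsg Cfsg.Agent.Lib.Helper75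
open scoped ComplexConjugate commutatorElement

universe u

/-- All Sylow subgroups are abelian. -/
def AbSylow (N : Type u) [Group N] : Prop :=
  ∀ (p : ℕ) [Fact p.Prime] (P : Sylow p N), ∀ a ∈ P, ∀ b ∈ P, a * b = b * a

theorem AbSylow.of_injective {M N : Type u} [Group M] [Group N] (h : AbSylow N) (j : M →* N)
    (hj : Function.Injective j) : AbSylow M := by
  intro p _ P a ha b hb
  obtain ⟨Q, hQ⟩ := (P.2.map j).exists_le_sylow
  apply hj
  rw [map_mul, map_mul]
  exact h p Q (j a) (hQ (Subgroup.mem_map_of_mem j ha)) (j b) (hQ (Subgroup.mem_map_of_mem j hb))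

theorem AbSylow.of_surjective {N N' : Type u} [Group N] [Finite N] [Group N'] (h : AbSylow N)
    (f : N →* N') (hf : Function.Surjective f) : AbSylow N' := by
  intro p _ P a ha b hb
  obtain ⟨Q, rfl⟩ := Sylow.mapSurjective_surjective hf p P
  have ha2 : a ∈ (Q : Subgroup N).map f := ha
  have hb2 : b ∈ (Q : Subgroup N).map f := hb
  obtain ⟨a', ha', rfl⟩ := ha2
  obtain ⟨b', hb', rfl⟩ := hb2
  rw [← map_mul, ← map_mul, h p Q a' ha' b' hb']

theorem AbSylow.commutator_inf_center {N : Type u} [Group N] [Finite N] (h : AbSylow N) :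
    commutator N ⊓ Subgroup.center N = ⊥ := by
  classical
  rw [eq_bot_iff]
  intro z hz
  rw [Subgroup.mem_bot]
  obtain ⟨hz1, hz2⟩ := hz
  by_contra hne
  have ho : orderOf z ≠ 1 := fun h1 => hne (orderOf_eq_one_iff.mp h1)
  obtain ⟨p, hp, hpz⟩ := Nat.exists_prime_and_dvd ho
  haveI : Fact p.Prime := ⟨hp⟩
  obtain ⟨P⟩ := (Sylow.nonempty : Nonempty (Sylow p N))
  letI : CommGroup (P : Subgroup N) :=
    { (inferInstance : Group (P : Subgroup N)) with
      mul_comm := fun a b => Subtype.ext (h p P a a.2 b b.2) }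
  have key : ∀ (k : ℕ) (g₀ : N), g₀⁻¹ * z ^ k * g₀ ∈ (P : Subgroup N) → g₀⁻¹ * z ^ k * g₀ = z ^ k := by
    intro k g₀ _
    have hc : z ^ k * g₀ = g₀ * z ^ k :=
      ((Subgroup.mem_center_iff.mp (Subgroup.pow_mem _ hz2 k)) g₀).symm
    rw [mul_assoc, hc, inv_mul_cancel_left]
  have h1 := MonoidHom.transfer_eq_pow (MonoidHom.id (P : Subgroup N)) z key
  have h2 : MonoidHom.transfer (MonoidHom.id (P : Subgroup N)) z = 1 :=
    Abelianization.commutator_subset_ker _ hz1
  rw [h2] at h1
  have h3 : z ^ (P : Subgroup N).index = 1 := by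
    have := congrArg Subtype.val h1
    simpa using this.symm
  have h4 : orderOf z ∣ (P : Subgroup N).index := orderOf_dvd_of_pow_eq_one h3
  exact P.not_dvd_index (hpz.trans h4)

/-- Averaging over a group of a function pulled back along a surjective homomorphism. -/
theorem avg_comp_surjective {G Q : Type u} [Group G] [Group Q] [Fintype G] [Fintype Q]
    (f : G →* Q) (hf : Function.Surjective f) (F : Q → ℂ) :
    (Nat.card G : ℂ)⁻¹ * ∑ g : G, F (f g) = (Nat.card Q : ℂ)⁻¹ * ∑ q : Q, F q := by
  classical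
  set c : ℕ := (Finset.univ.filter (fun g : G => f g = 1)).card with hc
  have hfib : ∀ q : Q, (Finset.univ.filter (fun g : G => f g = q)).card = c := by
    intro q
    exact MonoidHom.card_fiber_eq_of_mem_range f (hf q) (hf 1)
  have h1 : ∀ F' : Q → ℂ, ∑ g : G, F' (f g) = (c : ℂ) * ∑ q : Q, F' q := by
    intro F'
    rw [← Finset.sum_fiberwise (s := Finset.univ) (g := fun g : G => f g), Finset.mul_sum]
    apply Finset.sum_congr rfl
    intro q _
    have : ∀ g ∈ Finset.univ.filter (fun g : G => f g = q), F' (f g) = F' q := by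
      intro g hg
      rw [(Finset.mem_filter.mp hg).2]
    rw [Finset.sum_congr rfl this, Finset.sum_const, hfib, nsmul_eq_mul]
  have h2 : (Nat.card G : ℂ) = (c : ℂ) * (Nat.card Q : ℂ) := by
    have := h1 (fun _ => 1)
    simp only [Finset.sum_const, Finset.card_univ, nsmul_eq_mul, mul_one] at this
    rw [Nat.card_eq_fintype_card, Nat.card_eq_fintype_card]
    exact this
  have hG0 : (Nat.card G : ℂ) ≠ 0 := by exact_mod_cast Nat.card_pos.ne'
  have hc0 : (c : ℂ) ≠ 0 := by
    intro h
    rw [h, zero_mul] at h2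
    exact hG0 h2
  have hQ0 : (Nat.card Q : ℂ) ≠ 0 := by exact_mod_cast Nat.card_pos.ne'
  rw [h1 F, h2]
  field_simp

theorem classInner_comp_surjective {G Q : Type u} [Group G] [Group Q] [Fintype G] [Fintype Q]
    (f : G →* Q) (hf : Function.Surjective f) (a b : Q → ℂ) :
    classInner (fun g => a (f g)) (fun g => b (f g)) = classInner a b := by
  unfold classInner
  exact avg_comp_surjective f hf (fun q => a q * conj (b q))

theorem classInner_self_ne_zero {G : Type u} [Group G] [Fintype G] {f : G → ℂ} (h : f 1 ≠ 0) :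
    classInner f f ≠ 0 := by
  unfold classInner
  have hG0 : (Nat.card G : ℂ) ≠ 0 := by exact_mod_cast Nat.card_pos.ne'
  refine mul_ne_zero (inv_ne_zero hG0) ?_
  have h1 : ∑ g : G, f g * conj (f g) = ((∑ g : G, Complex.normSq (f g) : ℝ) : ℂ) := by
    push_cast
    apply Finset.sum_congr rfl
    intro g _
    rw [Complex.mul_conj]
  rw [h1]
  have h2 : 0 < ∑ g : G, Complex.normSq (f g) := by
    apply Finset.sum_pos'
    · intro g _
      exact Complex.normSq_nonneg _
    · exact ⟨1, Finset.mem_univ _, Complex.normSq_pos.mpr h⟩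
  exact_mod_cast h2.ne'

/-- Degree of a character in terms of one multiplicity. -/
theorem character_one_eq_mult_add {N : Type u} [Group N] [Fintype N] {Φ φ : N → ℂ}
    (hΦ : IsCharacter N Φ) (hφ : IsIrrCharacter N φ) (c : ℕ) (hc : classInner Φ φ = (c : ℂ)) :
    ∃ d : ℕ, Φ 1 = (c : ℂ) * φ 1 + (d : ℂ) := by
  classical
  haveI : Finite (IrrCharacter N) := Cfsg.Agent.Lib.Helper3.irrCharacter_finite
  haveI := Fintype.ofFinite (IrrCharacter N)
  obtain ⟨m, hm, hsum⟩ := Cfsg.Agent.Lib.Helper3.IsCharacter.exists_mult hΦ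
  choose deg hdeg using fun ζ : IrrCharacter N => exists_nat_irr_one ζ
  refine ⟨∑ ζ ∈ Finset.univ.erase (⟨φ, hφ⟩ : IrrCharacter N), m ζ * deg ζ, ?_⟩
  have h1 := congrFun hsum 1
  rw [Finset.sum_apply] at h1
  rw [h1, ← Finset.add_sum_erase _ _ (Finset.mem_univ (⟨φ, hφ⟩ : IrrCharacter N))]
  congr 1
  · rw [Pi.smul_apply, smul_eq_mul]
    congr 1
    have := hm ⟨φ, hφ⟩
    rw [hc] at this
    exact_mod_cast this.symm
  · push_cast
    apply Finset.sum_congr rfl
    intro ζ _
    rw [Pi.smul_apply, smul_eq_mul, hdeg]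

open Cfsg.Agent.Lib.Helper3 in
/-- If `η^H` is irreducible and restricts irreducibly to the normal subgroup `N`, then `η`
restricts irreducibly to `T ∩ N`. -/
theorem restrict_irr_of_induced {H : Type u} [Group H] [Fintype H] (N T : Subgroup H)
    [Fintype T] [Fintype N] {η : T → ℂ} (hη : IsIrrCharacter T η)
    (hψ : IsIrrCharacter H (indFun T η))
    (hφ : IsIrrCharacter N (fun n : N => indFun T η n)) :
    IsIrrCharacter (T.subgroupOf N)
      (fun x : T.subgroupOf N => η ⟨((x : N) : H), Subgroup.mem_subgroupOf.mp x.2⟩) := by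
  classical
  set ψ := indFun T η with hψdef
  set M : Subgroup N := T.subgroupOf N with hM
  haveI : Fintype M := Fintype.ofFinite M
  let j : M →* T := ((N.subtype).comp M.subtype).codRestrict T
    (fun x => Subgroup.mem_subgroupOf.mp x.2)
  set μ : M → ℂ := fun x => η (j x) with hμ
  change IsIrrCharacter M μ
  have hηc : IsCharacter T η := IsIrrCharacter.isCharacter hη
  have hμc : IsCharacter M μ := isCharacter_comp hηc j
  have hψc : IsCharacter H ψ := IsIrrCharacter.isCharacter hψ
  have hψcf : IsClassFunction H ψ := IsCharacter.isClassFunction hψc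
  have hφc : IsCharacter N (fun n : N => ψ n) := IsIrrCharacter.isCharacter hφ
  have hφcf : IsClassFunction N (fun n : N => ψ n) := IsCharacter.isClassFunction hφc
  haveI : Finite (IrrCharacter T) := irrCharacter_finite
  haveI := Fintype.ofFinite (IrrCharacter T)
  -- Step 1
  have h1 : classInner (fun t : T => ψ t) η = 1 := by
    rw [← Cfsg.Agent.Lib.Helper25.frobenius_reciprocity' T η ψ hψcf]
    rw [classInner_irr hψ hψ, if_pos rfl]
  obtain ⟨a, ha, hsumT⟩ := IsCharacter.exists_mult (isCharacter_restrict hψc T)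
  have haη : a ⟨η, hη⟩ = 1 := by
    have := ha ⟨η, hη⟩
    rw [h1] at this
    exact_mod_cast this.symm
  have hb : ∀ ζ : IrrCharacter T, ∃ b : ℕ,
      classInner μ (fun x : M => (ζ : T → ℂ) (j x)) = (b : ℂ) := fun ζ =>
    classInner_character_eq_natCast hμc (isCharacter_comp (IsIrrCharacter.isCharacter ζ.2) j)
  choose b hb using hb
  have hφM : (fun x : M => (fun n : N => ψ n) x) =
      ∑ ζ : IrrCharacter T, (a ζ : ℂ) • fun x : M => (ζ : T → ℂ) (j x) := by
    funext x
    have := congrFun hsumT (j x)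
    simp only [Finset.sum_apply, Pi.smul_apply, smul_eq_mul] at this ⊢
    exact this
  have hc : classInner (indFun M μ) (fun n : N => ψ n) =
      ((∑ ζ : IrrCharacter T, a ζ * b ζ : ℕ) : ℂ) := by
    rw [Cfsg.Agent.Lib.Helper25.frobenius_reciprocity M μ _ hφcf, hφM, classInner_sum_right]
    push_cast
    apply Finset.sum_congr rfl
    intro ζ _
    rw [classInner_smul_right, hb, Complex.conj_natCast]
  set c : ℕ := ∑ ζ : IrrCharacter T, a ζ * b ζ with hcdef
  have hbη : b ⟨η, hη⟩ ≠ 0 := by
    intro h0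
    have h2 := hb ⟨η, hη⟩
    rw [h0, Nat.cast_zero] at h2
    have h3 : μ 1 ≠ 0 := by
      rw [hμ]
      change η (j 1) ≠ 0
      rw [map_one]
      exact irr_one_ne_zero ⟨η, hη⟩
    exact classInner_self_ne_zero h3 h2
  have hcb : b ⟨η, hη⟩ ≤ c := by
    rw [hcdef]
    calc b ⟨η, hη⟩ = a ⟨η, hη⟩ * b ⟨η, hη⟩ := by rw [haη, one_mul]
      _ ≤ ∑ ζ : IrrCharacter T, a ζ * b ζ :=
        Finset.single_le_sum (f := fun ζ => a ζ * b ζ) (fun _ _ => Nat.zero_le _)
          (Finset.mem_univ _)
  -- degrees
  obtain ⟨d, hd⟩ := character_one_eq_mult_add (isCharacter_indFun M hμc) hφ c hc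
  obtain ⟨e, he⟩ := exists_nat_irr_one (⟨η, hη⟩ : IrrCharacter T)
  have he' : η 1 = (e : ℂ) := he
  have he0 : e ≠ 0 := by
    intro h0
    rw [h0, Nat.cast_zero] at he'
    exact irr_one_ne_zero ⟨η, hη⟩ he'
  have hT0 : (Nat.card T : ℂ) ≠ 0 := by exact_mod_cast Nat.card_pos.ne'
  have hM0 : (Nat.card M : ℂ) ≠ 0 := by exact_mod_cast Nat.card_pos.ne'
  have hψ1 : ψ 1 = ((T.index * e : ℕ) : ℂ) := by
    rw [hψdef, indFun_apply_one, he']
    have hidx : (Nat.card H : ℂ) = (T.index : ℂ) * (Nat.card T : ℂ) := by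
      exact_mod_cast T.index_mul_card.symm
    rw [hidx]
    push_cast
    field_simp
  have hΦ1 : indFun M μ 1 = ((M.index * e : ℕ) : ℂ) := by
    rw [indFun_apply_one]
    have : μ 1 = (e : ℂ) := by
      rw [hμ]
      change η (j 1) = _
      rw [map_one, he']
    rw [this]
    have hidx : (Nat.card N : ℂ) = (M.index : ℂ) * (Nat.card M : ℂ) := by
      exact_mod_cast M.index_mul_card.symm
    rw [hidx]
    push_cast
    field_simp
  have hnat : M.index * e = c * (T.index * e) + d := by
    have h2 : ((M.index * e : ℕ) : ℂ) = ((c * (T.index * e) + d : ℕ) : ℂ) := by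
      rw [← hΦ1, hd]
      have : ψ ((1 : N) : H) = ψ 1 := rfl
      rw [this, hψ1]
      push_cast
      ring
    exact_mod_cast h2
  have hTi : T.index ≠ 0 := Subgroup.index_ne_zero_of_finite
  have hle : M.index ≤ T.index := by
    have h := Subgroup.relIndex_le_of_le_right (H := T) (le_top : N ≤ ⊤)
      (by rw [Subgroup.relIndex_top_right]; exact hTi)
    rw [Subgroup.relIndex_top_right] at h
    exact h
  have hMi : 0 < M.index := Nat.pos_of_ne_zero Subgroup.index_ne_zero_of_finite
  have hc1 : c ≤ 1 := by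
    by_contra hcon
    have hc2 : 2 ≤ c := by omega
    have he1 : 1 ≤ e := Nat.one_le_iff_ne_zero.mpr he0
    have h3 : M.index * e ≤ T.index * e := Nat.mul_le_mul_right e hle
    have h4 : 2 * (T.index * e) ≤ c * (T.index * e) := Nat.mul_le_mul_right _ hc2
    have h5 : 0 < M.index * e := Nat.mul_pos hMi he1
    omega
  have hb1 : b ⟨η, hη⟩ = 1 := by
    have : 1 ≤ b ⟨η, hη⟩ := Nat.one_le_iff_ne_zero.mpr hbη
    omega
  have hnorm : classInner μ μ = 1 := by
    have := hb ⟨η, hη⟩
    rw [hb1, Nat.cast_one] at this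
    exact this
  exact isIrrCharacter_of_classInner_self_eq_one hμc hnorm

/-- **Isaacs 6.23** (key lemma), by induction on the order. -/
theorem monomial_of_restrict_irr_aux (k : ℕ) : ∀ (H : Type u) [Group H] [Fintype H]
    [Group.IsSolvable H] (N : Subgroup H) [N.Normal], Nat.card H = k → AbSylow N →
    ∀ ψ : H → ℂ, IsIrrCharacter H ψ → IsIrrCharacter N (fun n : N => ψ n) →
    ∃ (U : Subgroup H) (lam : U → ℂ), IsCharacter U lam ∧ lam 1 = 1 ∧ indFun U lam = ψ := by
  classical
  induction k using Nat.strong_induction_on with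
  | _ k ih =>
    intro H _ _ hsolv N hNn hk hab ψ hψ hφ
    have hψc : IsCharacter H ψ := Cfsg.Agent.Lib.Helper3.IsIrrCharacter.isCharacter hψ
    have hψcf : IsClassFunction H ψ := Cfsg.Agent.Lib.Helper3.IsCharacter.isClassFunction hψc
    obtain ⟨n, ρ, hρ, hρψ⟩ := hψ
    have hψ : IsIrrCharacter H ψ := ⟨n, ρ, hρ, hρψ⟩
    by_cases hlin : ψ 1 = 1
    · exact ⟨⊤, fun h => ψ h, isCharacter_restrict hψc ⊤, hlin, indFun_top hψcf⟩
    by_cases hK : MonoidHom.ker ρ = ⊥
    · -- faithful
      have hinj : Function.Injective ρ := (MonoidHom.ker_eq_bot_iff ρ).mp hK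
      haveI : Fintype N := Fintype.ofFinite N
      have hNne : ⁅N, N⁆ ≠ ⊥ := by
        intro h0
        apply hlin
        haveI : IsMulCommutative N := by
          refine ⟨⟨fun a b => ?_⟩⟩
          have h1 : ⁅(a : H), (b : H)⁆ ∈ ⁅N, N⁆ := Subgroup.commutator_mem_commutator a.2 b.2
          rw [h0, Subgroup.mem_bot, commutatorElement_eq_one_iff_mul_comm] at h1
          exact Subtype.ext h1
        exact irr_one_eq_one_of_comm (⟨_, hφ⟩ : IrrCharacter N)
      obtain ⟨A, ⟨hAn, hAne, hAle⟩, hAmin⟩ := wellFounded_lt.has_min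
        {A : Subgroup H | A.Normal ∧ A ≠ ⊥ ∧ A ≤ ⁅N, N⁆} ⟨⁅N, N⁆, inferInstance, hNne, le_rfl⟩
      haveI := hAn
      have hchief : ∀ M : Subgroup H, M.Normal → ⊥ ≤ M → M ≤ A → M = ⊥ ∨ M = A := by
        intro M hMn _ hMA
        by_cases hM : M = ⊥
        · exact Or.inl hM
        · right
          by_contra hne
          exact hAmin M ⟨hMn, hM, hMA.trans hAle⟩ (lt_of_le_of_ne hMA hne)
      obtain ⟨m, hm⟩ := hsolv.solvable
      have hAab : ⁅A, A⁆ ≤ ⊥ :=
        chief_factor_abelian A ⊥ (bot_lt_iff_ne_bot.mpr hAne) hchief m hm.le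
      have hAcomm : ∀ a ∈ A, ∀ b ∈ A, a * b = b * a := by
        intro a ha b hb
        have := hAab (Subgroup.commutator_mem_commutator ha hb)
        rw [Subgroup.mem_bot, commutatorElement_eq_one_iff_mul_comm] at this
        exact this
      haveI : Fintype A := Fintype.ofFinite A
      obtain ⟨θ, hθ, hne⟩ := exists_irr_constituent_restrict A hψ
      by_cases hT : inertia A θ = ⊤
      · exfalso
        subst hρψ
        have hsc := scalar_of_inertia_eq_top A hAcomm ρ hρ hθ hne hT
        have hAZ : A ≤ Subgroup.center H := by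
          intro a ha
          rw [Subgroup.mem_center_iff]
          intro g
          apply hinj
          obtain ⟨c, hc⟩ := hsc a ha
          rw [map_mul, map_mul, hc, mul_smul_comm, smul_mul_assoc]
          congr 1
        have hmap : (commutator N).map N.subtype = ⁅N, N⁆ := by
          rw [commutator_def, Subgroup.map_commutator, ← MonoidHom.range_eq_map,
            Subgroup.range_subtype]
        apply hAne
        rw [eq_bot_iff]
        intro a ha
        rw [Subgroup.mem_bot]
        have ha' := hAle ha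
        rw [← hmap] at ha'
        obtain ⟨x, hx, rfl⟩ := ha'
        have h1 : x ∈ commutator N ⊓ Subgroup.center N := by
          refine ⟨hx, ?_⟩
          change x ∈ Subgroup.center N
          rw [Subgroup.mem_center_iff]
          intro g
          apply Subtype.ext
          exact Subgroup.mem_center_iff.mp (hAZ ha) g
        rw [hab.commutator_inf_center, Subgroup.mem_bot] at h1
        rw [h1]
        rfl
      · -- proper inertia group
        obtain ⟨η, hη, hind, -⟩ := clifford_correspondence A hψ hθ hne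
        generalize inertia A θ = T at *
        haveI : Fintype T := Fintype.ofFinite T
        have hTlt : Nat.card T < k := by
          rw [← hk]
          have h1 := T.card_mul_index
          have h2 : T.index ≠ 1 := fun h => hT (Subgroup.index_eq_one.mp h)
          have h3 : 0 < T.index := Nat.pos_of_ne_zero Subgroup.index_ne_zero_of_finite
          have h4 : 2 ≤ T.index := by omega
          have h5 : 0 < Nat.card T := Nat.card_pos
          nlinarith
        have hirrM := restrict_irr_of_induced N T hη (hind ▸ hψ) (by rw [← hind]; exact hφ)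
        haveI : (N.subgroupOf T).Normal := hNn.subgroupOf T
        let g₁ : N.subgroupOf T →* N := (T.subtype.comp (N.subgroupOf T).subtype).codRestrict N
          (fun x => Subgroup.mem_subgroupOf.mp x.2)
        have hg₁ : Function.Injective g₁ := by
          intro x y h
          apply Subtype.ext
          apply Subtype.ext
          exact congrArg (fun z : N => (z : H)) h
        let g : N.subgroupOf T →* T.subgroupOf N := g₁.codRestrict (T.subgroupOf N)
          (fun x => Subgroup.mem_subgroupOf.mpr x.1.2)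
        have hg : Function.Surjective g := by
          intro y
          refine ⟨⟨⟨y.1.1, Subgroup.mem_subgroupOf.mp y.2⟩, Subgroup.mem_subgroupOf.mpr y.1.2⟩, ?_⟩
          apply Subtype.ext
          apply Subtype.ext
          rfl
        have hirr' : IsIrrCharacter (N.subgroupOf T) (fun x : N.subgroupOf T => η x) :=
          isIrrCharacter_comp_surjective hirrM g hg
        have habT : AbSylow (N.subgroupOf T) := hab.of_injective g₁ hg₁
        obtain ⟨U', lam', hlam', hlam1, hindU⟩ :=
          ih (Nat.card T) hTlt T (N.subgroupOf T) rfl habT η hη hirr'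
        obtain ⟨U, hUT, rfl⟩ : ∃ U : Subgroup H, U ≤ T ∧ U' = U.subgroupOf T :=
          ⟨U'.map T.subtype, Subgroup.map_subtype_le U',
            (Subgroup.comap_map_eq_self_of_injective (Subgroup.subtype_injective T) U').symm⟩
        let e : U.subgroupOf T ≃* U := Subgroup.subgroupOfEquivOfLe hUT
        refine ⟨U, fun x => lam' (e.symm x), isCharacter_comp hlam' e.symm.toMonoidHom, ?_, ?_⟩
        · change lam' (e.symm 1) = 1
          rw [map_one]
          exact hlam1
        · rw [hind, ← hindU, ← Cfsg.Agent.S0147.result U T hUT]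
          congr 2
    · -- not faithful: pass to the quotient
      set K : Subgroup H := MonoidHom.ker ρ with hKdef
      haveI : Fintype (H ⧸ K) := Fintype.ofFinite _
      have hKψ : ∀ x ∈ K, ψ x = ψ 1 := by
        intro x hx
        rw [← hρψ]
        exact (rep_mem_ker_iff ρ x).mp hx
      obtain ⟨ψ', hψ', hψψ'⟩ := isIrrCharacter_deflate hψ K hKψ
      have hlt : Nat.card (H ⧸ K) < k := by
        rw [← hk, Subgroup.card_eq_card_quotient_mul_card_subgroup K]
        have h1 : 1 < Nat.card K := (Subgroup.one_lt_card_iff_ne_bot K).mpr hK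
        have h2 : 0 < Nat.card (H ⧸ K) := Nat.card_pos
        nlinarith
      have hsurj : Function.Surjective (QuotientGroup.mk' K) := QuotientGroup.mk'_surjective K
      set N' : Subgroup (H ⧸ K) := N.map (QuotientGroup.mk' K) with hN'
      haveI : N'.Normal := Subgroup.Normal.map hNn _ hsurj
      let f : N →* N' := (QuotientGroup.mk' K).subgroupMap N
      have hf : Function.Surjective f := MonoidHom.subgroupMap_surjective _ _
      have habN' : AbSylow N' := hab.of_surjective f hf
      haveI : Fintype N := Fintype.ofFinite N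
      haveI : Fintype N' := Fintype.ofFinite N'
      have hφ' : IsIrrCharacter N' (fun x : N' => ψ' x) := by
        apply Cfsg.Agent.Lib.Helper3.isIrrCharacter_of_classInner_self_eq_one
          (isCharacter_restrict (Cfsg.Agent.Lib.Helper3.IsIrrCharacter.isCharacter hψ') N')
        rw [← classInner_comp_surjective f hf]
        have : (fun x : N => (fun x : N' => ψ' x) (f x)) = fun n : N => ψ n := by
          funext x
          exact hψψ' x
        rw [this, Cfsg.Agent.Lib.Helper3.classInner_irr hφ hφ, if_pos rfl]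
      obtain ⟨Ubar, lambar, hlamc, hlam1, hindbar⟩ :=
        ih (Nat.card (H ⧸ K)) hlt (H ⧸ K) N' rfl habN' ψ' hψ' hφ'
      obtain ⟨U, hKU, rfl⟩ : ∃ U : Subgroup H, K ≤ U ∧ Ubar = U.map (QuotientGroup.mk' K) := by
        refine ⟨Ubar.comap (QuotientGroup.mk' K), ?_,
          (Subgroup.map_comap_eq_self_of_surjective hsurj Ubar).symm⟩
        intro x hx
        rw [Subgroup.mem_comap]
        have : QuotientGroup.mk' K x = 1 := (QuotientGroup.eq_one_iff x).mpr hx
        rw [this]
        exact Subgroup.one_mem _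
      refine ⟨U, fun x => lambar ((QuotientGroup.mk' K).subgroupMap U x),
        isCharacter_comp hlamc _, ?_, ?_⟩
      · change lambar ((QuotientGroup.mk' K).subgroupMap U 1) = 1
        rw [map_one]
        exact hlam1
      · funext g
        rw [← hψψ' g, ← hindbar]
        exact (Cfsg.Agent.Lib.Helper25.indFun_inflation K U hKU _ _ (fun x => rfl) g).symm

/-- **Isaacs 6.23**: a solvable relative M-group with respect to a normal subgroup with abelian
Sylow subgroups is an M-group. -/
theorem mgroup_of_relM {G : Type u} [Group G] [Fintype G] [Group.IsSolvable G] (N : Subgroup G)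
    [N.Normal]
    (hab : ∀ (p : ℕ) [Fact p.Prime] (P : Sylow p N), ∀ a ∈ P, ∀ b ∈ P, a * b = b * a)
    (hrel : ∀ χ : G → ℂ, IsIrrCharacter G χ → ∃ (H : Subgroup G) (hNH : N ≤ H) (ψ : H → ℂ),
      IsIrrCharacter H ψ ∧ indFun H ψ = χ ∧
        IsIrrCharacter N (fun n : N => ψ ⟨(n : G), hNH n.2⟩))
    (χ : G → ℂ) (hχ : IsIrrCharacter G χ) :
    ∃ (U : Subgroup G) (lam : U → ℂ), IsCharacter U lam ∧ lam 1 = 1 ∧ indFun U lam = χ := by
  classical
  obtain ⟨H, hNH, ψ, hψ, hind, hres⟩ := hrel χ hχ
  haveI : Fintype H := Fintype.ofFinite H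
  haveI : (N.subgroupOf H).Normal := Subgroup.Normal.subgroupOf inferInstance H
  let eN : N.subgroupOf H ≃* N := Subgroup.subgroupOfEquivOfLe hNH
  have habN : AbSylow (N.subgroupOf H) :=
    AbSylow.of_injective (N := N) (fun p _ P => hab p P) eN.toMonoidHom eN.injective
  have hres' : IsIrrCharacter (N.subgroupOf H) (fun x : N.subgroupOf H => ψ x) :=
    isIrrCharacter_comp_surjective hres eN.toMonoidHom eN.surjective
  obtain ⟨U', lam', hlam', hlam1, hindU⟩ :=
    monomial_of_restrict_irr_aux (Nat.card H) H (N.subgroupOf H) rfl habN ψ hψ hres'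
  obtain ⟨U, hUH, rfl⟩ : ∃ U : Subgroup G, U ≤ H ∧ U' = U.subgroupOf H :=
    ⟨U'.map H.subtype, Subgroup.map_subtype_le U',
      (Subgroup.comap_map_eq_self_of_injective (Subgroup.subtype_injective H) U').symm⟩
  let e : U.subgroupOf H ≃* U := Subgroup.subgroupOfEquivOfLe hUH
  refine ⟨U, fun x => lam' (e.symm x), isCharacter_comp hlam' e.symm.toMonoidHom, ?_, ?_⟩
  · change lam' (e.symm 1) = 1
    rw [map_one]
    exact hlam1
  · rw [← hind, ← hindU, ← Cfsg.Agent.S0147.result U H hUH]
    congr 2

end Cfsg.Agent.Lib.Helper79
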