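import Mathlib
import Cfsg.Prelude.Def_Characters
import Cfsg.Prelude.Def_Blocks
import Cfsg.Agent.Lib.Helper79.RelM2
import Cfsg.Agent.Lib.Helper15.Gallagher
import Cfsg.Agent.Lib.Helper75.CliffordCorr
import Cfsg.Agent.Lib.Helper16.Degree

set_option autoImplicit false
set_option linter.unusedSectionVars false
set_option linter.style.haveILetI false

namespace Cfsg.Agent.Lib.Helper79

open Cfsg
open scoped ComplexConjugate commutatorElement

universe u

theorem charDegree_of_natCast' {G : Type u} [Group G] {χ : G → ℂ} {n : ℕ} (h : χ 1 = (n : ℂ)) :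
    Cfsg.charDegree χ = n := by
  unfold Cfsg.charDegree
  rw [h, Complex.natCast_re, Nat.floor_natCast]

open Cfsg.Agent.Lib.Helper3 in
/-- The number of irreducible characters of `G` whose restriction to `I` is a given linear
character is at most the index of `I`. -/
theorem card_le_index_of_restrict_eq {G : Type u} [Group G] [Fintype G] (I : Subgroup G)
    [Fintype I] {ν : I → ℂ} (hν : IsIrrCharacter I ν) (hν1 : ν 1 = 1)
    (X : Finset (IrrCharacter G)) (hX : ∀ lam ∈ X, (fun i : I => (lam : G → ℂ) i) = ν) :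
    X.card ≤ I.index := by
  classical
  haveI : Finite (IrrCharacter G) := irrCharacter_finite
  haveI := Fintype.ofFinite (IrrCharacter G)
  have hΦ : IsCharacter G (indFun I ν) := isCharacter_indFun I (IsIrrCharacter.isCharacter hν)
  obtain ⟨m, hm, hsum⟩ := IsCharacter.exists_mult hΦ
  choose deg hdeg using fun ζ : IrrCharacter G => exists_nat_irr_one ζ
  have hmX : ∀ lam ∈ X, m lam = 1 ∧ deg lam = 1 := by
    intro lam hlam
    constructor
    · have h1 := hm lam
      rw [Cfsg.Agent.Lib.Helper25.frobenius_reciprocity I ν _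
        (IsCharacter.isClassFunction (IsIrrCharacter.isCharacter lam.2)), hX lam hlam,
        classInner_irr hν hν, if_pos rfl] at h1
      exact_mod_cast h1.symm
    · have h1 := congrFun (hX lam hlam) 1
      have h2 : (lam : G → ℂ) 1 = 1 := by
        rw [← hν1, ← h1]
        rfl
      rw [hdeg] at h2
      exact_mod_cast h2
  have h1 := congrFun hsum 1
  rw [Cfsg.Agent.Lib.Helper75.indFun_apply_one, hν1, mul_one, Finset.sum_apply] at h1
  simp only [Pi.smul_apply, smul_eq_mul, hdeg] at h1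
  have h2 : I.index = ∑ ζ : IrrCharacter G, m ζ * deg ζ := by
    exact_mod_cast h1
  rw [h2]
  calc X.card = ∑ ζ ∈ X, 1 := by simp
    _ = ∑ ζ ∈ X, m ζ * deg ζ := by
      apply Finset.sum_congr rfl
      intro ζ hζ
      rw [(hmX ζ hζ).1, (hmX ζ hζ).2]
    _ ≤ ∑ ζ : IrrCharacter G, m ζ * deg ζ :=
      Finset.sum_le_sum_of_subset (Finset.subset_univ X)

/-- A non-abelian minimal normal subgroup is perfect. -/
theorem commutator_eq_of_minimal_normal {G : Type u} [Group G] (N : Subgroup G) [hN : N.Normal]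
    (hmin : ∀ M : Subgroup G, M.Normal → M ≤ N → M = ⊥ ∨ M = N) (hna : ¬ IsMulCommutative ↥N) :
    ⁅N, N⁆ = N := by
  rcases hmin ⁅N, N⁆ inferInstance (Subgroup.commutator_le_left N N) with h | h
  · exfalso
    apply hna
    refine ⟨⟨fun a b => ?_⟩⟩
    have h1 : ⁅(a : G), (b : G)⁆ ∈ ⁅N, N⁆ := Subgroup.commutator_mem_commutator a.2 b.2
    rw [h, Subgroup.mem_bot, commutatorElement_eq_one_iff_mul_comm] at h1
    exact Subtype.ext h1
  · exact h

open Cfsg.Agent.Lib.Helper3 Cfsg.Agent.Lib.Helper75 in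
/-- Counting linear characters against the characters lying over an extendible character of a
non-abelian minimal normal subgroup. -/
theorem card_linear_le_of_minimal_normal {G : Type u} [Group G] [Finite G] (N : Subgroup G)
    (hN : N.Normal) (hmin : ∀ M : Subgroup G, M.Normal → M ≤ N → M = ⊥ ∨ M = N)
    (hna : ¬ IsMulCommutative ↥N) (φ : IrrCharacter ↥N) (I : Subgroup G)
    (hI : ∀ g : G, g ∈ I ↔ ∀ n n' : ↥N, (n' : G) = g * (n : G) * g⁻¹ →
      (φ : ↥N → ℂ) n' = (φ : ↥N → ℂ) n)
    (hNI : N ≤ I)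
    (hext : ∃ ψ : IrrCharacter ↥I, ∀ n : ↥N,
      (ψ : ↥I → ℂ) (Subgroup.inclusion hNI n) = (φ : ↥N → ℂ) n) :
    Nat.card {χ : IrrCharacter G // charDegree (χ : G → ℂ) = 1} ≤
      I.index * Nat.card {χ : IrrCharacter G //
        charDegree (χ : G → ℂ) = charDegree (φ : ↥N → ℂ) * I.index} := by
  classical
  haveI := Fintype.ofFinite G
  haveI := hN
  haveI : Fintype I := Fintype.ofFinite I
  haveI : Fintype N := Fintype.ofFinite N
  haveI : Finite (IrrCharacter G) := irrCharacter_finite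
  haveI := Fintype.ofFinite (IrrCharacter G)
  obtain ⟨ψ, hψφ⟩ := hext
  have hT : ∀ g : G, g ∈ I ↔ ∀ h : N,
      (φ : N → ℂ) ⟨g * h * g⁻¹, hN.conj_mem h h.2 g⟩ = (φ : N → ℂ) h := by
    intro g
    rw [hI g]
    constructor
    · intro h n
      exact h n ⟨g * n * g⁻¹, hN.conj_mem n n.2 g⟩ rfl
    · intro h n n' hn'
      have h1 := h n
      have h2 : n' = ⟨g * n * g⁻¹, hN.conj_mem n n.2 g⟩ := Subtype.ext hn'
      rw [h2]
      exact h1
  have hperf : ⁅N, N⁆ = N := commutator_eq_of_minimal_normal N hmin hna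
  set N' : Subgroup I := N.subgroupOf I with hN'
  haveI : Fintype N' := Fintype.ofFinite N'
  haveI : N'.Normal := hN.subgroupOf I
  have hresψ : (fun n : N' => (ψ : I → ℂ) n) = resSub N I (φ : N → ℂ) := by
    funext x
    exact hψφ ⟨(x : I), Subgroup.mem_subgroupOf.mp x.2⟩
  have hresirr : IsIrrCharacter N' (resSub N I (φ : N → ℂ)) := isIrrCharacter_resSub hNI φ.2
  have hψN : IsIrrCharacter N' (fun n : N' => (ψ : I → ℂ) n) := by
    rw [hresψ]
    exact hresirr
  -- linear characters
  have hlin : ∀ lam : IrrCharacter G, charDegree (lam : G → ℂ) = 1 → ∃ f : G →* ℂˣ,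
      (∀ g, (lam : G → ℂ) g = ((f g : ℂˣ) : ℂ)) ∧ ∀ n ∈ N, f n = 1 := by
    intro lam hlam
    obtain ⟨d, _, hd1, hd2, -⟩ := Cfsg.Agent.Lib.Helper16.irr_degree_spec lam
    have h1 : (lam : G → ℂ) 1 = 1 := by
      rw [hd1, ← hd2, hlam]
      simp
    obtain ⟨f, hf⟩ := exists_monoidHom_of_isCharacter_of_one (IsIrrCharacter.isCharacter lam.2) h1
    refine ⟨f, hf, ?_⟩
    intro n hn
    have h2 : ⁅N, N⁆ ≤ f.ker :=
      (Subgroup.commutator_mono le_top le_top).trans (Abelianization.commutator_subset_ker f)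
    rw [← hperf] at hn
    exact h2 hn
  -- the twisted characters
  let tw : IrrCharacter G → (I → ℂ) := fun lam => (fun i : I => (lam : G → ℂ) i) * (ψ : I → ℂ)
  let F : IrrCharacter G → (G → ℂ) := fun lam => indFun I (tw lam)
  have hlamI : ∀ lam : IrrCharacter G, charDegree (lam : G → ℂ) = 1 →
      IsIrrCharacter I (fun i : I => (lam : G → ℂ) i) ∧
      (∀ (n : N') (g : I), (fun i : I => (lam : G → ℂ) i) ((n : I) * g) =
        (fun i : I => (lam : G → ℂ) i) g) ∧ (lam : G → ℂ) 1 = 1 := by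
    intro lam hlam
    obtain ⟨f, hf, hfN⟩ := hlin lam hlam
    refine ⟨?_, ?_, ?_⟩
    · have := isIrrCharacter_of_monoidHom (f.comp I.subtype)
      convert this using 2
      exact hf _
    · intro n g
      change (lam : G → ℂ) (((n : I) : G) * (g : G)) = (lam : G → ℂ) (g : G)
      rw [hf, hf, map_mul, hfN _ (Subgroup.mem_subgroupOf.mp n.2), one_mul]
    · rw [hf, map_one]
      rfl
  have htw : ∀ lam : IrrCharacter G, charDegree (lam : G → ℂ) = 1 →
      IsIrrCharacter I (tw lam) ∧
      classInner (indFun N' (resSub N I (φ : N → ℂ))) (tw lam) ≠ 0 := by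
    intro lam hlam
    obtain ⟨h1, h2, h3⟩ := hlamI lam hlam
    have hirr : IsIrrCharacter I (tw lam) :=
      Cfsg.Agent.Lib.Helper15.isIrrCharacter_mul_ext N' ψ.2 hψN h1 h2
    refine ⟨hirr, ?_⟩
    rw [Cfsg.Agent.Lib.Helper25.frobenius_reciprocity N' _ _
      (IsCharacter.isClassFunction (IsIrrCharacter.isCharacter hirr))]
    have h4 : (fun h : N' => tw lam h) = resSub N I (φ : N → ℂ) := by
      rw [← hresψ]
      funext x
      change (lam : G → ℂ) ((x : I) : G) * (ψ : I → ℂ) x = (ψ : I → ℂ) x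
      have := h2 x 1
      simp only [mul_one] at this
      have h5 : (lam : G → ℂ) ((x : I) : G) = 1 := by
        rw [this]
        exact h3
      rw [h5, one_mul]
    rw [h4, classInner_irr hresirr hresirr, if_pos rfl]
    exact one_ne_zero
  obtain ⟨dφ, _, hdφ1, hdφ2, -⟩ := Cfsg.Agent.Lib.Helper16.irr_degree_spec φ
  have hψ1 : (ψ : I → ℂ) 1 = (dφ : ℂ) := by
    rw [← hdφ1, ← hψφ 1]
    rfl
  have hF : ∀ lam : IrrCharacter G, charDegree (lam : G → ℂ) = 1 →
      IsIrrCharacter G (F lam) ∧ charDegree (F lam) = charDegree (φ : N → ℂ) * I.index := by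
    intro lam hlam
    obtain ⟨h1, h2⟩ := htw lam hlam
    refine ⟨(clifford_corr_induction N I (φ : N → ℂ) φ.2 hT hNI (tw lam) (tw lam) h1 h1 h2 h2).1, ?_⟩
    rw [hdφ2]
    apply charDegree_of_natCast'
    change indFun I (tw lam) 1 = _
    rw [Cfsg.Agent.Lib.Helper75.indFun_apply_one]
    change (I.index : ℂ) * ((lam : G → ℂ) 1 * (ψ : I → ℂ) 1) = _
    rw [(hlamI lam hlam).2.2, hψ1]
    push_cast
    ring
  have hFinj : ∀ lam lam' : IrrCharacter G, charDegree (lam : G → ℂ) = 1 →
      charDegree (lam' : G → ℂ) = 1 → F lam = F lam' →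
      (fun i : I => (lam : G → ℂ) i) = fun i : I => (lam' : G → ℂ) i := by
    intro lam lam' hlam hlam' hFF
    obtain ⟨h1, h2⟩ := htw lam hlam
    obtain ⟨h1', h2'⟩ := htw lam' hlam'
    have h3 := (clifford_corr_induction N I (φ : N → ℂ) φ.2 hT hNI (tw lam) (tw lam') h1 h1'
      h2 h2').2 hFF
    obtain ⟨a1, a2, _⟩ := hlamI lam hlam
    obtain ⟨b1, b2, _⟩ := hlamI lam' hlam'
    exact Cfsg.Agent.Lib.Helper15.mul_ext_injective N' ψ.2 hψN a1 a2 b1 b2 h3
  -- counting
  set s : Finset (IrrCharacter G) :=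
    Finset.univ.filter (fun lam => charDegree (lam : G → ℂ) = 1) with hs
  set t : Finset (IrrCharacter G) := Finset.univ.filter
    (fun χ => charDegree (χ : G → ℂ) = charDegree (φ : N → ℂ) * I.index) with ht
  have hcard_s : Nat.card {χ : IrrCharacter G // charDegree (χ : G → ℂ) = 1} = s.card := by
    rw [Nat.card_eq_fintype_card, Fintype.card_subtype]
  have hcard_t : Nat.card {χ : IrrCharacter G //
      charDegree (χ : G → ℂ) = charDegree (φ : N → ℂ) * I.index} = t.card := by
    rw [Nat.card_eq_fintype_card, Fintype.card_subtype]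
  rw [hcard_s, hcard_t]
  have himg : (s.image F).card ≤ t.card := by
    have hsub : s.image F ⊆ t.image (fun χ : IrrCharacter G => χ.1) := by
      intro a ha
      obtain ⟨lam, hlam, rfl⟩ := Finset.mem_image.mp ha
      have hlam' : charDegree (lam : G → ℂ) = 1 := (Finset.mem_filter.mp hlam).2
      obtain ⟨h1, h2⟩ := hF lam hlam'
      exact Finset.mem_image.mpr ⟨⟨F lam, h1⟩, Finset.mem_filter.mpr ⟨Finset.mem_univ _, h2⟩, rfl⟩
    exact (Finset.card_le_card hsub).trans Finset.card_image_le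
  have hfib : ∀ a ∈ s.image F, (s.filter (fun x => F x = a)).card ≤ I.index := by
    intro a ha
    obtain ⟨lam₀, hlam₀, rfl⟩ := Finset.mem_image.mp ha
    have hlam₀' : charDegree (lam₀ : G → ℂ) = 1 := (Finset.mem_filter.mp hlam₀).2
    obtain ⟨c1, _, c3⟩ := hlamI lam₀ hlam₀'
    apply card_le_index_of_restrict_eq I c1 c3
    intro lam hlam
    obtain ⟨hl1, hl2⟩ := Finset.mem_filter.mp hlam
    exact hFinj lam lam₀ (Finset.mem_filter.mp hl1).2 hlam₀' hl2
  calc s.card ≤ I.index * (s.image F).card := Finset.card_le_mul_card_image s I.index hfib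
    _ ≤ I.index * t.card := Nat.mul_le_mul_left _ himg

end Cfsg.Agent.Lib.Helper79
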