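import Mathlib
import Cfsg.Prelude.Def_Characters
import Cfsg.Prelude.Def_Blocks
import Cfsg.Agent.Lib.Helper79.MinNormal
import Cfsg.Agent.Lib.Helper79.CenterIndex
import Cfsg.Agent.Lib.Helper79.FaithfulIrr
import Cfsg.Agent.Lib.Helper75.Twist
import Cfsg.Agent.Lib.Helper79.KGV2

set_option autoImplicit false
set_option linter.unusedSectionVars false
set_option linter.style.haveILetI false

namespace Cfsg.Agent.Lib.Helper79

open Cfsg
open scoped ComplexConjugate

universe u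

/-- Linear characters separate the elements outside the commutator subgroup. -/
theorem exists_linear_apply_ne_one {G : Type u} [Group G] [Finite G] {g : G}
    (hg : g ∉ commutator G) : ∃ φ : G →* ℂˣ, φ g ≠ 1 := by
  have ha : (Abelianization.of g) ≠ 1 := by
    intro h
    exact hg ((QuotientGroup.eq_one_iff g).mp h)
  obtain ⟨φ, hφ⟩ :=
    CommGroup.exists_apply_ne_one_of_hasEnoughRootsOfUnity (Abelianization G) ℂ ha
  exact ⟨φ.comp Abelianization.of, hφ⟩

/-- Galois conjugate irreducible characters have the same kernel. -/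
theorem galois_conj_ker_iff {G : Type u} [Group G] [Finite G] {χ ψ : G → ℂ}
    (hχ : IsIrrCharacter G χ) (k : ℕ) (hk : Nat.Coprime k (Nat.card G))
    (h : ∀ g : G, ψ g = χ (g ^ k)) (g : G) : ψ g = ψ 1 ↔ χ g = χ 1 := by
  obtain ⟨n, ρ, -, rfl⟩ := hχ
  have h1 : ψ 1 = ρ.character 1 := by rw [h 1, one_pow]
  rw [h1, h g, ← rep_mem_ker_iff, ← rep_mem_ker_iff]
  constructor
  · intro hg
    have hco : Nat.Coprime k (orderOf g) := hk.coprime_dvd_right (orderOf_dvd_natCard g)
    obtain ⟨m, hm⟩ := exists_pow_eq_self_of_coprime hco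
    rw [← hm]
    exact Subgroup.pow_mem _ hg m
  · intro hg
    exact Subgroup.pow_mem _ hg k

/-- The property that non-linear irreducible characters of equal degree are Galois conjugate. -/
def GalConjProp (P : Type u) [Group P] : Prop :=
  ∀ χ ψ : IrrCharacter P, charDegree (χ : P → ℂ) ≠ 1 →
    charDegree (χ : P → ℂ) = charDegree (ψ : P → ℂ) →
    ∃ k : ℕ, Nat.Coprime k (Nat.card P) ∧ ∀ g : P, (ψ : P → ℂ) g = (χ : P → ℂ) (g ^ k)

/-- Under `GalConjProp`, the kernel of a non-linear irreducible character lies in the commutator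
subgroup. -/
theorem GalConjProp.ker_le_commutator {P : Type u} [Group P] [Finite P] (H : GalConjProp P)
    (χ : IrrCharacter P) (hχ : charDegree (χ : P → ℂ) ≠ 1) (g : P)
    (hg : (χ : P → ℂ) g = (χ : P → ℂ) 1) : g ∈ commutator P := by
  haveI : Fintype P := Fintype.ofFinite P
  by_contra hgc
  obtain ⟨φ, hφ⟩ := exists_linear_apply_ne_one hgc
  have hβ : IsCharacter P (fun x => ((φ x : ℂˣ) : ℂ)) :=
    Cfsg.Agent.Lib.Helper3.IsIrrCharacter.isCharacter (isIrrCharacter_of_monoidHom φ)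
  have hβ1 : (fun x : P => ((φ x : ℂˣ) : ℂ)) 1 = 1 := by
    change ((φ 1 : ℂˣ) : ℂ) = 1
    rw [map_one]
    rfl
  have hirr := Cfsg.Agent.Lib.Helper75.isIrrCharacter_mul_of_linear hβ hβ1 χ.2
  set ψ : IrrCharacter P := ⟨(χ : P → ℂ) * fun x => ((φ x : ℂˣ) : ℂ), hirr⟩ with hψ
  have hψ1 : (ψ : P → ℂ) 1 = (χ : P → ℂ) 1 := by
    change (χ : P → ℂ) 1 * ((φ 1 : ℂˣ) : ℂ) = _
    rw [map_one]
    simp
  have hdeg : charDegree (χ : P → ℂ) = charDegree (ψ : P → ℂ) := by
    unfold charDegree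
    rw [hψ1]
  obtain ⟨k, hk, hkψ⟩ := H χ ψ hχ hdeg
  have h1 := (galois_conj_ker_iff χ.2 k hk hkψ g).mpr hg
  rw [hψ1] at h1
  change (χ : P → ℂ) g * ((φ g : ℂˣ) : ℂ) = _ at h1
  rw [hg] at h1
  have h0 : (χ : P → ℂ) 1 ≠ 0 := irr_one_ne_zero χ
  have h2 : ((φ g : ℂˣ) : ℂ) = 1 := by
    have : (χ : P → ℂ) 1 * (((φ g : ℂˣ) : ℂ) - 1) = 0 := by rw [mul_sub, h1, mul_one, sub_self]
    rcases mul_eq_zero.mp this with h3 | h3
    · exact absurd h3 h0
    · exact sub_eq_zero.mp h3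
  exact hφ (Units.ext h2)

/-- `GalConjProp` passes to quotients. -/
theorem GalConjProp.quotient {P : Type u} [Group P] [Finite P] (H : GalConjProp P)
    (N : Subgroup P) [N.Normal] : GalConjProp (P ⧸ N) := by
  intro χ ψ hχ hdeg
  have e1 : charDegree (inflIrr N χ : P → ℂ) = charDegree (χ : P ⧸ N → ℂ) := by
    unfold charDegree
    rw [inflIrr_apply]
    rfl
  have e2 : charDegree (inflIrr N ψ : P → ℂ) = charDegree (ψ : P ⧸ N → ℂ) := by
    unfold charDegree
    rw [inflIrr_apply]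
    rfl
  obtain ⟨k, hk, hkψ⟩ := H (inflIrr N χ) (inflIrr N ψ) (by rw [e1]; exact hχ)
    (by rw [e1, e2]; exact hdeg)
  refine ⟨k, hk.coprime_dvd_right ?_, ?_⟩
  · rw [Subgroup.card_eq_card_quotient_mul_card_subgroup N]
    exact dvd_mul_right _ _
  · intro q
    obtain ⟨x, rfl⟩ := QuotientGroup.mk_surjective q
    have := hkψ x
    rw [inflIrr_apply, inflIrr_apply] at this
    rw [this]
    rfl

end Cfsg.Agent.Lib.Helper79
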