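import Mathlib
import Cfsg.Prelude.Def_Characters
import Cfsg.Agent.Lib.Helper79.CenterIndex
import Cfsg.Agent.Lib.Helper79.FaithfulIrr
import Cfsg.Agent.Lib.Helper79.Abelian
import Cfsg.Agent.Lib.Helper79.Basic
import Cfsg.Agent.Lib.Helper76.PGroup

set_option autoImplicit false
set_option linter.unusedSectionVars false
set_option linter.style.haveILetI false

namespace Cfsg.Agent.Lib.Helper79

open Cfsg
open scoped ComplexConjugate commutatorElement

universe u

/-- The central character of an irreducible representation, as a monoid homomorphism. -/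
theorem exists_central_hom {G : Type*} [Group G] [Finite G] {V : Type*} [AddCommGroup V]
    [Module ℂ V] [FiniteDimensional ℂ V] (ρ : Representation ℂ G V) [ρ.IsIrreducible] :
    ∃ f : Subgroup.center G →* ℂ, (∀ z : Subgroup.center G, ρ (z : G) = f z • LinearMap.id) ∧
      ∀ z : Subgroup.center G, f z * conj (f z) = 1 := by
  classical
  have hV : Nontrivial V := Cfsg.Agent.Lib.Helper80.nontrivial_of_irreducible ρ
  obtain ⟨v, hv⟩ := exists_ne (0 : V)
  have huniq : ∀ c c' : ℂ, c • (LinearMap.id : V →ₗ[ℂ] V) = c' • LinearMap.id → c = c' := by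
    intro c c' h
    have h3 := LinearMap.congr_fun h v
    simp only [LinearMap.smul_apply, LinearMap.id_coe, id_eq] at h3
    have h4 : (c - c') • v = 0 := by rw [sub_smul, h3, sub_self]
    rcases smul_eq_zero.mp h4 with h5 | h5
    · exact sub_eq_zero.mp h5
    · exact absurd h5 hv
  have hex : ∀ z : Subgroup.center G, ∃ c : ℂ, ρ (z : G) = c • LinearMap.id ∧ c * conj c = 1 :=
    fun z => exists_scalar_of_mem_center ρ z.2
  choose c hc hc' using hex
  refine ⟨{ toFun := c
            map_one' := ?_
            map_mul' := ?_ }, hc, hc'⟩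
  · apply huniq
    rw [← hc 1, one_smul]
    simp
    rfl
  · intro a b
    apply huniq
    rw [← hc (a * b)]
    simp only [Subgroup.coe_mul, map_mul]
    rw [hc a, hc b, smul_mul_smul_comm]
    congr 1

/-- If the commutator `⁅g, x⁆` acts as a scalar different from `1`, the character vanishes
at `g`. -/
theorem character_eq_zero_of_commutator_scalar {G : Type*} [Group G] {V : Type*} [AddCommGroup V]
    [Module ℂ V] (ρ : Representation ℂ G V) (g x : G) (c : ℂ)
    (hc : ρ ⁅g, x⁆ = c • LinearMap.id) (hc1 : c ≠ 1) : ρ.character g = 0 := by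
  have h1 : g = ⁅g, x⁆ * (x * g * x⁻¹) := by rw [commutatorElement_def]; group
  have h2 : ρ.character g = c * ρ.character g := by
    conv_lhs => rw [h1]
    have h3 : ρ (⁅g, x⁆ * (x * g * x⁻¹)) = c • ρ (x * g * x⁻¹) := by
      rw [map_mul, hc]
      ext v
      simp
    unfold Representation.character
    rw [h3, map_smul, smul_eq_mul]
    congr 1
    exact Representation.char_conj ρ g x
  have h4 : (1 - c) * ρ.character g = 0 := by rw [sub_mul, one_mul, ← h2, sub_self]
  rcases mul_eq_zero.mp h4 with h5 | h5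
  · exact absurd (sub_eq_zero.mp h5).symm hc1
  · exact h5

/-- An irreducible character whose kernel contains the commutator subgroup is linear. -/
theorem irr_one_eq_one_of_commutator_le {G : Type u} [Group G] [Finite G] (χ : IrrCharacter G)
    (h : ∀ x ∈ commutator G, (χ : G → ℂ) x = (χ : G → ℂ) 1) : (χ : G → ℂ) 1 = 1 := by
  obtain ⟨ψ, hψ, hψχ⟩ := isIrrCharacter_deflate χ.2 (commutator G) h
  have h1 := irr_one_eq_one_of_comm (A := Abelianization G) ⟨ψ, hψ⟩
  rw [← hψχ 1]
  exact h1

/-- Non-linear irreducible representations of a `p`-group with cyclic centre and derived subgroup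
of order `p`: faithful central character, vanishing off the centre. -/
theorem central_type_structure {Q : Type u} [Group Q] [Finite Q] (p : ℕ) [hp : Fact p.Prime]
    (hQ : IsPGroup p Q) (hZ : IsCyclic (Subgroup.center Q)) (hD : Nat.card (commutator Q) = p)
    {n : ℕ} (ρ : Representation ℂ Q (Fin n → ℂ)) [hirr : ρ.IsIrreducible] (hn : n ≠ 1) :
    ∃ f : Subgroup.center Q →* ℂ, Function.Injective f ∧
      (∀ z : Subgroup.center Q, f z * conj (f z) = 1) ∧
      (∀ z : Subgroup.center Q, ρ.character (z : Q) = f z * n) ∧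
      (∀ g : Q, g ∉ Subgroup.center Q → ρ.character g = 0) := by
  classical
  have hle : commutator Q ≤ Subgroup.center Q :=
    Cfsg.Agent.Lib.Helper76.normal_card_prime_le_center hQ (commutator Q) hD
  obtain ⟨f, hf, hf'⟩ := exists_central_hom ρ
  have hfne : ∀ z : Subgroup.center Q, f z ≠ 0 := by
    intro z h0
    have := hf' z
    rw [h0, zero_mul] at this
    exact zero_ne_one this
  -- key: f is nontrivial on nonidentity commutator elements
  have key : ∀ c : Q, ∀ hc : c ∈ commutator Q, c ≠ 1 → f ⟨c, hle hc⟩ ≠ 1 := by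
    intro c hc hc1 hfc
    have hρc : ρ c = 1 := by
      have := hf ⟨c, hle hc⟩
      rw [hfc, one_smul] at this
      exact this
    haveI : Fact (Nat.card (commutator Q)).Prime := ⟨hD.symm ▸ hp.out⟩
    have hK : (MonoidHom.ker ρ).subgroupOf (commutator Q) = ⊤ := by
      rcases Subgroup.eq_bot_or_eq_top_of_prime_card ((MonoidHom.ker ρ).subgroupOf (commutator Q))
        with h | h
      · exfalso
        have hmem : (⟨c, hc⟩ : commutator Q) ∈ (MonoidHom.ker ρ).subgroupOf (commutator Q) := by
          rw [Subgroup.mem_subgroupOf]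
          exact hρc
        rw [h, Subgroup.mem_bot] at hmem
        exact hc1 (congrArg Subtype.val hmem)
      · exact h
    rw [Subgroup.subgroupOf_eq_top] at hK
    have h1 := irr_one_eq_one_of_commutator_le ⟨ρ.character, ⟨n, ρ, hirr, rfl⟩⟩ (by
      intro x hx
      have hx' : ρ x = 1 := hK hx
      change ρ.character x = ρ.character 1
      unfold Representation.character
      rw [hx', ← map_one ρ])
    change ρ.character 1 = 1 at h1
    rw [Representation.char_one, Module.finrank_fin_fun] at h1
    exact hn (by exact_mod_cast h1)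
  -- an element of order p in the commutator subgroup
  have hnt : ∃ c : Q, c ∈ commutator Q ∧ c ≠ 1 := by
    by_contra hcon
    push Not at hcon
    have : commutator Q = ⊥ := by
      rw [Subgroup.eq_bot_iff_forall]
      exact hcon
    rw [this, Subgroup.card_bot] at hD
    exact hp.out.one_lt.ne hD
  obtain ⟨c, hc, hc1⟩ := hnt
  have hcord : orderOf c = p := by
    have h1 : orderOf c ∣ p := hD ▸ Subgroup.orderOf_dvd_natCard (commutator Q) hc
    rcases (Nat.dvd_prime hp.out).mp h1 with h | h
    · exact absurd (orderOf_eq_one_iff.mp h) hc1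
    · exact h
  have hker : ∀ z : Subgroup.center Q, f z = 1 → z = 1 := by
    intro z hz
    by_contra hz1
    obtain ⟨a, ha⟩ : ∃ a, orderOf z = p ^ a := by
      rw [exists_orderOf_eq_prime_pow_iff]
      obtain ⟨k, hk⟩ := hQ (z : Q)
      exact ⟨k, Subtype.ext (by simpa using hk)⟩
    have ha1 : a ≠ 0 := by
      rintro rfl
      rw [pow_zero, orderOf_eq_one_iff] at ha
      exact hz1 ha
    obtain ⟨b, rfl⟩ := Nat.exists_eq_succ_of_ne_zero ha1
    set z' := z ^ (p ^ b) with hz'
    have hz'ord : orderOf z' = p := by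
      rw [hz', orderOf_pow_of_dvd (pow_ne_zero _ hp.out.ne_zero) (by rw [ha]; exact pow_dvd_pow p (Nat.le_succ b)),
        ha, pow_succ, Nat.mul_div_cancel_left _ (pow_pos hp.out.pos b)]
    have hfz' : f z' = 1 := by rw [hz', map_pow, hz, one_pow]
    have hcord' : orderOf (⟨c, hle hc⟩ : Subgroup.center Q) = p := by
      rw [← hcord]
      exact Subgroup.orderOf_mk c (hle hc)
    have hmem := mem_zpowers_of_orderOf_eq_prime hp.out hcord' hz'ord
    rw [← mem_powers_iff_mem_zpowers, Submonoid.mem_powers_iff] at hmem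
    obtain ⟨m, hm⟩ := hmem
    apply key c hc hc1
    rw [← hm, map_pow, hfz', one_pow]
  have hinj : Function.Injective f := by
    intro a b hab
    have h1 : f (a * b⁻¹) * f b = f b := by
      rw [← map_mul, inv_mul_cancel_right, hab]
    have h2 : (f (a * b⁻¹) - 1) * f b = 0 := by rw [sub_mul, h1, one_mul, sub_self]
    rcases mul_eq_zero.mp h2 with h3 | h3
    · have := hker _ (sub_eq_zero.mp h3)
      exact mul_inv_eq_one.mp this
    · exact absurd h3 (hfne b)
  refine ⟨f, hinj, hf', ?_, ?_⟩
  · intro z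
    unfold Representation.character
    rw [hf z, map_smul, LinearMap.trace_id, Module.finrank_fin_fun, smul_eq_mul]
  · intro g hg
    have hex : ∃ x : Q, x * g ≠ g * x := by
      by_contra hcon
      push Not at hcon
      exact hg (Subgroup.mem_center_iff.mpr hcon)
    obtain ⟨x, hx⟩ := hex
    have hw1 : ⁅g, x⁆ ≠ 1 := by
      intro h
      rw [commutatorElement_eq_one_iff_commute] at h
      exact hx h.eq.symm
    have hwc : ⁅g, x⁆ ∈ commutator Q := by
      rw [commutator_def]
      exact Subgroup.commutator_mem_commutator (Subgroup.mem_top g) (Subgroup.mem_top x)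
    exact character_eq_zero_of_commutator_scalar ρ g x _ (hf ⟨⁅g, x⁆, hle hwc⟩) (key _ hwc hw1)


/-- Degree formula: `n² |Z(Q)| = |Q|`. -/
theorem central_type_degree {Q : Type u} [Group Q] [Finite Q] (p : ℕ) [hp : Fact p.Prime]
    (hQ : IsPGroup p Q) (hZ : IsCyclic (Subgroup.center Q)) (hD : Nat.card (commutator Q) = p)
    {n : ℕ} (ρ : Representation ℂ Q (Fin n → ℂ)) [hirr : ρ.IsIrreducible] (hn : n ≠ 1) :
    n ^ 2 * Nat.card (Subgroup.center Q) = Nat.card Q := by
  classical
  obtain ⟨f, hinj, hf', hfz, hvan⟩ := central_type_structure p hQ hZ hD ρ hn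
  haveI : Fintype Q := Fintype.ofFinite Q
  haveI : Fintype (Subgroup.center Q) := Fintype.ofFinite _
  have h := sum_normSq_character ρ
  have h1 : ∑ g : Q, Complex.normSq (ρ.character g) =
      ∑ g ∈ Finset.univ.filter (· ∈ Subgroup.center Q), Complex.normSq (ρ.character g) := by
    rw [Finset.sum_filter]
    apply Finset.sum_congr rfl
    intro g _
    split_ifs with hg
    · rfl
    · rw [hvan g hg, map_zero]
  rw [h1, Finset.sum_subtype (p := (· ∈ Subgroup.center Q)) _ (by simp)] at h
  have h2 : ∀ z : Subgroup.center Q, Complex.normSq (ρ.character (z : Q)) = (n : ℝ) ^ 2 := by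
    intro z
    have h3 : Complex.normSq (f z) = 1 := by
      have := hf' z
      rw [Complex.mul_conj] at this
      exact_mod_cast this
    rw [hfz z, map_mul, h3, one_mul, Complex.normSq_natCast, sq]
  have h4 : ∑ z : Subgroup.center Q, Complex.normSq (ρ.character (z : Q)) =
      (Nat.card (Subgroup.center Q) : ℝ) * (n : ℝ) ^ 2 := by
    rw [Finset.sum_congr rfl (fun z _ => h2 z), Finset.sum_const, Finset.card_univ,
      Nat.card_eq_fintype_card, nsmul_eq_mul]
  have h5 : ((n ^ 2 * Nat.card (Subgroup.center Q) : ℕ) : ℝ) = (Nat.card Q : ℝ) := by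
    push_cast
    rw [← h, h4]
    ring
  exact_mod_cast h5

/-- If the commutator subgroup is central of order `p`, then `p`-th powers are central. -/
theorem pow_prime_mem_center {Q : Type*} [Group Q] [Finite Q] (p : ℕ)
    (hle : commutator Q ≤ Subgroup.center Q) (hD : Nat.card (commutator Q) = p) (g : Q) :
    g ^ p ∈ Subgroup.center Q := by
  rw [Subgroup.mem_center_iff]
  intro x
  have hwc : ⁅x, g⁆ ∈ commutator Q := by
    rw [commutator_def]
    exact Subgroup.commutator_mem_commutator (Subgroup.mem_top x) (Subgroup.mem_top g)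
  have hw : ⁅x, g⁆ ^ p = 1 := by
    have h1 : orderOf ⁅x, g⁆ ∣ p := hD ▸ Subgroup.orderOf_dvd_natCard (commutator Q) hwc
    exact orderOf_dvd_iff_pow_eq_one.mp h1
  have hcomm : Commute ⁅x, g⁆ g := (Subgroup.mem_center_iff.mp (hle hwc) g).symm
  have h1 : x * g * x⁻¹ = ⁅x, g⁆ * g := by rw [commutatorElement_def]; group
  have h2 : x * g ^ p * x⁻¹ = g ^ p := by
    rw [← conj_pow, h1, hcomm.mul_pow, hw, one_mul]
  calc x * g ^ p = x * g ^ p * x⁻¹ * x := by group
    _ = g ^ p * x := by rw [h2]

/-- The Galois conjugacy of non-linear irreducible characters of the same degree, for a `p`-group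
with cyclic centre and derived subgroup of order `p`. -/
theorem galois_conj_of_cyclic_center {Q : Type u} [Group Q] [Finite Q] (p : ℕ) [hp : Fact p.Prime]
    (hQ : IsPGroup p Q) (hZ : IsCyclic (Subgroup.center Q)) (hD : Nat.card (commutator Q) = p)
    (χ ψ : IrrCharacter Q) (hχ : charDegree (χ : Q → ℂ) ≠ 1)
    (hdeg : charDegree (χ : Q → ℂ) = charDegree (ψ : Q → ℂ)) :
    ∃ k : ℕ, Nat.Coprime k (Nat.card Q) ∧ ∀ g : Q, (ψ : Q → ℂ) g = (χ : Q → ℂ) (g ^ k) := by
  classical
  obtain ⟨χ, n, ρ, hρ, rfl⟩ := χ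
  obtain ⟨ψ, n', ρ', hρ', rfl⟩ := ψ
  simp only at hχ hdeg ⊢
  rw [charDegree_rep] at hχ hdeg
  rw [charDegree_rep] at hdeg
  subst hdeg
  have hle : commutator Q ≤ Subgroup.center Q :=
    Cfsg.Agent.Lib.Helper76.normal_card_prime_le_center hQ (commutator Q) hD
  obtain ⟨f, hinj, hf', hfz, hvan⟩ := central_type_structure p hQ hZ hD ρ hχ
  obtain ⟨f', hinj', hf'', hfz', hvan'⟩ := central_type_structure p hQ hZ hD ρ' hχ
  obtain ⟨z₀, hz₀⟩ := IsCyclic.exists_generator (α := Subgroup.center Q)
  set m := orderOf z₀ with hm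
  have hmpos : 0 < m := orderOf_pos z₀
  haveI : NeZero m := ⟨hmpos.ne'⟩
  have hmcard : m = Nat.card (Subgroup.center Q) := orderOf_eq_card_of_forall_mem_zpowers hz₀
  have hprim : ∀ (F : Subgroup.center Q →* ℂ), Function.Injective F → IsPrimitiveRoot (F z₀) m := by
    intro F hF
    rw [IsPrimitiveRoot.iff_def]
    refine ⟨by rw [← map_pow, hm, pow_orderOf_eq_one, map_one], fun l hl => ?_⟩
    have h1 : F (z₀ ^ l) = F 1 := by rw [map_pow, hl, map_one]
    exact orderOf_dvd_of_pow_eq_one (hF h1)
  have hp1 := hprim f hinj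
  have hp2 := hprim f' hinj'
  obtain ⟨i, hi, hiζ⟩ := hp1.eq_pow_of_pow_eq_one hp2.pow_eq_one
  have hcop : i.Coprime m := (hp1.pow_iff_coprime hmpos i).mp (hiζ ▸ hp2)
  -- p divides m
  have hpm : p ∣ m := by
    have hnt : ∃ c : Q, c ∈ commutator Q ∧ c ≠ 1 := by
      by_contra hcon
      push Not at hcon
      have : commutator Q = ⊥ := by
        rw [Subgroup.eq_bot_iff_forall]
        exact hcon
      rw [this, Subgroup.card_bot] at hD
      exact hp.out.one_lt.ne hD
    obtain ⟨c, hc, hc1⟩ := hnt
    have hcord : orderOf c = p := by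
      have h1 : orderOf c ∣ p := hD ▸ Subgroup.orderOf_dvd_natCard (commutator Q) hc
      rcases (Nat.dvd_prime hp.out).mp h1 with h | h
      · exact absurd (orderOf_eq_one_iff.mp h) hc1
      · exact h
    rw [hmcard, ← hcord]
    exact Subgroup.orderOf_dvd_natCard (Subgroup.center Q) (hle hc)
  have hcopp : i.Coprime p := hcop.coprime_dvd_right hpm
  have hcopQ : i.Coprime (Nat.card Q) := by
    obtain ⟨b, hb⟩ := (IsPGroup.iff_card).mp hQ
    rw [hb]
    exact hcopp.pow_right b
  refine ⟨i, hcopQ, fun g => ?_⟩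
  have hff : ∀ z : Subgroup.center Q, f' z = f z ^ i := by
    intro z
    have hmem := hz₀ z
    rw [← mem_powers_iff_mem_zpowers, Submonoid.mem_powers_iff] at hmem
    obtain ⟨j, rfl⟩ := hmem
    rw [map_pow, map_pow, ← hiζ, ← pow_mul, ← pow_mul, mul_comm]
  by_cases hg : g ∈ Subgroup.center Q
  · have h1 := hfz' ⟨g, hg⟩
    have h2 := hfz (⟨g, hg⟩ ^ i)
    simp only [Subgroup.coe_pow] at h1 h2
    rw [h1, h2, map_pow, hff]
  · rw [hvan' g hg]
    have hgi : g ^ i ∉ Subgroup.center Q := by
      intro hmem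
      have hco : Nat.Coprime i (orderOf g) := hcopQ.coprime_dvd_right (orderOf_dvd_natCard g)
      obtain ⟨m', hm'⟩ := exists_pow_eq_self_of_coprime hco
      apply hg
      rw [← hm']
      exact Subgroup.pow_mem _ hmem m'
    rw [hvan _ hgi]

end Cfsg.Agent.Lib.Helper79
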