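import Mathlib
import Cfsg.Prelude.Def_Characters
import Cfsg.Agent.Lib.Helper79.PG1
import Cfsg.Agent.Lib.Helper79.PG2
import Cfsg.Agent.Lib.Helper16.Degree
import Cfsg.Agent.Lib.Helper3.Ortho

set_option autoImplicit false
set_option linter.unusedSectionVars false
set_option linter.style.haveILetI false

namespace Cfsg.Agent.Lib.Helper79

open Cfsg
open scoped ComplexConjugate commutatorElement

universe u

/-- `χ(1)² |Z(G)| ≤ |G|` for an irreducible representation. -/
theorem sq_degree_mul_card_center_le {G : Type*} [Group G] [Finite G] {n : ℕ}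
    (ρ : Representation ℂ G (Fin n → ℂ)) [ρ.IsIrreducible] :
    n ^ 2 * Nat.card (Subgroup.center G) ≤ Nat.card G := by
  classical
  obtain ⟨f, hf, hf'⟩ := exists_central_hom ρ
  haveI : Fintype G := Fintype.ofFinite G
  haveI : Fintype (Subgroup.center G) := Fintype.ofFinite _
  have h := sum_normSq_character ρ
  have h1 : ∑ g ∈ Finset.univ.filter (· ∈ Subgroup.center G), Complex.normSq (ρ.character g) ≤
      ∑ g : G, Complex.normSq (ρ.character g) :=
    Finset.sum_le_sum_of_subset_of_nonneg (Finset.filter_subset _ _)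
      (fun g _ _ => Complex.normSq_nonneg _)
  rw [h, Finset.sum_subtype (p := (· ∈ Subgroup.center G)) _ (by simp)] at h1
  have h2 : ∀ z : Subgroup.center G, Complex.normSq (ρ.character (z : G)) = (n : ℝ) ^ 2 := by
    intro z
    have h3 : Complex.normSq (f z) = 1 := by
      have := hf' z
      rw [Complex.mul_conj] at this
      exact_mod_cast this
    unfold Representation.character
    rw [hf z, map_smul, LinearMap.trace_id, Module.finrank_fin_fun, smul_eq_mul, map_mul, h3,
      one_mul, Complex.normSq_natCast, sq]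
  have h4 : ∑ z : Subgroup.center G, Complex.normSq (ρ.character (z : G)) =
      (Nat.card (Subgroup.center G) : ℝ) * (n : ℝ) ^ 2 := by
    rw [Finset.sum_congr rfl (fun z _ => h2 z), Finset.sum_const, Finset.card_univ,
      Nat.card_eq_fintype_card, nsmul_eq_mul]
  rw [h4] at h1
  have h5 : ((n ^ 2 * Nat.card (Subgroup.center G) : ℕ) : ℝ) ≤ (Nat.card G : ℝ) := by
    push_cast
    linarith
  exact_mod_cast h5

/-- The sum of the squares of the degrees of the irreducible characters, in `ℕ`. -/
theorem sum_charDegree_sq {G : Type u} [Group G] [Finite G] [Fintype (IrrCharacter G)] :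
    ∑ χ : IrrCharacter G, charDegree (χ : G → ℂ) ^ 2 = Nat.card G := by
  haveI : Fintype G := Fintype.ofFinite G
  have h := Cfsg.Agent.Lib.Helper3.sum_sq_degree (G := G)
  have h1 : ((∑ χ : IrrCharacter G, charDegree (χ : G → ℂ) ^ 2 : ℕ) : ℂ) = (Nat.card G : ℂ) := by
    rw [← h]
    push_cast
    apply Finset.sum_congr rfl
    intro χ _
    obtain ⟨d, -, h1, h2, -⟩ := Cfsg.Agent.Lib.Helper16.irr_degree_spec χ
    rw [h1, h2]
  exact_mod_cast h1

/-- A finite group with non-trivial commutator subgroup has a non-linear irreducible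
representation. -/
theorem exists_nonlinear_irr {G : Type u} [Group G] [Finite G] (h : commutator G ≠ ⊥) :
    ∃ (n : ℕ) (ρ : Representation ℂ G (Fin n → ℂ)), ρ.IsIrreducible ∧ n ≠ 1 := by
  obtain ⟨z, hz, hz1⟩ : ∃ z : G, z ∈ commutator G ∧ z ≠ 1 := by
    by_contra hcon
    push Not at hcon
    exact h ((Subgroup.eq_bot_iff_forall _).mpr hcon)
  obtain ⟨n, ρ, hirr, hρz⟩ := exists_irr_rep_not_mem_ker hz1
  refine ⟨n, ρ, hirr, ?_⟩
  rintro rfl
  apply hρz
  have h1 : ρ.character 1 = 1 := by rw [rep_character_one]; simp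
  have h2 := isCharacter_one_commutator ⟨1, ρ, rfl⟩ h1 hz
  have h3 : z ∈ MonoidHom.ker ρ := by
    rw [rep_mem_ker_iff, h2, h1]
  exact h3

/-- Under `GalConjProp`, if the derived subgroup has order `p` then the centre is cyclic. -/
theorem GalConjProp.isCyclic_center {P : Type u} [Group P] [Finite P] (p : ℕ) [hp : Fact p.Prime]
    (H : GalConjProp P) (hD : Nat.card (commutator P) = p) : IsCyclic (Subgroup.center P) := by
  have hne : commutator P ≠ ⊥ := by
    intro h
    rw [h, Subgroup.card_bot] at hD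
    exact hp.out.one_lt.ne hD
  obtain ⟨n, ρ, hirr, hn⟩ := exists_nonlinear_irr hne
  have hker : MonoidHom.ker ρ ≤ commutator P := by
    intro g hg
    apply H.ker_le_commutator ⟨ρ.character, ⟨n, ρ, hirr, rfl⟩⟩ (by rw [charDegree_rep]; exact hn) g
    exact (rep_mem_ker_iff ρ g).mp hg
  haveI : Fact (Nat.card (commutator P)).Prime := ⟨hD.symm ▸ hp.out⟩
  have hbot : MonoidHom.ker ρ = ⊥ := by
    rcases Subgroup.eq_bot_or_eq_top_of_prime_card ((MonoidHom.ker ρ).subgroupOf (commutator P))
      with h | h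
    · rw [Subgroup.subgroupOf_eq_bot] at h
      rw [disjoint_iff, inf_of_le_left hker] at h
      exact h
    · exfalso
      rw [Subgroup.subgroupOf_eq_top] at h
      have h1 := irr_one_eq_one_of_commutator_le ⟨ρ.character, ⟨n, ρ, hirr, rfl⟩⟩ (by
        intro x hx
        exact (rep_mem_ker_iff ρ x).mp (h hx))
      change ρ.character 1 = 1 at h1
      rw [rep_character_one] at h1
      exact hn (by exact_mod_cast h1)
  exact isCyclic_center_of_faithful_irr ρ ((MonoidHom.ker_eq_bot_iff ρ).mp hbot)

/-- If all commutators `⁅x, g⁆` lie in a central subgroup of order `p`, then `g ^ p` is central. -/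
theorem pow_mem_center_of_commutator_mem {Q : Type*} [Group Q] [Finite Q] (p : ℕ) (N : Subgroup Q)
    (hN : N ≤ Subgroup.center Q) (hNp : Nat.card N = p) (g : Q) (h : ∀ x : Q, ⁅x, g⁆ ∈ N) :
    g ^ p ∈ Subgroup.center Q := by
  rw [Subgroup.mem_center_iff]
  intro x
  have hw : ⁅x, g⁆ ^ p = 1 := by
    have h1 : orderOf ⁅x, g⁆ ∣ p := hNp ▸ Subgroup.orderOf_dvd_natCard N (h x)
    exact orderOf_dvd_iff_pow_eq_one.mp h1
  have hcomm : Commute ⁅x, g⁆ g := (Subgroup.mem_center_iff.mp (hN (h x)) g).symm
  have h1 : x * g * x⁻¹ = ⁅x, g⁆ * g := by rw [commutatorElement_def]; group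
  have h2 : x * g ^ p * x⁻¹ = g ^ p := by
    rw [← conj_pow, h1, hcomm.mul_pow, hw, one_mul]
  calc x * g ^ p = x * g ^ p * x⁻¹ * x := by group
    _ = g ^ p * x := by rw [h2]

/-- If `N` is central of order `p` and the centre of `P ⧸ N` is cyclic, then
`|Z(P/N)| ≤ |Z(P)|`. -/
theorem card_center_quotient_le {P : Type*} [Group P] [Finite P] (p : ℕ) [hp : Fact p.Prime]
    (N : Subgroup P) [N.Normal] (hN : N ≤ Subgroup.center P) (hNp : Nat.card N = p)
    (hcyc : IsCyclic (Subgroup.center (P ⧸ N))) :
    Nat.card (Subgroup.center (P ⧸ N)) ≤ Nat.card (Subgroup.center P) := by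
  classical
  set Zb := Subgroup.center (P ⧸ N) with hZb
  let pw : Zb →* Zb :=
    { toFun := fun z => z ^ p
      map_one' := one_pow p
      map_mul' := fun a b => by
        have hab : Commute a b := Subtype.ext (Subgroup.mem_center_iff.mp b.2 (a : P ⧸ N))
        exact hab.mul_pow p }
  have hpw : ∀ z : Zb, pw z = z ^ p := fun z => rfl
  have h1 : Nat.card pw.ker * Nat.card pw.range = Nat.card Zb := by
    rw [← Subgroup.index_ker]
    exact Subgroup.card_mul_index pw.ker
  have h2 : Nat.card pw.ker ≤ p := by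
    haveI : Fintype Zb := Fintype.ofFinite _
    have h3 := IsCyclic.card_pow_eq_one_le (α := Zb) hp.out.pos
    have h4 : Nat.card pw.ker = (Finset.univ.filter (fun a : Zb => a ^ p = 1)).card := by
      rw [Nat.card_eq_fintype_card, Fintype.card_subtype]
      congr 1
      ext x
      simp only [Finset.mem_filter, Finset.mem_univ, true_and, MonoidHom.mem_ker, hpw]
    rw [h4]
    exact h3
  set M := (Subgroup.center P).map (QuotientGroup.mk' N) with hM
  have h5 : pw.range.map Zb.subtype ≤ M := by
    rintro _ ⟨_, ⟨z, rfl⟩, rfl⟩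
    obtain ⟨a, ha⟩ := QuotientGroup.mk_surjective (z : P ⧸ N)
    have hcomm : ∀ x : P, ⁅x, a⁆ ∈ N := by
      intro x
      rw [← QuotientGroup.eq_one_iff]
      have : ((⁅x, a⁆ : P) : P ⧸ N) = ⁅(x : P ⧸ N), (a : P ⧸ N)⁆ := by
        simp [commutatorElement_def]
      rw [this, ha, commutatorElement_eq_one_iff_commute]
      exact (Subgroup.mem_center_iff.mp z.2 (x : P ⧸ N))
    have hap := pow_mem_center_of_commutator_mem p N hN hNp a hcomm
    refine ⟨a ^ p, hap, ?_⟩
    change ((a ^ p : P) : P ⧸ N) = ((z ^ p : Zb) : P ⧸ N)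
    rw [QuotientGroup.mk_pow, ha]
    rfl
  have h6 : Nat.card pw.range ≤ Nat.card M := by
    rw [← Subgroup.card_map_of_injective (Subgroup.subtype_injective Zb)]
    exact Subgroup.card_le_of_le h5
  have h7 : Nat.card (Subgroup.center P) = Nat.card N * Nat.card M := by
    set φ := (QuotientGroup.mk' N).domRestrict (Subgroup.center P) with hφ
    have h8 : Nat.card φ.ker * Nat.card φ.range = Nat.card (Subgroup.center P) := by
      rw [← Subgroup.index_ker]
      exact Subgroup.card_mul_index φ.ker
    rw [← h8, hφ, MonoidHom.domRestrict_range, MonoidHom.ker_domRestrict, QuotientGroup.ker_mk']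
    congr 1
    exact Nat.card_congr (Subgroup.subgroupOfEquivOfLe hN).toEquiv
  calc Nat.card Zb = Nat.card pw.ker * Nat.card pw.range := h1.symm
    _ ≤ p * Nat.card M := Nat.mul_le_mul h2 h6
    _ = Nat.card (Subgroup.center P) := by rw [h7, hNp]


end Cfsg.Agent.Lib.Helper79
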