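import Mathlib
import Cfsg.Prelude.Def_ClassicalGeometry
import Cfsg.Prelude.Def_GeometricClasses
import Cfsg.Agent.Lib.Helper8.CartanDieudonne2
import Cfsg.Agent.Lib.Helper8.OrthForms
import Cfsg.Agent.Lib.Helper8.OrthFormsMinus
import Cfsg.Agent.Lib.Helper43.ZeroCount

/-! # Isometries of odd order lie in `Ω`, in every characteristic (helper79)

The isometry group of a nondegenerate quadratic form over a finite field is generated by
reflections (Cartan–Dieudonné, helper8, all characteristics, `O⁺₄(2)` excluded); reflections are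
involutions, so the abelianisation has exponent two and every element of odd order is a
commutator product.  Concrete versions for `quadFormPlus` and `quadFormMinus`. -/

set_option autoImplicit false
set_option linter.unusedSectionVars false
set_option linter.style.haveILetI false

namespace Cfsg.Agent.Lib.Helper79.OmegaOddAny

open Cfsg.Agent.Lib.Helper8

/-- in a group generated by involutions every square is in the commutator subgroup -/
theorem sq_mem_commutator_of_closure {G : Type*} [Group G] (S : Set G) (hS : ∀ s ∈ S, s * s = 1)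
    (hgen : Subgroup.closure S = ⊤) (g : G) : g * g ∈ commutator G := by
  have hab : ∀ a : Abelianization G, a * a = 1 := by
    intro a
    obtain ⟨x, rfl⟩ : ∃ x : G, Abelianization.of x = a := QuotientGroup.mk_surjective a
    have hx : x ∈ Subgroup.closure S := by rw [hgen]; trivial
    induction hx using Subgroup.closure_induction with
    | mem s hs => rw [← map_mul, hS s hs, map_one]
    | one => simp
    | mul x y _ _ hx hy =>
      rw [map_mul]
      calc Abelianization.of x * Abelianization.of y * (Abelianization.of x * Abelianization.of y)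
          = (Abelianization.of x * Abelianization.of x) *
            (Abelianization.of y * Abelianization.of y) := by
            rw [mul_mul_mul_comm]
        _ = 1 := by rw [hx, hy, one_mul]
    | inv x _ hx =>
      rw [map_inv, ← mul_inv, hx, inv_one]
  have h1 : Abelianization.of (g * g) = 1 := by rw [map_mul]; exact hab _
  rwa [← MonoidHom.mem_ker, Abelianization.ker_of] at h1

/-- in a group generated by involutions every element of odd order is in the commutator subgroup -/
theorem mem_commutator_of_odd {G : Type*} [Group G] (S : Set G) (hS : ∀ s ∈ S, s * s = 1)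
    (hgen : Subgroup.closure S = ⊤) (g : G) (n : ℕ) (hn : Odd n) (hgn : g ^ n = 1) :
    g ∈ commutator G := by
  have hsq := sq_mem_commutator_of_closure S hS hgen g
  obtain ⟨k, hk⟩ := hn
  have hg : g = (g * g) ^ (k + 1) := by
    rw [← pow_two, ← pow_mul]
    have h2 : 2 * (k + 1) = n + 1 := by omega
    rw [h2, pow_succ, hgn, one_mul]
  rw [hg]
  exact Subgroup.pow_mem _ hsq _

variable {ι : Type} [Fintype ι] [DecidableEq ι] {F : Type*} [Field F]

/-- **Odd order isometries lie in `Ω`**, any characteristic. -/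
theorem mem_Omega_of_odd [Fintype F] (Q : QuadraticForm F (ι → F))
    (hQ : (QuadraticMap.polarBilin Q).Nondegenerate)
    (hcard : Fintype.card F ≠ 2 ∨ Module.finrank F (ι → F) ≠ 4)
    (g : ↥(Cfsg.isometryGroup F (⇑Q))) (n : ℕ) (hn : Odd n) (hgn : g ^ n = 1) :
    g ∈ Cfsg.Omega F (⇑Q) := by
  refine mem_commutator_of_odd (reflSet Q) ?_ (closure_reflSet_eq_top' Q hQ hcard) g n hn hgn
  intro s hs
  have := inv_mem_reflSet Q s hs
  calc s * s = s⁻¹ * s := by rw [this]
    _ = 1 := inv_mul_cancel s

/-- the `GL` version -/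
theorem mem_omegaGL_of_odd [Fintype F] (Q : QuadraticForm F (ι → F))
    (hQ : (QuadraticMap.polarBilin Q).Nondegenerate)
    (hcard : Fintype.card F ≠ 2 ∨ Module.finrank F (ι → F) ≠ 4)
    (x : GL ι F) (hx : x ∈ Cfsg.isometryGroup F (⇑Q)) (n : ℕ) (hn : Odd n) (hxn : x ^ n = 1) :
    x ∈ Cfsg.Geo.omegaGL (⇑Q) := by
  have hmem : (⟨x, hx⟩ : ↥(Cfsg.isometryGroup F (⇑Q))) ∈ Cfsg.Omega F (⇑Q) := by
    refine mem_Omega_of_odd Q hQ hcard ⟨x, hx⟩ n hn ?_
    apply Subtype.ext
    rw [Subgroup.coe_pow, Subgroup.coe_one]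
    exact hxn
  exact ⟨⟨x, hx⟩, hmem, rfl⟩

/-- plus type, `d ≥ 3`, any finite field -/
theorem mem_omegaGL_plus_of_odd [Fintype F] (d : ℕ) (hd : 3 ≤ d)
    (x : GL (Fin d ⊕ Fin d) F) (hx : x ∈ Cfsg.isometryGroup F (Cfsg.quadFormPlus d F))
    (n : ℕ) (hn : Odd n) (hxn : x ^ n = 1) :
    x ∈ Cfsg.Geo.omegaGL (Cfsg.quadFormPlus d F) := by
  rw [plusForm_coe] at hx ⊢
  refine mem_omegaGL_of_odd (plusForm d F) (plusForm_nondegenerate d F) (Or.inr ?_) x hx n hn hxn
  rw [Module.finrank_pi]
  simp
  omega

/-- minus type, `d ≥ 2` (dimension `2 d + 2`), any finite field -/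
theorem mem_omegaGL_minus_of_odd [Fintype F] (d : ℕ) (hd : 2 ≤ d) (a b : F)
    (hab : ∀ z₁ z₂ : F, z₁ ^ 2 + a * z₁ * z₂ + b * z₂ ^ 2 = 0 → z₁ = 0 ∧ z₂ = 0)
    (x : GL ((Fin d ⊕ Fin d) ⊕ Fin 2) F)
    (hx : x ∈ Cfsg.isometryGroup F (Cfsg.quadFormMinus d F a b))
    (n : ℕ) (hn : Odd n) (hxn : x ^ n = 1) :
    x ∈ Cfsg.Geo.omegaGL (Cfsg.quadFormMinus d F a b) := by
  rw [minusForm_coe] at hx ⊢
  refine mem_omegaGL_of_odd (minusForm d F a b)
    (Cfsg.Agent.Lib.Helper43.ZeroCount.minusForm_nondeg F a b hab d) (Or.inr ?_) x hx n hn hxn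
  rw [Module.finrank_pi]
  simp
  omega

end Cfsg.Agent.Lib.Helper79.OmegaOddAny
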