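import Mathlib
import Cfsg.Prelude.Def_Characters
import Cfsg.Agent.Lib.Helper74.FS5
import Cfsg.Agent.Lib.Helper3.Eigen

set_option autoImplicit false
set_option linter.unusedSectionVars false
set_option linter.style.haveILetI false

namespace Cfsg.Agent.Lib.Helper79

open Cfsg Matrix Cfsg.Agent.Lib.Helper74
open scoped ComplexConjugate

section
variable {n m : ℕ}

/-- Trace of an endomorphism of a space of rectangular matrices. -/
theorem trace_rect_end (f : Matrix (Fin n) (Fin m) ℂ →ₗ[ℂ] Matrix (Fin n) (Fin m) ℂ) :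
    LinearMap.trace ℂ _ f = ∑ i, ∑ j, f (Matrix.single i j 1) i j := by
  rw [LinearMap.trace_eq_matrix_trace ℂ (Matrix.stdBasis ℂ (Fin n) (Fin m)) f]
  rw [Matrix.trace, Fintype.sum_prod_type]
  apply Finset.sum_congr rfl
  intro i _
  apply Finset.sum_congr rfl
  intro j _
  rw [Matrix.diag_apply, LinearMap.toMatrix_apply, Matrix.stdBasis_eq_single]
  rfl

/-- The operator `B ↦ X B Y` on rectangular matrices. -/
def sandwichR (X : Matrix (Fin n) (Fin n) ℂ) (Y : Matrix (Fin m) (Fin m) ℂ) :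
    Matrix (Fin n) (Fin m) ℂ →ₗ[ℂ] Matrix (Fin n) (Fin m) ℂ where
  toFun B := X * B * Y
  map_add' := by intros; simp [Matrix.mul_add, Matrix.add_mul]
  map_smul' := by intros; simp

theorem sandwichR_apply (X : Matrix (Fin n) (Fin n) ℂ) (Y : Matrix (Fin m) (Fin m) ℂ)
    (B : Matrix (Fin n) (Fin m) ℂ) : sandwichR X Y B = X * B * Y := rfl

theorem sandwichR_single_apply (X : Matrix (Fin n) (Fin n) ℂ) (Y : Matrix (Fin m) (Fin m) ℂ)
    (i : Fin n) (j : Fin m) (k : Fin n) (l : Fin m) :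
    (X * Matrix.single i j (1 : ℂ) * Y : Matrix (Fin n) (Fin m) ℂ) k l = X k i * Y j l := by
  rw [Matrix.mul_apply]
  simp only [Matrix.mul_apply, Matrix.single_apply]
  simp [Finset.sum_ite_eq, Finset.sum_ite_eq', ite_and, mul_ite]

theorem trace_sandwichR (X : Matrix (Fin n) (Fin n) ℂ) (Y : Matrix (Fin m) (Fin m) ℂ) :
    LinearMap.trace ℂ _ (sandwichR X Y) = X.trace * Y.trace := by
  rw [trace_rect_end]
  simp only [sandwichR_apply, sandwichR_single_apply]
  rw [Matrix.trace, Matrix.trace, Finset.sum_mul_sum]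
  rfl

end

section
variable {H : Type*} [Group H] [Fintype H] {n m : ℕ} (τ : Representation ℂ H (Fin n → ℂ))
  (σ : Representation ℂ H (Fin m → ℂ))

/-- The space of intertwiners from `σ` to `τ`, as matrices. -/
def interSp : Submodule ℂ (Matrix (Fin n) (Fin m) ℂ) where
  carrier := {A | ∀ h, repMat τ h * A = A * repMat σ h}
  add_mem' := by
    intro A B hA hB h
    rw [Matrix.mul_add, Matrix.add_mul, hA h, hB h]
  zero_mem' := by
    intro h
    simp
  smul_mem' := by
    intro c A hA h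
    rw [Matrix.mul_smul, Matrix.smul_mul, hA h]

theorem mem_interSp (A : Matrix (Fin n) (Fin m) ℂ) :
    A ∈ interSp τ σ ↔ ∀ h, repMat τ h * A = A * repMat σ h := Iff.rfl

/-- The averaging projection onto the intertwiners. -/
noncomputable def avgHom : Matrix (Fin n) (Fin m) ℂ →ₗ[ℂ] Matrix (Fin n) (Fin m) ℂ :=
  (Nat.card H : ℂ)⁻¹ • ∑ h : H, sandwichR (repMat τ h) (repMat σ h⁻¹)

theorem avgHom_apply (B : Matrix (Fin n) (Fin m) ℂ) :
    avgHom τ σ B = (Nat.card H : ℂ)⁻¹ • ∑ h : H, repMat τ h * B * repMat σ h⁻¹ := by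
  unfold avgHom
  rw [LinearMap.smul_apply, LinearMap.sum_apply]
  rfl

theorem avgHom_mem (B : Matrix (Fin n) (Fin m) ℂ) : avgHom τ σ B ∈ interSp τ σ := by
  rw [mem_interSp]
  intro k
  rw [avgHom_apply, Matrix.mul_smul, Matrix.smul_mul]
  congr 1
  rw [Matrix.mul_sum, Matrix.sum_mul]
  rw [← Fintype.sum_equiv (Equiv.mulLeft k⁻¹)
    (fun h => repMat τ k * (repMat τ (k⁻¹ * h) * B * repMat σ (k⁻¹ * h)⁻¹))
    (fun h => repMat τ k * (repMat τ h * B * repMat σ h⁻¹)) (fun h => rfl)]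
  apply Finset.sum_congr rfl
  intro h _
  rw [_root_.mul_inv_rev, inv_inv, repMat_mul, repMat_mul]
  simp only [← Matrix.mul_assoc]
  rw [repMat_mul_inv, Matrix.one_mul]

theorem avgHom_of_mem {A : Matrix (Fin n) (Fin m) ℂ} (hA : A ∈ interSp τ σ) :
    avgHom τ σ A = A := by
  have h1 : ∀ h : H, repMat τ h * A * repMat σ h⁻¹ = A := by
    intro h
    rw [hA h, Matrix.mul_assoc, repMat_mul_inv, Matrix.mul_one]
  rw [avgHom_apply, Finset.sum_congr rfl (fun h _ => h1 h), Finset.sum_const, Finset.card_univ,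
    ← Nat.card_eq_fintype_card, ← Nat.cast_smul_eq_nsmul ℂ, smul_smul,
    inv_mul_cancel₀ card_ne_zero_complex, one_smul]

theorem avgHom_isProj : LinearMap.IsProj (interSp τ σ) (avgHom τ σ) :=
  ⟨avgHom_mem τ σ, fun _ hA => avgHom_of_mem τ σ hA⟩

theorem finrank_interSp :
    (Module.finrank ℂ (interSp τ σ) : ℂ) = classInner τ.character σ.character := by
  rw [← (avgHom_isProj τ σ).trace]
  unfold avgHom classInner
  rw [map_smul, map_sum, smul_eq_mul]
  congr 1
  apply Finset.sum_congr rfl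
  intro h _
  rw [trace_sandwichR, trace_repMat, trace_repMat, Cfsg.Agent.Lib.Helper3.character_inv]

theorem trace_mul_single' (Y : Matrix (Fin m) (Fin n) ℂ) (i : Fin m) (j : Fin n) :
    (Y * Matrix.single j i (1 : ℂ)).trace = Y i j := by
  rw [Matrix.trace]
  simp only [Matrix.diag_apply, Matrix.mul_apply, Matrix.single_apply]
  simp [Finset.sum_ite_eq, Finset.sum_ite_eq', ite_and, mul_ite]

/-- The multiplicity of an orthogonal-type irreducible in a representation carrying an invariant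
nondegenerate alternating form is not one. -/
theorem classInner_ne_one_of_skew (hσ : σ.IsIrreducible)
    {M₀ : Matrix (Fin n) (Fin n) ℂ} (hM₀ : M₀ ∈ invForms τ) (hM₀s : M₀ᵀ = -M₀)
    (hM₀d : M₀.det ≠ 0)
    {S₀ : Matrix (Fin m) (Fin m) ℂ} (hS₀ : S₀ ∈ invForms σ) (hS₀s : S₀ᵀ = S₀) (hS₀0 : S₀ ≠ 0)
    (hspan : ∀ M ∈ invForms σ, ∃ a : ℂ, M = a • S₀) :
    classInner τ.character σ.character ≠ 1 := by
  intro h1
  have hfr : Module.finrank ℂ (interSp τ σ) = 1 := by
    have := finrank_interSp τ σ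
    rw [h1] at this
    exact_mod_cast this
  obtain ⟨v, hv0, hv⟩ := finrank_eq_one_iff'.mp hfr
  set A : Matrix (Fin n) (Fin m) ℂ := v.1 with hAdef
  have hA : A ∈ interSp τ σ := v.2
  have hA0 : A ≠ 0 := by
    intro h
    apply hv0
    exact Subtype.ext h
  have hspanE : ∀ B ∈ interSp τ σ, ∃ b : ℂ, B = b • A := by
    intro B hB
    obtain ⟨c, hc⟩ := hv ⟨B, hB⟩
    exact ⟨c, (congrArg Subtype.val hc).symm⟩
  have hS₀d : S₀.det ≠ 0 := det_ne_zero_of_mem_invForms σ hσ hS₀ hS₀0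
  have huM : IsUnit M₀.det := isUnit_iff_ne_zero.mpr hM₀d
  have huS : IsUnit S₀.det := isUnit_iff_ne_zero.mpr hS₀d
  -- the form on the intertwiners
  have hform : Aᵀ * M₀ * A ∈ invForms σ := by
    intro h
    have e1 : A * repMat σ h = repMat τ h * A := (hA h).symm
    calc (repMat σ h)ᵀ * (Aᵀ * M₀ * A) * repMat σ h
        = (A * repMat σ h)ᵀ * M₀ * (A * repMat σ h) := by
          rw [Matrix.transpose_mul]
          simp only [Matrix.mul_assoc]
      _ = (repMat τ h * A)ᵀ * M₀ * (repMat τ h * A) := by rw [e1]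
      _ = Aᵀ * ((repMat τ h)ᵀ * M₀ * repMat τ h) * A := by
          rw [Matrix.transpose_mul]
          simp only [Matrix.mul_assoc]
      _ = Aᵀ * M₀ * A := by rw [hM₀ h]
  obtain ⟨a, ha⟩ := hspan _ hform
  have hzero : Aᵀ * M₀ * A = 0 := by
    have ht := congrArg Matrix.transpose ha
    rw [Matrix.transpose_mul, Matrix.transpose_mul, Matrix.transpose_transpose, hM₀s,
      Matrix.transpose_smul, hS₀s, Matrix.neg_mul, Matrix.mul_neg, ← Matrix.mul_assoc, ha] at ht
    have h2 : (2 * a) • S₀ = 0 := by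
      have : a • S₀ + a • S₀ = 0 := by
        nth_rewrite 1 [← ht]
        simp
      rw [two_mul, add_smul]
      exact this
    rcases smul_eq_zero.mp h2 with h3 | h3
    · have : a = 0 := by
        have h4 : (2 : ℂ) ≠ 0 := two_ne_zero
        exact (mul_eq_zero.mp h3).resolve_left h4
      rw [ha, this, zero_smul]
    · exact absurd h3 hS₀0
  -- the adjoint intertwiner
  set X : Matrix (Fin m) (Fin n) ℂ := Aᵀ * M₀ with hX
  have hX0 : X ≠ 0 := by
    intro h
    apply hA0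
    have h2 : Aᵀ = X * M₀⁻¹ := by
      rw [hX, Matrix.mul_assoc, Matrix.mul_nonsing_inv M₀ huM, Matrix.mul_one]
    rw [h, Matrix.zero_mul] at h2
    have h3 := congrArg Matrix.transpose h2
    rwa [Matrix.transpose_transpose, Matrix.transpose_zero] at h3
  set Y : Matrix (Fin m) (Fin n) ℂ := S₀⁻¹ * X with hY
  have hY0 : Y ≠ 0 := by
    intro h
    apply hX0
    have h2 : X = S₀ * Y := by
      rw [hY, ← Matrix.mul_assoc, Matrix.mul_nonsing_inv S₀ huS, Matrix.one_mul]
    rw [h2, h, Matrix.mul_zero]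
  obtain ⟨i, j, hij⟩ : ∃ i j, Y i j ≠ 0 := by
    by_contra hcon
    push Not at hcon
    apply hY0
    ext i j
    exact hcon i j
  -- `Y` intertwines
  have hYint : ∀ h : H, Y * repMat τ h = repMat σ h * Y := by
    intro h
    have e1 : M₀ * repMat τ h = (repMat τ h⁻¹)ᵀ * M₀ := form_mul_repMat τ hM₀ h
    have e2 : (repMat τ h⁻¹ * A)ᵀ = (A * repMat σ h⁻¹)ᵀ := by rw [hA h⁻¹]
    have e3 : S₀ * repMat σ h = (repMat σ h⁻¹)ᵀ * S₀ := form_mul_repMat σ hS₀ h
    have e4 : S₀⁻¹ * (repMat σ h⁻¹)ᵀ = repMat σ h * S₀⁻¹ := by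
      have : S₀⁻¹ * (S₀ * repMat σ h) * S₀⁻¹ = S₀⁻¹ * ((repMat σ h⁻¹)ᵀ * S₀) * S₀⁻¹ := by rw [e3]
      rw [← Matrix.mul_assoc, Matrix.nonsing_inv_mul S₀ huS, Matrix.one_mul] at this
      rw [this]
      simp only [Matrix.mul_assoc]
      rw [Matrix.mul_nonsing_inv S₀ huS, Matrix.mul_one]
    calc Y * repMat τ h = S₀⁻¹ * (Aᵀ * (M₀ * repMat τ h)) := by
          rw [hY, hX]
          simp only [Matrix.mul_assoc]
      _ = S₀⁻¹ * ((repMat τ h⁻¹ * A)ᵀ * M₀) := by
          rw [e1, Matrix.transpose_mul]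
          simp only [Matrix.mul_assoc]
      _ = S₀⁻¹ * ((A * repMat σ h⁻¹)ᵀ * M₀) := by rw [e2]
      _ = (S₀⁻¹ * (repMat σ h⁻¹)ᵀ) * (Aᵀ * M₀) := by
          rw [Matrix.transpose_mul]
          simp only [Matrix.mul_assoc]
      _ = repMat σ h * Y := by
          rw [e4, hY, hX]
          simp only [Matrix.mul_assoc]
  set B₀ : Matrix (Fin n) (Fin m) ℂ := Matrix.single j i 1 with hB₀
  obtain ⟨b, hb⟩ := hspanE _ (avgHom_mem τ σ B₀)
  have hXB : X * avgHom τ σ B₀ = 0 := by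
    rw [hb, Matrix.mul_smul, hX, hzero, smul_zero]
  have hYB : Y * avgHom τ σ B₀ = 0 := by
    rw [hY, Matrix.mul_assoc, hXB, Matrix.mul_zero]
  have htr : (Y * avgHom τ σ B₀).trace = Y i j := by
    rw [avgHom_apply, Matrix.mul_smul, Matrix.trace_smul, Matrix.mul_sum, Matrix.trace_sum]
    have h2 : ∀ h : H, (Y * (repMat τ h * B₀ * repMat σ h⁻¹)).trace = Y i j := by
      intro h
      have : Y * (repMat τ h * B₀ * repMat σ h⁻¹) = repMat σ h * (Y * B₀ * repMat σ h⁻¹) := by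
        rw [← Matrix.mul_assoc, ← Matrix.mul_assoc, hYint h]
        simp only [Matrix.mul_assoc]
      rw [this, Matrix.trace_mul_comm, Matrix.mul_assoc, repMat_inv_mul, Matrix.mul_one, hB₀,
        trace_mul_single']
    rw [Finset.sum_congr rfl (fun h _ => h2 h), Finset.sum_const, Finset.card_univ,
      ← Nat.card_eq_fintype_card, nsmul_eq_mul, smul_eq_mul, ← mul_assoc,
      inv_mul_cancel₀ card_ne_zero_complex, one_mul]
  rw [hYB, Matrix.trace_zero] at htr
  exact hij htr.symm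

end

end Cfsg.Agent.Lib.Helper79
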