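import Mathlib
import Cfsg.Prelude.Def_ClassicalGeometry
import Cfsg.Prelude.Def_GeometricClasses
import Cfsg.Agent.Lib.Helper43.OddOrthPrime
import Cfsg.Agent.Lib.Helper8.OrthForms

/-! # Qe hive (S5988), leaf QE-ODDMEM (helper79)

An isometry of odd prime order `r ≠ p` of a nondegenerate quadratic form over a finite field (ANY
characteristic, ANY dimension) lies in `Ω`: it has the characteristic polynomial of its inverse
(`x⁻¹ = G⁻¹ xᵀ G`), so it is conjugate to its inverse in the isometry group (helper43), hence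
`x⁻² = ⁅s, x⁆ ∈ Ω` and `x = (x²)^((r+1)/2)`. -/

set_option autoImplicit false
set_option linter.unusedSectionVars false
set_option linter.style.haveILetI false

namespace Cfsg.Agent.Lib.Helper65.Qe

open Matrix
open Cfsg.Agent.Lib.Helper43.OddOrth

variable {F : Type*} [Field F] {κ : Type} [Fintype κ] [DecidableEq κ]

/-- an isometry and its inverse have the same characteristic polynomial -/
theorem oddmem_charpoly_inv (Q : QuadraticForm F (κ → F))
    (hQ : (QuadraticMap.polarBilin Q).Nondegenerate) (a : ↥(Cfsg.isometryGroup F (⇑Q))) :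
    (mat a⁻¹).charpoly = (mat a).charpoly := by
  set B : LinearMap.BilinForm F (κ → F) := QuadraticMap.polarBilin Q with hB
  set G : Matrix κ κ F := LinearMap.BilinForm.toMatrix' B with hG
  set A : Matrix κ κ F := mat a with hA
  have hiso : B.comp (Matrix.toLin' A) (Matrix.toLin' A) = B := by
    refine LinearMap.ext fun u => LinearMap.ext fun v => ?_
    rw [LinearMap.BilinForm.comp_apply]
    change QuadraticMap.polar Q (Matrix.toLin' A u) (Matrix.toLin' A v) = QuadraticMap.polar Q u v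
    unfold QuadraticMap.polar
    rw [← map_add, Matrix.toLin'_apply, Matrix.toLin'_apply, Matrix.toLin'_apply,
      mat_preserves a, mat_preserves a, mat_preserves a]
  have hGA : Aᵀ * G * A = G := by
    have h := congrArg LinearMap.BilinForm.toMatrix' hiso
    rw [LinearMap.BilinForm.toMatrix'_comp, LinearMap.toMatrix'_toLin'] at h
    exact h
  have hGdet : G.det ≠ 0 := by
    have h1 : G.Nondegenerate := (LinearMap.BilinForm.nondegenerate_toMatrix'_iff).mpr hQ
    exact Matrix.nondegenerate_iff_det_ne_zero.mp h1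
  have hGu : IsUnit G.det := isUnit_iff_ne_zero.mpr hGdet
  have hAinv : A * mat a⁻¹ = 1 := mat_mul_inv a
  -- `mat a⁻¹ = G⁻¹ * Aᵀ * G`
  have hinv : mat a⁻¹ = G⁻¹ * Aᵀ * G := by
    have h1 : G⁻¹ * Aᵀ * G * A = 1 := by
      rw [Matrix.mul_assoc, Matrix.mul_assoc, ← Matrix.mul_assoc Aᵀ, hGA,
        Matrix.nonsing_inv_mul _ hGu]
    have h2 : G⁻¹ * Aᵀ * G = G⁻¹ * Aᵀ * G * (A * mat a⁻¹) := by rw [hAinv, Matrix.mul_one]
    rw [h2, ← Matrix.mul_assoc, h1, Matrix.one_mul]
  rw [hinv, Matrix.mul_assoc, Matrix.charpoly_mul_comm, Matrix.mul_assoc,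
    Matrix.mul_nonsing_inv _ hGu, Matrix.mul_one, Matrix.charpoly_transpose]

variable [Fintype F]

/-- an isometry of odd prime order `r ≠ p` is in `Ω` (subtype version) -/
theorem oddmem_mem_Omega {p : ℕ} [Fact p.Prime] [CharP F p] (Q : QuadraticForm F (κ → F))
    (hQ : (QuadraticMap.polarBilin Q).Nondegenerate) (r : ℕ) [hr : Fact r.Prime] (hr2 : r ≠ 2)
    (hrp : r ≠ p) (a : ↥(Cfsg.isometryGroup F (⇑Q))) (har : a ^ r = 1) :
    a ∈ Cfsg.Omega F (⇑Q) := by
  by_cases ha1 : a = 1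
  · rw [ha1]; exact Subgroup.one_mem _
  have hord : orderOf a = r := orderOf_eq_prime har ha1
  have hordi : orderOf a⁻¹ = r := by rw [orderOf_inv, hord]
  have hodd : Odd r := hr.out.odd_of_ne_two hr2
  have hcop : r.Coprime p := (Nat.coprime_primes hr.out (Fact.out : p.Prime)).mpr hrp
  have hconj : IsConj a a⁻¹ :=
    isConj_isom_of_charpoly p (⇑Q) Q rfl hQ a a⁻¹ (hord ▸ hodd) (hord ▸ hcop) (hordi ▸ hcop)
      (oddmem_charpoly_inv Q hQ a).symm
  rw [isConj_iff] at hconj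
  obtain ⟨c, hc⟩ := hconj
  -- `⁅c, a⁆ = a⁻¹ * a⁻¹`
  have hsq : a⁻¹ * a⁻¹ ∈ commutator ↥(Cfsg.isometryGroup F (⇑Q)) := by
    have h := Subgroup.commutator_mem_commutator (H₁ := ⊤) (H₂ := ⊤) (Subgroup.mem_top c)
      (Subgroup.mem_top a)
    rw [commutatorElement_def, hc] at h
    exact h
  have hsq' : a * a ∈ commutator ↥(Cfsg.isometryGroup F (⇑Q)) := by
    have := Subgroup.inv_mem _ hsq
    rwa [_root_.mul_inv_rev, inv_inv] at this
  obtain ⟨k, hk⟩ := hodd
  have hg : a = (a * a) ^ (k + 1) := by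
    rw [← pow_two, ← pow_mul]
    have h2 : 2 * (k + 1) = r + 1 := by omega
    rw [h2, pow_succ, har, one_mul]
  rw [hg]
  exact Subgroup.pow_mem _ hsq' _

/-- QE-ODDMEM (ALL `q`): an isometry of `quadFormPlus d` of odd prime order `r ≠ p` lies in `Ω`. -/
theorem mem_omegaGL_of_pow_eq_one {p : ℕ} [Fact p.Prime] [CharP F p] (d : ℕ) (r : ℕ)
    [Fact r.Prime] (hr2 : r ≠ 2) (hrp : r ≠ p) (x : GL (Fin d ⊕ Fin d) F)
    (hx : x ∈ Cfsg.isometryGroup F (Cfsg.quadFormPlus d F)) (hxr : x ^ r = 1) :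
    x ∈ Cfsg.Geo.omegaGL (Cfsg.quadFormPlus d F) := by
  rw [Cfsg.Agent.Lib.Helper8.plusForm_coe] at hx ⊢
  have hmem : (⟨x, hx⟩ : ↥(Cfsg.isometryGroup F (⇑(Cfsg.Agent.Lib.Helper8.plusForm d F)))) ∈
      Cfsg.Omega F (⇑(Cfsg.Agent.Lib.Helper8.plusForm d F)) := by
    refine oddmem_mem_Omega (Cfsg.Agent.Lib.Helper8.plusForm d F)
      (Cfsg.Agent.Lib.Helper8.plusForm_nondegenerate d F) r hr2 hrp ⟨x, hx⟩ ?_
    apply Subtype.ext
    rw [Subgroup.coe_pow, Subgroup.coe_one]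
    exact hxr
  exact ⟨⟨x, hx⟩, hmem, rfl⟩

end Cfsg.Agent.Lib.Helper65.Qe
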