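import Cfsg.Agent.Lib.Helper2.G2oDefs

/-! # G2o hive (S4278, architect helper2): leaf G2O-REDID `redid` (helper79) -/

set_option autoImplicit false
set_option linter.unusedSectionVars false
set_option linter.unusedVariables false

namespace Cfsg.Agent.Lib.Helper2.G2o

open Cfsg Cfsg.Lie Cfsg.Agent.Lib.Helper36 Cfsg.Agent.Lib.Helper20.G2c

variable (F : Type*) [Field F]

theorem redid_invol : ∀ i < 2, ∀ r < 12, chevG2.reflectRoot i (chevG2.reflectRoot i r) = r ∧
    chevG2.reflectRoot i r < 12 ∧ (nEta chevG2 i (chevG2.reflectRoot i r) = 1 ∨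
      nEta chevG2 i (chevG2.reflectRoot i r) = -1) := by decide +kernel

/-- `n_p x_s(u) n_p⁻¹ = x_{w_p s}(η u)` -/
theorem redid_nconj (i s : ℕ) (hi : i < 2) (hs : s < 12)
    (hη : nEta chevG2 i s = 1 ∨ nEta chevG2 i s = -1) (u : F) :
    nGL chevG2 hG2 F (chevG2.simple i) 1 * xg F s u * (nGL chevG2 hG2 F (chevG2.simple i) 1)⁻¹ =
      xg F (chevG2.reflectRoot i s) (((nEta chevG2 i s : ℤ) : F) * u) := by
  have h := xGL_reflect chevG2 hG2 F i s hi hs (((nEta chevG2 i s : ℤ) : F) * u)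
  have e : ((nEta chevG2 i s : ℤ) : F) * (((nEta chevG2 i s : ℤ) : F) * u) = u := by
    rcases hη with h1 | h1 <;> rw [h1] <;> simp
  rw [e] at h
  exact h.symm

/-- G2O-REDID -/
theorem redid (i : ℕ) (hi : i < 2) (n : GL chevG2.Idx F) (h : Acts F n (chevG2.reflectRoot i)) (e : F) (he : e ≠ 0) :
    Acts F (hGL chevG2 hG2 F (chevG2.simple i) e * nGL chevG2 hG2 F (chevG2.simple i) 1 * n) id := by
  intro r hr
  have hr12 : r < 12 := hr
  obtain ⟨hinv, hlt, hη⟩ := redid_invol i hi r hr12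
  obtain ⟨c, hc, hn⟩ := h r hr
  have hsi : chevG2.simple i < chevG2.nroots := by
    interval_cases i <;> decide
  refine ⟨e ^ (gc chevG2 (chevG2.simple i) r) * (((nEta chevG2 i (chevG2.reflectRoot i r) : ℤ) : F) * c), ?_, ?_⟩
  · apply mul_ne_zero (zpow_ne_zero _ he)
    apply mul_ne_zero _ hc
    rcases hη with h1 | h1 <;> rw [h1] <;> simp
  · intro t
    have e1 : hGL chevG2 hG2 F (chevG2.simple i) e * nGL chevG2 hG2 F (chevG2.simple i) 1 * n * xg F r t *
        (hGL chevG2 hG2 F (chevG2.simple i) e * nGL chevG2 hG2 F (chevG2.simple i) 1 * n)⁻¹ =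
        hGL chevG2 hG2 F (chevG2.simple i) e * (nGL chevG2 hG2 F (chevG2.simple i) 1 * (n * xg F r t * n⁻¹) *
          (nGL chevG2 hG2 F (chevG2.simple i) 1)⁻¹) * (hGL chevG2 hG2 F (chevG2.simple i) e)⁻¹ := by group
    rw [e1, hn t, redid_nconj F i _ hi hlt hη, hinv]
    have := hGL_conj_xGL chevG2 hG2 F (chevG2.simple i) r hsi hr e he
      (((nEta chevG2 i (chevG2.reflectRoot i r) : ℤ) : F) * (c * t))
    rw [id]
    unfold xg
    rw [this]
    congr 1
    ring

end Cfsg.Agent.Lib.Helper2.G2o
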