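import Cfsg.Agent.Lib.Helper20.F4cDefs

/-! # F4c hive (S2179, helper20), leaf F4C-ADIAG (helper79): a diagonal element centralising
`x_47(1) x_44(1)` lies in `QA = U ⊔ X_20 ⊔ X_22`. -/

set_option autoImplicit false
set_option linter.unusedSectionVars false
set_option linter.unusedSimpArgs false
set_option linter.unusedVariables false

namespace Cfsg.Agent.Lib.Helper20.F4c

open Cfsg Cfsg.Lie Cfsg.Agent.Lib.Helper36

variable (F : Type*) [Field F]

theorem adiag_pos_mem_QA (r : ℕ) (hr : chevF4.IsPosRoot r) (t : F) : xf F r t ∈ QA F := by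
  unfold QA
  refine Subgroup.mem_sup_left (Subgroup.mem_sup_left ?_)
  unfold ChevalleyDatum.posUnipotent
  exact Subgroup.subset_closure ⟨r, t, hr, xGL_coe chevF4 hF4 F r t⟩

theorem adiag_20_mem_QA (t : F) : xf F 20 t ∈ QA F := by
  unfold QA
  exact Subgroup.mem_sup_left (Subgroup.mem_sup_right (mem_rootSubgroup chevF4 hF4 F 20 t))

theorem adiag_22_mem_QA (t : F) : xf F 22 t ∈ QA F := by
  unfold QA
  exact Subgroup.mem_sup_right (mem_rootSubgroup chevF4 hF4 F 22 t)

theorem adiag_hGL1_mem (c : F) : hGL chevF4 hF4 F (chevF4.simple 1) c ∈ QA F := by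
  have hs : chevF4.simple 1 = 27 := by decide
  have hn : chevF4.neg 27 = 20 := by decide
  have hpos : chevF4.IsPosRoot 27 := by decide
  rw [hGL_eq, nGL_eq, nGL_eq, hs, hn]
  exact mul_mem (mul_mem (mul_mem (adiag_pos_mem_QA F 27 hpos _) (adiag_20_mem_QA F _))
    (adiag_pos_mem_QA F 27 hpos _))
    (mul_mem (mul_mem (adiag_pos_mem_QA F 27 hpos _) (adiag_20_mem_QA F _))
    (adiag_pos_mem_QA F 27 hpos _))

theorem adiag_hGL2_mem (c : F) : hGL chevF4 hF4 F (chevF4.simple 2) c ∈ QA F := by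
  have hs : chevF4.simple 2 = 25 := by decide
  have hn : chevF4.neg 25 = 22 := by decide
  have hpos : chevF4.IsPosRoot 25 := by decide
  rw [hGL_eq, nGL_eq, nGL_eq, hs, hn]
  exact mul_mem (mul_mem (mul_mem (adiag_pos_mem_QA F 25 hpos _) (adiag_22_mem_QA F _))
    (adiag_pos_mem_QA F 25 hpos _))
    (mul_mem (mul_mem (adiag_pos_mem_QA F 25 hpos _) (adiag_22_mem_QA F _))
    (adiag_pos_mem_QA F 25 hpos _))

/-- `x_47(a) x_44(b) = x_47(1) x_44(1)` forces `a = 1`, `b = 1` -/
theorem adiag_inj (a b : F) (h : xf F 47 a * xf F 44 b = xf F 47 1 * xf F 44 1) : a = 1 ∧ b = 1 := by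
  have h1 : xf F 44 (b - 1) = xf F 47 (1 - a) := by
    have e1 : xf F 44 (b - 1) = xf F 44 b * (xf F 44 1)⁻¹ := by
      unfold xf
      rw [sub_eq_add_neg, xGL_add, ← xGL_inv]
    have e2 : xf F 47 (1 - a) = (xf F 47 a)⁻¹ * xf F 47 1 := by
      unfold xf
      rw [sub_eq_add_neg, add_comm, xGL_add, ← xGL_inv]
    rw [e1, e2]
    have : xf F 44 b = (xf F 47 a)⁻¹ * (xf F 47 1 * xf F 44 1) := by
      rw [← h]; group
    rw [this]; group
  have ha : 1 - a = 0 :=
    xGL_eq_root chevF4 hF4 F 47 44 (by decide) (by decide) (by decide) (by decide +kernel) (1 - a) (b - 1) h1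
  have ha1 : a = 1 := (sub_eq_zero.1 ha).symm
  rw [ha] at h1
  have hb : b - 1 = 0 := by
    apply xGL_injective' chevF4 hF4 F 44 (by decide)
    unfold xf at h1
    rw [h1, xGL_zero, xGL_zero]
  exact ⟨ha1, sub_eq_zero.1 hb⟩

/-- F4C-ADIAG -/
theorem diag_cent_QA [CharP F 2] [Fintype F] (h : GL chevF4.Idx F) (hh : h ∈ chevF4.diagonalSubgroup F)
    (hc : h * (xf F 47 1 * xf F 44 1) = xf F 47 1 * xf F 44 1 * h) : h ∈ QA F := by
  obtain ⟨χ, hχ, e⟩ := exists_character_of_mem_diagonal chevF4 hF4 F h hh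
  obtain ⟨c, hc0, ec⟩ := exists_hProd_of_mem_diagonal chevF4 hF4 F h hh
  have h47 := diag_conj_xGL chevF4 hF4 F h χ hχ e 47 (by decide) 1
  have h44 := diag_conj_xGL chevF4 hF4 F h χ hχ e 44 (by decide) 1
  have h2 : xf F 47 ((χ 47 : F) * 1) * xf F 44 ((χ 44 : F) * 1) = xf F 47 1 * xf F 44 1 := by
    unfold xf
    rw [← h47, ← h44]
    have : h * xGL chevF4 hF4 F 47 1 * h⁻¹ * (h * xGL chevF4 hF4 F 44 1 * h⁻¹) =
        h * (xf F 47 1 * xf F 44 1) * h⁻¹ := by unfold xf; group
    rw [this, hc]; group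
  obtain ⟨hχ47, hχ44⟩ := adiag_inj F _ _ h2
  rw [mul_one] at hχ47 hχ44
  have hrange : List.range chevF4.rank = [0, 1, 2, 3] := by decide
  -- compare the diagonal entries
  have h3 : ∀ ρ (hρ : ρ < chevF4.nroots),
      (χ ρ : F) = ((List.range chevF4.rank).map fun i => c i ^ chevF4.cartan i ρ).prod := by
    intro ρ hρ
    have := congrFun (congrFun (e.symm.trans ec) (Sum.inr ⟨ρ, hρ⟩)) (Sum.inr ⟨ρ, hρ⟩)
    unfold ChevalleyDatum.charDiag hProd at this
    simpa using this
  have c47 : c 3 = 1 := by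
    have := h3 47 (by decide)
    rw [hχ47, hrange] at this
    have e0 : chevF4.cartan 0 47 = 0 := by decide
    have e1 : chevF4.cartan 1 47 = 0 := by decide
    have e2 : chevF4.cartan 2 47 = 0 := by decide
    have e3 : chevF4.cartan 3 47 = 1 := by decide
    simp only [List.map_cons, List.map_nil, List.prod_cons, List.prod_nil, e0, e1, e2, e3, zpow_zero,
      zpow_one, one_mul, mul_one] at this
    exact this.symm
  have c44 : c 0 = 1 := by
    have := h3 44 (by decide)
    rw [hχ44, hrange] at this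
    have e0 : chevF4.cartan 0 44 = 1 := by decide
    have e1 : chevF4.cartan 1 44 = 0 := by decide
    have e2 : chevF4.cartan 2 44 = 0 := by decide
    have e3 : chevF4.cartan 3 44 = 0 := by decide
    simp only [List.map_cons, List.map_nil, List.prod_cons, List.prod_nil, e0, e1, e2, e3, zpow_zero,
      zpow_one, one_mul, mul_one] at this
    exact this.symm
  -- h as a product
  have hprod : h = ((List.range chevF4.rank).map fun i => hGL chevF4 hF4 F (chevF4.simple i) (c i)).prod := by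
    apply Units.ext
    rw [ec]
    have e1 : (Units.val ((List.range chevF4.rank).map fun i => hGL chevF4 hF4 F (chevF4.simple i) (c i)).prod :
        Matrix chevF4.Idx chevF4.Idx F) =
        ((List.range chevF4.rank).map fun i => chevF4.hMat F (chevF4.simple i) (c i)).prod := by
      rw [units_val_list_prod', List.map_map]
      congr 1
    rw [e1, prod_hMat_simple chevF4 hF4 F c (fun i _ => hc0 i) chevF4.rank le_rfl]
    rfl
  have hone : ∀ i < chevF4.rank, hGL chevF4 hF4 F (chevF4.simple i) 1 = 1 := by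
    intro i hi
    apply Units.ext
    rw [hGL_coe, (hMat_all chevF4 hF4 _ (chkN2_spec chevF4 (chkN2_all chevF4 hF4) i hi).1 1 one_ne_zero).1,
      hDiag_one]
    rfl
  rw [hprod, hrange]
  simp only [List.map_cons, List.map_nil, List.prod_cons, List.prod_nil, mul_one]
  rw [c47, c44, hone 0 (by decide), hone 3 (by decide), one_mul, mul_one]
  exact mul_mem (adiag_hGL1_mem F _) (adiag_hGL2_mem F _)

end Cfsg.Agent.Lib.Helper20.F4c
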