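import Cfsg.Agent.Lib.Helper20.F4cDefs

/-! # F4c hive (S2179, helper20), leaf F4C-LCONJ (helper79): the Levi subgroup `L_{0,3}` maps
`x_39(k₁) x_45(k₂)` to elements of the same shape. -/

set_option autoImplicit false
set_option linter.unusedSectionVars false
set_option linter.unusedSimpArgs false

namespace Cfsg.Agent.Lib.Helper20.F4c

open Cfsg Cfsg.Lie Cfsg.Agent.Lib.Helper36

variable (F : Type*) [Field F]

/-- the roots of the subsystem `Φ_{0,3}` are `±p₁ = 33, 14` and `±p₄ = 24, 23` -/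
theorem lconj_inRootSub (r : ℕ) (hr : chevF4.InRootSub {0, 3} r) :
    r = 33 ∨ r = 14 ∨ r = 24 ∨ r = 23 := by
  obtain ⟨hr48, h⟩ := hr
  have h1 := h 1 (by decide) (by simp)
  have h2 := h 2 (by decide) (by simp)
  have key : ∀ r < chevF4.nroots, (chevF4.coroot.getD r #[]).getD 1 0 = 0 →
      (chevF4.coroot.getD r #[]).getD 2 0 = 0 → (r = 33 ∨ r = 14 ∨ r = 24 ∨ r = 23) := by
    decide +kernel
  exact key r hr48 h1 h2

theorem lconj_T (k₁ k₂ : F) : T F k₁ 0 0 k₂ 0 0 = xf F 39 k₁ * xf F 45 k₂ := by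
  unfold T xf
  simp only [xGL_zero, mul_one]

/-- the subgroup of the elements `l` mapping every `x_39(k₁) x_45(k₂)` to such an element, in both directions -/
def lconjN : Subgroup (GL chevF4.Idx F) where
  carrier := {l | (∀ k₁ k₂ : F, ∃ k₁' k₂' : F, l * (xf F 39 k₁ * xf F 45 k₂) * l⁻¹ = xf F 39 k₁' * xf F 45 k₂') ∧
    (∀ k₁ k₂ : F, ∃ k₁' k₂' : F, l⁻¹ * (xf F 39 k₁ * xf F 45 k₂) * l = xf F 39 k₁' * xf F 45 k₂')}
  mul_mem' := by
    rintro a b ⟨ha1, ha2⟩ ⟨hb1, hb2⟩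
    constructor
    · intro k₁ k₂
      obtain ⟨m₁, m₂, hm⟩ := hb1 k₁ k₂
      obtain ⟨n₁, n₂, hn⟩ := ha1 m₁ m₂
      refine ⟨n₁, n₂, ?_⟩
      rw [← hn, ← hm]
      group
    · intro k₁ k₂
      obtain ⟨m₁, m₂, hm⟩ := ha2 k₁ k₂
      obtain ⟨n₁, n₂, hn⟩ := hb2 m₁ m₂
      refine ⟨n₁, n₂, ?_⟩
      rw [← hn, ← hm]
      group
  one_mem' := by
    constructor
    · intro k₁ k₂; exact ⟨k₁, k₂, by group⟩
    · intro k₁ k₂; exact ⟨k₁, k₂, by group⟩
  inv_mem' := by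
    rintro a ⟨ha1, ha2⟩
    constructor
    · intro k₁ k₂
      obtain ⟨m₁, m₂, hm⟩ := ha2 k₁ k₂
      exact ⟨m₁, m₂, by rw [← hm]; group⟩
    · intro k₁ k₂
      obtain ⟨m₁, m₂, hm⟩ := ha1 k₁ k₂
      exact ⟨m₁, m₂, by rw [← hm]; group⟩

theorem lconj_diag_le : chevF4.diagonalSubgroup F ≤ lconjN F := by
  have key : ∀ h : GL chevF4.Idx F, h ∈ chevF4.diagonalSubgroup F →
      ∀ k₁ k₂ : F, ∃ k₁' k₂' : F, h * (xf F 39 k₁ * xf F 45 k₂) * h⁻¹ = xf F 39 k₁' * xf F 45 k₂' := by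
    intro h hh k₁ k₂
    obtain ⟨χ, hχ, ek⟩ := exists_character_of_mem_diagonal chevF4 hF4 F h hh
    have h39 := diag_conj_xGL chevF4 hF4 F h χ hχ ek 39 (by decide) k₁
    have h45 := diag_conj_xGL chevF4 hF4 F h χ hχ ek 45 (by decide) k₂
    refine ⟨(χ 39 : F) * k₁, (χ 45 : F) * k₂, ?_⟩
    unfold xf
    rw [← h39, ← h45]
    group
  intro h hh
  refine ⟨key h hh, ?_⟩
  intro k₁ k₂
  obtain ⟨m₁, m₂, hm⟩ := key h⁻¹ (inv_mem hh) k₁ k₂
  exact ⟨m₁, m₂, by rw [← hm, inv_inv]⟩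

theorem lconj_root_le [CharP F 2] :
    Subgroup.closure {g : GL chevF4.Idx F | ∃ (r : ℕ) (t : F), chevF4.InRootSub {0, 3} r ∧
      (g : Matrix chevF4.Idx chevF4.Idx F) = chevF4.x F r t} ≤ lconjN F := by
  rw [Subgroup.closure_le]
  rintro g ⟨r, t, hr, hg⟩
  have hg' : g = xf F r t := by
    apply Units.ext
    rw [hg]
    rfl
  have hcomm39 : ∀ (t k : F), xf F r t * xf F 39 k = xf F 39 k * xf F r t := by
    intro t k
    rcases lconj_inRootSub r hr with rfl | rfl | rfl | rfl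
    · exact comm_of_vanish chevF4 hF4 F 2 (hp2 F) 39 33 (by decide) (by decide +kernel) k t
    · exact comm_of_vanish chevF4 hF4 F 2 (hp2 F) 39 14 (by decide) (by decide +kernel) k t
    · exact comm_of_vanish chevF4 hF4 F 2 (hp2 F) 39 24 (by decide) (by decide +kernel) k t
    · exact comm_of_vanish chevF4 hF4 F 2 (hp2 F) 39 23 (by decide) (by decide +kernel) k t
  have hcomm45 : ∀ (t k : F), xf F r t * xf F 45 k = xf F 45 k * xf F r t := by
    intro t k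
    rcases lconj_inRootSub r hr with rfl | rfl | rfl | rfl
    · exact comm_of_vanish chevF4 hF4 F 2 (hp2 F) 45 33 (by decide) (by decide +kernel) k t
    · exact comm_of_vanish chevF4 hF4 F 2 (hp2 F) 45 14 (by decide) (by decide +kernel) k t
    · exact comm_of_vanish chevF4 hF4 F 2 (hp2 F) 45 24 (by decide) (by decide +kernel) k t
    · exact comm_of_vanish chevF4 hF4 F 2 (hp2 F) 45 23 (by decide) (by decide +kernel) k t
  have hc : ∀ (t k₁ k₂ : F), xf F r t * (xf F 39 k₁ * xf F 45 k₂) = (xf F 39 k₁ * xf F 45 k₂) * xf F r t := by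
    intro t k₁ k₂
    rw [← mul_assoc, hcomm39 t k₁, mul_assoc, hcomm45 t k₂, ← mul_assoc]
  rw [hg']
  constructor
  · intro k₁ k₂
    refine ⟨k₁, k₂, ?_⟩
    rw [hc t k₁ k₂, mul_assoc, mul_inv_cancel, mul_one]
  · intro k₁ k₂
    refine ⟨k₁, k₂, ?_⟩
    rw [mul_assoc, ← hc t k₁ k₂, ← mul_assoc, inv_mul_cancel, one_mul]

/-- F4C-LCONJ -/
theorem levi_conj [CharP F 2] (l : GL chevF4.Idx F) (hl : l ∈ chevF4.leviSubgroup F {0, 3}) :
    ∃ k₁ k₂ : F, l * T F 1 0 0 1 0 0 * l⁻¹ = T F k₁ 0 0 k₂ 0 0 := by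
  have hle : chevF4.leviSubgroup F {0, 3} ≤ lconjN F := by
    unfold ChevalleyDatum.leviSubgroup
    exact sup_le (lconj_diag_le F) (lconj_root_le F)
  obtain ⟨k₁, k₂, hk⟩ := (hle hl).1 1 1
  refine ⟨k₁, k₂, ?_⟩
  rw [lconj_T, lconj_T]
  exact hk

end Cfsg.Agent.Lib.Helper20.F4c
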