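import Mathlib
import Cfsg.Agent.Lib.Helper20.SuTorusDefs

/-! # S5172 leaf SU-H2 (helper79 for helper20): twisted `SL_2`-torus elements of the first half
lie in `GenP F p k`. -/

set_option autoImplicit false
set_option linter.unusedSectionVars false
set_option linter.style.haveILetI false

namespace Cfsg.Agent.Lib.Helper20.SuF

open Matrix Subgroup Cfsg.Agent.Lib.Helper20.PslF

variable {n : ℕ} {K : Type*} [Field K] [Fintype K] (F : Inv K)

theorem h2_tv_mem_LS {a b : Fin n} (hab : a ≠ b) (ha : FH a) (hb : FH b) (c : K) :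
    (tv hab c : SLn n K) ∈ (LS FH : Subgroup (SLn n K)) := by
  rw [mem_LS]
  intro x y hxy
  rw [mt_transvection, Matrix.transvection, Matrix.add_apply, Matrix.single_apply]
  rw [if_neg, add_zero]
  rintro ⟨rfl, rfl⟩
  exact hxy ⟨ha, hb⟩

theorem h2_tv_mem_PJ (k : ℕ) {a b : Fin n} (hab : a ≠ b) (hblk : b3 k a = b3 k b) (c : K) :
    (tv hab c : SLn n K) ∈ (PJ k : Subgroup (SLn n K)) := by
  rw [mem_PJ]
  intro x y hxy
  rw [mt_transvection, Matrix.transvection, Matrix.add_apply, Matrix.single_apply]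
  have hne : x ≠ y := by
    rintro rfl
    exact lt_irrefl _ hxy
  rw [Matrix.one_apply_ne hne, zero_add, if_neg]
  rintro ⟨rfl, rfl⟩
  rw [hblk] at hxy
  exact lt_irrefl _ hxy

theorem h2_theta_tv_mem (p : ℕ) [Fact p.Prime] [CharP K p] {k : ℕ} (hk : 2 * k ≤ n)
    {a b : Fin n} (hab : a ≠ b) (ha : FH a) (hb : FH b) (hblk : b3 k a = b3 k b) (c : K) :
    theta F (tv hab c : SLn n K) ∈ GenP F p k := by
  apply mem_GenP_of
  · exact theta_mem_PJ F hk (h2_tv_mem_PJ k hab hblk c)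
  · exact theta_mem F FH_disj (h2_tv_mem_LS hab ha hb c)
  · have h1 : (theta F (tv hab c : SLn n K)) ^ p = 1 := by
      rw [← theta_pow F FH_disj (h2_tv_mem_LS hab ha hb c), tv_pow, CharP.cast_eq_zero, zero_mul]
      have : (tv hab (0 : K) : SLn n K) = 1 := SpecialLinearGroup.transvection_coeff_zero hab
      rw [this, theta_one]
    have h2 : orderOf (theta F (tv hab c : SLn n K)) ∣ p ^ 1 := by
      rw [pow_one]
      exact orderOf_dvd_of_pow_eq_one h1
    obtain ⟨m, -, hm⟩ := (Nat.dvd_prime_pow (Fact.out : p.Prime)).mp h2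
    exact ⟨m, hm⟩

/-- SU-H2: twisted `SL_2`-torus elements of the first half. -/
theorem theta_diag2n_mem (p : ℕ) [Fact p.Prime] [CharP K p] {k : ℕ} (hk : 2 * k ≤ n)
    {a b : Fin n} (hab : a ≠ b) (ha : FH a) (hb : FH b) (hblk : b3 k a = b3 k b) (t : K)
    (ht : t ≠ 0) :
    theta F (SpecialLinearGroup.diag2n hab t ht : SLn n K) ∈ GenP F p k := by
  have L1 : ∀ c : K, (tv hab c : SLn n K) ∈ (LS FH : Subgroup (SLn n K)) :=
    fun c => h2_tv_mem_LS hab ha hb c
  have L2 : ∀ c : K, (tv hab.symm c : SLn n K) ∈ (LS FH : Subgroup (SLn n K)) :=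
    fun c => h2_tv_mem_LS hab.symm hb ha c
  have G1 : ∀ c : K, theta F (tv hab c : SLn n K) ∈ GenP F p k :=
    fun c => h2_theta_tv_mem F p hk hab ha hb hblk c
  have G2 : ∀ c : K, theta F (tv hab.symm c : SLn n K) ∈ GenP F p k :=
    fun c => h2_theta_tv_mem F p hk hab.symm hb ha hblk.symm c
  rw [diag2n_eq_six]
  have M2 := mul_mem (L1 t) (L2 (-t⁻¹))
  have M3 := mul_mem M2 (L1 t)
  have M4 := mul_mem M3 (L1 (-1))
  have M5 := mul_mem M4 (L2 1)
  rw [theta_mul F FH_disj M5 (L1 (-1)), theta_mul F FH_disj M4 (L2 1),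
    theta_mul F FH_disj M3 (L1 (-1)), theta_mul F FH_disj M2 (L1 t),
    theta_mul F FH_disj (L1 t) (L2 (-t⁻¹))]
  exact mul_mem (mul_mem (mul_mem (mul_mem (mul_mem (G1 _) (G2 _)) (G1 _)) (G1 _)) (G2 _)) (G1 _)

end Cfsg.Agent.Lib.Helper20.SuF
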