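import Mathlib
import Cfsg.Agent.Lib.Helper20.SuTorusDefs
import Cfsg.Agent.Lib.Helper79.SuH2

/-! # S5172 leaf SU-H3 (helper79 for helper20): the long root `SL_2` torus lies in `GenP F p 1`. -/

set_option autoImplicit false
set_option linter.unusedSectionVars false
set_option linter.style.haveILetI false

namespace Cfsg.Agent.Lib.Helper20.SuF

open Matrix Subgroup Cfsg.Agent.Lib.Helper20.PslF

variable {n : ℕ} {K : Type*} [Field K] [Fintype K] (F : Inv K)

theorem h3_adj_tv {a b : Fin n} (hab : a ≠ b) (hb : b = Fin.rev a) (c : K) :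
    adj F (mt (tv hab c : SLn n K)) = mt (tv hab (F.sg c) : SLn n K) := by
  rw [mt_transvection, mt_transvection]
  ext x y
  rw [adj_apply, Matrix.transvection, Matrix.transvection, Matrix.add_apply, Matrix.add_apply,
    Matrix.single_apply, Matrix.single_apply, map_add]
  congr 1
  · by_cases h : x = y
    · subst h
      rw [Matrix.one_apply_eq, Matrix.one_apply_eq, map_one]
    · rw [Matrix.one_apply_ne h, Matrix.one_apply_ne (fun h2 => h (Fin.rev_injective h2).symm),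
        map_zero]
  · by_cases h : a = x ∧ b = y
    · obtain ⟨rfl, rfl⟩ := h
      rw [if_pos (⟨by rw [hb, Fin.rev_rev], hb⟩ : a = Fin.rev b ∧ b = Fin.rev a), if_pos ⟨rfl, rfl⟩]
    · rw [if_neg h, if_neg, map_zero]
      rintro ⟨h1, h2⟩
      apply h
      refine ⟨?_, ?_⟩
      · rw [hb] at h2
        exact Fin.rev_injective h2
      · rw [hb, h1, Fin.rev_rev]

theorem h3_tv_mem_SUJ {a b : Fin n} (hab : a ≠ b) (hb : b = Fin.rev a) {c : K}
    (hc : c + F.sg c = 0) : (tv hab c : SLn n K) ∈ SUJ F := by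
  rw [mem_SUJ, h3_adj_tv F hab hb, ← mt_mul, ← SpecialLinearGroup.transvection_add,
    add_comm, hc, SpecialLinearGroup.transvection_coeff_zero, mt_one]

theorem h3_tv_mem_GenP (p : ℕ) [Fact p.Prime] [CharP K p] {a b : Fin n} (hab : a ≠ b)
    (hb : b = Fin.rev a) (hblk : b3 1 a = b3 1 b) {c : K} (hc : c + F.sg c = 0) :
    (tv hab c : SLn n K) ∈ GenP F p 1 :=
  mem_GenP_of F (h2_tv_mem_PJ 1 hab hblk c) (h3_tv_mem_SUJ F hab hb hc) (tv_orderOf p hab c)

theorem h3_neg_inv {c : K} (hc : c + F.sg c = 0) : (-c⁻¹) + F.sg (-c⁻¹) = 0 := by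
  have h1 : F.sg c = -c := by
    rw [← sub_eq_zero, sub_neg_eq_add, add_comm]
    exact hc
  rw [map_neg, map_inv₀, h1, inv_neg, neg_neg, neg_add_cancel]

theorem h3_diag2n_mul {a b : Fin n} (hab : a ≠ b) (s t : K) (hs : s ≠ 0) (ht : t ≠ 0) :
    (SpecialLinearGroup.diag2n hab t ht : SLn n K) * SpecialLinearGroup.diag2n hab s hs =
      SpecialLinearGroup.diag2n hab (s * t) (mul_ne_zero hs ht) := by
  apply mt_ext
  have e : ∀ (u : K) (hu : u ≠ 0), mt (SpecialLinearGroup.diag2n hab u hu : SLn n K) =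
      diagonal (fun k => if k = a then u else if k = b then u⁻¹ else 1) := fun _ _ => rfl
  rw [mt_mul, e, e, e, Matrix.diagonal_mul_diagonal]
  congr 1
  funext k
  by_cases h1 : k = a
  · rw [if_pos h1, if_pos h1, if_pos h1, mul_comm]
  · rw [if_neg h1, if_neg h1, if_neg h1]
    by_cases h2 : k = b
    · rw [if_pos h2, if_pos h2, if_pos h2, mul_inv, mul_comm]
    · rw [if_neg h2, if_neg h2, if_neg h2, mul_one]

/-- SU-H3: the long root `SL_2` torus (last node for `n` even). -/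
theorem diag2n_long_mem (p : ℕ) [Fact p.Prime] [CharP K p] {a : Fin n} (ha1 : 0 < (a : ℕ))
    (ha2 : (a : ℕ) + 1 < n) (hr1 : 0 < ((Fin.rev a : Fin n) : ℕ))
    (hr2 : ((Fin.rev a : Fin n) : ℕ) + 1 < n) (hab : a ≠ Fin.rev a) (t : K) (ht : t ≠ 0)
    (hts : F.sg t = t) :
    (SpecialLinearGroup.diag2n hab t ht : SLn n K) ∈ GenP F p 1 := by
  obtain ⟨x, hx⟩ := F.nontriv
  set c0 : K := x - F.sg x with hc0
  have hc0ne : c0 ≠ 0 := by
    rw [hc0]
    intro h
    exact hx (sub_eq_zero.mp h).symm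
  have hc0tr : c0 + F.sg c0 = 0 := by
    rw [hc0, map_sub, F.invol]
    ring
  have hc1ne : c0 * t ≠ 0 := mul_ne_zero hc0ne ht
  have hc1tr : c0 * t + F.sg (c0 * t) = 0 := by
    have h1 : F.sg c0 = -c0 := by
      rw [← sub_eq_zero, sub_neg_eq_add, add_comm]
      exact hc0tr
    rw [map_mul, hts, h1]
    ring
  have hblk : b3 1 a = b3 1 (Fin.rev a) := by
    rw [b3_one_eq_one ha1 (by omega), b3_one_eq_one hr1 (by omega)]
  have hb' : a = Fin.rev (Fin.rev a) := (Fin.rev_rev a).symm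
  have G1 : ∀ {c : K}, c + F.sg c = 0 → (tv hab c : SLn n K) ∈ GenP F p 1 :=
    fun hc => h3_tv_mem_GenP F p hab rfl hblk hc
  have G2 : ∀ {c : K}, c + F.sg c = 0 → (tv hab.symm c : SLn n K) ∈ GenP F p 1 :=
    fun hc => h3_tv_mem_GenP F p hab.symm hb' hblk.symm hc
  have hsplit : (SpecialLinearGroup.diag2n hab t ht : SLn n K) =
      SpecialLinearGroup.diag2n hab (c0 * t) hc1ne *
        (SpecialLinearGroup.diag2n hab c0 hc0ne : SLn n K)⁻¹ := by
    rw [eq_mul_inv_iff_mul_eq]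
    exact h3_diag2n_mul hab c0 t hc0ne ht
  rw [hsplit, diag2n_eq_six hab (c0 * t) hc1ne, diag2n_eq_six hab c0 hc0ne]
  have key : ∀ A1 A2 A3 B1 B2 B3 T1 T2 T3 : SLn n K,
      A1 * A2 * A3 * T1 * T2 * T3 * (B1 * B2 * B3 * T1 * T2 * T3)⁻¹ =
        A1 * A2 * A3 * (B1 * B2 * B3)⁻¹ := by
    intro A1 A2 A3 B1 B2 B3 T1 T2 T3
    group
  rw [key]
  exact mul_mem (mul_mem (mul_mem (G1 hc1tr) (G2 (h3_neg_inv F hc1tr))) (G1 hc1tr))
    (inv_mem (mul_mem (mul_mem (G1 hc0tr) (G2 (h3_neg_inv F hc0tr))) (G1 hc0tr)))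

end Cfsg.Agent.Lib.Helper20.SuF
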