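/-
Mc hive (S1305, architect helper18), leaf MC-BQS `pLayer_le_layer`: with the `B`-property and `O(G) = 1`, every 2-component of
`C = C_G(b)` is a component of `C`, so `L_{2'}(C) ≤ E(C)`.
Proof: the `B`-property gives `[L_{2'}(C), O(C)] ≤ O(G) = 1`; a 2-component `J` of `C` then satisfies `[J, O(C)] = 1`, and
`Cfsg.Agent.S2019.result` (a `p`-component is a component iff it commutes with `O_{p'}`) makes `J` a component.
Exact name + statement of tools/helper18/McSkel.lean.txt.
-/
import Mathlib
import Cfsg.Prelude.Def_Balance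
import Cfsg.Agent.S2019

set_option autoImplicit false

open Cfsg

namespace Cfsg.Agent.Lib.Helper18.Mc

open Subgroup

/-- MC-BQS.  `B`-property and `O(G) = 1`: every 2-component of `C_G(b)` is a component. -/
theorem pLayer_le_layer {G : Type*} [Group G] [Finite G] (hO : oddCore G = ⊥) (hB : HasBProperty G) (b : G)
    (hb : orderOf b = 2) :
    pLayer 2 ↥(centralizer ({b} : Set G)) ≤ layer ↥(centralizer ({b} : Set G)) := by
  have h1 : ⁅pLayer 2 ↥(centralizer ({b} : Set G)), oddCore ↥(centralizer ({b} : Set G))⁆ = ⊥ := by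
    have h := hB b hb
    rw [hO, le_bot_iff, Subgroup.map_eq_bot_iff_of_injective _ (Subgroup.subtype_injective _)] at h
    exact h
  unfold pLayer
  apply sSup_le
  intro J hJ
  have hJle : J ≤ pLayer 2 ↥(centralizer ({b} : Set G)) := le_sSup hJ
  have h2 : ⁅J, pPrimeCore 2 ↥(centralizer ({b} : Set G))⁆ = ⊥ := by
    rw [eq_bot_iff, ← h1]
    exact Subgroup.commutator_mono hJle le_rfl
  have hcomp : IsComponent J := ((Cfsg.Agent.S2019.result 2 Nat.prime_two J hJ).1).2 h2
  exact le_sSup hcomp

end Cfsg.Agent.Lib.Helper18.Mc
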