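import Cfsg.Agent.Lib.Helper34.TateDefs
import Cfsg.Agent.Lib.Helper34.TransferPull

set_option autoImplicit false
set_option linter.style.haveILetI false
set_option linter.unusedSectionVars false

/-!
# [T2] of helper34's Tate project: `Kgen` is invariant under conjugation by an element
normalizing `T`, when the fusion system is.
-/

namespace Cfsg.Agent.Lib.Helper34.Tate

open Cfsg Cfsg.FusionSystem
open Cfsg.Agent.Lib.Helper87 (hom_le hom_mem_S)

variable {Ω : Type*} [Group Ω]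

/-- the transfer only depends on the subgroup up to equality -/
theorem transfer_congr_subgroup_h79 {G : Type*} [Group G] {A : Type*} [CommGroup A]
    {H H' : Subgroup G} [H.FiniteIndex] [H'.FiniteIndex] (h : H = H')
    (φ : H →* A) (φ' : H' →* A)
    (hφ : ∀ (x : G) (hx : x ∈ H) (hx' : x ∈ H'), φ ⟨x, hx⟩ = φ' ⟨x, hx'⟩) :
    MonoidHom.transfer φ = MonoidHom.transfer φ' := by
  subst h
  have : φ = φ' := by
    ext x
    exact hφ x x.2 x.2
  subst this
  rfl

/-- corestriction composed with conjugation by `g` is corestriction from the conjugate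
subgroup of the conjugated character -/
theorem cor_comp_cj_h79 {T : Subgroup Ω} [Finite T] {A : Type*} [CommGroup A]
    (g : Ω) (hg : g ∈ Subgroup.normalizer (T : Set Ω))
    {Q Q' : Subgroup Ω} (hQ : Q ≤ T) (hQ' : Q' ≤ T)
    (hQQ' : ∀ t : Ω, t ∈ Q' ↔ g * t * g⁻¹ ∈ Q)
    (ν : Q →* A) (ν' : Q' →* A)
    (hν : ∀ (t : Ω) (ht : t ∈ Q') (ht' : g * t * g⁻¹ ∈ Q),
      ν' ⟨t, ht⟩ = ν ⟨g * t * g⁻¹, ht'⟩) :
    (cor hQ ν).comp (cj T g hg).toMonoidHom = cor hQ' ν' := by
  ext t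
  show cor hQ ν (cj T g hg t) = cor hQ' ν' t
  unfold cor
  have hρ : Function.Surjective (cj T g hg).toMonoidHom := (cj T g hg).surjective
  have h1 := transfer_comap (cj T g hg).toMonoidHom hρ (Q.subgroupOf T)
    (ν.comp (Subgroup.subgroupOfEquivOfLe hQ).toMonoidHom) t
  have h2 : (Q.subgroupOf T).comap (cj T g hg).toMonoidHom = Q'.subgroupOf T := by
    ext s
    rw [Subgroup.mem_comap, Subgroup.mem_subgroupOf, Subgroup.mem_subgroupOf, hQQ']
    rfl
  have h3 := transfer_congr_subgroup_h79 h2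
    ((ν.comp (Subgroup.subgroupOfEquivOfLe hQ).toMonoidHom).comp
      ((cj T g hg).toMonoidHom.subgroupComap (Q.subgroupOf T)))
    (ν'.comp (Subgroup.subgroupOfEquivOfLe hQ').toMonoidHom) (by
      intro x hx hx'
      have hxQ' : (x : Ω) ∈ Q' := Subgroup.mem_subgroupOf.mp hx'
      have hxQ : g * (x : Ω) * g⁻¹ ∈ Q := (hQQ' _).mp hxQ'
      show ν _ = ν' _
      have e1 : (Subgroup.subgroupOfEquivOfLe hQ').toMonoidHom ⟨x, hx'⟩
          = (⟨(x : Ω), hxQ'⟩ : Q') := Subtype.ext rfl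
      rw [e1, hν _ hxQ' hxQ]
      congr 1)
  have h4 : (cj T g hg).toMonoidHom t = cj T g hg t := rfl
  rw [h4] at h1
  rw [← h1, h3]

theorem kgen_conj {T : Subgroup Ω} [Finite T] (E : FusionSystem T) (A : Type*) [CommGroup A]
    (g : Ω) (hg : g ∈ Subgroup.normalizer (T : Set Ω))
    (hE : ∀ (Q : Subgroup Ω) (ψ : Q →* Ω), ψ ∈ E.Hom Q →
      ∃ χ ∈ E.Hom (Q.map (MulAut.conj g⁻¹).toMonoidHom),
        ∀ (x : Q) (hx : g⁻¹ * (x : Ω) * g ∈ Q.map (MulAut.conj g⁻¹).toMonoidHom),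
          χ ⟨g⁻¹ * x * g, hx⟩ = g⁻¹ * ψ x * g)
    (k : T →* A) (hk : k ∈ Kgen E A) : k.comp (cj T g hg).toMonoidHom ∈ Kgen E A := by
  classical
  -- precomposition with `cj` as a group homomorphism
  let Φ : (T →* A) →* (T →* A) :=
    { toFun := fun k => k.comp (cj T g hg).toMonoidHom
      map_one' := by ext t; rfl
      map_mul' := fun a b => by ext t; rfl }
  show Φ k ∈ Kgen E A
  have hle : Kgen E A ≤ (Kgen E A).comap Φ := by
    show Subgroup.closure _ ≤ _
    refine (Subgroup.closure_le _).mpr ?_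
    rintro k0 ⟨Q, ψ, hψ, μ, rfl⟩
    rw [SetLike.mem_coe, Subgroup.mem_comap]
    obtain ⟨χ, hχ, hχe⟩ := hE Q ψ hψ
    -- membership in the conjugate subgroup
    have hmemQ' : ∀ t : Ω, t ∈ Q.map (MulAut.conj g⁻¹).toMonoidHom ↔ g * t * g⁻¹ ∈ Q := by
      intro t
      rw [Subgroup.mem_map]
      constructor
      · rintro ⟨x, hx, rfl⟩
        have : g * ((MulAut.conj g⁻¹).toMonoidHom x) * g⁻¹ = x := by
          simp
          group
        rw [this]; exact hx
      · intro h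
        refine ⟨g * t * g⁻¹, h, ?_⟩
        simp
        group
    -- the relation between `χ` and `ψ`
    have hχψ : ∀ (t : Ω) (ht : t ∈ Q.map (MulAut.conj g⁻¹).toMonoidHom)
        (ht' : g * t * g⁻¹ ∈ Q), g * χ ⟨t, ht⟩ * g⁻¹ = ψ ⟨g * t * g⁻¹, ht'⟩ := by
      intro t ht ht'
      have e : g⁻¹ * ((⟨g * t * g⁻¹, ht'⟩ : Q) : Ω) * g = t := by
        show g⁻¹ * (g * t * g⁻¹) * g = t
        group
      have h1 := hχe ⟨g * t * g⁻¹, ht'⟩ (by rw [e]; exact ht)
      have h2 : (⟨g⁻¹ * ((⟨g * t * g⁻¹, ht'⟩ : Q) : Ω) * g, by rw [e]; exact ht⟩ :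
          (Q.map (MulAut.conj g⁻¹).toMonoidHom)) = ⟨t, ht⟩ := Subtype.ext e
      rw [h2] at h1
      rw [h1]
      group
    -- ranges
    have hrange : ∀ t : Ω, t ∈ χ.range ↔ g * t * g⁻¹ ∈ ψ.range := by
      intro t
      constructor
      · rintro ⟨y, rfl⟩
        have hy' : g * (y : Ω) * g⁻¹ ∈ Q := (hmemQ' _).mp y.2
        exact ⟨⟨g * (y : Ω) * g⁻¹, hy'⟩, (hχψ (y : Ω) y.2 hy').symm⟩
      · rintro ⟨x, hx⟩
        have hx' : g⁻¹ * (x : Ω) * g ∈ Q.map (MulAut.conj g⁻¹).toMonoidHom := by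
          rw [hmemQ']
          have : g * (g⁻¹ * (x : Ω) * g) * g⁻¹ = x := by group
          rw [this]; exact x.2
        refine ⟨⟨g⁻¹ * (x : Ω) * g, hx'⟩, ?_⟩
        rw [hχe x hx', hx]
        group
    -- the conjugated character `μ'` of `χ.range`
    let cmap : χ.range →* ψ.range :=
      { toFun := fun y => ⟨g * (y : Ω) * g⁻¹, (hrange _).mp y.2⟩
        map_one' := by apply Subtype.ext; simp
        map_mul' := fun a b => by
          apply Subtype.ext
          show g * ((a : Ω) * b) * g⁻¹ = g * a * g⁻¹ * (g * b * g⁻¹)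
          group }
    let μ' : χ.range →* A := μ.comp cmap
    -- the two pieces
    have ha : (cor (hom_le E hψ) (μ.comp ψ.rangeRestrict)).comp (cj T g hg).toMonoidHom
        = cor (hom_le E hχ) (μ'.comp χ.rangeRestrict) := by
      apply cor_comp_cj_h79 g hg (hom_le E hψ) (hom_le E hχ) hmemQ'
      intro t ht ht'
      show μ (cmap (χ.rangeRestrict ⟨t, ht⟩)) = μ (ψ.rangeRestrict ⟨g * t * g⁻¹, ht'⟩)
      congr 1
      apply Subtype.ext
      show g * χ ⟨t, ht⟩ * g⁻¹ = ψ ⟨g * t * g⁻¹, ht'⟩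
      exact hχψ t ht ht'
    have hb : (cor (range_le E hψ) μ).comp (cj T g hg).toMonoidHom
        = cor (range_le E hχ) μ' := by
      apply cor_comp_cj_h79 g hg (range_le E hψ) (range_le E hχ) hrange
      intro t ht ht'
      rfl
    have hΦ : Φ (cor (hom_le E hψ) (μ.comp ψ.rangeRestrict) / cor (range_le E hψ) μ)
        = cor (hom_le E hχ) (μ'.comp χ.rangeRestrict) / cor (range_le E hχ) μ' := by
      rw [map_div]
      show (cor (hom_le E hψ) (μ.comp ψ.rangeRestrict)).comp (cj T g hg).toMonoidHom /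
        (cor (range_le E hψ) μ).comp (cj T g hg).toMonoidHom = _
      rw [ha, hb]
    rw [hΦ]
    exact Subgroup.subset_closure ⟨_, χ, hχ, μ', rfl⟩
  exact hle hk

end Cfsg.Agent.Lib.Helper34.Tate
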