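/-
Oc hive (S2924, architect helper22), leaf OC3a `oc3a`: a component `K` of `H ⧸ N` whose full preimage `K₀`
centralizes `N` lifts to a component of `H`, so `E(H) ≠ 1`.
Proof: `K₁ := ⁅K₀, K₀⁆` maps onto `⁅K, K⁆ = K`, hence `K₀ = K₁ N` with `N` central in `K₀`, so `K₁` is perfect;
`K₁ → K` is onto with central kernel, so `K₁` is quasisimple (`S2019.quasisimple_of_central_ext`);
`K₁` is normal in `K₀`, which is subnormal in `H` (comap of a subnormal subgroup).
Exact statement of tools/helper22/OcSkel.lean.txt.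
-/
import Mathlib
import Cfsg.Prelude.Def_Local
import Cfsg.Agent.Lib.Helper22.FStar
import Cfsg.Agent.S2019

set_option autoImplicit false
open Cfsg Subgroup

namespace Cfsg.Agent.Lib.Helper79.Oc3a

open scoped commutatorElement

universe u

/-- commutators do not see central factors: `⁅k n, k' n'⁆ = ⁅k, k'⁆` when `n`, `n'` commute with `k`, `k'`, `n'`. -/
theorem oc3a_comm {H : Type u} [Group H] (k n k' n' : H) (h1 : n * k' = k' * n) (h2 : n * n' = n' * n)
    (h3 : n' * k = k * n') : ⁅k * n, k' * n'⁆ = ⁅k, k'⁆ := by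
  rw [commutatorElement_def, commutatorElement_def]
  have e1 : k * n * (k' * n') = k * k' * n' * n := by
    rw [mul_assoc k n, ← mul_assoc n k' n', h1, mul_assoc k' n n', h2, ← mul_assoc k' n' n, ← mul_assoc k,
      ← mul_assoc k]
  have e2 : (k * n)⁻¹ = n⁻¹ * k⁻¹ := mul_inv_rev k n
  have e3 : (k' * n')⁻¹ = n'⁻¹ * k'⁻¹ := mul_inv_rev k' n'
  have h3' : n' * k⁻¹ = k⁻¹ * n' := by
    have := congrArg (fun x => k⁻¹ * x * k⁻¹) h3
    simpa [mul_assoc] using this.symm
  rw [e1, e2, e3]
  calc k * k' * n' * n * (n⁻¹ * k⁻¹) * (n'⁻¹ * k'⁻¹)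
      = k * k' * (n' * k⁻¹) * (n'⁻¹ * k'⁻¹) := by group
    _ = k * k' * (k⁻¹ * n') * (n'⁻¹ * k'⁻¹) := by rw [h3']
    _ = k * k' * k⁻¹ * k'⁻¹ := by group

/-- OC3a. A component of `H/N` whose full preimage centralizes `N` lifts to a component of `H`. -/
theorem oc3a {H : Type u} [Group H] [Finite H] (N : Subgroup H) [N.Normal]
    (K : Subgroup (H ⧸ N)) (hK : IsComponent K)
    (hc : K.comap (QuotientGroup.mk' N) ≤ centralizer (N : Set H)) :
    layer H ≠ ⊥ := by
  set π : H →* H ⧸ N := QuotientGroup.mk' N with hπ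
  have hπs : Function.Surjective π := QuotientGroup.mk'_surjective N
  set K0 : Subgroup H := K.comap π with hK0
  set K1 : Subgroup H := ⁅K0, K0⁆ with hK1
  have hK0sn : K0.IsSubnormal := hK.1.comap π
  have hK1sn : K1.IsSubnormal := Cfsg.Agent.S2019.commutator_self_subnormal K0 hK0sn
  have hK1le : K1 ≤ K0 := Subgroup.commutator_le_self K0
  have hNK0 : N ≤ K0 := by
    intro n hn
    show π n ∈ K
    have : π n = 1 := (QuotientGroup.eq_one_iff n).mpr hn
    rw [this]
    exact K.one_mem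
  -- elements of `N` commute with elements of `K0`
  have hcomm : ∀ n ∈ N, ∀ x ∈ K0, n * x = x * n := fun n hn x hx =>
    (Subgroup.mem_centralizer_iff.mp (hc hx)) n hn
  have hmap0 : K0.map π = K := Subgroup.map_comap_eq_self_of_surjective hπs K
  have hKperf : ⁅K, K⁆ = K := Cfsg.Agent.Lib.Helper22.component_perfect hK
  have hmap1 : K1.map π = K := by
    rw [hK1, Subgroup.map_commutator, hmap0, hKperf]
  -- decomposition `K0 = K1 N`
  have hdec : ∀ a ∈ K0, ∃ k ∈ K1, ∃ n ∈ N, a = k * n := by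
    intro a ha
    have h1 : π a ∈ K1.map π := by rw [hmap1]; exact ha
    obtain ⟨k, hk, hka⟩ := h1
    refine ⟨k, hk, k⁻¹ * a, ?_, by group⟩
    rw [← QuotientGroup.eq_one_iff]
    show π (k⁻¹ * a) = 1
    rw [map_mul, map_inv, hka, inv_mul_cancel]
  -- `K1` is perfect
  have hK1perf : ⁅K1, K1⁆ = K1 := by
    apply le_antisymm (Subgroup.commutator_le_self K1)
    rw [hK1, Subgroup.commutator_le]
    intro a ha b hb
    obtain ⟨k, hk, n, hn, rfl⟩ := hdec a ha
    obtain ⟨k', hk', n', hn', rfl⟩ := hdec b hb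
    rw [oc3a_comm k n k' n' (hcomm n hn k' (hK1le hk')) (hcomm n hn n' (hNK0 hn')) (hcomm n' hn' k (hK1le hk))]
    exact Subgroup.commutator_mem_commutator hk hk'
  have hperf : Group.IsPerfect ↥K1 := Subgroup.isPerfect_iff.2 hK1perf
  -- `K1` is quasisimple
  have hq : IsQuasisimple ↥(K1.map π) := by
    rw [hmap1]
    exact hK.2
  have hsimple : IsSimpleGroup (↥K1 ⧸ Subgroup.center ↥K1) := by
    apply Cfsg.Agent.S2019.quasisimple_of_central_ext (π.subgroupMap K1)
      (MonoidHom.subgroupMap_surjective _ _) ?_ hq.2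
    intro a ha
    rw [Subgroup.mem_center_iff]
    intro k
    have haN : (a : H) ∈ N := by
      have h1 : π.subgroupMap K1 a = 1 := ha
      have h2 := congrArg Subtype.val h1
      simp only [MonoidHom.subgroupMap_apply_coe, Subgroup.coe_one] at h2
      exact (QuotientGroup.eq_one_iff (a : H)).mp h2
    apply Subtype.ext
    simp only [Subgroup.coe_mul]
    exact (hcomm (a : H) haN (k : H) (hK1le k.2)).symm
  have hcomp : IsComponent K1 := ⟨hK1sn, hperf, hsimple⟩
  intro hbot
  have hle : K1 ≤ layer H := Cfsg.Agent.Lib.Helper22.component_le_layer hcomp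
  rw [hbot] at hle
  exact Cfsg.Agent.Lib.Helper22.component_ne_bot hcomp (le_bot_iff.mp hle)

end Cfsg.Agent.Lib.Helper79.Oc3a
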