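import Cfsg.Agent.Lib.Helper79.OnFIXcore
import Cfsg.Agent.Lib.Helper2.OnSPLIT
import Cfsg.Agent.Lib.Helper2.OnBLOCKS
import Cfsg.Agent.Lib.Helper31.OnCOPY
import Cfsg.Agent.Lib.Helper31.OnOSUM
import Cfsg.Agent.Lib.Helper76.OnBASIC

/-! # On hive (S5989): leaf ON-FIX `odd_fix` (helper79), exact skeleton statement -/

set_option autoImplicit false
set_option linter.unusedSectionVars false
set_option linter.style.haveILetI false

namespace Cfsg.Agent.Lib.Helper81.On

open Polynomial Module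
open Cfsg.Agent.Lib.Helper2.BG Cfsg.Agent.Lib.Helper99 Cfsg.Agent.Lib.Helper48.Ti
open Cfsg.Agent.Lib.Helper8.SpBlk (blk)

variable {F V : Type*} [Field F] [AddCommGroup V] [Module F V] [FiniteDimensional F V]
variable {B : V →ₗ[F] V →ₗ[F] F}
variable [Fintype F] {p : ℕ} [Fact p.Prime] [CharP F p] {r : ℕ} [Fact r.Prime]

/-- ON-FIX: an isometry `f` of odd prime order `r ≠ p` fixes a copy of the odd-dimensional `W₀`
as soon as `dim W₀ % blk < dim ker (f - 1)`. -/
theorem odd_fix (h2 : (2 : F) ≠ 0) (hB : ∀ u v, B u v = B v u) (hV : Nd B ⊤) (hr2 : r ≠ 2)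
    (hrp : r ≠ p) {f : Module.End F V} (hf : Isom B f) (hfr : f ^ r = 1) {W₀ : Submodule F V}
    (hW₀ : Nd B W₀) (hodd : Odd (finrank F W₀)) (hlt : finrank F W₀ < finrank F V)
    (hmod : finrank F W₀ % blk F r < finrank F (LinearMap.ker (f - 1))) : Fixes B f W₀ :=
  fix_core hB hW₀ hodd hlt hmod
    (fix_split hB hrp hf hfr hV (fun _ _ => Submodule.mem_top))
    (fun _ hNf hN hfpf => exists_blocks_sym h2 hB hr2 hrp hf hfr hNf hN hfpf)
    (fun _ _ hZ hT hlt => exists_copy h2 hB hZ hT hlt)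
    (fun _ _ hW hW' hle => nd_perp_in hB hW hW' hle)
    (fun _ _ hU hU' h => nd_sup_of_orth hB hU hU' h)
    (fun _ _ _ _ h1 h2 h3 h4 h5 h6 => sameType_sup hB h1 h2 h3 h4 h5 h6)
    (fun _ _ h => h.symm)

end Cfsg.Agent.Lib.Helper81.On
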