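import Cfsg.Agent.Lib.Helper75.KleinCent

/-!
# A5c hive (S3278, architect helper47): leaf A5c-CENT `cent_eq`
-/

set_option autoImplicit false
set_option linter.unusedVariables false

universe u

namespace Cfsg.Agent.Lib.Helper47.A5c

open Cfsg Subgroup

/-- LEAF A5c-CENT. -/
theorem cent_eq {G : Type u} [Group G] [Finite G] (P : Sylow 2 G) (hP4 : Nat.card P = 4)
    (hexp : ∀ u ∈ (P : Subgroup G), u * u = 1) (x : G) (hxP : x ∈ (P : Subgroup G)) (hx1 : x ≠ 1)
    (hn : ((P : Subgroup G).subgroupOf (centralizer ({x} : Set G))).Normal) :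
    centralizer ({x} : Set G) = centralizer ((P : Subgroup G) : Set G) := by
  have hPC : (P : Subgroup G) ≤ centralizer ({x} : Set G) := by
    intro u hu
    rw [Subgroup.mem_centralizer_iff]
    intro y hy
    rw [Set.mem_singleton_iff] at hy
    subst hy
    exact Cfsg.Agent.Lib.Helper75.comm_of_exp_two hexp hxP hu
  apply le_antisymm
  · intro n hnx
    have hnz : n * x = x * n := by
      rw [Subgroup.mem_centralizer_iff] at hnx
      exact (hnx x (Set.mem_singleton x)).symm
    have hnP : ∀ u ∈ (P : Subgroup G), n * u * n⁻¹ ∈ (P : Subgroup G) := by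
      intro u hu
      have h := hn.conj_mem ⟨u, hPC hu⟩ (by rw [Subgroup.mem_subgroupOf]; exact hu) ⟨n, hnx⟩
      rw [Subgroup.mem_subgroupOf] at h
      exact h
    have hcomm := Cfsg.Agent.Lib.Helper75.comm_of_klein_sylow P hP4 hexp hxP hx1 hnz hnP
    rw [Subgroup.mem_centralizer_iff]
    intro u hu
    exact (hcomm u hu).symm
  · apply Subgroup.centralizer_le
    intro y hy
    rw [Set.mem_singleton_iff] at hy
    subst hy
    exact hxP

end Cfsg.Agent.Lib.Helper47.A5c
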