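import Mathlib
import Cfsg.Agent.Lib.Helper6.Ls.Defs

set_option autoImplicit false
set_option linter.unusedSectionVars false
set_option linter.style.haveILetI false

/-!
# Ls hive (S2334 + S2335), leaf AB-FIXNT: `fixnt`

If the root group `Z_{p1}` acted trivially on `C_W(Z_{p0})`, all the fixed spaces `C_W(Z_p)` would coincide; a common
eigenvector of the abelian group `A` inside `range (ρ z0 - 1)` then gives a contradiction with `hiso`.
-/

namespace Cfsg.Agent.Lib.Helper6.Ls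

open Module

section abstract

variable {G : Type*} [Group G] [Finite G] {W : Type*} [AddCommGroup W] [Module ℂ W]
  [FiniteDimensional ℂ W]

omit [Finite G] [FiniteDimensional ℂ W] in
theorem abfixnt_mem_fixIn (ρ : Representation ℂ G W) (Z : Subgroup G) (U : Submodule ℂ W) (w : W) :
    w ∈ fixIn ρ Z U ↔ w ∈ U ∧ ∀ z ∈ Z, ρ z w = w := by
  unfold fixIn
  rw [Submodule.mem_inf, Submodule.mem_iInf]
  constructor
  · rintro ⟨hU, h⟩
    refine ⟨hU, fun z hz => ?_⟩
    have := h ⟨z, hz⟩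
    rw [LinearMap.mem_ker, LinearMap.sub_apply, sub_eq_zero] at this
    simpa using this
  · rintro ⟨hU, h⟩
    refine ⟨hU, fun z => ?_⟩
    rw [LinearMap.mem_ker, LinearMap.sub_apply, sub_eq_zero]
    simpa using h z z.2

omit [Finite G] in
/-- common eigenvectors of commuting families (copy of `Helper6.SzLS.exists_common_eigenvector`). -/
theorem abfixnt_exists_common_eigenvector {ι : Type*} (f : ι → End ℂ W)
    (hcomm : ∀ i j, f i * f j = f j * f i) (S : Finset ι) :
    ∀ (U : Submodule ℂ W), U ≠ ⊥ → (∀ i, ∀ w ∈ U, f i w ∈ U) →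
      ∃ v ∈ U, v ≠ 0 ∧ ∀ i ∈ S, ∃ μ : ℂ, f i v = μ • v := by
  classical
  induction S using Finset.induction_on with
  | empty =>
    intro U hU _
    obtain ⟨v, hv, hv0⟩ := (Submodule.ne_bot_iff U).1 hU
    exact ⟨v, hv, hv0, by simp⟩
  | insert j S' hj ih =>
    intro U hU hinv
    have hnt : Nontrivial U := Submodule.nontrivial_iff_ne_bot.2 hU
    obtain ⟨μ, hμ⟩ := Module.End.exists_eigenvalue ((f j).restrict (hinv j))
    obtain ⟨w, hw⟩ := hμ.exists_hasEigenvector
    have hw1 : (f j) (w : W) = μ • (w : W) := by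
      have := hw.apply_eq_smul
      exact congrArg Subtype.val this
    have hw0 : (w : W) ≠ 0 := by
      intro h
      exact hw.2 (Subtype.ext h)
    set U' : Submodule ℂ W := U ⊓ LinearMap.ker (f j - μ • 1) with hU'
    have hU'ne : U' ≠ ⊥ := by
      rw [Submodule.ne_bot_iff]
      refine ⟨w, ⟨w.2, ?_⟩, hw0⟩
      show (f j - μ • 1) (w : W) = 0
      rw [LinearMap.sub_apply, hw1]
      simp
    have hU'inv : ∀ i, ∀ x ∈ U', f i x ∈ U' := by
      intro i x hx
      refine ⟨hinv i x hx.1, ?_⟩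
      have h2 : (f j - μ • 1) x = 0 := hx.2
      show (f j - μ • 1) (f i x) = 0
      rw [LinearMap.sub_apply, sub_eq_zero] at h2 ⊢
      have h3 : f j (f i x) = f i (f j x) := by
        have := congrArg (fun g : End ℂ W => g x) (hcomm j i)
        simpa using this
      rw [h3, h2]
      simp
    obtain ⟨v, hv, hv0, hev⟩ := ih U' hU'ne hU'inv
    refine ⟨v, hv.1, hv0, ?_⟩
    intro i hi
    rcases Finset.mem_insert.1 hi with rfl | hi'
    · refine ⟨μ, ?_⟩
      have h2 : (f i - μ • 1) v = 0 := hv.2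
      rw [LinearMap.sub_apply, sub_eq_zero] at h2
      rw [h2]
      simp
    · exact hev i hi'

omit [FiniteDimensional ℂ W] in
/-- `ker (ρ g - 1) ∩ range (ρ g - 1) = 0` for an element of a finite group. -/
theorem abfixnt_ker_range (ρ : Representation ℂ G W) (g : G) (v y : W) (hv : ρ g y - y = v)
    (hfix : ρ g v = v) : v = 0 := by
  have hpow : ∀ k : ℕ, ρ (g ^ k) y = y + (k : ℂ) • v := by
    intro k
    induction k with
    | zero => simp
    | succ k ih =>
      rw [pow_succ', map_mul, Module.End.mul_apply, ih, map_add, map_smul, hfix]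
      have : ρ g y = y + v := by rw [← hv]; abel
      rw [this]
      push_cast
      module
  have hN := hpow (orderOf g)
  rw [pow_orderOf_eq_one, map_one, Module.End.one_apply] at hN
  have h0 : ((orderOf g : ℕ) : ℂ) • v = 0 := by
    have : y + ((orderOf g : ℕ) : ℂ) • v = y + 0 := by rw [add_zero]; exact hN.symm
    exact add_left_cancel this
  rcases smul_eq_zero.1 h0 with h | h
  · exfalso
    have hpos : 0 < orderOf g := orderOf_pos g
    exact (Nat.cast_ne_zero.2 hpos.ne') h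
  · exact h

/-- AB-FIXNT -/
theorem fixnt (ρ : Representation ℂ G W) (A : Subgroup G) (hA : ∀ a ∈ A, ∀ b ∈ A, a * b = b * a)
    {P : Type*} (Zs : P → Subgroup G) (hZA : ∀ p, Zs p ≤ A) (R : P → P → Prop)
    (hR : ∀ p p', ∃ p'', R p p'' ∧ R p'' p') (p0 p1 : P)
    (hconj : ∀ p p', R p p' → ∃ g : G, (Zs p0).map (MulAut.conj g).toMonoidHom = Zs p ∧
      (Zs p1).map (MulAut.conj g).toMonoidHom = Zs p')
    (hiso : ∀ μ : G → ℂ, μ 1 = 1 → (∀ a ∈ A, ∀ b ∈ A, μ (a * b) = μ a * μ b) →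
      ∃ p, ∀ z ∈ Zs p, μ z = 1)
    (hnt : ActsNontriv ρ (Zs p0) ⊤) :
    ActsNontriv ρ (Zs p1) (fixIn ρ (Zs p0) ⊤) := by
  classical
  by_contra hcon
  have htriv : ∀ z ∈ Zs p1, ∀ w ∈ fixIn ρ (Zs p0) ⊤, ρ z w = w := by
    intro z hz w hw
    by_contra h
    exact hcon ⟨z, hz, w, hw, h⟩
  have hcj : ∀ (g z : G) (w : W), ρ (g * z * g⁻¹) w = ρ g (ρ z (ρ g⁻¹ w)) := by
    intro g z w
    rw [map_mul, map_mul]
    rfl
  have hmono : ∀ p p', R p p' → ∀ w, (∀ z ∈ Zs p, ρ z w = w) → ∀ z ∈ Zs p', ρ z w = w := by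
    intro p p' hpp' w hw z' hz'
    obtain ⟨g, hg0, hg1⟩ := hconj p p' hpp'
    rw [← hg1] at hz'
    obtain ⟨z1, hz1, rfl⟩ := Subgroup.mem_map.1 hz'
    have hgi : ∀ x : W, ρ g⁻¹ (ρ g x) = x := by
      intro x
      rw [← Module.End.mul_apply, ← map_mul, inv_mul_cancel, map_one, Module.End.one_apply]
    have hgi' : ∀ x : W, ρ g (ρ g⁻¹ x) = x := by
      intro x
      rw [← Module.End.mul_apply, ← map_mul, mul_inv_cancel, map_one, Module.End.one_apply]
    have hw0 : ρ g⁻¹ w ∈ fixIn ρ (Zs p0) ⊤ := by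
      rw [abfixnt_mem_fixIn]
      refine ⟨Submodule.mem_top, fun z hz => ?_⟩
      have hzg : g * z * g⁻¹ ∈ Zs p := by
        rw [← hg0]
        exact Subgroup.mem_map.2 ⟨z, hz, by simp [MulAut.conj_apply]⟩
      have h1 := hw _ hzg
      rw [hcj] at h1
      have h2 := congrArg (fun x => ρ g⁻¹ x) h1
      simp only [hgi] at h2
      exact h2
    have h1 := htriv z1 hz1 _ hw0
    have h2 : (MulAut.conj g).toMonoidHom z1 = g * z1 * g⁻¹ := by simp [MulAut.conj_apply]
    rw [h2, hcj, h1, hgi']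
  have hall : ∀ p p', ∀ w, (∀ z ∈ Zs p, ρ z w = w) → ∀ z ∈ Zs p', ρ z w = w := by
    intro p p' w hw
    obtain ⟨p'', h1, h2⟩ := hR p p'
    exact hmono p'' p' h2 w (hmono p p'' h1 w hw)
  obtain ⟨z0, hz0, w, -, hw⟩ := hnt
  have hz0A : z0 ∈ A := hZA p0 hz0
  set U' : Submodule ℂ W := LinearMap.range (ρ z0 - 1) with hU'
  have hU'ne : U' ≠ ⊥ := by
    rw [Submodule.ne_bot_iff]
    refine ⟨ρ z0 w - w, ⟨w, by simp⟩, ?_⟩
    exact sub_ne_zero.2 hw
  have hU'inv : ∀ a : A, ∀ x ∈ U', ρ (a : G) x ∈ U' := by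
    rintro ⟨a, ha⟩ x ⟨y, rfl⟩
    refine ⟨ρ a y, ?_⟩
    have hc : ρ a (ρ z0 y) = ρ z0 (ρ a y) := by
      rw [← Module.End.mul_apply, ← Module.End.mul_apply, ← map_mul, ← map_mul, hA a ha z0 hz0A]
    simp only [LinearMap.sub_apply, Module.End.one_apply, map_sub, hc]
  haveI : Fintype A := Fintype.ofFinite A
  obtain ⟨v, hvU, hv0, hev⟩ := abfixnt_exists_common_eigenvector (fun a : A => ρ (a : G))
    (by
      rintro ⟨a, ha⟩ ⟨b, hb⟩
      show ρ a * ρ b = ρ b * ρ a
      rw [← map_mul, ← map_mul, hA a ha b hb])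
    (Finset.univ : Finset A) U' hU'ne hU'inv
  let μ : G → ℂ := fun g =>
    if hg : g ∈ A then Classical.choose (hev ⟨g, hg⟩ (Finset.mem_univ _)) else 1
  have hμ : ∀ a ∈ A, ρ a v = μ a • v := by
    intro a ha
    have := Classical.choose_spec (hev ⟨a, ha⟩ (Finset.mem_univ _))
    simp only [μ, dif_pos ha]
    exact this
  have hinj : ∀ c d : ℂ, c • v = d • v → c = d := by
    intro c d h
    exact smul_left_injective ℂ hv0 h
  have hμ1 : μ 1 = 1 := by
    apply hinj
    rw [← hμ 1 A.one_mem, map_one, Module.End.one_apply, one_smul]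
  have hμmul : ∀ a ∈ A, ∀ b ∈ A, μ (a * b) = μ a * μ b := by
    intro a ha b hb
    apply hinj
    rw [← hμ (a * b) (A.mul_mem ha hb), map_mul, Module.End.mul_apply, hμ b hb, map_smul, hμ a ha,
      smul_smul, mul_comm]
  obtain ⟨p, hp⟩ := hiso μ hμ1 hμmul
  have hfixp : ∀ z ∈ Zs p, ρ z v = v := by
    intro z hz
    rw [hμ z (hZA p hz), hp z hz, one_smul]
  have hfix0 := hall p p0 v hfixp z0 hz0
  obtain ⟨y, hy⟩ := hvU
  refine hv0 (abfixnt_ker_range ρ z0 v y ?_ hfix0)
  simpa using hy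

end abstract

end Cfsg.Agent.Lib.Helper6.Ls
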