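import Mathlib
import Cfsg.Prelude.Def_Characters
import Cfsg.Agent.Lib.Helper15.GlaubCyc
import Cfsg.Agent.Lib.Helper79.Basic

set_option autoImplicit false
set_option linter.unusedSectionVars false
set_option linter.style.haveILetI false

/-!
# Coset lemma for a coprime element, in general position

`∑_{c ∈ C_N(a)} |χ(c a)|² = |C_N(a)|` for a character `χ` of `Γ` restricting irreducibly to the
normal subgroup `N`, when the order of `a` is prime to `|N|` (no hypothesis `Γ = N⟨a⟩`).
-/

namespace Cfsg.Agent.Lib.Helper79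

open Cfsg
open scoped ComplexConjugate

universe u

/-- A character whose restriction to a subgroup is irreducible is irreducible. -/
theorem isIrrCharacter_of_restrict_irr {G : Type u} [Group G] [Fintype G] (N : Subgroup G) {χ : G → ℂ}
    (hχ : IsCharacter G χ) (hN : IsIrrCharacter N (fun n : N => χ n)) : IsIrrCharacter G χ := by
  obtain ⟨n, ρ, rfl⟩ := hχ
  have h := Cfsg.Agent.Lib.Helper15.resRep_irreducible ρ N hN
  refine ⟨n, ρ, ?_, rfl⟩
  have hnt : Nontrivial (Subrepresentation ρ) := by
    have h1 := h.toNontrivial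
    obtain ⟨a, b, hab⟩ := h1
    by_contra hcon
    rw [not_nontrivial_iff_subsingleton] at hcon
    have hbt : (⊥ : Subrepresentation ρ) = ⊤ := Subsingleton.elim _ _
    have hbt' : (⊥ : Submodule ℂ (Fin n → ℂ)) = ⊤ := congrArg Subrepresentation.toSubmodule hbt
    apply hab
    apply Subrepresentation.toSubmodule_injective
    have h2 : ∀ W : Submodule ℂ (Fin n → ℂ), W = ⊥ := by
      intro W
      apply le_antisymm _ bot_le
      rw [hbt']
      exact le_top
    rw [h2 a.toSubmodule, h2 b.toSubmodule]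
  refine { toNontrivial := hnt, eq_bot_or_eq_top := ?_ }
  intro σ
  let σ' : Subrepresentation (Cfsg.Agent.Lib.Helper15.resRep ρ N) :=
    ⟨σ.toSubmodule, fun g v hv => σ.apply_mem_toSubmodule (g : G) hv⟩
  rcases h.eq_bot_or_eq_top σ' with h1 | h1
  · left
    apply Subrepresentation.toSubmodule_injective
    have := congrArg Subrepresentation.toSubmodule h1
    exact this
  · right
    apply Subrepresentation.toSubmodule_injective
    have := congrArg Subrepresentation.toSubmodule h1
    exact this

/-- Coset lemma in general position. -/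
theorem coset_norm_of_coprime {Γ : Type u} [Group Γ] [Fintype Γ] (N : Subgroup Γ) [hN : N.Normal]
    (a : Γ) (hcop : (Nat.card N).Coprime (orderOf a)) {χ : Γ → ℂ} (hχ : IsCharacter Γ χ)
    (hres : IsIrrCharacter N (fun n : N => χ n)) (C : Subgroup Γ) [Fintype C]
    (hC : ∀ g : Γ, g ∈ C ↔ g ∈ N ∧ g * a = a * g) :
    ∑ c : C, χ ((c : Γ) * a) * conj (χ ((c : Γ) * a)) = Nat.card C := by
  classical
  let M : Subgroup Γ := N ⊔ Subgroup.zpowers a
  have hNM : N ≤ M := le_sup_left
  have haM : a ∈ M := (le_sup_right : Subgroup.zpowers a ≤ M) (Subgroup.mem_zpowers a)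
  let N' : Subgroup M := N.subgroupOf M
  haveI : N'.Normal := Subgroup.normal_subgroupOf
  let a' : M := ⟨a, haM⟩
  let χ' : M → ℂ := fun g => χ g
  have hχ' : IsCharacter M χ' := Cfsg.Agent.Lib.Helper3.IsCharacter.restrict hχ M
  have hres' : IsIrrCharacter N' (fun n : N' => χ' n) := by
    have h1 := isIrrCharacter_comp_surjective hres
      (Subgroup.subgroupOfEquivOfLe hNM).toMonoidHom (Subgroup.subgroupOfEquivOfLe hNM).surjective
    exact h1
  have hirr' : IsIrrCharacter M χ' := isIrrCharacter_of_restrict_irr N' hχ' hres'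
  have hcard : Nat.card N' = Nat.card N :=
    Nat.card_congr (Subgroup.subgroupOfEquivOfLe hNM).toEquiv
  have hord : orderOf a' = orderOf a := Subgroup.orderOf_mk a haM
  have hcop' : (Nat.card N').Coprime (orderOf a') := by rw [hcard, hord]; exact hcop
  have hbot : N ⊓ Subgroup.zpowers a = ⊥ := by
    apply (Subgroup.disjoint_of_coprime_natCard _).eq_bot
    rw [Nat.card_zpowers]
    exact hcop
  have hidx' : N'.index = orderOf a' := by
    rw [hord]
    show N.relIndex (N ⊔ Subgroup.zpowers a) = _
    rw [Subgroup.relIndex_sup_left, ← Subgroup.inf_relIndex_right, hbot,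
      Subgroup.relIndex_bot_left, Nat.card_zpowers]
  haveI : Fintype N' := Fintype.ofFinite _
  haveI : Fintype (Cfsg.Agent.Lib.Helper15.fixSub N' a') := Fintype.ofFinite _
  have key := Cfsg.Agent.Lib.Helper15.sum_fix_norm hcop' hidx' hirr' hres'
  have hmem : ∀ c' : M, c' ∈ Cfsg.Agent.Lib.Helper15.fixSub N' a' ↔ (c' : Γ) ∈ C := by
    intro c'
    rw [Cfsg.Agent.Lib.Helper15.mem_fixSub, hC, Subgroup.mem_subgroupOf]
    constructor
    · rintro ⟨h1, h2⟩
      exact ⟨h1, congrArg Subtype.val h2⟩
    · rintro ⟨h1, h2⟩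
      exact ⟨h1, Subtype.ext h2⟩
  let e : Cfsg.Agent.Lib.Helper15.fixSub N' a' ≃ C :=
    { toFun := fun c' => ⟨((c' : M) : Γ), (hmem c'.1).1 c'.2⟩
      invFun := fun c => ⟨⟨(c : Γ), hNM ((hC c).1 c.2).1⟩, (hmem _).2 c.2⟩
      left_inv := fun c' => by ext; rfl
      right_inv := fun c => by ext; rfl }
  rw [← Nat.card_congr e, ← key]
  symm
  exact Fintype.sum_equiv e _ _ (fun c' => rfl)

end Cfsg.Agent.Lib.Helper79
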