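import Cfsg.Agent.Lib.Helper88.AovDefs
import Cfsg.Agent.Lib.Helper87.FusionBasic

/-! # S5243 leaf Aov-C2p (helper79 for helper88): the power trick -/

set_option autoImplicit false
set_option linter.unusedSectionVars false
set_option linter.style.haveILetI false

namespace Cfsg.Agent.Lib.Helper88.Aov

open Cfsg Cfsg.FusionSystem Cfsg.Agent.Lib.Helper88

variable {Ω : Type*} [Group Ω] {S T : Subgroup Ω} [Finite S] {p : ℕ} [Fact p.Prime]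
  {F : FusionSystem S} {E : FusionSystem T} {K : Subgroup (MulAut T)}

/-- if `γ = α ∘ γ₀` on `R ≤ T` (`α ∈ Aut_F(T)`, `γ₀` a map of `E`) then `γ ^ j = α ^ j ∘ ε` with
`ε` a map of `E`. -/
theorem h79_pow_factor (h : Setup p F E K) {R : Subgroup Ω} (hRT : R ≤ T) (γ : MulAut R)
    (α : MulAut T) (hα : α ∈ F.autGroup T) (γ₀ : R →* Ω) (hγ₀ : γ₀ ∈ E.Hom R)
    (hfac : ∀ (x : R) (hx : γ₀ x ∈ T), ((γ x : R) : Ω) = ((α ⟨γ₀ x, hx⟩ : T) : Ω)) (j : ℕ) :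
    ∃ ε ∈ E.Hom R, ∀ (x : R) (hx : ε x ∈ T),
      (((γ ^ j) x : R) : Ω) = (((α ^ j) ⟨ε x, hx⟩ : T) : Ω) := by
  induction j with
  | zero =>
    refine ⟨R.subtype, Cfsg.Agent.Lib.Helper87.subtype_mem E hRT, fun x hx => ?_⟩
    rw [pow_zero, pow_zero]
    rfl
  | succ j ih =>
    obtain ⟨ε, hε, hεe⟩ := ih
    have hα' : α⁻¹ ∈ F.autGroup T := inv_mem hα
    obtain ⟨χ, hχ, hχe⟩ := transport_hom h.hinv hRT hε hα' (P' := img α⁻¹ R) rfl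
    have hγ₀T : ∀ x : R, γ₀ x ∈ T := fun x => (E.le_of_mem hγ₀).2 x
    have hεT : ∀ x : R, ε x ∈ T := fun x => (E.le_of_mem hε).2 x
    have hkey : ∀ x : R, (⟨γ₀ x, hγ₀T x⟩ : T) = α⁻¹ ⟨((γ x : R) : Ω), hRT (γ x).2⟩ := by
      intro x
      have h1 := hfac x (hγ₀T x)
      have h2 : (⟨((γ x : R) : Ω), hRT (γ x).2⟩ : T) = α ⟨γ₀ x, hγ₀T x⟩ := Subtype.ext h1
      rw [h2, MulAut.inv_apply_self]
    have hm : ∀ x : R, γ₀ x ∈ img α⁻¹ R := by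
      intro x
      refine mem_img.mpr ⟨⟨((γ x : R) : Ω), hRT (γ x).2⟩, (γ x).2, ?_⟩
      rw [← hkey x]
    refine ⟨χ.comp (γ₀.codRestrict _ hm), E.comp_mem hγ₀ hχ hm, fun x hx => ?_⟩
    have hmem : ((α⁻¹ ⟨((γ x : R) : Ω), hRT (γ x).2⟩ : T) : Ω) ∈ img α⁻¹ R := by
      rw [← hkey x]; exact hm x
    have h3 := hχe (γ x) (hεT _) hmem
    have e1 : (γ₀.codRestrict _ hm x) =
        ⟨((α⁻¹ ⟨((γ x : R) : Ω), hRT (γ x).2⟩ : T) : Ω), hmem⟩ := by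
      apply Subtype.ext
      show γ₀ x = ((α⁻¹ ⟨((γ x : R) : Ω), hRT (γ x).2⟩ : T) : Ω)
      exact congrArg (fun t : T => (t : Ω)) (hkey x)
    have e2 : (χ.comp (γ₀.codRestrict _ hm)) x = ((α⁻¹ ⟨ε (γ x), hεT _⟩ : T) : Ω) := by
      show χ (γ₀.codRestrict _ hm x) = _
      rw [e1, h3]
    have e3 : (⟨(χ.comp (γ₀.codRestrict _ hm)) x, hx⟩ : T) = α⁻¹ ⟨ε (γ x), hεT _⟩ :=
      Subtype.ext e2
    rw [e3, pow_succ, pow_succ, MulAut.mul_apply, MulAut.mul_apply, MulAut.apply_inv_self]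
    exact hεe (γ x) (hεT _)

/-- C2'. Power trick. -/
theorem pElt_factor (h : Setup p F E K) {R : Subgroup Ω} (hRT : R ≤ T) (γ : MulAut R)
    (hγ : γ ∈ F.autGroup R) (k : ℕ) (hk : orderOf γ = p ^ k) :
    ∃ κ ∈ K, ∃ γ₀ ∈ E.Hom R, ∀ (x : R) (hx : γ₀ x ∈ T),
      ((γ x : R) : Ω) = ((κ ⟨γ₀ x, hx⟩ : T) : Ω) := by
  have hTS : T ≤ S := h.hT.1
  have hRS : R ≤ S := hRT.trans hTS
  have hγF : R.subtype.comp γ.toMonoidHom ∈ F.Hom R :=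
    (Cfsg.Agent.Lib.Helper87.mem_autGroup_iff F hRS γ).mp hγ
  obtain ⟨α, hα, γ₀, hγ₀, hfac⟩ := h.hfrat R hRT _ hγF
  obtain ⟨m, hmp, hm0, hmK⟩ := h.hKm
  have hco : Nat.Coprime (p ^ k) m := Nat.Coprime.pow_left k hmp.symm
  obtain ⟨j, hj1, hj0⟩ := Nat.chineseRemainder hco 1 0
  obtain ⟨ε, hε, hεe⟩ := h79_pow_factor h hRT γ α hα γ₀ hγ₀ (fun x hx => hfac x hx) j
  have hγj : γ ^ j = γ := by
    have : γ ^ j = γ ^ 1 := pow_eq_pow_iff_modEq.mpr (by rw [hk]; exact hj1)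
    rw [this, pow_one]
  have hαj : α ^ j ∈ K := by
    obtain ⟨t, rfl⟩ := (Nat.modEq_zero_iff_dvd.mp hj0)
    rw [pow_mul]
    exact pow_mem (hmK α hα) t
  refine ⟨α ^ j, hαj, ε, hε, fun x hx => ?_⟩
  rw [← hεe x hx, hγj]

end Cfsg.Agent.Lib.Helper88.Aov
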