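import Cfsg.Agent.Lib.Helper88.AovDefs
import Cfsg.Agent.Lib.Helper87.FusionBasic
import Cfsg.Agent.Lib.Helper79.AovC2p

/-! # S5243 leaf Aov-C2 (helper79 for helper88): `p`-elements of `Aut_F(P)` lie in the naive
system -/

set_option autoImplicit false
set_option linter.unusedSectionVars false
set_option linter.style.haveILetI false

namespace Cfsg.Agent.Lib.Helper88.Aov

open Cfsg Cfsg.FusionSystem Cfsg.Agent.Lib.Helper88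

variable {Ω : Type*} [Group Ω] {S T : Subgroup Ω} [Finite S] {p : ℕ} [Fact p.Prime]
  {F : FusionSystem S} {E : FusionSystem T} {K : Subgroup (MulAut T)}

/-- an automorphism of `P` in `F` maps `P ⊓ T` into `T` (`T` strongly closed) -/
theorem h79_aut_mem_T (hT : F.StronglyClosed T) {P : Subgroup Ω} (hP : P ≤ S) (δ : MulAut P)
    (hδ : δ ∈ F.autGroup P) (x : ↥(P ⊓ T)) : ((δ ⟨(x : Ω), x.2.1⟩ : P) : Ω) ∈ T := by
  have hδF : P.subtype.comp δ.toMonoidHom ∈ F.Hom P :=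
    (Cfsg.Agent.Lib.Helper87.mem_autGroup_iff F hP δ).mp hδ
  have h1 := Cfsg.Agent.Lib.Helper87.restrict_mem F hδF (inf_le_left : P ⊓ T ≤ P)
  exact hT.2 (P ⊓ T) inf_le_right _ h1 x

/-- the restriction of `δ ∈ Aut_F(P)` to `P ⊓ T`, as a function -/
def h79_resFun (hT : F.StronglyClosed T) {P : Subgroup Ω} (hP : P ≤ S) (δ : MulAut P)
    (hδ : δ ∈ F.autGroup P) (x : ↥(P ⊓ T)) : ↥(P ⊓ T) :=
  ⟨((δ ⟨(x : Ω), x.2.1⟩ : P) : Ω), ⟨(δ ⟨(x : Ω), x.2.1⟩).2, h79_aut_mem_T hT hP δ hδ x⟩⟩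

/-- the restriction of `γ ∈ Aut_F(P)` to `P ⊓ T`, as an automorphism -/
def h79_resAut (hT : F.StronglyClosed T) {P : Subgroup Ω} (hP : P ≤ S) (γ : MulAut P)
    (hγ : γ ∈ F.autGroup P) : MulAut ↥(P ⊓ T) where
  toFun := h79_resFun hT hP γ hγ
  invFun := h79_resFun hT hP γ⁻¹ (inv_mem hγ)
  left_inv := by
    intro x
    apply Subtype.ext
    show ((γ⁻¹ ⟨((γ ⟨(x : Ω), x.2.1⟩ : P) : Ω), _⟩ : P) : Ω) = (x : Ω)
    have : (⟨((γ ⟨(x : Ω), x.2.1⟩ : P) : Ω), (γ ⟨(x : Ω), x.2.1⟩).2⟩ : P) = γ ⟨(x : Ω), x.2.1⟩ := rfl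
    rw [this, MulAut.inv_apply_self]
  right_inv := by
    intro x
    apply Subtype.ext
    show ((γ ⟨((γ⁻¹ ⟨(x : Ω), x.2.1⟩ : P) : Ω), _⟩ : P) : Ω) = (x : Ω)
    have : (⟨((γ⁻¹ ⟨(x : Ω), x.2.1⟩ : P) : Ω), (γ⁻¹ ⟨(x : Ω), x.2.1⟩).2⟩ : P) =
        γ⁻¹ ⟨(x : Ω), x.2.1⟩ := rfl
    rw [this, MulAut.apply_inv_self]
  map_mul' := by
    intro x y
    apply Subtype.ext
    show ((γ ⟨((x * y : ↥(P ⊓ T)) : Ω), _⟩ : P) : Ω) =
      ((γ ⟨(x : Ω), x.2.1⟩ : P) : Ω) * ((γ ⟨(y : Ω), y.2.1⟩ : P) : Ω)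
    have : (⟨((x * y : ↥(P ⊓ T)) : Ω), (x * y).2.1⟩ : P) = ⟨(x : Ω), x.2.1⟩ * ⟨(y : Ω), y.2.1⟩ := rfl
    rw [this, map_mul]
    rfl

theorem h79_resAut_apply (hT : F.StronglyClosed T) {P : Subgroup Ω} (hP : P ≤ S) (γ : MulAut P)
    (hγ : γ ∈ F.autGroup P) (x : ↥(P ⊓ T)) :
    ((h79_resAut hT hP γ hγ x : ↥(P ⊓ T)) : Ω) = ((γ ⟨(x : Ω), x.2.1⟩ : P) : Ω) := rfl

theorem h79_resAut_pow (hT : F.StronglyClosed T) {P : Subgroup Ω} (hP : P ≤ S) (γ : MulAut P)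
    (hγ : γ ∈ F.autGroup P) (n : ℕ) (x : ↥(P ⊓ T)) :
    (((h79_resAut hT hP γ hγ ^ n) x : ↥(P ⊓ T)) : Ω) = (((γ ^ n) ⟨(x : Ω), x.2.1⟩ : P) : Ω) := by
  induction n generalizing x with
  | zero => rw [pow_zero, pow_zero]; rfl
  | succ n ih =>
    rw [pow_succ, pow_succ, MulAut.mul_apply, MulAut.mul_apply, ih]
    rfl

theorem h79_resAut_mem (hT : F.StronglyClosed T) {P : Subgroup Ω} (hP : P ≤ S) (γ : MulAut P)
    (hγ : γ ∈ F.autGroup P) : h79_resAut hT hP γ hγ ∈ F.autGroup (P ⊓ T) := by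
  rw [Cfsg.Agent.Lib.Helper87.mem_autGroup_iff F (inf_le_left.trans hP)]
  have hγF : P.subtype.comp γ.toMonoidHom ∈ F.Hom P :=
    (Cfsg.Agent.Lib.Helper87.mem_autGroup_iff F hP γ).mp hγ
  have h1 := Cfsg.Agent.Lib.Helper87.restrict_mem F hγF (inf_le_left : P ⊓ T ≤ P)
  have e : (P ⊓ T).subtype.comp (h79_resAut hT hP γ hγ).toMonoidHom =
      (P.subtype.comp γ.toMonoidHom).comp (Subgroup.inclusion (inf_le_left : P ⊓ T ≤ P)) := by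
    ext x
    rfl
  rw [e]
  exact h1

/-- C2. every automorphism of `p`-power order of `P ≤ S` in `F` lies in the naive system. -/
theorem pElt_mem_kerHom (h : Setup p F E K) {P : Subgroup Ω} (hP : P ≤ S) (γ : MulAut P)
    (hγ : γ ∈ F.autGroup P) (k : ℕ) (hk : orderOf γ = p ^ k) :
    P.subtype.comp γ.toMonoidHom ∈ kerHom F E K P := by
  have hγF : P.subtype.comp γ.toMonoidHom ∈ F.Hom P :=
    (Cfsg.Agent.Lib.Helper87.mem_autGroup_iff F hP γ).mp hγ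
  set γ' := h79_resAut h.hT hP γ hγ with hγ'
  have hγ'mem : γ' ∈ F.autGroup (P ⊓ T) := h79_resAut_mem h.hT hP γ hγ
  have hpow : γ' ^ (p ^ k) = 1 := by
    apply MulEquiv.ext
    intro x
    apply Subtype.ext
    rw [hγ', h79_resAut_pow, ← hk, pow_orderOf_eq_one]
    rfl
  obtain ⟨k', -, hk'⟩ := (Nat.dvd_prime_pow (Fact.out : p.Prime)).mp (orderOf_dvd_of_pow_eq_one hpow)
  obtain ⟨κ, hκ, γ₀, hγ₀, hfac⟩ := pElt_factor h (inf_le_right : P ⊓ T ≤ T) γ' hγ'mem k' hk'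
  exact ⟨hγF, κ, hκ, γ₀, hγ₀, fun x hx => hfac x hx⟩

end Cfsg.Agent.Lib.Helper88.Aov
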