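import Cfsg.Agent.Lib.Helper18.AutDefs
import Cfsg.Agent.Lib.Helper36.ChevBN
import Cfsg.Agent.Lib.Helper18.ChevSplit
import Cfsg.Agent.Lib.Helper18.StSides
import Cfsg.Agent.Lib.Helper36.ChevW0d

/-! # S2156, piece T2d: the permutation of the positive fundamental root subgroups (helper79)

`T2d_pos_of_T2c` derives the statement `T2d_pos` of `Helper18.AutSkel` from the statement `T2c_neg`
(passed as a hypothesis), by conjugating with `n₀ = n_{w₀}`. -/

set_option autoImplicit false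
set_option linter.unusedSectionVars false
set_option linter.style.haveILetI false
set_option maxRecDepth 100000

namespace Cfsg.Agent.Lib.Helper79.Au

open Cfsg Cfsg.Lie Cfsg.Agent.Lib.Helper36 Cfsg.Agent.Lib.Helper18 Cfsg.Agent.Lib.Helper18.Au

/-- table check: `w₀` maps the negative of every fundamental root to a fundamental root -/
def chkW0Simple (D : ChevalleyDatum) : Bool :=
  (List.range D.rank).all fun i => (List.range D.rank).any fun j =>
    Nat.beq (wRoot D (w0word D) (D.neg (D.simple i))) (D.simple j)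

theorem chkW0Simple_G2 : chkW0Simple chevG2 = true := by decide +kernel
theorem chkW0Simple_B2 : chkW0Simple chevB2 = true := by decide +kernel
theorem chkW0Simple_D4 : chkW0Simple chevD4 = true := by decide +kernel
theorem chkW0Simple_F4 : chkW0Simple chevF4 = true := by decide +kernel
theorem chkW0Simple_E6 : chkW0Simple chevE6 = true := by decide +kernel
theorem chkW0Simple_E7 : chkW0Simple chevE7 = true := by decide +kernel
theorem chkW0Simple_E8 : chkW0Simple chevE8 = true := by decide +kernel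

theorem chkW0Simple_all (D : ChevalleyDatum)
    (hD : D ∈ [chevG2, chevB2, chevD4, chevF4, chevE6, chevE7, chevE8]) : chkW0Simple D = true :=
  seven_cases (P := fun D => chkW0Simple D = true) D hD chkW0Simple_G2 chkW0Simple_B2 chkW0Simple_D4
    chkW0Simple_F4 chkW0Simple_E6 chkW0Simple_E7 chkW0Simple_E8

section
variable (D : ChevalleyDatum) (hD : D ∈ [chevG2, chevB2, chevD4, chevF4, chevE6, chevE7, chevE8])

include hD in
theorem w0_neg_simple_h79 (i : Fin D.rank) :
    ∃ j : Fin D.rank, wRoot D (w0word D) (D.neg (D.simple i)) = D.simple j := by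
  have h := chkW0Simple_all D hD
  unfold chkW0Simple at h
  simp only [List.all_eq_true, List.any_eq_true, List.mem_range] at h
  obtain ⟨j, hj, e⟩ := h i i.2
  exact ⟨⟨j, hj⟩, Nat.eq_of_beq_eq_true e⟩

include hD in
theorem simple_injective_h79 (i j : Fin D.rank) (h : D.simple i = D.simple j) : i = j := by
  have h1 := cor_simple D hD i i i.2 i.2
  have h2 := cor_simple D hD j i j.2 i.2
  rw [h, h2] at h1
  by_contra hne
  rw [if_neg (fun e => hne (Fin.ext e)), if_pos rfl] at h1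
  exact absurd h1 (by norm_num)

/-- the permutation `-w₀` of the fundamental roots -/
noncomputable def iotaFun_h79 (i : Fin D.rank) : Fin D.rank := (w0_neg_simple_h79 D hD i).choose

theorem iotaFun_spec_h79 (i : Fin D.rank) :
    wRoot D (w0word D) (D.neg (D.simple i)) = D.simple (iotaFun_h79 D hD i) :=
  (w0_neg_simple_h79 D hD i).choose_spec

theorem iotaFun_injective_h79 : Function.Injective (iotaFun_h79 D hD) := by
  intro i j hij
  obtain ⟨h1, -, -⟩ := chkW0_spec D hD
  have e1 := iotaFun_spec_h79 D hD i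
  have e2 := iotaFun_spec_h79 D hD j
  rw [hij, ← e2] at e1
  have e3 := Cfsg.Agent.Lib.Helper18.wRoot_inj D hD (w0word D) h1 _ _
    (neg_simple_lt' D hD i) (neg_simple_lt' D hD j) e1
  have e4 : D.simple i = D.simple j := by
    rw [← neg_neg_root D hD _ (simple_lt' D hD i), e3, neg_neg_root D hD _ (simple_lt' D hD j)]
  exact simple_injective_h79 D hD i j e4

/-- `-w₀` as a permutation -/
noncomputable def iotaPerm_h79 : Equiv.Perm (Fin D.rank) :=
  Equiv.ofBijective (iotaFun_h79 D hD) (Finite.injective_iff_bijective.1 (iotaFun_injective_h79 D hD))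

theorem iotaPerm_apply_h79 (i : Fin D.rank) : iotaPerm_h79 D hD i = iotaFun_h79 D hD i := rfl

variable (F : Type*) [Field F]

include hD in
/-- `w₀` maps negative roots to positive roots -/
theorem wRoot_w0_pos_h79 (s : ℕ) (hs : D.IsNegRoot s) : D.IsPosRoot (wRoot D (w0word D) s) := by
  obtain ⟨h1, -, -⟩ := chkW0_spec D hD
  have hpos := Cfsg.Agent.Lib.Helper18.isPosRoot_neg D hD s hs
  have hneg := wRoot_w0_neg D hD _ hpos
  have e : wRoot D (w0word D) s = D.neg (wRoot D (w0word D) (D.neg s)) := by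
    rw [← Cfsg.Agent.Lib.Helper18.wRoot_neg D hD _ h1 _ hpos.1, neg_neg_root D hD s hs.1]
  rw [e]
  exact Cfsg.Agent.Lib.Helper18.isPosRoot_neg D hD _ hneg

theorem negUnipotent_map_conj_le_h79 :
    (D.negUnipotent F).map (MulAut.conj (nWordGL D hD F (w0word D))).toMonoidHom ≤ D.posUnipotent F := by
  obtain ⟨h1, -, -⟩ := chkW0_spec D hD
  unfold ChevalleyDatum.negUnipotent
  rw [MonoidHom.map_closure, Subgroup.closure_le]
  rintro g ⟨x, ⟨r, t, hr, hx⟩, rfl⟩
  have ex : x = xGL D hD F r t := Units.ext (by rw [hx, xGL_coe])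
  obtain ⟨ε, -, hc⟩ := nWordGL_conj D hD F (w0word D) h1 r hr.1
  have : (MulAut.conj (nWordGL D hD F (w0word D))).toMonoidHom x =
      xGL D hD F (wRoot D (w0word D) r) (ε * t) := by
    rw [ex, ← hc t]
    rfl
  rw [SetLike.mem_coe, this]
  exact Subgroup.subset_closure ⟨_, _, wRoot_w0_pos_h79 D hD r hr, xGL_coe D hD F _ _⟩

theorem negUnipotent_map_conj_h79 [Finite F] :
    (D.negUnipotent F).map (MulAut.conj (nWordGL D hD F (w0word D))).toMonoidHom = D.posUnipotent F := by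
  have hinj : Function.Injective (MulAut.conj (nWordGL D hD F (w0word D))).toMonoidHom :=
    (MulAut.conj (nWordGL D hD F (w0word D))).injective
  apply Subgroup.eq_of_le_of_card_ge (negUnipotent_map_conj_le_h79 D hD F)
  rw [Subgroup.card_map_of_injective hinj, ← posUnipotent_map_conj D hD F,
    Subgroup.card_map_of_injective hinj]

theorem conj_mem_neg_iff_h79 (g : GL D.Idx F) :
    nWordGL D hD F (w0word D) * g * (nWordGL D hD F (w0word D))⁻¹ ∈ D.negUnipotent F ↔
      g ∈ D.posUnipotent F := by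
  have hinj : Function.Injective (MulAut.conj (nWordGL D hD F (w0word D))).toMonoidHom :=
    (MulAut.conj (nWordGL D hD F (w0word D))).injective
  rw [← posUnipotent_map_conj D hD F]
  exact Subgroup.mem_map_iff_mem hinj

theorem conj_mem_pos_iff_h79 [Finite F] (g : GL D.Idx F) :
    nWordGL D hD F (w0word D) * g * (nWordGL D hD F (w0word D))⁻¹ ∈ D.posUnipotent F ↔
      g ∈ D.negUnipotent F := by
  have hinj : Function.Injective (MulAut.conj (nWordGL D hD F (w0word D))).toMonoidHom :=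
    (MulAut.conj (nWordGL D hD F (w0word D))).injective
  rw [← negUnipotent_map_conj_h79 D hD F]
  exact Subgroup.mem_map_iff_mem hinj

theorem nWordGL_w0_mem_group_h79 : nWordGL D hD F (w0word D) ∈ D.group F := by
  obtain ⟨h1, -, -⟩ := chkW0_spec D hD
  exact monomial_le_group D hD F (nWordGL_mem D hD F _ h1)

/-- `n₀` as an element of the Chevalley group -/
noncomputable def n0Gr_h79 : ↥(D.group F) := ⟨nWordGL D hD F (w0word D), nWordGL_w0_mem_group_h79 D hD F⟩

/-- `θ₀` conjugated by `n₀` -/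
noncomputable def conjAut_h79 (θ₀ : ↥(D.group F) ≃* ↥(D.group F)) : ↥(D.group F) ≃* ↥(D.group F) :=
  (MulAut.conj (n0Gr_h79 D hD F)).trans (θ₀.trans (MulAut.conj (n0Gr_h79 D hD F)).symm)

theorem conjAut_apply_h79 (θ₀ : ↥(D.group F) ≃* ↥(D.group F)) (y : ↥(D.group F)) :
    conjAut_h79 D hD F θ₀ y =
      (n0Gr_h79 D hD F)⁻¹ * θ₀ (n0Gr_h79 D hD F * y * (n0Gr_h79 D hD F)⁻¹) * n0Gr_h79 D hD F := by
  simp [conjAut_h79, MulAut.conj_symm_apply]

theorem conjAut_conj_h79 (θ₀ : ↥(D.group F) ≃* ↥(D.group F)) (y : ↥(D.group F)) :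
    n0Gr_h79 D hD F * conjAut_h79 D hD F θ₀ y * (n0Gr_h79 D hD F)⁻¹ =
      θ₀ (n0Gr_h79 D hD F * y * (n0Gr_h79 D hD F)⁻¹) := by
  rw [conjAut_apply_h79]
  group

theorem conjAut_pres_pos_h79 [Finite F] (θ₀ : ↥(D.group F) ≃* ↥(D.group F))
    (hV : Pres D F θ₀ (D.negUnipotent F)) : Pres D F (conjAut_h79 D hD F θ₀) (D.posUnipotent F) := by
  intro y
  rw [← conj_mem_neg_iff_h79 D hD F, ← conj_mem_neg_iff_h79 D hD F (y : GL D.Idx F)]
  have e := congrArg (fun z : ↥(D.group F) => (z : GL D.Idx F)) (conjAut_conj_h79 D hD F θ₀ y)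
  simp only [Subgroup.coe_mul, Subgroup.coe_inv] at e
  have e0 : ((n0Gr_h79 D hD F : ↥(D.group F)) : GL D.Idx F) = nWordGL D hD F (w0word D) := rfl
  rw [e0] at e
  rw [e]
  have := hV (n0Gr_h79 D hD F * y * (n0Gr_h79 D hD F)⁻¹)
  rw [this]
  simp only [Subgroup.coe_mul, Subgroup.coe_inv, e0]

theorem conjAut_pres_neg_h79 [Finite F] (θ₀ : ↥(D.group F) ≃* ↥(D.group F))
    (hU : Pres D F θ₀ (D.posUnipotent F)) : Pres D F (conjAut_h79 D hD F θ₀) (D.negUnipotent F) := by
  intro y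
  rw [← conj_mem_pos_iff_h79 D hD F, ← conj_mem_pos_iff_h79 D hD F (y : GL D.Idx F)]
  have e := congrArg (fun z : ↥(D.group F) => (z : GL D.Idx F)) (conjAut_conj_h79 D hD F θ₀ y)
  simp only [Subgroup.coe_mul, Subgroup.coe_inv] at e
  have e0 : ((n0Gr_h79 D hD F : ↥(D.group F)) : GL D.Idx F) = nWordGL D hD F (w0word D) := rfl
  rw [e0] at e
  rw [e]
  have := hU (n0Gr_h79 D hD F * y * (n0Gr_h79 D hD F)⁻¹)
  rw [this]
  simp only [Subgroup.coe_mul, Subgroup.coe_inv, e0]

/-- conjugation by `n₀` maps `X_{-p_i}` onto `X_{p_{ι i}}` -/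
theorem n0_conj_neg_simple_h79 (i : Fin D.rank) :
    ∃ ε : F, ε * ε = 1 ∧ ∀ t : F,
      n0Gr_h79 D hD F * xGr D hD F (D.neg (D.simple i)) t * (n0Gr_h79 D hD F)⁻¹ =
        xGr D hD F (D.simple (iotaFun_h79 D hD i)) (ε * t) := by
  obtain ⟨h1, -, -⟩ := chkW0_spec D hD
  obtain ⟨ε, hε, hc⟩ := nWordGL_conj D hD F (w0word D) h1 _ (neg_simple_lt' D hD i)
  refine ⟨ε, hε, fun t => ?_⟩
  apply Subtype.ext
  have := hc t
  rw [iotaFun_spec_h79 D hD i] at this
  simp only [Subgroup.coe_mul, Subgroup.coe_inv, xGr_coe]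
  exact this

/-- **T2d from T2c.** -/
theorem T2d_pos_of_T2c [Finite F]
    (hT2c : ∀ θ : ↥(D.group F) ≃* ↥(D.group F), Pres D F θ (D.posUnipotent F) →
      Pres D F θ (D.negUnipotent F) → ∃ π : Equiv.Perm (Fin D.rank), ∀ i : Fin D.rank,
        MapsRoot D hD F θ (D.neg (D.simple i)) (D.neg (D.simple (π i))))
    (θ₀ : ↥(D.group F) ≃* ↥(D.group F))
    (hU : Pres D F θ₀ (D.posUnipotent F)) (hV : Pres D F θ₀ (D.negUnipotent F)) :
    ∃ π : Equiv.Perm (Fin D.rank), ∀ i : Fin D.rank,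
      MapsRoot D hD F θ₀ (D.simple i) (D.simple (π i)) := by
  obtain ⟨π', hπ'⟩ := hT2c (conjAut_h79 D hD F θ₀) (conjAut_pres_pos_h79 D hD F θ₀ hV)
    (conjAut_pres_neg_h79 D hD F θ₀ hU)
  refine ⟨(iotaPerm_h79 D hD).symm.trans (π'.trans (iotaPerm_h79 D hD)), fun j t => ?_⟩
  set i : Fin D.rank := (iotaPerm_h79 D hD).symm j with hi
  have hij : iotaFun_h79 D hD i = j := by
    rw [← iotaPerm_apply_h79, hi, Equiv.apply_symm_apply]
  obtain ⟨ε, hε, hc⟩ := n0_conj_neg_simple_h79 D hD F i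
  obtain ⟨ε', -, hc'⟩ := n0_conj_neg_simple_h79 D hD F (π' i)
  obtain ⟨t₁, ht₁⟩ := hπ' i (ε * t)
  refine ⟨ε' * t₁, ?_⟩
  have e1 : xGr D hD F (D.simple j) t =
      n0Gr_h79 D hD F * xGr D hD F (D.neg (D.simple i)) (ε * t) * (n0Gr_h79 D hD F)⁻¹ := by
    rw [hc (ε * t), hij, ← mul_assoc, hε, one_mul]
  have e2 : (iotaPerm_h79 D hD).symm.trans (π'.trans (iotaPerm_h79 D hD)) j =
      iotaFun_h79 D hD (π' i) := rfl
  rw [e2, e1, ← conjAut_conj_h79, ht₁, hc' t₁]

end

end Cfsg.Agent.Lib.Helper79.Au
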