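import Cfsg.Agent.Lib.Helper79.AutT2d
import Cfsg.Agent.Lib.Helper72.AutT2c

/-! # S2156, piece T2d: final form (helper79), from helper72's `T2c_neg` -/

set_option autoImplicit false

namespace Cfsg.Agent.Lib.Helper79.Au

open Cfsg Cfsg.Lie Cfsg.Agent.Lib.Helper36 Cfsg.Agent.Lib.Helper18 Cfsg.Agent.Lib.Helper18.Au

/-- **T2d** (exact statement of `Helper18.Au.T2d_pos`). -/
theorem T2d_pos (D : ChevalleyDatum) (hD : D ∈ [chevG2, chevB2, chevD4, chevF4, chevE6, chevE7, chevE8])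
    (F : Type*) [Field F] [Finite F] (θ₀ : ↥(D.group F) ≃* ↥(D.group F))
    (hU : Pres D F θ₀ (D.posUnipotent F)) (hV : Pres D F θ₀ (D.negUnipotent F)) :
    ∃ π : Equiv.Perm (Fin D.rank), ∀ i : Fin D.rank,
      MapsRoot D hD F θ₀ (D.simple i) (D.simple (π i)) :=
  T2d_pos_of_T2c D hD F (fun θ hU hV => Cfsg.Agent.Lib.Helper72.Au.T2c_neg D hD F θ hU hV) θ₀ hU hV

end Cfsg.Agent.Lib.Helper79.Au
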