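import Cfsg.Agent.Lib.Helper18.AutDefs
import Cfsg.Agent.Lib.Helper18.ChevCommAll
import Cfsg.Agent.Lib.Helper36.ChevW0d

/-! # S2156, piece T6: a length-swapping permutation forces the characteristic (helper79)

If an automorphism `θ₁` maps `x_{±p_i}(t)` to `x_{±p_{π i}}(σ_i t)` then `θ₁ (n_i) = n_{π i}`, so `θ₁` maps the root
subgroup `X_{w r}` into `X_{π(w) r'}` when it maps `X_r` into `X_{r'}`.  For a short fundamental root `r = p_i` and a
suitable word `w`, the subgroups `X_r`, `X_{w r}` have commutator `x_k(c t u)` with `c = 2` (types `B₂`, `F₄`) resp.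
`c = 3` (type `G₂`), while their images commute. -/

set_option autoImplicit false
set_option linter.unusedSectionVars false
set_option linter.style.haveILetI false
set_option maxRecDepth 100000

namespace Cfsg.Agent.Lib.Helper79.Au

open Cfsg Cfsg.Lie Cfsg.Agent.Lib.Helper36 Cfsg.Agent.Lib.Helper18 Cfsg.Agent.Lib.Helper18.Au

section
variable (D : ChevalleyDatum) (hD : D ∈ [chevG2, chevB2, chevD4, chevF4, chevE6, chevE7, chevE8])
variable (F : Type*) [Field F]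

/-- `n_i = n_{p_i}(1)` as an element of the Chevalley group -/
noncomputable def nGr_h79 (i : ℕ) : ↥(D.group F) := wordGr D hD F (D.nWord (D.simple i) 1)

theorem nGr_coe_h79 (i : ℕ) :
    ((nGr_h79 D hD F i : ↥(D.group F)) : GL D.Idx F) = nGL D hD F (D.simple i) 1 := by
  unfold nGr_h79
  rw [wordGr_coe]
  rfl

/-- an automorphism acting on `X_{±p_i}` through ring automorphisms maps `n_i` to `n_{π i}` -/
theorem map_nGr_h79 (θ₁ : ↥(D.group F) ≃* ↥(D.group F)) (π : Equiv.Perm (Fin D.rank))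
    (σ : Fin D.rank → F ≃+* F)
    (h : ∀ (i : Fin D.rank) (t : F),
      θ₁ (xGr D hD F (D.simple i) t) = xGr D hD F (D.simple (π i)) (σ i t) ∧
      θ₁ (xGr D hD F (D.neg (D.simple i)) t) = xGr D hD F (D.neg (D.simple (π i))) (σ i t))
    (i : Fin D.rank) : θ₁ (nGr_h79 D hD F i) = nGr_h79 D hD F (π i) := by
  unfold nGr_h79 wordGr ChevalleyDatum.nWord
  simp only [List.map_cons, List.map_nil, List.prod_cons, List.prod_nil, mul_one, map_mul,
    (h i _).1, (h i _).2, map_neg, map_inv₀, map_one]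

include hD in
theorem nEta_sq_h79 (i : ℕ) (hi : i < D.rank) (r : ℕ) (hr : r < D.nroots) :
    ((nEta D i r : ℤ) : F) * ((nEta D i r : ℤ) : F) = 1 := by
  obtain ⟨-, -, -, -, hs'⟩ := chkN2_spec D (chkN2_all D hD) i hi
  obtain ⟨-, -, h3, -, -, -, -⟩ := hs' r hr
  rcases h3 with h | h <;> rw [h] <;> simp

/-- `x_{w_i r}(t) = n_i x_r(η t) n_i⁻¹` inside the group -/
theorem xGr_reflect_h79 (i : ℕ) (hi : i < D.rank) (r : ℕ) (hr : r < D.nroots) (t : F) :
    xGr D hD F (D.reflectRoot i r) t =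
      nGr_h79 D hD F i * xGr D hD F r (((nEta D i r : ℤ) : F) * t) * (nGr_h79 D hD F i)⁻¹ := by
  apply Subtype.ext
  rw [Subgroup.coe_mul, Subgroup.coe_mul, Subgroup.coe_inv, nGr_coe_h79, xGr_coe, xGr_coe]
  exact xGL_reflect D hD F i r hi hr t

/-- `n_i x_r(t) n_i⁻¹ = x_{w_i r}(η t)` inside the group -/
theorem nGr_conj_h79 (i : ℕ) (hi : i < D.rank) (r : ℕ) (hr : r < D.nroots) (t : F) :
    nGr_h79 D hD F i * xGr D hD F r t * (nGr_h79 D hD F i)⁻¹ =
      xGr D hD F (D.reflectRoot i r) (((nEta D i r : ℤ) : F) * t) := by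
  rw [xGr_reflect_h79 D hD F i hi r hr, ← mul_assoc, nEta_sq_h79 D hD F i hi r hr, one_mul]

theorem mapsRoot_reflect_h79 (θ₁ : ↥(D.group F) ≃* ↥(D.group F)) (π : Equiv.Perm (Fin D.rank))
    (σ : Fin D.rank → F ≃+* F)
    (h : ∀ (i : Fin D.rank) (t : F),
      θ₁ (xGr D hD F (D.simple i) t) = xGr D hD F (D.simple (π i)) (σ i t) ∧
      θ₁ (xGr D hD F (D.neg (D.simple i)) t) = xGr D hD F (D.neg (D.simple (π i))) (σ i t))
    (r r' : ℕ) (hr : r < D.nroots) (hr' : r' < D.nroots) (hm : MapsRoot D hD F θ₁ r r')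
    (i : Fin D.rank) :
    MapsRoot D hD F θ₁ (D.reflectRoot i r) (D.reflectRoot (π i) r') := by
  intro t
  obtain ⟨t', ht'⟩ := hm (((nEta D i r : ℤ) : F) * t)
  refine ⟨((nEta D (π i) r' : ℤ) : F) * t', ?_⟩
  rw [xGr_reflect_h79 D hD F i i.2 r hr, map_mul, map_mul, map_inv, map_nGr_h79 D hD F θ₁ π σ h, ht',
    nGr_conj_h79 D hD F (π i) (π i).2 r' hr']

theorem mapsRoot_wRoot_h79 (θ₁ : ↥(D.group F) ≃* ↥(D.group F)) (π : Equiv.Perm (Fin D.rank))
    (σ : Fin D.rank → F ≃+* F)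
    (h : ∀ (i : Fin D.rank) (t : F),
      θ₁ (xGr D hD F (D.simple i) t) = xGr D hD F (D.simple (π i)) (σ i t) ∧
      θ₁ (xGr D hD F (D.neg (D.simple i)) t) = xGr D hD F (D.neg (D.simple (π i))) (σ i t))
    (r r' : ℕ) (hr : r < D.nroots) (hr' : r' < D.nroots) (hm : MapsRoot D hD F θ₁ r r')
    (l : List (Fin D.rank)) :
    MapsRoot D hD F θ₁ (wRoot D (l.map Fin.val) r) (wRoot D (l.map fun a => (π a).val) r') := by
  induction l with
  | nil => exact hm
  | cons i l ih =>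
    have h1 : ∀ a ∈ l.map (Fin.val : Fin D.rank → ℕ), a < D.rank := by
      intro a ha
      obtain ⟨b, -, rfl⟩ := List.mem_map.1 ha
      exact b.2
    have h2 : ∀ a ∈ l.map (fun a : Fin D.rank => (π a).val), a < D.rank := by
      intro a ha
      obtain ⟨b, -, rfl⟩ := List.mem_map.1 ha
      exact (π b).2
    exact mapsRoot_reflect_h79 D hD F θ₁ π σ h _ _ (wRoot_lt D hD _ h1 r hr) (wRoot_lt D hD _ h2 r' hr') ih i

/-- root subgroups with empty commutator terms commute -/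
theorem xGr_comm_of_nil_h79 (r s : ℕ) (hr : r < D.nroots) (hs : s < D.nroots) (hsr : s ≠ r)
    (hsn : s ≠ D.neg r) (hnil : D.commTerms r s = []) (t u : F) :
    xGr D hD F s u * xGr D hD F r t = xGr D hD F r t * xGr D hD F s u := by
  apply Subtype.ext
  apply Units.ext
  simp only [Subgroup.coe_mul, Units.val_mul, xGr_coe_mat]
  have := comm_formula_all D hD r s hr hs hsr hsn t u
  rw [this]
  unfold ChevalleyDatum.commWord ChevalleyDatum.wordMat
  rw [hnil]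
  simp

/-- the core: non-commuting root subgroups cannot be mapped to commuting ones -/
theorem core_h79 (θ₁ : ↥(D.group F) ≃* ↥(D.group F)) (r s r' s' k : ℕ) (c : ℤ)
    (hr : r < D.nroots) (hs : s < D.nroots) (hr' : r' < D.nroots) (hs' : s' < D.nroots)
    (hk : k < D.nroots)
    (hsr : s ≠ r) (hsn : s ≠ D.neg r) (hsr' : s' ≠ r') (hsn' : s' ≠ D.neg r')
    (h1 : D.commTerms r s = [(k, c, 1, 1)]) (h2 : D.commTerms r' s' = [])
    (hmr : MapsRoot D hD F θ₁ r r') (hms : MapsRoot D hD F θ₁ s s') : ((c : ℤ) : F) = 0 := by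
  obtain ⟨t', ht'⟩ := hmr 1
  obtain ⟨u', hu'⟩ := hms 1
  have hc' := xGr_comm_of_nil_h79 D hD F r' s' hr' hs' hsr' hsn' h2 t' u'
  rw [← ht', ← hu', ← map_mul, ← map_mul] at hc'
  have hc := θ₁.injective hc'
  have hm := congrArg (fun z : ↥(D.group F) => ((z : GL D.Idx F) : Matrix D.Idx D.Idx F)) hc
  simp only [Subgroup.coe_mul, Units.val_mul, xGr_coe_mat] at hm
  have hf := comm_formula_all D hD r s hr hs hsr hsn (1 : F) (1 : F)
  rw [hm] at hf
  have hw : D.wordMat F (D.commWord F r s (1 : F) (1 : F)) = D.x F k (-(c : F)) := by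
    unfold ChevalleyDatum.commWord ChevalleyDatum.wordMat
    rw [h1]
    simp
  rw [hw] at hf
  have hu : IsUnit (D.x F r (1 : F) * D.x F s (1 : F)) := by
    rw [← xGL_coe D hD F r, ← xGL_coe D hD F s, ← Units.val_mul]
    exact Units.isUnit _
  have h3 : D.x F k (-(c : F)) = 1 := by
    obtain ⟨v, hv⟩ := hu
    rw [← hv] at hf
    have := congrArg (fun M => ((v⁻¹ : (Matrix D.Idx D.Idx F)ˣ) : Matrix D.Idx D.Idx F) * M) hf
    simp only [← mul_assoc, Units.inv_mul, one_mul] at this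
    exact this.symm
  have h4 : D.x F k (-(c : F)) = D.x F k 0 := by
    rw [h3, x_zero D hD]
  have h5 := x_injective D hD k hk _ _ h4
  exact neg_eq_zero.1 h5

end

/-! ### Tables -/

theorem isLong_D4_h79 : ∀ i : Fin chevD4.rank, chevD4.isLong (chevD4.simple i) = false := by decide +kernel
theorem isLong_E6_h79 : ∀ i : Fin chevE6.rank, chevE6.isLong (chevE6.simple i) = false := by decide +kernel
theorem isLong_E7_h79 : ∀ i : Fin chevE7.rank, chevE7.isLong (chevE7.simple i) = false := by decide +kernel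
theorem isLong_E8_h79 : ∀ i : Fin chevE8.rank, chevE8.isLong (chevE8.simple i) = false := by decide +kernel

instance decIsDiagramSymmetry_h79 (D : ChevalleyDatum) (π : Equiv.Perm (Fin D.rank)) :
    Decidable (D.IsDiagramSymmetry π) := by
  unfold ChevalleyDatum.IsDiagramSymmetry; infer_instance

theorem b2_perm_h79 : ∀ π : Equiv.Perm (Fin chevB2.rank),
    (∃ i : Fin chevB2.rank, chevB2.isLong (chevB2.simple (π i)) ≠ chevB2.isLong (chevB2.simple i)) →
    π ⟨0, by decide⟩ = ⟨1, by decide⟩ ∧ π ⟨1, by decide⟩ = ⟨0, by decide⟩ := by decide +kernel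

theorem g2_perm_h79 : ∀ π : Equiv.Perm (Fin chevG2.rank),
    (∃ i : Fin chevG2.rank, chevG2.isLong (chevG2.simple (π i)) ≠ chevG2.isLong (chevG2.simple i)) →
    π ⟨0, by decide⟩ = ⟨1, by decide⟩ ∧ π ⟨1, by decide⟩ = ⟨0, by decide⟩ := by decide +kernel

theorem f4_perm_h79 : ∀ π : Equiv.Perm (Fin chevF4.rank), chevF4.IsDiagramSymmetry π →
    (∃ i : Fin chevF4.rank, chevF4.isLong (chevF4.simple (π i)) ≠ chevF4.isLong (chevF4.simple i)) →
    π ⟨1, by decide⟩ = ⟨2, by decide⟩ ∧ π ⟨2, by decide⟩ = ⟨1, by decide⟩ := by decide +kernel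

theorem b2_tab_h79 :
    chevB2.simple 0 < chevB2.nroots ∧ wRoot chevB2 [1] (chevB2.simple 0) < chevB2.nroots ∧
    chevB2.simple 1 < chevB2.nroots ∧ wRoot chevB2 [0] (chevB2.simple 1) < chevB2.nroots ∧
    7 < chevB2.nroots ∧
    wRoot chevB2 [1] (chevB2.simple 0) ≠ chevB2.simple 0 ∧
    wRoot chevB2 [1] (chevB2.simple 0) ≠ chevB2.neg (chevB2.simple 0) ∧
    wRoot chevB2 [0] (chevB2.simple 1) ≠ chevB2.simple 1 ∧
    wRoot chevB2 [0] (chevB2.simple 1) ≠ chevB2.neg (chevB2.simple 1) ∧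
    chevB2.commTerms (chevB2.simple 0) (wRoot chevB2 [1] (chevB2.simple 0)) = [(7, 2, 1, 1)] ∧
    chevB2.commTerms (chevB2.simple 1) (wRoot chevB2 [0] (chevB2.simple 1)) = [] := by decide +kernel

theorem f4_tab_h79 :
    chevF4.simple 1 < chevF4.nroots ∧ wRoot chevF4 [2] (chevF4.simple 1) < chevF4.nroots ∧
    chevF4.simple 2 < chevF4.nroots ∧ wRoot chevF4 [1] (chevF4.simple 2) < chevF4.nroots ∧
    30 < chevF4.nroots ∧
    wRoot chevF4 [2] (chevF4.simple 1) ≠ chevF4.simple 1 ∧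
    wRoot chevF4 [2] (chevF4.simple 1) ≠ chevF4.neg (chevF4.simple 1) ∧
    wRoot chevF4 [1] (chevF4.simple 2) ≠ chevF4.simple 2 ∧
    wRoot chevF4 [1] (chevF4.simple 2) ≠ chevF4.neg (chevF4.simple 2) ∧
    chevF4.commTerms (chevF4.simple 1) (wRoot chevF4 [2] (chevF4.simple 1)) = [(30, 2, 1, 1)] ∧
    chevF4.commTerms (chevF4.simple 2) (wRoot chevF4 [1] (chevF4.simple 2)) = [] := by decide +kernel

theorem g2_tab_h79 :
    chevG2.simple 0 < chevG2.nroots ∧ wRoot chevG2 [0, 1] (chevG2.simple 0) < chevG2.nroots ∧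
    chevG2.simple 1 < chevG2.nroots ∧ wRoot chevG2 [1, 0] (chevG2.simple 1) < chevG2.nroots ∧
    10 < chevG2.nroots ∧
    wRoot chevG2 [0, 1] (chevG2.simple 0) ≠ chevG2.simple 0 ∧
    wRoot chevG2 [0, 1] (chevG2.simple 0) ≠ chevG2.neg (chevG2.simple 0) ∧
    wRoot chevG2 [1, 0] (chevG2.simple 1) ≠ chevG2.simple 1 ∧
    wRoot chevG2 [1, 0] (chevG2.simple 1) ≠ chevG2.neg (chevG2.simple 1) ∧
    chevG2.commTerms (chevG2.simple 0) (wRoot chevG2 [0, 1] (chevG2.simple 0)) = [(10, 3, 1, 1)] ∧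
    chevG2.commTerms (chevG2.simple 1) (wRoot chevG2 [1, 0] (chevG2.simple 1)) = [] := by decide +kernel

/-! ### The three types with two root lengths -/

section types
variable (F : Type*) [Field F]

theorem T6_B2_h79 (hD : chevB2 ∈ [chevG2, chevB2, chevD4, chevF4, chevE6, chevE7, chevE8])
    (θ₁ : ↥(chevB2.group F) ≃* ↥(chevB2.group F)) (π : Equiv.Perm (Fin chevB2.rank))
    (σ : Fin chevB2.rank → F ≃+* F)
    (h : ∀ (i : Fin chevB2.rank) (t : F),
      θ₁ (xGr chevB2 hD F (chevB2.simple i) t) = xGr chevB2 hD F (chevB2.simple (π i)) (σ i t) ∧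
      θ₁ (xGr chevB2 hD F (chevB2.neg (chevB2.simple i)) t) =
        xGr chevB2 hD F (chevB2.neg (chevB2.simple (π i))) (σ i t))
    (hs : SwapsLength chevB2 π) : ringChar F = 2 := by
  obtain ⟨hπ0, hπ1⟩ := b2_perm_h79 π hs
  obtain ⟨a1, a2, a3, a4, a5, a6, a7, a8, a9, a10, a11⟩ := b2_tab_h79
  have hmr : MapsRoot chevB2 hD F θ₁ (chevB2.simple 0) (chevB2.simple 1) := by
    intro t
    have := (h ⟨0, by decide⟩ t).1
    rw [hπ0] at this
    exact ⟨_, this⟩
  have hms := mapsRoot_wRoot_h79 chevB2 hD F θ₁ π σ h _ _ a1 a3 hmr [⟨1, by decide⟩]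
  simp only [List.map_cons, List.map_nil, hπ1] at hms
  have hc := core_h79 chevB2 hD F θ₁ _ _ _ _ 7 2 a1 a2 a3 a4 a5 a6 a7 a8 a9 a10 a11 hmr hms
  apply CharP.ringChar_of_prime_eq_zero Nat.prime_two
  exact_mod_cast hc

theorem T6_F4_h79 (hD : chevF4 ∈ [chevG2, chevB2, chevD4, chevF4, chevE6, chevE7, chevE8])
    (θ₁ : ↥(chevF4.group F) ≃* ↥(chevF4.group F)) (π : Equiv.Perm (Fin chevF4.rank))
    (hπ : chevF4.IsDiagramSymmetry π) (σ : Fin chevF4.rank → F ≃+* F)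
    (h : ∀ (i : Fin chevF4.rank) (t : F),
      θ₁ (xGr chevF4 hD F (chevF4.simple i) t) = xGr chevF4 hD F (chevF4.simple (π i)) (σ i t) ∧
      θ₁ (xGr chevF4 hD F (chevF4.neg (chevF4.simple i)) t) =
        xGr chevF4 hD F (chevF4.neg (chevF4.simple (π i))) (σ i t))
    (hs : SwapsLength chevF4 π) : ringChar F = 2 := by
  obtain ⟨hπ1, hπ2⟩ := f4_perm_h79 π hπ hs
  obtain ⟨a1, a2, a3, a4, a5, a6, a7, a8, a9, a10, a11⟩ := f4_tab_h79
  have hmr : MapsRoot chevF4 hD F θ₁ (chevF4.simple 1) (chevF4.simple 2) := by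
    intro t
    have := (h ⟨1, by decide⟩ t).1
    rw [hπ1] at this
    exact ⟨_, this⟩
  have hms := mapsRoot_wRoot_h79 chevF4 hD F θ₁ π σ h _ _ a1 a3 hmr [⟨2, by decide⟩]
  simp only [List.map_cons, List.map_nil, hπ2] at hms
  have hc := core_h79 chevF4 hD F θ₁ _ _ _ _ 30 2 a1 a2 a3 a4 a5 a6 a7 a8 a9 a10 a11 hmr hms
  apply CharP.ringChar_of_prime_eq_zero Nat.prime_two
  exact_mod_cast hc

theorem T6_G2_h79 (hD : chevG2 ∈ [chevG2, chevB2, chevD4, chevF4, chevE6, chevE7, chevE8])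
    (θ₁ : ↥(chevG2.group F) ≃* ↥(chevG2.group F)) (π : Equiv.Perm (Fin chevG2.rank))
    (σ : Fin chevG2.rank → F ≃+* F)
    (h : ∀ (i : Fin chevG2.rank) (t : F),
      θ₁ (xGr chevG2 hD F (chevG2.simple i) t) = xGr chevG2 hD F (chevG2.simple (π i)) (σ i t) ∧
      θ₁ (xGr chevG2 hD F (chevG2.neg (chevG2.simple i)) t) =
        xGr chevG2 hD F (chevG2.neg (chevG2.simple (π i))) (σ i t))
    (hs : SwapsLength chevG2 π) : ringChar F = 3 := by
  obtain ⟨hπ0, hπ1⟩ := g2_perm_h79 π hs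
  obtain ⟨a1, a2, a3, a4, a5, a6, a7, a8, a9, a10, a11⟩ := g2_tab_h79
  have hmr : MapsRoot chevG2 hD F θ₁ (chevG2.simple 0) (chevG2.simple 1) := by
    intro t
    have := (h ⟨0, by decide⟩ t).1
    rw [hπ0] at this
    exact ⟨_, this⟩
  have hms := mapsRoot_wRoot_h79 chevG2 hD F θ₁ π σ h _ _ a1 a3 hmr [⟨0, by decide⟩, ⟨1, by decide⟩]
  simp only [List.map_cons, List.map_nil, hπ0, hπ1] at hms
  have hc := core_h79 chevG2 hD F θ₁ _ _ _ _ 10 3 a1 a2 a3 a4 a5 a6 a7 a8 a9 a10 a11 hmr hms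
  apply CharP.ringChar_of_prime_eq_zero Nat.prime_three
  exact_mod_cast hc

end types

/-- **T6** (exact statement of `Helper18.Au.T6_char`; the finiteness of `F` is not needed). -/
theorem T6_char_h79 (D : ChevalleyDatum) (hD : D ∈ [chevG2, chevB2, chevD4, chevF4, chevE6, chevE7, chevE8])
    (F : Type*) [Field F] (θ₁ : ↥(D.group F) ≃* ↥(D.group F)) (π : Equiv.Perm (Fin D.rank))
    (hπ : D.IsDiagramSymmetry π) (σ : Fin D.rank → F ≃+* F)
    (h : ∀ (i : Fin D.rank) (t : F),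
      θ₁ (xGr D hD F (D.simple i) t) = xGr D hD F (D.simple (π i)) (σ i t) ∧
      θ₁ (xGr D hD F (D.neg (D.simple i)) t) = xGr D hD F (D.neg (D.simple (π i))) (σ i t))
    (hs : SwapsLength D π) : SwapChar D F := by
  have hD' := hD
  simp only [List.mem_cons, List.not_mem_nil, or_false] at hD'
  rcases hD' with rfl | rfl | rfl | rfl | rfl | rfl | rfl
  · exact Or.inr ⟨rfl, T6_G2_h79 F hD θ₁ π σ h hs⟩
  · exact Or.inl ⟨Or.inl rfl, T6_B2_h79 F hD θ₁ π σ h hs⟩
  · obtain ⟨i, hi⟩ := hs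
    rw [isLong_D4_h79, isLong_D4_h79] at hi
    exact absurd rfl hi
  · exact Or.inl ⟨Or.inr rfl, T6_F4_h79 F hD θ₁ π hπ σ h hs⟩
  · obtain ⟨i, hi⟩ := hs
    rw [isLong_E6_h79, isLong_E6_h79] at hi
    exact absurd rfl hi
  · obtain ⟨i, hi⟩ := hs
    rw [isLong_E7_h79, isLong_E7_h79] at hi
    exact absurd rfl hi
  · obtain ⟨i, hi⟩ := hs
    rw [isLong_E8_h79, isLong_E8_h79] at hi
    exact absurd rfl hi

end Cfsg.Agent.Lib.Helper79.Au
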