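import Mathlib
import Cfsg.Prelude.Def_Characters
import Cfsg.Agent.Lib.Helper79.Basic
import Cfsg.Agent.Lib.Helper79.Classes
import Cfsg.Agent.Lib.Helper3.CharOps
import Cfsg.Agent.Lib.Helper3.Induced
import Cfsg.Agent.Lib.Helper25.Ind
import Cfsg.Agent.Lib.Helper25.CharBound
import Cfsg.Agent.Lib.Helper15.IndMul
import Cfsg.Agent.Lib.Helper16.Degree

set_option autoImplicit false
set_option linter.unusedSectionVars false
set_option linter.style.haveILetI false

namespace Cfsg.Agent.Lib.Helper79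

open Cfsg
open scoped ComplexConjugate

universe u

/-- If a character contains an irreducible constituent, the rest is a character. -/
theorem exists_character_compl {H : Type u} [Group H] [Fintype H] {Ψ θ : H → ℂ}
    (hΨ : IsCharacter H Ψ) (hθ : IsIrrCharacter H θ) (hne : classInner Ψ θ ≠ 0) :
    ∃ Δ : H → ℂ, IsCharacter H Δ ∧ Ψ = θ + Δ := by
  classical
  haveI : Finite (IrrCharacter H) := Cfsg.Agent.Lib.Helper3.irrCharacter_finite
  haveI := Fintype.ofFinite (IrrCharacter H)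
  obtain ⟨m, hm, hsum⟩ := Cfsg.Agent.Lib.Helper3.IsCharacter.exists_mult hΨ
  set θ' : IrrCharacter H := ⟨θ, hθ⟩ with hθ'
  have hmθ : m θ' ≠ 0 := by
    intro h0
    apply hne
    have := hm θ'
    rw [h0] at this
    simpa using this
  obtain ⟨k, hk⟩ := Nat.exists_eq_succ_of_ne_zero hmθ
  refine ⟨(k : ℂ) • θ + ∑ ψ ∈ Finset.univ.erase θ', (m ψ : ℂ) • (ψ : H → ℂ), ?_, ?_⟩
  · exact Cfsg.Agent.Lib.Helper3.IsCharacter.add
      (Cfsg.Agent.Lib.Helper3.IsCharacter.nsmul (Cfsg.Agent.Lib.Helper3.IsIrrCharacter.isCharacter hθ) k)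
      (Cfsg.Agent.Lib.Helper3.IsCharacter.sum _ _ (fun ψ _ =>
        Cfsg.Agent.Lib.Helper3.IsCharacter.nsmul (Cfsg.Agent.Lib.Helper3.IsIrrCharacter.isCharacter ψ.2) (m ψ)))
  · conv_lhs => rw [hsum, ← Finset.add_sum_erase _ _ (Finset.mem_univ θ'), hk]
    push_cast
    rw [add_smul, one_smul, ← add_assoc, add_comm ((k : ℂ) • (θ' : H → ℂ)) (θ' : H → ℂ)]

/-- Restriction to a supplement of a normal subgroup contained in the kernel is irreducible. -/
theorem isIrrCharacter_restrict_of_sup_eq_top {G : Type u} [Group G] [Finite G]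
    (χ : IrrCharacter G) (N H : Subgroup G) [N.Normal]
    (hN : ∀ n ∈ N, (χ : G → ℂ) n = (χ : G → ℂ) 1) (hNH : N ⊔ H = ⊤) :
    IsIrrCharacter H (fun x : H => (χ : G → ℂ) x) := by
  obtain ⟨χ, n, ρ, hirr, rfl⟩ := χ
  refine ⟨n, ρ.comp H.subtype, ?_, rfl⟩
  apply isIrreducible_of_forall_exists ρ (ρ.comp H.subtype) _ hirr
  intro g
  have hg : g ∈ ((N ⊔ H : Subgroup G) : Set G) := by rw [hNH]; trivial
  rw [Subgroup.normal_mul] at hg
  obtain ⟨a, ha, b, hb, rfl⟩ := hg
  refine ⟨⟨b, hb⟩, ?_⟩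
  have ha' : ρ a = 1 := (rep_mem_ker_iff ρ a).mpr (hN a ha)
  change ρ b = ρ (a * b)
  rw [map_mul, ha', one_mul]

/-- A character of degree zero vanishes. -/
theorem isCharacter_eq_zero_of_one_eq_zero {H : Type u} [Group H] {Δ : H → ℂ}
    (hΔ : IsCharacter H Δ) (h1 : Δ 1 = 0) : Δ = 0 := by
  obtain ⟨k, ρ, rfl⟩ := hΔ
  rw [rep_character_one] at h1
  have hk : k = 0 := by exact_mod_cast h1
  subst hk
  funext g
  unfold Representation.character
  have : ρ g = 0 := Subsingleton.elim _ _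
  rw [this, map_zero]
  rfl

end Cfsg.Agent.Lib.Helper79
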