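import Mathlib
import Cfsg.Prelude.Def_Characters
import Cfsg.Agent.Lib.Helper79.BG1

set_option autoImplicit false
set_option linter.unusedSectionVars false
set_option linter.style.haveILetI false

namespace Cfsg.Agent.Lib.Helper79

open Cfsg
open scoped ComplexConjugate

universe u

/-- The key lemma for the Broline–Garrison theorem: a maximal supplement `H` of the kernel `K`
of `χ`, with an element `h ∈ H` outside the core of `H` at which `χ` does not vanish, produces a
character of larger degree with smaller kernel. -/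
theorem exists_larger_degree_of_maximal {G : Type u} [Group G] [Finite G] (χ : IrrCharacter G)
    (K : Subgroup G) [K.Normal] (hK : ∀ g : G, g ∈ K ↔ (χ : G → ℂ) g = (χ : G → ℂ) 1)
    (H : Subgroup G) (hHmax : ∀ L : Subgroup G, H ≤ L → L = H ∨ L = ⊤) (hHtop : H ≠ ⊤)
    (hKH : K ⊔ H = ⊤) (h : G) (hhH : h ∈ H) (hhC : h ∉ H.normalCore)
    (hχh : (χ : G → ℂ) h ≠ 0) :
    ∃ ψ : IrrCharacter G, charDegree (χ : G → ℂ) < charDegree (ψ : G → ℂ) ∧
      ∃ L : Subgroup G, (∀ g : G, g ∈ L ↔ (ψ : G → ℂ) g = (ψ : G → ℂ) 1) ∧ L < K := by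
  classical
  haveI : Fintype G := Fintype.ofFinite G
  haveI : Fintype H := Fintype.ofFinite H
  haveI : Finite (IrrCharacter G) := Cfsg.Agent.Lib.Helper3.irrCharacter_finite
  haveI := Fintype.ofFinite (IrrCharacter G)
  set θ : H → ℂ := fun x => (χ : G → ℂ) x with hθdef
  have hθ : IsIrrCharacter H θ :=
    isIrrCharacter_restrict_of_sup_eq_top χ K H (fun n hn => (hK n).mp hn) hKH
  have hχc : IsCharacter G (χ : G → ℂ) := Cfsg.Agent.Lib.Helper3.IsIrrCharacter.isCharacter χ.2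
  have hχcf := Cfsg.Agent.Lib.Helper3.IsCharacter.isClassFunction hχc
  set Φ := indFun H θ with hΦdef
  have hΦ : IsCharacter G Φ :=
    Cfsg.Agent.Lib.Helper3.isCharacter_indFun H (Cfsg.Agent.Lib.Helper3.IsIrrCharacter.isCharacter hθ)
  have hΦeq : Φ = indFun H (fun _ : H => (1 : ℂ)) * (χ : G → ℂ) := by
    have := Cfsg.Agent.Lib.Helper15.indFun_mul_restrict H (fun _ : H => (1 : ℂ)) hχcf
    simp only [one_mul] at this
    exact this
  obtain ⟨m, hm, hsum⟩ := Cfsg.Agent.Lib.Helper3.IsCharacter.exists_mult hΦ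
  have hfrob : ∀ ψ : IrrCharacter G, classInner (fun x : H => (ψ : G → ℂ) x) θ = (m ψ : ℂ) := by
    intro ψ
    rw [← Cfsg.Agent.Lib.Helper25.frobenius_reciprocity' H θ (ψ : G → ℂ)
      (Cfsg.Agent.Lib.Helper3.IsCharacter.isClassFunction
        (Cfsg.Agent.Lib.Helper3.IsIrrCharacter.isCharacter ψ.2)),
      Cfsg.Agent.Lib.Helper3.classInner_conj_symm, hm ψ]
    simp
  -- decomposition of restrictions
  have hdec : ∀ ψ : IrrCharacter G, m ψ ≠ 0 → ∃ Δ : H → ℂ, IsCharacter H Δ ∧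
      (fun x : H => (ψ : G → ℂ) x) = θ + Δ := by
    intro ψ hψ
    apply exists_character_compl
      (Cfsg.Agent.Lib.Helper3.IsCharacter.restrict (Cfsg.Agent.Lib.Helper3.IsIrrCharacter.isCharacter ψ.2) H) hθ
    rw [hfrob ψ]
    exact_mod_cast hψ
  -- degrees
  obtain ⟨dχ, hdχpos, hdχ1, hdχ2, -⟩ := Cfsg.Agent.Lib.Helper16.irr_degree_spec χ
  have hχ10 : (χ : G → ℂ) 1 ≠ 0 := irr_one_ne_zero χ
  -- existence of a constituent of larger degree
  have hex : ∃ ψ : IrrCharacter G, m ψ ≠ 0 ∧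
      charDegree (χ : G → ℂ) < charDegree (ψ : G → ℂ) := by
    by_contra hcon
    push Not at hcon
    -- every constituent restricts to θ
    have hres : ∀ ψ : IrrCharacter G, m ψ ≠ 0 → (fun x : H => (ψ : G → ℂ) x) = θ ∧ m ψ = 1 := by
      intro ψ hψ
      obtain ⟨Δ, hΔ, hΔeq⟩ := hdec ψ hψ
      obtain ⟨dψ, -, hdψ1, hdψ2, -⟩ := Cfsg.Agent.Lib.Helper16.irr_degree_spec ψ
      have hle := hcon ψ hψ
      rw [hdψ2, hdχ2] at hle
      obtain ⟨k, ρ, hρ⟩ := id hΔ
      have hΔ1 : Δ 1 = (k : ℂ) := by rw [← hρ, rep_character_one]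
      have h1 := congrFun hΔeq 1
      simp only [Pi.add_apply, hθdef] at h1
      change (ψ : G → ℂ) 1 = (χ : G → ℂ) 1 + Δ 1 at h1
      rw [hdψ1, hdχ1, hΔ1] at h1
      have h2 : dψ = dχ + k := by exact_mod_cast h1
      have hk0 : k = 0 := by omega
      have hΔ0 : Δ = 0 := isCharacter_eq_zero_of_one_eq_zero hΔ (by rw [hΔ1, hk0]; simp)
      have hψθ : (fun x : H => (ψ : G → ℂ) x) = θ := by rw [hΔeq, hΔ0, add_zero]
      refine ⟨hψθ, ?_⟩
      have h3 := hfrob ψ
      rw [hψθ, Cfsg.Agent.Lib.Helper3.classInner_irr hθ hθ, if_pos rfl] at h3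
      exact_mod_cast h3.symm
    -- values of Φ on H
    set c : ℂ := ∑ ψ : IrrCharacter G, (m ψ : ℂ) with hc
    have hΦH : ∀ x : H, Φ x = c * θ x := by
      intro x
      rw [hsum, Finset.sum_apply, hc, Finset.sum_mul]
      apply Finset.sum_congr rfl
      intro ψ _
      rw [Pi.smul_apply, smul_eq_mul]
      by_cases hψ : m ψ = 0
      · rw [hψ]; simp
      · have := congrFun (hres ψ hψ).1 x
        rw [this]
    -- the permutation character
    set π := indFun H (fun _ : H => (1 : ℂ)) with hπ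
    have hπ1 : π 1 = c := by
      have h1 := hΦH 1
      rw [hΦeq, Pi.mul_apply] at h1
      change π 1 * (χ : G → ℂ) 1 = c * (χ : G → ℂ) 1 at h1
      exact mul_right_cancel₀ hχ10 h1
    have hπh : π h = c := by
      have h1 := hΦH ⟨h, hhH⟩
      rw [hΦeq, Pi.mul_apply] at h1
      change π h * (χ : G → ℂ) h = c * (χ : G → ℂ) h at h1
      exact mul_right_cancel₀ hχh h1
    -- count
    have hcard0 : (Nat.card H : ℂ) ≠ 0 := by exact_mod_cast Nat.card_pos.ne'
    have hext : ∀ y : G, extendByZero H (fun _ : H => (1 : ℂ)) y = if y ∈ H then 1 else 0 := by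
      intro y
      split_ifs with hy
      · rw [Cfsg.Agent.Lib.Helper25.extendByZero_of_mem H _ hy]
      · rw [Cfsg.Agent.Lib.Helper25.extendByZero_of_not_mem H _ hy]
    have hsum1 : ∑ x : G, extendByZero H (fun _ : H => (1 : ℂ)) (x⁻¹ * 1 * x) =
        (Fintype.card G : ℂ) := by
      rw [Finset.sum_congr rfl (fun x _ => hext _)]
      simp [H.one_mem]
    have hsumh : ∑ x : G, extendByZero H (fun _ : H => (1 : ℂ)) (x⁻¹ * h * x) =
        ((Finset.univ.filter (fun x : G => x⁻¹ * h * x ∈ H)).card : ℂ) := by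
      rw [Finset.sum_congr rfl (fun x _ => hext _), Finset.sum_boole]
    have heq : ((Finset.univ.filter (fun x : G => x⁻¹ * h * x ∈ H)).card : ℂ) =
        (Fintype.card G : ℂ) := by
      have h1 : π h = π 1 := by rw [hπh, hπ1]
      rw [hπ, Cfsg.Agent.Lib.Helper25.indFun_apply, Cfsg.Agent.Lib.Helper25.indFun_apply,
        hsum1, hsumh] at h1
      exact mul_left_cancel₀ (inv_ne_zero hcard0) h1
    have heq' : (Finset.univ.filter (fun x : G => x⁻¹ * h * x ∈ H)).card = Fintype.card G := by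
      exact_mod_cast heq
    have hall : ∀ x : G, x⁻¹ * h * x ∈ H := by
      intro x
      have h2 : Finset.univ.filter (fun x : G => x⁻¹ * h * x ∈ H) = Finset.univ :=
        Finset.eq_univ_of_card _ heq'
      have : x ∈ Finset.univ.filter (fun x : G => x⁻¹ * h * x ∈ H) := by rw [h2]; exact Finset.mem_univ x
      exact (Finset.mem_filter.mp this).2
    apply hhC
    intro b
    have := hall b⁻¹
    rwa [inv_inv] at this
  obtain ⟨ψ, hmψ, hdeg⟩ := hex
  refine ⟨ψ, hdeg, ?_⟩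
  have hψc : IsCharacter G (ψ : G → ℂ) := Cfsg.Agent.Lib.Helper3.IsIrrCharacter.isCharacter ψ.2
  set N := charKer hψc with hNdef
  refine ⟨N, fun g => mem_charKer hψc g, ?_⟩
  obtain ⟨Δ, hΔ, hΔeq⟩ := hdec ψ hmψ
  -- N ≤ H
  have hNH : N ≤ H := by
    rcases hHmax (N ⊔ H) le_sup_right with h1 | h1
    · rw [← h1]; exact le_sup_left
    · exfalso
      have hirr := isIrrCharacter_restrict_of_sup_eq_top ψ N H
        (fun n hn => (mem_charKer hψc n).mp hn) h1
      have h2 := hfrob ψ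
      rw [Cfsg.Agent.Lib.Helper3.classInner_irr hirr hθ] at h2
      have hψθ : (fun x : H => (ψ : G → ℂ) x) = θ := by
        by_contra hne
        rw [if_neg hne] at h2
        exact hmψ (by exact_mod_cast h2.symm)
      have h3 := congrFun hψθ 1
      change (ψ : G → ℂ) 1 = (χ : G → ℂ) 1 at h3
      have : charDegree (ψ : G → ℂ) = charDegree (χ : G → ℂ) := by
        unfold charDegree; rw [h3]
      omega
  -- N ≤ K
  have hNK : N ≤ K := by
    intro n hn
    rw [hK]
    have hnH := hNH hn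
    have h1 := congrFun hΔeq ⟨n, hnH⟩
    have h2 := congrFun hΔeq 1
    simp only [Pi.add_apply] at h1 h2
    change (ψ : G → ℂ) n = θ ⟨n, hnH⟩ + Δ ⟨n, hnH⟩ at h1
    change (ψ : G → ℂ) 1 = θ 1 + Δ 1 at h2
    have h3 : (ψ : G → ℂ) n = (ψ : G → ℂ) 1 := (mem_charKer hψc n).mp hn
    have hθc := Cfsg.Agent.Lib.Helper25.char_re_le
      (Cfsg.Agent.Lib.Helper3.IsIrrCharacter.isCharacter hθ) ⟨n, hnH⟩
    have hΔc := Cfsg.Agent.Lib.Helper25.char_re_le hΔ ⟨n, hnH⟩
    have h4 : (θ ⟨n, hnH⟩).re + (Δ ⟨n, hnH⟩).re = (θ 1).re + (Δ 1).re := by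
      rw [← Complex.add_re, ← Complex.add_re, ← h1, ← h2, h3]
    have h5 : (θ ⟨n, hnH⟩).re = (θ 1).re := by linarith [hθc.1, hΔc.1]
    exact hθc.2 h5
  -- strict
  refine lt_of_le_of_ne hNK ?_
  intro heq
  apply hHtop
  rw [eq_top_iff, ← hKH, ← heq]
  exact sup_le hNH le_rfl

end Cfsg.Agent.Lib.Helper79
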