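import Mathlib
import Cfsg.Prelude.Def_Characters
import Cfsg.Prelude.Def_Solvable
import Cfsg.Agent.Lib.Helper79.BG2

set_option autoImplicit false
set_option linter.unusedSectionVars false
set_option linter.style.haveILetI false

namespace Cfsg.Agent.Lib.Helper79

open Cfsg
open scoped ComplexConjugate

universe u

/-- Frattini argument for a subgroup of Sylow cardinality in a normal subgroup. -/
theorem normalizer_sup_eq_top_of_card {G : Type*} [Group G] [Finite G] (p : ℕ) [Fact p.Prime]
    (Y : Subgroup G) [Y.Normal] (P : Subgroup G) (hPY : P ≤ Y)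
    (hcard : Nat.card P = p ^ (Nat.card Y).factorization p) :
    Subgroup.normalizer (P : Set G) ⊔ Y = ⊤ := by
  have h1 : Nat.card (P.subgroupOf Y) = p ^ (Nat.card Y).factorization p := by
    rw [← hcard]
    exact Nat.card_congr (Subgroup.subgroupOfEquivOfLe hPY).toEquiv
  have h2 := Sylow.normalizer_sup_eq_top (Sylow.ofCard (P.subgroupOf Y) h1)
  rw [Sylow.coe_ofCard, Subgroup.map_subgroupOf_eq_of_le hPY] at h2
  exact h2

/-- A proper subgroup of a finite group lies in a maximal subgroup. -/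
theorem exists_maximal_ge {G : Type*} [Group G] [Finite G] (H₀ : Subgroup G) (h : H₀ ≠ ⊤) :
    ∃ H : Subgroup G, H₀ ≤ H ∧ H ≠ ⊤ ∧ ∀ L : Subgroup G, H ≤ L → L = H ∨ L = ⊤ := by
  rcases eq_top_or_exists_le_coatom H₀ with h1 | ⟨H, hH, hle⟩
  · exact absurd h1 h
  · refine ⟨H, hle, hH.1, fun L hL => ?_⟩
    rcases eq_or_lt_of_le hL with h2 | h2
    · exact Or.inl h2.symm
    · exact Or.inr (hH.2 L h2)

/-- Broline–Garrison, the non-nilpotent case. -/
theorem broline_garrison_not_nilpotent {G : Type u} [Group G] [Finite G] (χ : IrrCharacter G)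
    (K : Subgroup G) [K.Normal] (hK : ∀ g : G, g ∈ K ↔ (χ : G → ℂ) g = (χ : G → ℂ) 1)
    (hnil : ¬ Group.IsNilpotent K) :
    ∃ ψ : IrrCharacter G, charDegree (χ : G → ℂ) < charDegree (ψ : G → ℂ) ∧
      ∃ L : Subgroup G, (∀ g : G, g ∈ L ↔ (ψ : G → ℂ) g = (ψ : G → ℂ) 1) ∧ L < K := by
  classical
  -- a non-normal Sylow subgroup of K
  have hex : ∃ (p : ℕ) (_ : Fact p.Prime) (P : Sylow p K), ¬ (P : Subgroup K).Normal := by
    by_contra hcon
    push Not at hcon
    exact hnil ((Group.isNilpotent_of_finite_tfae (G := K)).out 0 3 |>.mpr hcon)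
  obtain ⟨p, hp, P, hPn⟩ := hex
  set P' : Subgroup G := (P : Subgroup K).map K.subtype with hP'
  have hP'K : P' ≤ K := Subgroup.map_subtype_le _
  have hP'card : Nat.card P' = p ^ (Nat.card K).factorization p := by
    rw [hP', Subgroup.card_map_of_injective (Subgroup.subtype_injective K)]
    exact Sylow.card_eq_multiplicity P
  set N₀ := Subgroup.normalizer (P' : Set G) with hN₀
  have hfr : N₀ ⊔ K = ⊤ := normalizer_sup_eq_top_of_card p K P' hP'K hP'card
  have hN₀top : N₀ ≠ ⊤ := by
    intro h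
    have hn : P'.Normal := Subgroup.normalizer_eq_top_iff.mp h
    apply hPn
    have : (P : Subgroup K) = P'.comap K.subtype := by
      rw [hP', Subgroup.comap_map_eq_self_of_injective (Subgroup.subtype_injective K)]
    rw [this]
    exact hn.comap _
  obtain ⟨H, hN₀H, hHtop, hHmax⟩ := exists_maximal_ge N₀ hN₀top
  have hKH : K ⊔ H = ⊤ := by
    rw [eq_top_iff, ← hfr, sup_comm]
    exact sup_le_sup_left hN₀H K
  have hP'H : P' ≤ H := le_trans Subgroup.le_normalizer hN₀H
  -- an element of K ⊓ H outside the core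
  have hexh : ∃ h : G, h ∈ K ∧ h ∈ H ∧ h ∉ H.normalCore := by
    by_contra hcon
    push Not at hcon
    set Y := K ⊓ H.normalCore with hY
    have hP'Y : P' ≤ Y := fun x hx => ⟨hP'K hx, hcon x (hP'K hx) (hP'H hx)⟩
    have hYK : Y ≤ K := inf_le_left
    have hcardY : Nat.card P' = p ^ (Nat.card Y).factorization p := by
      rw [hP'card]
      congr 1
      apply le_antisymm
      · have h1 : p ^ (Nat.card K).factorization p ∣ Nat.card Y := by
          rw [← hP'card]
          exact Subgroup.card_dvd_of_le hP'Y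
        exact (hp.out.pow_dvd_iff_le_factorization Nat.card_pos.ne').mp h1
      · exact (Nat.factorization_le_iff_dvd Nat.card_pos.ne' Nat.card_pos.ne').mpr
          (Subgroup.card_dvd_of_le hYK) p
    have h2 := normalizer_sup_eq_top_of_card p Y P' hP'Y hcardY
    apply hHtop
    rw [eq_top_iff, ← h2]
    exact sup_le hN₀H (le_trans inf_le_right (Subgroup.normalCore_le H))
  obtain ⟨h, hhK, hhH, hhC⟩ := hexh
  have hχh : (χ : G → ℂ) h ≠ 0 := by
    rw [(hK h).mp hhK]
    exact irr_one_ne_zero χ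
  exact exists_larger_degree_of_maximal χ K hK H hHmax hHtop hKH h hhH hhC hχh

end Cfsg.Agent.Lib.Helper79
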