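import Mathlib
import Cfsg.Prelude.Def_Characters
import Cfsg.Prelude.Def_Solvable
import Cfsg.Agent.Lib.Helper79.BG3
import Cfsg.Agent.Lib.Helper32.PPrimeP
import Cfsg.Agent.Lib.Helper10.MinNormal
import Cfsg.Agent.Lib.Helper3.OddOrder
import Cfsg.Agent.S0174

set_option autoImplicit false
set_option linter.unusedSectionVars false
set_option linter.style.haveILetI false

namespace Cfsg.Agent.Lib.Helper79

open Cfsg
open scoped ComplexConjugate

universe u

/-- If the trivial character is a constituent of the restriction of an irreducible character to a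
normal subgroup, the normal subgroup lies in the kernel. -/
theorem restrict_const_of_trivial_constituent {G : Type u} [Group G] [Fintype G] (M : Subgroup G)
    [hM : M.Normal] [Fintype M] {χ : G → ℂ} (hχ : IsIrrCharacter G χ)
    (h : classInner (fun m : M => χ m) (fun _ : M => (1 : ℂ)) ≠ 0) : ∀ m ∈ M, χ m = χ 1 := by
  have h1 := Cfsg.Agent.S0174.result M hM χ hχ (fun _ : M => (1 : ℂ))
    Cfsg.Agent.Lib.Helper3.isIrrCharacter_one h
  have hS : {ψ : M → ℂ | ∃ g : G, ψ = fun n : M =>
      (fun _ : M => (1 : ℂ)) ⟨g * n * g⁻¹, hM.conj_mem n n.2 g⟩} = {fun _ : M => (1 : ℂ)} := by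
    ext ψ
    simp only [Set.mem_ofPred_eq, Set.mem_singleton_iff, exists_const]
  rw [hS, finsum_mem_singleton] at h1
  intro m hm
  have e1 := congrFun h1 ⟨m, hm⟩
  have e2 := congrFun h1 1
  simp only [Pi.smul_apply, smul_eq_mul, mul_one] at e1 e2
  change χ m = _ at e1
  change χ 1 = _ at e2
  rw [e1, e2]

/-- Multiplying by an element of the kernel does not change the character value. -/
theorem irr_mul_of_mem_ker {G : Type u} [Group G] [Finite G] (χ : IrrCharacter G) {k : G}
    (hk : (χ : G → ℂ) k = (χ : G → ℂ) 1) (x : G) : (χ : G → ℂ) (k * x) = (χ : G → ℂ) x := by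
  obtain ⟨χ, n, ρ, hirr, rfl⟩ := χ
  have hk' : ρ k = 1 := (rep_mem_ker_iff ρ k).mpr hk
  change ρ.character (k * x) = ρ.character x
  unfold Representation.character
  rw [map_mul, hk', one_mul]

/-- Frattini argument for the intersection of a Sylow subgroup with a normal subgroup. -/
theorem frattini_inf_sylow {G : Type*} [Group G] [Finite G] {p : ℕ} [Fact p.Prime] (S : Sylow p G)
    (M : Subgroup G) [M.Normal] :
    Subgroup.normalizer (((S : Subgroup G) ⊓ M : Subgroup G) : Set G) ⊔ M = ⊤ := by
  have h1 : IsPGroup p (((S : Subgroup G) ⊓ M).subgroupOf M) :=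
    (S.isPGroup'.to_le inf_le_left).comap_subtype
  have h2 : ¬ p ∣ (((S : Subgroup G) ⊓ M).subgroupOf M).index :=
    Cfsg.Agent.Lib.Helper32.not_dvd_relIndex_inf_normal S M
  have h3 := Sylow.normalizer_sup_eq_top (h1.toSylow h2)
  rw [IsPGroup.toSylow_coe, Subgroup.map_subgroupOf_eq_of_le inf_le_right] at h3
  exact h3

/-- A maximal subgroup supplementing a nilpotent normal subgroup meets it in a normal subgroup. -/
theorem inf_normal_of_nilpotent_of_maximal {G : Type*} [Group G] [Finite G] (K H : Subgroup G)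
    [hKn : K.Normal] (hKnil : Group.IsNilpotent K)
    (hHmax : ∀ L : Subgroup G, H ≤ L → L = H ∨ L = ⊤) (hHtop : H ≠ ⊤) (hKH : K ⊔ H = ⊤) :
    (K ⊓ H).Normal := by
  set D := K ⊓ H with hD
  have hHleN : H ≤ Subgroup.normalizer (D : Set G) := by
    intro h hh
    rw [Subgroup.mem_normalizer_iff]
    intro x
    constructor
    · intro hx
      exact ⟨hKn.conj_mem x hx.1 h, H.mul_mem (H.mul_mem hh hx.2) (H.inv_mem hh)⟩
    · intro hx
      have h1 : x = h⁻¹ * (h * x * h⁻¹) * h⁻¹⁻¹ := by group
      rw [h1]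
      exact ⟨hKn.conj_mem _ hx.1 h⁻¹,
        H.mul_mem (H.mul_mem (H.inv_mem hh) hx.2) (H.inv_mem (H.inv_mem hh))⟩
  rcases hHmax _ hHleN with h2 | h2
  · exfalso
    haveI := hKnil
    have hNC := Group.normalizerCondition_of_isNilpotent (G := K)
    have hlt : D.subgroupOf K < ⊤ := by
      rw [lt_top_iff_ne_top]
      intro h3
      rw [Subgroup.subgroupOf_eq_top] at h3
      apply hHtop
      rw [eq_top_iff, ← hKH]
      exact sup_le (le_trans h3 inf_le_right) le_rfl
    have h4 := hNC _ hlt
    rw [← Subgroup.subgroupOf_normalizer_eq (inf_le_left : D ≤ K), h2] at h4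
    have h5 : H.subgroupOf K = D.subgroupOf K := by
      rw [hD, Subgroup.inf_subgroupOf_left]
    rw [h5] at h4
    exact lt_irrefl _ h4
  · exact Subgroup.normalizer_eq_top_iff.mp h2

end Cfsg.Agent.Lib.Helper79
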