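import Mathlib
import Cfsg.Prelude.Def_Characters
import Cfsg.Prelude.Def_Solvable
import Cfsg.Agent.Lib.Helper79.BG4

set_option autoImplicit false
set_option linter.unusedSectionVars false
set_option linter.style.haveILetI false

namespace Cfsg.Agent.Lib.Helper79

open Cfsg
open scoped ComplexConjugate

universe u

/-- Broline–Garrison, the case where the kernel is the (nilpotent) Fitting subgroup. -/
theorem broline_garrison_fitting {G : Type u} [Group G] [Finite G] (χ : IrrCharacter G)
    (K : Subgroup G) [hKn : K.Normal] (hK : ∀ g : G, g ∈ K ↔ (χ : G → ℂ) g = (χ : G → ℂ) 1)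
    (hKnil : Group.IsNilpotent K)
    (hKmax : ∀ N : Subgroup G, N.Normal → Group.IsNilpotent N → N ≤ K)
    (hsolv : Group.IsSolvable (G ⧸ K)) (hKtop : K ≠ ⊤) :
    ∃ ψ : IrrCharacter G, charDegree (χ : G → ℂ) < charDegree (ψ : G → ℂ) ∧
      ∃ L : Subgroup G, (∀ g : G, g ∈ L ↔ (ψ : G → ℂ) g = (ψ : G → ℂ) 1) ∧ L < K := by
  classical
  haveI : Fintype G := Fintype.ofFinite G
  haveI : Nontrivial (G ⧸ K) := by
    rw [← not_subsingleton_iff_nontrivial]
    intro hs
    apply hKtop
    rw [← Subgroup.index_eq_one, Subgroup.index_eq_card]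
    exact Nat.card_of_subsingleton (1 : G ⧸ K)
  obtain ⟨q, Mb, hq, hMbn, hMbne, hMbq, -, -, hMbmin⟩ :=
    Cfsg.Agent.Lib.Helper10.exists_min_normal_pgroup_of_solvable (G := G ⧸ K)
  haveI : Fact q.Prime := ⟨hq⟩
  set f := QuotientGroup.mk' K with hfdef
  have hf : Function.Surjective f := QuotientGroup.mk'_surjective K
  have hkerf : f.ker = K := QuotientGroup.ker_mk' K
  set M := Mb.comap f with hMdef
  haveI hMn : M.Normal := hMbn.comap f
  have hKM : K ≤ M := by
    intro k hk
    rw [hMdef, Subgroup.mem_comap]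
    have : f k = 1 := (QuotientGroup.eq_one_iff k).mpr hk
    rw [this]
    exact one_mem _
  have hMmap : M.map f = Mb := Subgroup.map_comap_eq_self_of_surjective hf Mb
  have hKrel : ∃ a, K.relIndex M = q ^ a := by
    obtain ⟨a, ha⟩ := IsPGroup.iff_card.mp hMbq
    refine ⟨a, ?_⟩
    have h1 : ((⊥ : Subgroup (G ⧸ K)).comap f).relIndex M = q ^ a := by
      rw [Subgroup.relIndex_comap, hMmap, Subgroup.relIndex_bot_left, ha]
    have h2 : (⊥ : Subgroup (G ⧸ K)).comap f = K := by
      rw [MonoidHom.comap_bot]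
      exact hkerf
    rwa [h2] at h1
  obtain ⟨S⟩ : Nonempty (Sylow q G) := inferInstance
  set Q' := (S : Subgroup G) ⊓ M with hQ'def
  have hQ'q : IsPGroup q Q' := S.isPGroup'.to_le inf_le_left
  have hQ'M : Q' ≤ M := inf_le_right
  have hMKQ : K ⊔ Q' = M := by
    apply le_antisymm (sup_le hKM hQ'M)
    rw [← Subgroup.relIndex_eq_one]
    have d1 : (K ⊔ Q').relIndex M ∣ K.relIndex M := Subgroup.relIndex_dvd_of_le_left M le_sup_left
    have d2 : (K ⊔ Q').relIndex M ∣ Q'.relIndex M := Subgroup.relIndex_dvd_of_le_left M le_sup_right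
    have hnd : ¬ q ∣ Q'.relIndex M := Cfsg.Agent.Lib.Helper32.not_dvd_relIndex_inf_normal S M
    obtain ⟨a, ha⟩ := hKrel
    rw [ha] at d1
    obtain ⟨b, -, hb⟩ := (Nat.dvd_prime_pow hq).mp d1
    rcases b with _ | b
    · simpa using hb
    · exfalso
      apply hnd
      exact dvd_trans (by rw [hb]; exact dvd_pow_self q (Nat.succ_ne_zero b)) d2
  set N₀ := Subgroup.normalizer (Q' : Set G) with hN₀
  have hN₀top : N₀ ≠ ⊤ := by
    intro h
    have hn : Q'.Normal := Subgroup.normalizer_eq_top_iff.mp h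
    have hQ'K : Q' ≤ K := hKmax Q' hn hQ'q.isNilpotent
    have hMK : M = K := by rw [← hMKQ]; exact sup_eq_left.mpr hQ'K
    apply hMbne
    rw [← hMmap, hMK]
    exact (Subgroup.map_eq_bot_iff _).mpr (le_of_eq hkerf.symm)
  have hfr : N₀ ⊔ M = ⊤ := frattini_inf_sylow S M
  have hfrK : N₀ ⊔ K = ⊤ := by
    rw [eq_top_iff, ← hfr, ← hMKQ]
    exact sup_le le_sup_left (sup_le le_sup_right (le_trans Subgroup.le_normalizer le_sup_left))
  obtain ⟨H, hN₀H, hHtop, hHmax⟩ := exists_maximal_ge N₀ hN₀top
  have hKH : K ⊔ H = ⊤ := by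
    rw [eq_top_iff, ← hfrK, sup_comm]
    exact sup_le_sup_left hN₀H K
  have hQ'H : Q' ≤ H := le_trans Subgroup.le_normalizer hN₀H
  set C := H.normalCore with hCdef
  have hCH : C ≤ H := Subgroup.normalCore_le H
  set Y := M ⊓ C with hYdef
  haveI hYn : Y.Normal := inferInstance
  -- main claim
  have hmain : ∃ h : G, h ∈ Q' ∧ h ∉ C ∧ (χ : G → ℂ) h ≠ 0 := by
    by_contra hcon
    push Not at hcon
    set B := Y ⊔ K with hBdef
    haveI hBn : B.Normal := inferInstance
    have hBM : B ≤ M := sup_le inf_le_left hKM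
    have hBmapn : (B.map f).Normal := hBn.map f hf
    have hBmaple : B.map f ≤ Mb := by rw [← hMmap]; exact Subgroup.map_mono hBM
    rcases hMbmin (B.map f) hBmapn hBmaple with h0 | h1
    · -- Y ≤ K
      have hBK : B ≤ K := by
        rw [← hkerf]
        exact (Subgroup.map_eq_bot_iff _).mp h0
      have hYK : Y ≤ K := le_trans le_sup_left hBK
      -- χ vanishes on M \ K
      have hvan : ∀ m ∈ M, m ∉ K → (χ : G → ℂ) m = 0 := by
        intro m hm hmK
        have hm' : m ∈ ((K ⊔ Q' : Subgroup G) : Set G) := by rw [hMKQ]; exact hm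
        rw [Subgroup.normal_mul] at hm'
        obtain ⟨k, hk, x, hx, rfl⟩ := hm'
        have hxC : x ∉ C := by
          intro hxC
          apply hmK
          exact K.mul_mem hk (hYK ⟨hQ'M hx, hxC⟩)
        rw [irr_mul_of_mem_ker χ ((hK k).mp hk) x]
        exact hcon x hx hxC
      haveI : Fintype M := Fintype.ofFinite M
      have hinner : classInner (fun m : M => (χ : G → ℂ) m) (fun _ : M => (1 : ℂ)) ≠ 0 := by
        unfold classInner
        have h1 : ∑ m : M, (χ : G → ℂ) m * conj ((fun _ : M => (1 : ℂ)) m) =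
            ((Finset.univ.filter (fun m : M => (m : G) ∈ K)).card : ℂ) * (χ : G → ℂ) 1 := by
          rw [← nsmul_eq_mul, ← Finset.sum_const, Finset.sum_filter]
          apply Finset.sum_congr rfl
          intro m _
          simp only [map_one, mul_one]
          split_ifs with hmK
          · exact (hK m).mp hmK
          · exact hvan m m.2 hmK
        rw [h1]
        have hpos : (Finset.univ.filter (fun m : M => (m : G) ∈ K)).card ≠ 0 := by
          apply Finset.card_ne_zero.mpr
          exact ⟨1, by simp [K.one_mem]⟩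
        apply mul_ne_zero
        · apply inv_ne_zero
          exact_mod_cast Nat.card_pos.ne'
        · apply mul_ne_zero
          · exact_mod_cast hpos
          · exact irr_one_ne_zero χ
      have hMK := restrict_const_of_trivial_constituent M χ.2 hinner
      have hMleK : M ≤ K := fun m hm => (hK m).mpr (hMK m hm)
      apply hMbne
      rw [← hMmap]
      exact (Subgroup.map_eq_bot_iff _).mpr (le_trans hMleK (le_of_eq hkerf.symm))
    · -- Y ⊔ K = M
      have hBeq : B = M := by
        have h2 := Subgroup.comap_map_eq f B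
        rw [h1, hkerf, sup_eq_left.mpr (le_sup_right : K ≤ B)] at h2
        exact h2.symm
      haveI hDn : (K ⊓ H).Normal :=
        inf_normal_of_nilpotent_of_maximal K H hKnil hHmax hHtop hKH
      have hMH : M ⊓ H ≤ Y ⊔ (K ⊓ H) := by
        intro x hx
        have hx' : x ∈ ((Y ⊔ K : Subgroup G) : Set G) := by
          rw [← hBdef, hBeq]; exact hx.1
        rw [Subgroup.normal_mul] at hx'
        obtain ⟨y, hy, k, hk, rfl⟩ := hx'
        have hyH : y ∈ H := hCH hy.2
        have hkH : k ∈ H := by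
          have : k = y⁻¹ * (y * k) := by group
          rw [this]
          exact H.mul_mem (H.inv_mem hyH) hx.2
        exact Subgroup.mul_mem_sup hy ⟨hk, hkH⟩
      have hYDn : (Y ⊔ (K ⊓ H)).Normal := inferInstance
      have hYDC : Y ⊔ (K ⊓ H) ≤ C :=
        (Subgroup.normal_le_normalCore).mpr (sup_le (le_trans inf_le_right hCH) inf_le_right)
      have hQ'Y : Q' ≤ Y := fun x hx => ⟨hQ'M hx, hYDC (hMH ⟨hQ'M hx, hQ'H hx⟩)⟩
      have hSY : (S : Subgroup G) ⊓ Y = Q' := by
        apply le_antisymm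
        · exact fun x hx => ⟨hx.1, hx.2.1⟩
        · exact fun x hx => ⟨hx.1, hQ'Y hx⟩
      have h3 := frattini_inf_sylow S Y
      rw [hSY] at h3
      apply hHtop
      rw [eq_top_iff, ← h3]
      exact sup_le hN₀H (le_trans inf_le_right hCH)
  obtain ⟨h, hhQ, hhC, hχh⟩ := hmain
  exact exists_larger_degree_of_maximal χ K hK H hHmax hHtop hKH h (hQ'H hhQ) hhC hχh

end Cfsg.Agent.Lib.Helper79
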