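import Mathlib
import Cfsg.Prelude.Def_Characters
import Cfsg.Prelude.Def_Solvable
import Cfsg.Agent.Lib.Helper79.BG5
import Cfsg.Agent.Lib.Helper22.Fitting

set_option autoImplicit false
set_option linter.unusedSectionVars false
set_option linter.style.haveILetI false

namespace Cfsg.Agent.Lib.Helper79

open Cfsg
open scoped ComplexConjugate

universe u

/-- The Broline–Garrison theorem. -/
theorem broline_garrison {G : Type u} [Group G] [Finite G] (χ : IrrCharacter G)
    (K : Subgroup G) [K.Normal] (hK : ∀ g : G, g ∈ K ↔ (χ : G → ℂ) g = (χ : G → ℂ) 1)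
    (h : ¬ K ≤ Cfsg.fittingSubgroup G ∨
      (K = Cfsg.fittingSubgroup G ∧ Group.IsSolvable (G ⧸ K) ∧ K ≠ ⊤)) :
    ∃ ψ : IrrCharacter G, charDegree (χ : G → ℂ) < charDegree (ψ : G → ℂ) ∧
      ∃ L : Subgroup G, (∀ g : G, g ∈ L ↔ (ψ : G → ℂ) g = (ψ : G → ℂ) 1) ∧ L < K := by
  rcases h with h | ⟨hKF, hsolv, hKtop⟩
  · apply broline_garrison_not_nilpotent χ K hK
    intro hnil
    exact h (Cfsg.Agent.Lib.Helper22.le_fittingSubgroup inferInstance hnil)
  · have hKnil : Group.IsNilpotent K := by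
      rw [hKF]
      exact Cfsg.Agent.Lib.Helper22.fittingSubgroup_isNilpotent
    have hKmax : ∀ N : Subgroup G, N.Normal → Group.IsNilpotent N → N ≤ K := by
      intro N hN hNnil
      rw [hKF]
      exact Cfsg.Agent.Lib.Helper22.le_fittingSubgroup hN hNnil
    exact broline_garrison_fitting χ K hK hKnil hKmax hsolv hKtop

end Cfsg.Agent.Lib.Helper79
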