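import Cfsg.Agent.Lib.Helper88.CravDefs
import Cfsg.Agent.Lib.Helper88.FamRes3
import Cfsg.Agent.Lib.Helper87.AutSystem
import Cfsg.Agent.Lib.Helper87.NRInvariant
import Cfsg.Agent.Lib.Helper87.Saturation

/-! # S5141 leaf CR-I (helper79 for helper88): the `p'`-residual of an invariant subsystem is
invariant under `Aut_F(T)`. -/

set_option autoImplicit false
set_option linter.unusedSectionVars false
set_option linter.style.haveILetI false

namespace Cfsg.Agent.Lib.Helper88.Crav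

open Cfsg Cfsg.FusionSystem Cfsg.Agent.Lib.Helper88

variable {Ω : Type*} [Group Ω] {S T : Subgroup Ω} [Finite S] {p : ℕ} [Fact p.Prime]
  {F : FusionSystem S} {E : FusionSystem T}

/-- conjugating an automorphism of `P` in `E` by `α ∈ Aut_F(T)` gives an automorphism of `α P`
in `E` -/
theorem h79_congr_mem (hinv : InvProp E F) {P : Subgroup Ω} (hPT : P ≤ T) {α : MulAut T}
    (hα : α ∈ F.autGroup T) {x : MulAut P} (hx : x ∈ E.autGroup P) :
    MulAut.congr (imgEquiv α hPT) x ∈ E.autGroup (img α P) := by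
  have hφ : P.subtype.comp x.toMonoidHom ∈ E.Hom P :=
    (Cfsg.Agent.Lib.Helper87.mem_autGroup_iff E hPT x).mp hx
  obtain ⟨χ, hχ, hχe⟩ := hinv P hPT _ hφ α hα
  rw [Cfsg.Agent.Lib.Helper87.mem_autGroup_iff E (img_le α P)]
  have e : (img α P).subtype.comp (MulAut.congr (imgEquiv α hPT) x).toMonoidHom = χ := by
    ext y
    obtain ⟨x₀, rfl⟩ := (imgEquiv α hPT).surjective y
    show (((MulAut.congr (imgEquiv α hPT) x) (imgEquiv α hPT x₀) : img α P) : Ω) = _
    rw [congr_apply, imgEquiv_coe]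
    have hmem : ((α ⟨(x₀ : Ω), hPT x₀.2⟩ : T) : Ω) ∈ img α P := (imgEquiv α hPT x₀).2
    have h1 := hχe x₀ (hPT (x x₀).2) hmem
    have e1 : (imgEquiv α hPT x₀ : img α P) = ⟨((α ⟨(x₀ : Ω), hPT x₀.2⟩ : T) : Ω), hmem⟩ :=
      Subtype.ext rfl
    rw [e1]
    exact h1.symm
  rw [e]
  exact hχ

/-- `Aut_E(T)` is normalized by `Aut_F(T)` -/
theorem h79_conj_mem (hinv : InvProp E F) {β : MulAut T} (hβ : β ∈ E.autGroup T) {γ : MulAut T}
    (hγ : γ ∈ F.autGroup T) : γ * β * γ⁻¹ ∈ E.autGroup T := by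
  have hφ : T.subtype.comp β.toMonoidHom ∈ E.Hom T :=
    (Cfsg.Agent.Lib.Helper87.mem_autGroup_iff E le_rfl β).mp hβ
  obtain ⟨χ, hχ, hχe⟩ := transport_hom hinv le_rfl hφ hγ (P' := img γ T) rfl
  obtain ⟨χ', hχ', hχ'e⟩ := Cfsg.Agent.Lib.Helper84.exists_hom_of_eq E hχ (img_self γ).symm
  rw [Cfsg.Agent.Lib.Helper87.mem_autGroup_iff E le_rfl]
  have e : T.subtype.comp (γ * β * γ⁻¹).toMonoidHom = χ' := by
    ext y
    have hy' : (y : Ω) ∈ img γ T := by rw [img_self]; exact y.2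
    have h0 := hχ'e (y : Ω) y.2 hy'
    have e0 : (⟨(y : Ω), y.2⟩ : T) = y := rfl
    rw [e0] at h0
    rw [h0]
    -- `y = γ (γ⁻¹ y)`
    have hmem : ((γ ⟨((γ⁻¹ y : T) : Ω), (γ⁻¹ y).2⟩ : T) : Ω) ∈ img γ T :=
      mem_img.mpr ⟨γ⁻¹ y, (γ⁻¹ y).2, rfl⟩
    have h1 := hχe (γ⁻¹ y) (β (γ⁻¹ y)).2 hmem
    have e1 : (⟨(y : Ω), hy'⟩ : img γ T) =
        ⟨((γ ⟨((γ⁻¹ y : T) : Ω), (γ⁻¹ y).2⟩ : T) : Ω), hmem⟩ := by
      apply Subtype.ext
      show (y : Ω) = ((γ (γ⁻¹ y) : T) : Ω)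
      rw [MulAut.apply_inv_self]
    rw [e1, h1]
    rfl
  rw [e]
  exact hχ'

/-- CR-I (invariance of the residual). -/
theorem ppRes_invProp (h : WN p F E) : InvProp (ppRes p E) F := by
  have hTS : T ≤ S := h.hinvar.2.1.1
  have hinv : InvProp E F := h.hinvar.2.2.1
  have hInn : Inn T ≤ F.autGroup T :=
    (Cfsg.Agent.Lib.Helper87.inn_le_autInducedBy hTS).trans
      (Cfsg.Agent.Lib.Helper87.autInducedBy_le_autGroup F hTS)
  set F' : FusionSystem T := Cfsg.Agent.Lib.Helper87.autSystem T (F.autGroup T) hInn with hF'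
  have hF'aut : ∀ γ : MulAut T, γ ∈ F'.autGroup T ↔ γ ∈ F.autGroup T := by
    intro γ
    rw [hF', Cfsg.Agent.Lib.Helper87.autSystem_autGroup_iff le_rfl]
    constructor
    · rintro ⟨α, hα, hx⟩
      have : γ = α := MulEquiv.ext (fun x => Subtype.ext (hx x))
      rw [this]
      exact hα
    · intro hγ
      exact ⟨γ, hγ, fun x => rfl⟩
  have hcen : ∀ {P : Subgroup Ω}, E.IsCentric P → ∀ {α : MulAut T}, α ∈ F.autGroup T →
      E.IsCentric (img α P) := fun hP _ hα =>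
    Cfsg.Agent.Lib.Helper87.NR.isCentric_imgAut F E E h.hinvar h.hinvar.1 hP hα
  have hle : ppRes p E ≤ invCore (ppRes p E) F' := by
    apply ppRes_le_of_closed
    · -- `p`-elements
      intro P hPc
      rw [map_closure_eq_pGen]
      intro γ hγ
      have hPT : P ≤ T := hPc.1
      have hγres : γ ∈ (ppRes p E).autGroup P := by
        have := ppRes_pGenContains p E P hPc
        rw [map_closure_eq_pGen] at this
        exact this hγ
      rw [Cfsg.Agent.Lib.Helper87.mem_autGroup_iff (invCore (ppRes p E) F') hPT]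
      refine ⟨(Cfsg.Agent.Lib.Helper87.mem_autGroup_iff (ppRes p E) hPT γ).mp hγres,
        fun α hα => ?_⟩
      have hα' : α ∈ F.autGroup T := (hF'aut α).mp hα
      have hP'c : E.IsCentric (img α P) := hcen hPc hα'
      have h1 : MulAut.congr (imgEquiv α hPT) γ ∈ pGen p (E.autGroup (img α P)) :=
        pGen_map_le p (MulAut.congr (imgEquiv α hPT)).toMonoidHom
          (MulAut.congr (imgEquiv α hPT)).injective
          (fun x hx => h79_congr_mem hinv hPT hα' hx) ⟨γ, hγ, rfl⟩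
      have h2 : MulAut.congr (imgEquiv α hPT) γ ∈ (ppRes p E).autGroup (img α P) := by
        have := ppRes_pGenContains p E (img α P) hP'c
        rw [map_closure_eq_pGen] at this
        exact this h1
      refine ⟨_, (Cfsg.Agent.Lib.Helper87.mem_autGroup_iff (ppRes p E) (img_le α P) _).mp h2, ?_⟩
      intro x hx hφx hαx
      have e1 : (⟨((α ⟨(x : Ω), hx⟩ : T) : Ω), hαx⟩ : img α P) = imgEquiv α hPT x :=
        Subtype.ext rfl
      rw [e1]
      show (((MulAut.congr (imgEquiv α hPT) γ) (imgEquiv α hPT x) : img α P) : Ω) = _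
      rw [congr_apply, imgEquiv_coe]
      rfl
    · -- restriction closed
      intro β hβ P hPT hPc hres
      apply aut_mem_invCore
      intro γ hγ
      have hγ' : γ ∈ F.autGroup T := (hF'aut γ).mp hγ
      have hγβγ : γ * β * γ⁻¹ ∈ E.autGroup T := h79_conj_mem hinv hβ hγ'
      obtain ⟨χ, hχ, hχc⟩ := hres.2 γ hγ
      refine ppRes_resClosed p E _ hγβγ (img γ P) (img_le γ P) (hcen hPc hγ') ?_
      have : resAutHom (γ * β * γ⁻¹) (img γ P) (img_le γ P) = χ := by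
        ext ⟨y, hy⟩
        obtain ⟨x₀, hx₀, hx₀y⟩ := mem_img.mp hy
        have hφS : ((T.subtype.comp β.toMonoidHom).comp (Subgroup.inclusion hPT)) ⟨x₀, hx₀⟩ ∈ T :=
          (β _).2
        have hmem : ((γ ⟨((⟨x₀, hx₀⟩ : P) : Ω), x₀.2⟩ : T) : Ω) ∈ img γ P :=
          mem_img.mpr ⟨x₀, hx₀, rfl⟩
        have h1 := hχc ⟨x₀, hx₀⟩ x₀.2 hφS hmem
        have e1 : (⟨y, hy⟩ : img γ P) = ⟨((γ ⟨((⟨x₀, hx₀⟩ : P) : Ω), x₀.2⟩ : T) : Ω), hmem⟩ :=
          Subtype.ext hx₀y.symm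
        rw [e1, h1, resAutHom_apply]
        show (((γ * β * γ⁻¹) ⟨((γ x₀ : T) : Ω), _⟩ : T) : Ω) = _
        have e2 : (⟨((γ x₀ : T) : Ω), img_le γ P hmem⟩ : T) = γ x₀ := Subtype.ext rfl
        rw [e2, MulAut.mul_apply, MulAut.mul_apply, MulAut.inv_apply_self]
        rfl
      rw [this]
      exact hχ
  intro P hPT φ hφ α hα
  have h1 : φ ∈ (invCore (ppRes p E) F').Hom P := hle P hφ
  obtain ⟨χ, hχ, hc⟩ := h1.2 α ((hF'aut α).mpr hα)
  exact ⟨χ, hχ, fun x hφx hαx => hc x (hPT x.2) hφx hαx⟩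

end Cfsg.Agent.Lib.Helper88.Crav
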