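import Cfsg.Agent.Lib.Helper79.Ef_INTWcore

/-! # Ef hive (S2211, helper37): leaf EF-INTW1 (helper79) -/

set_option autoImplicit false
set_option linter.unusedSectionVars false
set_option linter.unusedVariables false

namespace Cfsg.Agent.Lib.Helper37.Ef

open Cfsg Cfsg.Lie Cfsg.Agent.Lib.Helper36

variable {F : Type*} [Field F]

theorem ef_intw1_cert : intwc_cert 39 25 = true := by decide +kernel

theorem intw1 [CharP F 2] (t : F) : ((yG F 1 t : GL chevE6.Idx F) : Matrix chevE6.Idx chevE6.Idx F) * Pm F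
    = Pm F * chevF4.x F 25 t := by
  have h : ((yG F 1 t : GL chevE6.Idx F) : Matrix chevE6.Idx chevE6.Idx F) = chevE6.x F 39 t := by
    show ((wordGL chevE6 hE6 F [(39, t)] : GL chevE6.Idx F) : Matrix chevE6.Idx chevE6.Idx F) = _
    rw [wordGL_coe]
    simp [ChevalleyDatum.wordMat]
  rw [h]
  exact intwc_single F 39 25 (by decide) (by decide) ef_intw1_cert t

end Cfsg.Agent.Lib.Helper37.Ef
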