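import Cfsg.Agent.Lib.Helper37.EfDefs

/-! # Ef hive (S2211, helper37): engine for the leaves EF-INTW (single root elements), helper79.

Every entry of `x_r(t)` is a polynomial in `t` given by a computable list of (power, integer coefficient);
the identity `x^{E6}_a(t) * Pm = Pm * x^{F4}_b(t)` becomes a parity check on such lists, done by `decide +kernel`. -/

set_option autoImplicit false
set_option linter.unusedSectionVars false
set_option linter.unusedSimpArgs false
set_option linter.unusedVariables false

namespace Cfsg.Agent.Lib.Helper37.Ef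

open Cfsg Cfsg.Lie Cfsg.Agent.Lib.Helper36

/-- value of a list of (power, coefficient) at `t` -/
def intwc_evalL (F : Type*) [Field F] (t : F) (L : List (ℕ × ℤ)) : F :=
  (L.map fun km => ((km.2 : ℤ) : F) * t ^ km.1).sum

theorem intwc_evalL_nil (F : Type*) [Field F] (t : F) : intwc_evalL F t [] = 0 := rfl

theorem intwc_evalL_cons (F : Type*) [Field F] (t : F) (km : ℕ × ℤ) (L : List (ℕ × ℤ)) :
    intwc_evalL F t (km :: L) = ((km.2 : ℤ) : F) * t ^ km.1 + intwc_evalL F t L := by
  unfold intwc_evalL
  rw [List.map_cons, List.sum_cons]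

theorem intwc_evalL_append (F : Type*) [Field F] (t : F) (L L' : List (ℕ × ℤ)) :
    intwc_evalL F t (L ++ L') = intwc_evalL F t L + intwc_evalL F t L' := by
  unfold intwc_evalL
  rw [List.map_append, List.sum_append]

theorem intwc_evalL_flatMap (F : Type*) [Field F] (t : F) {α : Type*} (L : List α) (f : α → List (ℕ × ℤ)) :
    intwc_evalL F t (L.flatMap f) = (L.map fun a => intwc_evalL F t (f a)).sum := by
  induction L with
  | nil => rfl
  | cons a L ih => rw [List.flatMap_cons, intwc_evalL_append, ih, List.map_cons, List.sum_cons]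

/-- the entry list of `x_r(t)` -/
def intwc_entL (D : ChevalleyDatum) (r : ℕ) (row col : D.Idx) : List (ℕ × ℤ) :=
  match col with
  | Sum.inl i =>
    (match row with
     | Sum.inl i' => if i' = i then [(0, 1)] else []
     | Sum.inr u => if u.val = r then [(1, - ((D.cartanSR.getD i.val #[]).getD r 0))] else [])
  | Sum.inr s =>
    if s.val = r then (match row with | Sum.inr u => if u.val = r then [(0, 1)] else [] | Sum.inl _ => [])
    else if s.val = D.negIdx.getD r 0 then
      (match row with
       | Sum.inl i => [(1, (D.coroot.getD r #[]).getD i.val 0)]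
       | Sum.inr u => if u = s then [(0, 1)] else if u.val = r then [(2, -1)] else [])
    else
      (match row with
       | Sum.inl _ => []
       | Sum.inr u => (if u = s then [(0, 1)] else []) ++ D.chainCoeff r s.val u.val)

theorem intwc_entL_spec (D : ChevalleyDatum) (F : Type*) [Field F] (r : Fin D.nroots) (t : F)
    (row col : D.Idx) : D.xMat F r t row col = intwc_evalL F t (intwc_entL D r.val row col) := by
  unfold ChevalleyDatum.xMat intwc_entL
  simp only [Matrix.of_apply]
  rcases col with i | s
  · rcases row with i' | u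
    · by_cases h : i' = i
      · simp [h, intwc_evalL]
      · simp [h, intwc_evalL]
    · by_cases h : u = r
      · have h' : u.val = r.val := by rw [h]
        simp [h, intwc_evalL]
      · have h' : ¬ u.val = r.val := fun e => h (Fin.ext e)
        simp [h, h', intwc_evalL]
  · dsimp only
    by_cases hsr : s = r
    · subst hsr
      rcases row with i | u
      · simp [intwc_evalL]
      · by_cases h : u = s
        · simp [h, intwc_evalL]
        · have h' : ¬ u.val = s.val := fun e => h (Fin.ext e)
          simp [h, h', intwc_evalL]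
    · have hsr' : ¬ s.val = r.val := fun e => hsr (Fin.ext e)
      rw [if_neg hsr, if_neg hsr']
      by_cases hneg : s.val = D.negIdx.getD r.val 0
      · rw [if_pos hneg, if_pos hneg]
        rcases row with i | u
        · simp [intwc_evalL]
        · by_cases h : u = s
          · simp [h, intwc_evalL]
          · by_cases h2 : u = r
            · have h2' : u.val = r.val := by rw [h2]
              subst h2
              simp [h, intwc_evalL]
            · have h2' : ¬ u.val = r.val := fun e => h2 (Fin.ext e)
              simp [h, h2, h2', intwc_evalL]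
      · rw [if_neg hneg, if_neg hneg]
        rcases row with i | u
        · simp [intwc_evalL]
        · rw [intwc_evalL_append]
          by_cases h : u = s
          · simp [h, intwc_evalL]
          · simp [h, intwc_evalL]

theorem intwc_x_spec (D : ChevalleyDatum) (F : Type*) [Field F] (r : ℕ) (hr : r < D.nroots) (t : F)
    (row col : D.Idx) : D.x F r t row col = intwc_evalL F t (intwc_entL D r row col) := by
  unfold ChevalleyDatum.x
  rw [dif_pos hr]
  exact intwc_entL_spec D F ⟨r, hr⟩ t row col

/-! ## parity comparison of two lists -/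

/-- sum of the coefficients of `t ^ k` -/
def intwc_coef (L : List (ℕ × ℤ)) (k : ℕ) : ℤ :=
  (L.map fun km => if km.1 = k then km.2 else 0).sum

/-- all powers `< 4`, and the coefficient sums of each power agree mod 2 -/
def intwc_chk (A B : List (ℕ × ℤ)) : Bool :=
  A.all (fun km => decide (km.1 < 4)) && B.all (fun km => decide (km.1 < 4)) &&
    (List.range 4).all (fun k => decide ((intwc_coef A k - intwc_coef B k) % 2 = 0))

theorem intwc_evalL_eq_coef (F : Type*) [Field F] (t : F) (L : List (ℕ × ℤ))
    (h : ∀ km ∈ L, km.1 < 4) :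
    intwc_evalL F t L = ((List.range 4).map fun k => ((intwc_coef L k : ℤ) : F) * t ^ k).sum := by
  induction L with
  | nil => simp [intwc_evalL, intwc_coef]
  | cons km L ih =>
    rw [intwc_evalL_cons, ih (fun q hq => h q (List.mem_cons_of_mem _ hq))]
    have hk : km.1 < 4 := h km (List.mem_cons_self ..)
    have hrange : List.range 4 = [0, 1, 2, 3] := by decide
    rw [hrange]
    simp only [List.map_cons, List.map_nil, List.sum_cons, List.sum_nil, intwc_coef]
    obtain ⟨k, c⟩ := km
    simp only at hk ⊢
    interval_cases k <;> simp <;> ring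

theorem intwc_eval_eq_of_chk (F : Type*) [Field F] [CharP F 2] (t : F) (A B : List (ℕ × ℤ))
    (h : intwc_chk A B = true) : intwc_evalL F t A = intwc_evalL F t B := by
  unfold intwc_chk at h
  rw [Bool.and_eq_true, Bool.and_eq_true, List.all_eq_true, List.all_eq_true, List.all_eq_true] at h
  obtain ⟨⟨hA, hB⟩, hk⟩ := h
  rw [intwc_evalL_eq_coef F t A (fun km hkm => of_decide_eq_true (hA km hkm)),
    intwc_evalL_eq_coef F t B (fun km hkm => of_decide_eq_true (hB km hkm))]
  congr 1
  apply List.map_congr_left
  intro k hkm
  have h2 := of_decide_eq_true (hk k hkm)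
  have h3 : (((intwc_coef A k - intwc_coef B k : ℤ)) : F) = 0 :=
    (CharP.intCast_eq_zero_iff F 2 _).2 (Int.dvd_of_emod_eq_zero h2)
  rw [Int.cast_sub, sub_eq_zero] at h3
  rw [h3]

/-! ## the two sides of `x^{E6}_a(t) * Pm = Pm * x^{F4}_b(t)` as lists -/

def intwc_all6 : List chevE6.Idx :=
  (List.finRange chevE6.rank).map Sum.inl ++ (List.finRange chevE6.nroots).map Sum.inr

def intwc_all4 : List chevF4.Idx :=
  (List.finRange chevF4.rank).map Sum.inl ++ (List.finRange chevF4.nroots).map Sum.inr

theorem intwc_mem_all6 (i : chevE6.Idx) : i ∈ intwc_all6 := by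
  unfold intwc_all6
  rcases i with a | a
  · exact List.mem_append_left _ (List.mem_map.2 ⟨a, List.mem_finRange a, rfl⟩)
  · exact List.mem_append_right _ (List.mem_map.2 ⟨a, List.mem_finRange a, rfl⟩)

theorem intwc_mem_all4 (i : chevF4.Idx) : i ∈ intwc_all4 := by
  unfold intwc_all4
  rcases i with a | a
  · exact List.mem_append_left _ (List.mem_map.2 ⟨a, List.mem_finRange a, rfl⟩)
  · exact List.mem_append_right _ (List.mem_map.2 ⟨a, List.mem_finRange a, rfl⟩)

theorem intwc_sum6 {M : Type*} [AddCommMonoid M] (f : chevE6.Idx → M) :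
    ∑ k, f k = (intwc_all6.map f).sum := by
  unfold intwc_all6
  rw [Fintype.sum_sum_type, List.map_append, List.sum_append, List.map_map, List.map_map,
    Fin.sum_univ_def, Fin.sum_univ_def]
  rfl

theorem intwc_sum4 {M : Type*} [AddCommMonoid M] (f : chevF4.Idx → M) :
    ∑ k, f k = (intwc_all4.map f).sum := by
  unfold intwc_all4
  rw [Fintype.sum_sum_type, List.map_append, List.sum_append, List.map_map, List.map_map,
    Fin.sum_univ_def, Fin.sum_univ_def]
  rfl

/-- the 0/1 pattern of `Pm` -/
def intwc_pmB (i : chevE6.Idx) (j : chevF4.Idx) : Bool :=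
  match i, j with
  | Sum.inl a, Sum.inl k => decide (a.val ∈ horbF.getD k.val [])
  | Sum.inr a, Sum.inr s => decide (a.val ∈ orbF.getD s.val [])
  | _, _ => false

theorem intwc_Pm_apply (F : Type*) [Field F] (i : chevE6.Idx) (j : chevF4.Idx) :
    Pm F i j = if intwc_pmB i j = true then 1 else 0 := by
  unfold Pm intwc_pmB
  rcases i with a | a <;> rcases j with k | k <;> simp [Matrix.of_apply]

def intwc_lhsL (a : ℕ) (i : chevE6.Idx) (j : chevF4.Idx) : List (ℕ × ℤ) :=
  intwc_all6.flatMap fun k => if intwc_pmB k j = true then intwc_entL chevE6 a i k else []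

def intwc_rhsL (b : ℕ) (i : chevE6.Idx) (j : chevF4.Idx) : List (ℕ × ℤ) :=
  intwc_all4.flatMap fun m => if intwc_pmB i m = true then intwc_entL chevF4 b m j else []

/-- the Boolean certificate -/
def intwc_cert (a b : ℕ) : Bool :=
  intwc_all6.all fun i => intwc_all4.all fun j => intwc_chk (intwc_lhsL a i j) (intwc_rhsL b i j)

theorem intwc_single (F : Type*) [Field F] [CharP F 2] (a b : ℕ) (ha : a < chevE6.nroots)
    (hb : b < chevF4.nroots) (hcert : intwc_cert a b = true) (t : F) :
    chevE6.x F a t * Pm F = Pm F * chevF4.x F b t := by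
  ext i j
  rw [Matrix.mul_apply, Matrix.mul_apply, intwc_sum6, intwc_sum4]
  have h1 : (intwc_all6.map fun k => chevE6.x F a t i k * Pm F k j) =
      intwc_all6.map fun k => intwc_evalL F t (if intwc_pmB k j = true then intwc_entL chevE6 a i k else []) := by
    apply List.map_congr_left
    intro k _
    rw [intwc_Pm_apply, intwc_x_spec chevE6 F a ha]
    by_cases h : intwc_pmB k j = true
    · rw [if_pos h, if_pos h, mul_one]
    · rw [if_neg h, if_neg h, mul_zero, intwc_evalL_nil]
  have h2 : (intwc_all4.map fun m => Pm F i m * chevF4.x F b t m j) =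
      intwc_all4.map fun m => intwc_evalL F t (if intwc_pmB i m = true then intwc_entL chevF4 b m j else []) := by
    apply List.map_congr_left
    intro m _
    rw [intwc_Pm_apply, intwc_x_spec chevF4 F b hb]
    by_cases h : intwc_pmB i m = true
    · rw [if_pos h, if_pos h, one_mul]
    · rw [if_neg h, if_neg h, zero_mul, intwc_evalL_nil]
  rw [h1, h2, ← intwc_evalL_flatMap, ← intwc_evalL_flatMap]
  apply intwc_eval_eq_of_chk
  unfold intwc_cert at hcert
  rw [List.all_eq_true] at hcert
  have := hcert i (intwc_mem_all6 i)
  rw [List.all_eq_true] at this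
  exact this j (intwc_mem_all4 j)

end Cfsg.Agent.Lib.Helper37.Ef
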