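import Mathlib
import Cfsg.Prelude.Def_Characters
import Cfsg.Prelude.Def_Solvable
import Cfsg.Agent.Lib.Helper79.BG6
import Cfsg.Agent.Lib.Helper79.KGV2

set_option autoImplicit false
set_option linter.unusedSectionVars false
set_option linter.style.haveILetI false

namespace Cfsg.Agent.Lib.Helper79

open Cfsg
open scoped ComplexConjugate

universe u

/-- Nilpotent sections pull back along surjective homomorphisms. -/
theorem isNilpotent_section_comap {G G' : Type*} [Group G] [Group G'] (f : G →* G')
    (hf : Function.Surjective f) (U V : Subgroup G') (hUn : (U.subgroupOf V).Normal)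
    (hnil : Group.IsNilpotent (↥V ⧸ U.subgroupOf V))
    (h : ((U.comap f).subgroupOf (V.comap f)).Normal) :
    Group.IsNilpotent (↥(V.comap f) ⧸ (U.comap f).subgroupOf (V.comap f)) := by
  set ψ := f.subgroupComap V with hψ
  have hψs : Function.Surjective ψ := MonoidHom.subgroupComap_surjective_of_surjective f V hf
  set Φ := (QuotientGroup.mk' (U.subgroupOf V)).comp ψ with hΦ
  have hΦs : Function.Surjective Φ := (QuotientGroup.mk'_surjective _).comp hψs
  have hker : (U.comap f).subgroupOf (V.comap f) = Φ.ker := by
    ext x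
    rw [MonoidHom.mem_ker, hΦ, MonoidHom.comp_apply, QuotientGroup.mk'_apply,
      QuotientGroup.eq_one_iff, Subgroup.mem_subgroupOf, Subgroup.mem_subgroupOf,
      Subgroup.mem_comap]
    rfl
  have key : ∀ (L : Subgroup ↥(V.comap f)) (hL : L.Normal), L = Φ.ker →
      Group.IsNilpotent (↥(V.comap f) ⧸ L) := by
    intro L hL heq
    subst heq
    exact Group.nilpotent_of_mulEquiv (QuotientGroup.quotientKerEquivOfSurjective Φ hΦs).symm
  exact key _ h hker

/-- The set of irreducible character degrees. -/
def cdSet (G : Type u) [Group G] : Set ℕ :=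
  {d | ∃ χ : IrrCharacter G, charDegree (χ : G → ℂ) = d}

theorem cdSet_finite (G : Type u) [Group G] [Finite G] : (cdSet G).Finite := by
  haveI : Finite (IrrCharacter G) := Cfsg.Agent.Lib.Helper3.irrCharacter_finite
  have : cdSet G = Set.range (fun χ : IrrCharacter G => charDegree (χ : G → ℂ)) := by
    ext d
    simp [cdSet]
  rw [this]
  exact Set.finite_range _

theorem cdSet_quotient_subset {G : Type u} [Group G] (N : Subgroup G) [N.Normal] :
    cdSet (G ⧸ N) ⊆ cdSet G := by
  rintro d ⟨χ, rfl⟩
  refine ⟨inflIrr N χ, ?_⟩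
  unfold charDegree
  rw [inflIrr_apply]
  rfl

end Cfsg.Agent.Lib.Helper79
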