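import Mathlib
import Cfsg.Prelude.Def_Characters
import Cfsg.Prelude.Def_Solvable
import Cfsg.Agent.Lib.Helper79.GA1
import Cfsg.Agent.Lib.Helper10.MinNormal

set_option autoImplicit false
set_option linter.unusedSectionVars false
set_option linter.style.haveILetI false

namespace Cfsg.Agent.Lib.Helper79

open Cfsg
open scoped ComplexConjugate

universe u

/-- ℕ-indexed normal chain with nilpotent quotients. -/
def NilChain (G : Type u) [Group G] (n : ℕ) : Prop :=
  ∃ N : ℕ → Subgroup G, N 0 = ⊥ ∧ N n = ⊤ ∧ Monotone N ∧ (∀ i, (N i).Normal) ∧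
    ∀ i, i < n → ∀ _h : ((N i).subgroupOf (N (i + 1))).Normal,
      Group.IsNilpotent (↥(N (i + 1)) ⧸ (N i).subgroupOf (N (i + 1)))

theorem one_mem_cdSet (G : Type u) [Group G] [Finite G] : 1 ∈ cdSet G := by
  refine ⟨⟨fun _ => 1, Cfsg.Agent.Lib.Helper3.isIrrCharacter_one⟩, ?_⟩
  simp [charDegree]

theorem one_le_ncard_cdSet (G : Type u) [Group G] [Finite G] : 1 ≤ (cdSet G).ncard := by
  rw [Nat.succ_le_iff, Set.ncard_pos (cdSet_finite G)]
  exact ⟨1, one_mem_cdSet G⟩

theorem nilChain_of_nilpotent (G : Type u) [Group G] [hnil : Group.IsNilpotent G] (n : ℕ)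
    (hn : 1 ≤ n) : NilChain G n := by
  refine ⟨fun i => if i = 0 then ⊥ else ⊤, by simp, ?_, ?_, ?_, ?_⟩
  · have : n ≠ 0 := by omega
    simp [this]
  · apply monotone_nat_of_le_succ
    intro i
    by_cases hi : i = 0
    · simp [hi]
    · simp [hi]
  · intro i
    by_cases hi : i = 0
    · simp only [hi, if_true]; infer_instance
    · simp only [hi, if_false]; infer_instance
  · intro i _ h
    infer_instance

/-- Pull back a chain of the quotient by a nilpotent normal subgroup. -/
theorem nilChain_of_quotient {G : Type u} [Group G] (F : Subgroup G) [F.Normal]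
    (hF : Group.IsNilpotent F) (n : ℕ) (h : NilChain (G ⧸ F) n) : NilChain G (n + 1) := by
  obtain ⟨Nb, h0, hn, hmono, hnormal, hquot⟩ := h
  refine ⟨fun i => Nat.casesOn i ⊥ (fun j => (Nb j).comap (QuotientGroup.mk' F)), rfl, ?_, ?_, ?_, ?_⟩
  · show (Nb n).comap (QuotientGroup.mk' F) = ⊤
    rw [hn]; rfl
  · apply monotone_nat_of_le_succ
    intro i
    cases i with
    | zero => exact bot_le
    | succ j => exact Subgroup.comap_mono (hmono (Nat.le_succ j))
  · intro i
    cases i with
    | zero => show (⊥ : Subgroup G).Normal; infer_instance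
    | succ j =>
      show ((Nb j).comap (QuotientGroup.mk' F)).Normal
      haveI := hnormal j
      infer_instance
  · intro i hi
    cases i with
    | zero =>
      intro h
      have hN1 : (Nb 0).comap (QuotientGroup.mk' F) = F := by
        rw [h0, MonoidHom.comap_bot, QuotientGroup.ker_mk']
      have key : ∀ S : Subgroup G, S = F → Group.IsNilpotent S := by
        intro S hS; subst hS; exact hF
      haveI : Group.IsNilpotent ↥((Nb 0).comap (QuotientGroup.mk' F)) := key _ hN1
      show Group.IsNilpotent (↥((Nb 0).comap (QuotientGroup.mk' F)) ⧸ _)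
      infer_instance
    | succ j =>
      intro h
      haveI := hnormal j
      have hUn : ((Nb j).subgroupOf (Nb (j + 1))).Normal := inferInstance
      exact isNilpotent_section_comap (QuotientGroup.mk' F) (QuotientGroup.mk'_surjective F)
        (Nb j) (Nb (j + 1)) hUn (hquot j (by omega) hUn) h

theorem nilChain_of_solvable : ∀ (m : ℕ) (G : Type u) [Group G] [Finite G], Nat.card G = m →
    Group.IsSolvable G → ∀ n, (cdSet G).ncard ≤ n → NilChain G n := by
  intro m
  induction m using Nat.strong_induction_on with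
  | _ m ih =>
    intro G _ _ hm hsolv n hn
    have hn1 : 1 ≤ n := (one_le_ncard_cdSet G).trans hn
    by_cases hnil : Group.IsNilpotent G
    · exact nilChain_of_nilpotent G n hn1
    · haveI : Nontrivial G := by
        by_contra hnt
        rw [not_nontrivial_iff_subsingleton] at hnt
        apply hnil
        infer_instance
      set F := Cfsg.fittingSubgroup G with hFdef
      haveI hFn : F.Normal := Cfsg.Agent.Lib.Helper22.fittingSubgroup_normal G
      have hFnil : Group.IsNilpotent F := Cfsg.Agent.Lib.Helper22.fittingSubgroup_isNilpotent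
      have hFtop : F ≠ ⊤ := by
        intro htop
        apply hnil
        rw [htop] at hFnil
        exact Group.nilpotent_of_mulEquiv (Subgroup.topEquiv (G := G))
      have hFbot : F ≠ ⊥ := by
        obtain ⟨q, N, hq, hNn, hNne, hNp, -, -, -⟩ :=
          Cfsg.Agent.Lib.Helper10.exists_min_normal_pgroup_of_solvable (G := G)
        haveI : Fact q.Prime := ⟨hq⟩
        have hNnil : Group.IsNilpotent N := hNp.isNilpotent
        have hle : N ≤ F := Cfsg.Agent.Lib.Helper22.le_fittingSubgroup hNn hNnil
        intro hbot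
        apply hNne
        rw [hbot] at hle
        exact le_bot_iff.mp hle
      -- the quotient
      have hcardlt : Nat.card (G ⧸ F) < m := by
        rw [← hm, ← Subgroup.index_eq_card, ← Subgroup.index_mul_card F]
        have h1 : 1 < Nat.card F := by
          rw [Subgroup.one_lt_card_iff_ne_bot]
          exact hFbot
        have h2 : 0 < F.index := Nat.pos_of_ne_zero Subgroup.index_ne_zero_of_finite
        nlinarith
      haveI : Finite (IrrCharacter (G ⧸ F)) := Cfsg.Agent.Lib.Helper3.irrCharacter_finite
      haveI : Nonempty (IrrCharacter (G ⧸ F)) :=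
        ⟨⟨fun _ => 1, Cfsg.Agent.Lib.Helper3.isIrrCharacter_one⟩⟩
      obtain ⟨χb, hχb⟩ := Finite.exists_max
        (fun χ : IrrCharacter (G ⧸ F) => charDegree (χ : G ⧸ F → ℂ))
      set χ := inflIrr F χb with hχ
      have hχc : IsCharacter G (χ : G → ℂ) := Cfsg.Agent.Lib.Helper3.IsIrrCharacter.isCharacter χ.2
      set K := charKer hχc with hKdef
      have hK : ∀ g : G, g ∈ K ↔ (χ : G → ℂ) g = (χ : G → ℂ) 1 := mem_charKer hχc
      have hFK : F ≤ K := by
        intro g hg
        rw [hK, hχ, inflIrr_apply, inflIrr_apply]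
        have h1 : (g : G ⧸ F) = ((1 : G) : G ⧸ F) := by
          rw [QuotientGroup.mk_one, QuotientGroup.eq_one_iff]
          exact hg
        rw [h1]
      have hBG : ¬ K ≤ Cfsg.fittingSubgroup G ∨
          (K = Cfsg.fittingSubgroup G ∧ Group.IsSolvable (G ⧸ K) ∧ K ≠ ⊤) := by
        by_cases hKF : K ≤ F
        · right
          have hKeq : K = F := le_antisymm hKF hFK
          exact ⟨hKeq, inferInstance, hKeq ▸ hFtop⟩
        · left
          exact hKF
      obtain ⟨ψ, hψdeg, -⟩ := broline_garrison χ K hK hBG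
      have hdegχ : charDegree (χ : G → ℂ) = charDegree (χb : G ⧸ F → ℂ) := by
        unfold charDegree
        rw [hχ, inflIrr_apply]
        rfl
      have hss : cdSet (G ⧸ F) ⊂ cdSet G := by
        refine ⟨cdSet_quotient_subset F, ?_⟩
        intro hsub
        obtain ⟨θ, hθ⟩ := hsub ⟨ψ, rfl⟩
        have := hχb θ
        omega
      have hlt : (cdSet (G ⧸ F)).ncard < (cdSet G).ncard :=
        Set.ncard_lt_ncard hss (cdSet_finite G)
      have hchain : NilChain (G ⧸ F) (n - 1) :=
        ih _ hcardlt (G ⧸ F) rfl inferInstance (n - 1) (by omega)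
      have := nilChain_of_quotient F hFnil (n - 1) hchain
      rwa [Nat.sub_add_cancel hn1] at this

/-- Garrison's theorem: the nilpotent length of a solvable group is at most the number of
irreducible character degrees. -/
theorem garrison_nilpotent_length {G : Type u} [Group G] [Finite G] (hsolv : Group.IsSolvable G)
    (n : ℕ)
    (hcd : Nat.card {d : ℕ // ∃ χ : Cfsg.IrrCharacter G, Cfsg.charDegree (χ : G → ℂ) = d} = n) :
    ∃ N : Fin (n + 1) → Subgroup G, N 0 = ⊥ ∧ N (Fin.last n) = ⊤ ∧ Monotone N ∧
      (∀ i, (N i).Normal) ∧ ∀ i : Fin n,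
        ∀ _h : (N i.castSucc).subgroupOf (N i.succ) |>.Normal,
          Group.IsNilpotent (↥(N i.succ) ⧸ (N i.castSucc).subgroupOf (N i.succ)) := by
  have hn : (cdSet G).ncard ≤ n := by
    rw [← hcd, ← Nat.card_coe_set_eq]
    exact le_of_eq rfl
  obtain ⟨N, h0, hn', hmono, hnormal, hquot⟩ := nilChain_of_solvable _ G rfl hsolv n hn
  refine ⟨fun i => N i.val, ?_, ?_, ?_, ?_, ?_⟩
  · simpa using h0
  · simpa using hn'
  · intro i j hij
    exact hmono hij
  · intro i
    exact hnormal i.val
  · intro i h
    exact hquot i.val i.isLt h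

end Cfsg.Agent.Lib.Helper79
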