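import Mathlib

set_option autoImplicit false

namespace Cfsg.Agent.Lib.Helper79

/-- In a group of order `p * n` with `0 < n < p`, the Sylow `p`-subgroup is normal of order `p`. -/
theorem sylow_normal_of_card_eq_prime_mul {H : Type*} [Group H] [Finite H] (p n : ℕ)
    [hp : Fact p.Prime] (hn : 0 < n) (hnp : n < p) (hcard : Nat.card H = p * n) (P : Sylow p H) :
    (P : Subgroup H).Normal ∧ Nat.card P = p ∧ (P : Subgroup H).index = n := by
  have hpn : ¬ p ∣ n := fun h => by
    have := Nat.le_of_dvd hn h
    omega
  have hfac : (Nat.card H).factorization p = 1 := by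
    rw [hcard, Nat.factorization_mul hp.out.ne_zero hn.ne']
    simp [Nat.factorization_eq_zero_of_not_dvd hpn, hp.out.factorization_self]
  have hP : Nat.card P = p := by
    rw [P.card_eq_multiplicity, hfac, pow_one]
  have hidx : (P : Subgroup H).index = n := by
    have := (P : Subgroup H).card_mul_index
    rw [hP, hcard] at this
    exact Nat.eq_of_mul_eq_mul_left hp.out.pos this
  refine ⟨?_, hP, hidx⟩
  have h1 : Nat.card (Sylow p H) ≡ 1 [MOD p] := card_sylow_modEq_one p H
  have h2 : Nat.card (Sylow p H) ∣ n := hidx ▸ P.card_dvd_index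
  have h3 : Nat.card (Sylow p H) ≤ n := Nat.le_of_dvd hn h2
  have h4 : Nat.card (Sylow p H) = 1 := by
    have hlt : Nat.card (Sylow p H) < p := lt_of_le_of_lt h3 hnp
    have := h1
    rw [Nat.ModEq, Nat.mod_eq_of_lt hlt, Nat.mod_eq_of_lt hp.out.one_lt] at this
    exact this
  have : Subsingleton (Sylow p H) := (Nat.card_eq_one_iff_unique.mp h4).1
  exact P.normal_of_subsingleton

/-- A normal subgroup of prime order of a perfect group is central. -/
theorem central_of_normal_prime_card_of_perfect {H : Type*} [Group H] (hperf : commutator H = ⊤)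
    (P : Subgroup H) [hN : P.Normal] (p : ℕ) [hp : Fact p.Prime] (hP : Nat.card P = p) :
    P ≤ Subgroup.center H := by
  have hcyc : IsCyclic P := isCyclic_of_prime_card hP
  let e : MulAut P ≃* (ZMod (Nat.card P))ˣ := IsCyclic.mulAutMulEquiv P
  let f : H →* (ZMod (Nat.card P))ˣ := e.toMonoidHom.comp (MulAut.conjNormal (H := P))
  have hker : commutator H ≤ f.ker := Abelianization.commutator_subset_ker f
  rw [hperf] at hker
  intro x hx
  rw [Subgroup.mem_center_iff]
  intro g
  have hg : g ∈ f.ker := hker (Subgroup.mem_top g)
  rw [MonoidHom.mem_ker] at hg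
  have hg' : MulAut.conjNormal (H := P) g = 1 := by
    have : e (MulAut.conjNormal (H := P) g) = 1 := hg
    simpa using this
  have := congrArg (fun a : MulAut P => ((a ⟨x, hx⟩ : P) : H)) hg'
  simp only [MulAut.conjNormal_apply, MulAut.one_apply] at this
  calc g * x = g * x * g⁻¹ * g := by group
    _ = x * g := by rw [this]

/-- A finite perfect group cannot have order `p * n` with `p` prime and `0 < n ≤ p`. -/
theorem false_of_perfect_of_card_eq_prime_mul {H : Type*} [Group H] [Finite H]
    (hperf : commutator H = ⊤) (p n : ℕ) (hp : p.Prime) (hn : 0 < n) (hnp : n ≤ p)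
    (hcard : Nat.card H = p * n) : False := by
  have : Fact p.Prime := ⟨hp⟩
  rcases Nat.lt_or_ge n p with hlt | hge
  · obtain ⟨P⟩ : Nonempty (Sylow p H) := inferInstance
    obtain ⟨hnormal, hPcard, hidx⟩ := sylow_normal_of_card_eq_prime_mul p n hn hlt hcard P
    have hcen : (P : Subgroup H) ≤ Subgroup.center H :=
      central_of_normal_prime_card_of_perfect hperf (P : Subgroup H) p hPcard
    have hNC : Subgroup.normalizer ((P : Subgroup H) : Set H) ≤
        Subgroup.centralizer ((P : Subgroup H) : Set H) := by
      intro g _
      rw [Subgroup.mem_centralizer_iff]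
      intro x hx
      exact ((Subgroup.mem_center_iff.mp (hcen hx)) g).symm
    have hcompl := MonoidHom.ker_transferSylow_isComplement' P hNC
    set N := (MonoidHom.transferSylow P hNC).ker with hN
    have hNidx : N.index = p := by rw [hcompl.symm.index_eq_card, hPcard]
    have hcomm : IsMulCommutative (H ⧸ N) := by
      have hc : Nat.card (H ⧸ N) = p := hNidx
      have : IsCyclic (H ⧸ N) := isCyclic_of_prime_card hc
      exact IsCyclic.isMulCommutative
    have hle : commutator H ≤ N := Subgroup.Normal.quotient_commutative_iff_commutator_le.mp hcomm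
    rw [hperf, top_le_iff] at hle
    rw [hle, Subgroup.index_top] at hNidx
    exact hp.one_lt.ne hNidx
  · have hnp' : n = p := le_antisymm hnp hge
    subst hnp'
    have hsq : Nat.card H = n ^ 2 := by rw [hcard, sq]
    have hcomm : IsMulCommutative H := IsPGroup.isMulCommutative_of_card_eq_prime_sq hsq
    have hbot : commutator H = ⊥ := by
      rw [commutator_def, Subgroup.commutator_eq_bot_iff_le_centralizer]
      intro g _
      rw [Subgroup.mem_centralizer_iff]
      intro x _
      exact hcomm.is_comm.comm x g
    rw [hperf] at hbot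
    have : Nat.card H = 1 := by
      rw [← Subgroup.card_top (G := H), hbot, Subgroup.card_bot]
    rw [this] at hsq
    have := hp.one_lt
    nlinarith

end Cfsg.Agent.Lib.Helper79
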