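import Mathlib
import Cfsg.Prelude.Def_Characters
import Cfsg.Agent.Lib.Helper3.Degree
import Cfsg.Agent.Lib.Helper79.Degree
import Cfsg.Agent.Lib.Helper79.CenterIndex

set_option autoImplicit false
set_option linter.unusedSectionVars false
set_option linter.style.haveILetI false

/-! Orbit congruences for invariant functions under a `p`-group action, and the congruence
`φ(1)² ≡ 1 (mod p)` for invariant irreducible characters whose fixed points are central. -/

namespace Cfsg.Agent.Lib.Helper79.IW

open Cfsg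
open scoped ComplexConjugate

universe u

section Orbit

variable {P X : Type*} [Group P] [Finite P] [Fintype X] [MulAction P X]

/-- A stable subset of a `p`-group action has cardinality congruent to the number of its
fixed points. -/
theorem card_filter_modEq {p : ℕ} [Fact p.Prime] (hP : IsPGroup p P) (S : Set X)
    (hS : ∀ (g : P) (x : X), x ∈ S → g • x ∈ S) [DecidablePred (· ∈ S)]
    [DecidablePred (· ∈ MulAction.fixedPoints P X)] :
    (Finset.univ.filter (fun x : X => x ∈ S)).card ≡
      (Finset.univ.filter (fun x : X => x ∈ S ∧ x ∈ MulAction.fixedPoints P X)).card [MOD p] := by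
  classical
  let T : SubMulAction P X := ⟨S, fun g x hx => hS g x hx⟩
  have h1 := hP.card_modEq_card_fixedPoints (α := T)
  have e1 : Nat.card T = (Finset.univ.filter (fun x : X => x ∈ S)).card := by
    rw [Nat.card_eq_fintype_card, ← Fintype.card_subtype]
    exact Fintype.card_congr (Equiv.refl _)
  have e2 : Nat.card (MulAction.fixedPoints P T) =
      (Finset.univ.filter (fun x : X => x ∈ S ∧ x ∈ MulAction.fixedPoints P X)).card := by
    rw [← Fintype.card_subtype, ← Nat.card_eq_fintype_card]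
    apply Nat.card_congr
    refine ⟨fun y => ⟨(y.1 : X), y.1.2, fun g => congrArg Subtype.val (y.2 g)⟩,
      fun x => ⟨⟨x.1, x.2.1⟩, fun g => Subtype.ext (x.2.2 g)⟩, ?_, ?_⟩
    · intro y; rfl
    · intro x; rfl
  rw [e1, e2] at h1
  exact h1

/-- For an invariant function with algebraic integer values, the sum over the whole set is
congruent modulo `p` to the sum over the fixed points. -/
theorem sum_eq_sum_fixedPoints_add {p : ℕ} [Fact p.Prime] (hP : IsPGroup p P) (f : X → ℂ)
    (hinv : ∀ (g : P) (x : X), f (g • x) = f x) (hint : ∀ x, IsIntegral ℤ (f x))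
    [DecidablePred (· ∈ MulAction.fixedPoints P X)] :
    ∃ α : ℂ, IsIntegral ℤ α ∧
      ∑ x : X, f x =
        ∑ x ∈ Finset.univ.filter (fun x : X => x ∈ MulAction.fixedPoints P X), f x +
          (p : ℂ) * α := by
  classical
  set t : Finset ℂ := Finset.univ.image f with ht
  set F : Finset X := Finset.univ.filter (fun x : X => x ∈ MulAction.fixedPoints P X) with hF
  have hA : ∑ x : X, f x = ∑ v ∈ t, ((Finset.univ.filter (fun x : X => f x = v)).card : ℂ) * v := by
    rw [← Finset.sum_fiberwise_of_maps_to (s := Finset.univ) (t := t) (g := f)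
      (fun x _ => Finset.mem_image_of_mem f (Finset.mem_univ x))]
    apply Finset.sum_congr rfl
    intro v _
    rw [Finset.sum_congr rfl (fun x hx => (Finset.mem_filter.1 hx).2), Finset.sum_const,
      nsmul_eq_mul]
  have hB : ∑ x ∈ F, f x = ∑ v ∈ t, ((F.filter (fun x : X => f x = v)).card : ℂ) * v := by
    rw [← Finset.sum_fiberwise_of_maps_to (s := F) (t := t) (g := f)
      (fun x _ => Finset.mem_image_of_mem f (Finset.mem_univ x))]
    apply Finset.sum_congr rfl
    intro v _
    rw [Finset.sum_congr rfl (fun x hx => (Finset.mem_filter.1 hx).2), Finset.sum_const,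
      nsmul_eq_mul]
  have hk : ∀ v : ℂ, ∃ k : ℕ, (Finset.univ.filter (fun x : X => f x = v)).card =
      (F.filter (fun x : X => f x = v)).card + p * k := by
    intro v
    have h1 := card_filter_modEq hP {x : X | f x = v}
      (fun g x hx => by
        rw [Set.mem_ofPred_eq] at hx ⊢
        rw [hinv, hx])
    have e : (Finset.univ.filter (fun x : X => x ∈ {x : X | f x = v} ∧
        x ∈ MulAction.fixedPoints P X)) = F.filter (fun x : X => f x = v) := by
      ext x
      simp only [hF, Finset.mem_filter, Finset.mem_univ, true_and, Set.mem_ofPred_eq]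
      tauto
    rw [e] at h1
    have e' : (Finset.univ.filter (fun x : X => x ∈ {x : X | f x = v})) =
        Finset.univ.filter (fun x : X => f x = v) := by
      ext x
      simp
    rw [e'] at h1
    have hle : (F.filter (fun x : X => f x = v)).card ≤
        (Finset.univ.filter (fun x : X => f x = v)).card := by
      apply Finset.card_le_card
      intro x hx
      rw [Finset.mem_filter] at hx ⊢
      exact ⟨Finset.mem_univ x, hx.2⟩
    have h2 := (Nat.modEq_iff_dvd' hle).1 h1.symm
    obtain ⟨k, hk⟩ := h2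
    exact ⟨k, by omega⟩
  choose k hk using hk
  refine ⟨∑ v ∈ t, (k v : ℂ) * v, ?_, ?_⟩
  · apply IsIntegral.sum
    intro v hv
    apply IsIntegral.mul
    · exact isIntegral_natCast (k v)
    · rw [ht, Finset.mem_image] at hv
      obtain ⟨x, _, rfl⟩ := hv
      exact hint x
  · rw [hA, hB, Finset.mul_sum, ← Finset.sum_add_distrib]
    apply Finset.sum_congr rfl
    intro v _
    rw [hk v]
    push_cast
    ring

end Orbit

section Congr

/-- An integer which is `p` times an algebraic integer is divisible by `p`. -/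
theorem int_dvd_of_eq_mul_isIntegral (z : ℤ) (p : ℕ) (hp : p ≠ 0) (α : ℂ) (hα : IsIntegral ℤ α)
    (h : (z : ℂ) = (p : ℂ) * α) : (p : ℤ) ∣ z := by
  have hp' : (p : ℂ) ≠ 0 := Nat.cast_ne_zero.2 hp
  have hα' : α = (((z : ℚ) / (p : ℚ) : ℚ) : ℂ) := by
    push_cast
    rw [h]
    field_simp
  rw [hα'] at hα
  obtain ⟨w, hw⟩ := Cfsg.Agent.Lib.Helper3.int_of_isIntegral_ratCast hα
  refine ⟨w, ?_⟩
  have hp'' : (p : ℚ) ≠ 0 := Nat.cast_ne_zero.2 hp
  have : (z : ℚ) = (p : ℚ) * (w : ℚ) := by
    rw [hw]
    field_simp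
  exact_mod_cast this

/-- Let a `p`-group `P` act on a `p'`-group `Q` so that every fixed point is central in `Q`.
Then every `P`-invariant irreducible character of `Q` has degree `d` with `p ∣ d² - 1`. -/
theorem sq_degree_modEq {Q : Type u} [Group Q] [Fintype Q] {P : Type*} [Group P] [Finite P]
    (κ : P →* MulAut Q) {p : ℕ} [hp : Fact p.Prime] (hP : IsPGroup p P)
    (hcop : (Nat.card Q).Coprime p) {φ : Q → ℂ} (hφ : IsIrrCharacter Q φ)
    (hinv : ∀ (g : P) (x : Q), φ (κ g x) = φ x)
    (hfix : ∀ x : Q, (∀ g : P, κ g x = x) → x ∈ Subgroup.center Q) (d : ℕ)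
    (hd : φ 1 = (d : ℂ)) : p ∣ d ^ 2 - 1 := by
  classical
  obtain ⟨n, ρ, hirr, rfl⟩ := hφ
  haveI := hirr
  letI : MulAction P Q := MulAction.compHom Q κ
  have hsmul : ∀ (g : P) (x : Q), g • x = κ g x := fun _ _ => rfl
  have hdn : d = n := by
    have h1 : ρ.character 1 = (n : ℂ) := rep_character_one ρ
    rw [h1] at hd
    exact_mod_cast hd.symm
  subst hdn
  let f : Q → ℂ := fun x => ((Complex.normSq (ρ.character x) : ℝ) : ℂ)
  have hf : ∀ x, f x = ρ.character x * conj (ρ.character x) := fun x =>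
    (Complex.mul_conj (ρ.character x)).symm
  have hint : ∀ x, IsIntegral ℤ (f x) := by
    intro x
    rw [hf]
    have h1 : IsIntegral ℤ (ρ.character x) := Cfsg.Agent.Lib.Helper3.isIntegral_character ρ x
    exact h1.mul (map_isIntegral_int (starRingEnd ℂ) h1)
  have hfinv : ∀ (g : P) (x : Q), f (g • x) = f x := by
    intro g x
    change ((Complex.normSq (ρ.character (g • x)) : ℝ) : ℂ) = _
    rw [hsmul, hinv]
  obtain ⟨α, hα, hsum⟩ := sum_eq_sum_fixedPoints_add hP f hfinv hint
  have htot : ∑ x : Q, f x = (Nat.card Q : ℂ) := by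
    have := sum_normSq_character ρ
    change ∑ x : Q, ((Complex.normSq (ρ.character x) : ℝ) : ℂ) = _
    rw [← Complex.ofReal_sum, this]
    simp
  have hfixval : ∀ x ∈ Finset.univ.filter (fun x : Q => x ∈ MulAction.fixedPoints P Q),
      f x = ((d : ℂ)) ^ 2 := by
    intro x hx
    rw [Finset.mem_filter] at hx
    have hx' : x ∈ Subgroup.center Q := hfix x (fun g => hx.2 g)
    obtain ⟨c, hc, hcc⟩ := exists_scalar_of_mem_center ρ hx'
    have h1 : ρ.character x = c * (d : ℂ) := by
      change LinearMap.trace ℂ _ (ρ x) = _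
      rw [hc, map_smul, LinearMap.trace_id]
      simp
    rw [hf, h1, map_mul, Complex.conj_natCast]
    calc c * (d : ℂ) * (conj c * (d : ℂ)) = (c * conj c) * (d : ℂ) ^ 2 := by ring
      _ = (d : ℂ) ^ 2 := by rw [hcc, one_mul]
  rw [Finset.sum_congr rfl hfixval, Finset.sum_const, htot, nsmul_eq_mul] at hsum
  set F := (Finset.univ.filter (fun x : Q => x ∈ MulAction.fixedPoints P Q)).card with hF
  have hdvd1 : (p : ℤ) ∣ (Nat.card Q : ℤ) - (F : ℤ) * (d : ℤ) ^ 2 := by
    apply int_dvd_of_eq_mul_isIntegral _ p hp.out.ne_zero α hα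
    push_cast
    rw [hsum]
    ring
  have hmod : Nat.card Q ≡ F [MOD p] := by
    have h1 := hP.card_modEq_card_fixedPoints (α := Q)
    have e2 : Nat.card (MulAction.fixedPoints P Q) = F := by
      rw [hF, ← Fintype.card_subtype, ← Nat.card_eq_fintype_card]
    rw [e2] at h1
    exact h1
  have hdvd2 : (p : ℤ) ∣ (Nat.card Q : ℤ) - (F : ℤ) :=
    (Int.natCast_modEq_iff.2 hmod).symm.dvd
  have hdvd3 : (p : ℤ) ∣ (Nat.card Q : ℤ) * ((d : ℤ) ^ 2 - 1) := by
    have e : (Nat.card Q : ℤ) * ((d : ℤ) ^ 2 - 1) =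
        ((Nat.card Q : ℤ) - (F : ℤ)) * (d : ℤ) ^ 2 - ((Nat.card Q : ℤ) - (F : ℤ) * (d : ℤ) ^ 2) := by
      ring
    rw [e]
    exact dvd_sub (Dvd.dvd.mul_right hdvd2 _) hdvd1
  rcases Nat.eq_zero_or_pos d with h0 | hpos
  · subst h0
    simp
  · have h1 : 1 ≤ d ^ 2 := Nat.one_le_pow _ _ hpos
    have hcast : (((d ^ 2 - 1 : ℕ)) : ℤ) = (d : ℤ) ^ 2 - 1 := by
      rw [Nat.cast_sub h1]
      push_cast
      ring
    rw [← hcast] at hdvd3
    have hdvd4 : p ∣ Nat.card Q * (d ^ 2 - 1) := by exact_mod_cast hdvd3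
    exact (Nat.Coprime.dvd_mul_left (Nat.Coprime.symm hcop)).1 hdvd4

end Congr

end Cfsg.Agent.Lib.Helper79.IW
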