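import Mathlib
import Cfsg.Prelude.Def_Characters
import Cfsg.Agent.Lib.Helper15.GlaubCyc
import Cfsg.Agent.Lib.Helper80.Conv
import Cfsg.Agent.Lib.Helper25.IndNormal
import Cfsg.Agent.Lib.Helper79.Basic
import Cfsg.Agent.Lib.Helper79.TI1

set_option autoImplicit false
set_option linter.unusedSectionVars false
set_option linter.style.haveILetI false

/-!
# Invariant characters under a coprime group with constant centralizers

`N ⊴ Γ`, `S` a complement of coprime order such that `C_N(x) = C_N(S)` for all `x ∈ S`, `x ≠ 1`.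
For a `Γ`-invariant `θ ∈ Irr(N)`: either `θ(1)² ≥ |S| + 1` or `[N, S] ≤ ker θ`.
-/

namespace Cfsg.Agent.Lib.Helper79

open Cfsg
open scoped ComplexConjugate

universe u

/-- The norm of a character is a natural number. -/
theorem exists_nat_classInner_self {G : Type u} [Group G] [Fintype G] {φ : G → ℂ}
    (hφ : IsCharacter G φ) : ∃ k : ℕ, classInner φ φ = (k : ℂ) := by
  classical
  haveI : Fintype (IrrCharacter G) := Fintype.ofFinite _
  obtain ⟨m, hm, hsum⟩ := Cfsg.Agent.Lib.Helper3.IsCharacter.exists_mult hφ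
  refine ⟨∑ ψ : IrrCharacter G, m ψ * m ψ, ?_⟩
  conv_lhs => rw [hsum]
  rw [Cfsg.Agent.Lib.Helper3.classInner_sum_sum]
  push_cast
  apply Finset.sum_congr rfl
  intro ψ _
  rw [Complex.conj_natCast]

/-- sum of `|φ|²` over the group in terms of the norm. -/
theorem sum_normSq_eq {G : Type u} [Group G] [Fintype G] (φ : G → ℂ) :
    ∑ g : G, φ g * conj (φ g) = (Nat.card G : ℂ) * classInner φ φ := by
  unfold classInner
  have h0 : (Nat.card G : ℂ) ≠ 0 := by
    have : Nat.card G ≠ 0 := Nat.card_pos.ne'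
    exact_mod_cast this
  rw [← mul_assoc, mul_inv_cancel₀ h0, one_mul]

theorem thmB0 {Γ : Type u} [Group Γ] [Fintype Γ] (N S : Subgroup Γ) [hN : N.Normal]
    (hsup : N ⊔ S = ⊤) (hcop : (Nat.card N).Coprime (Nat.card S))
    (hfix : ∀ x ∈ S, x ≠ 1 → ∀ c ∈ N, c * x = x * c → ∀ y ∈ S, c * y = y * c)
    {θ : N → ℂ} (hθ : IsIrrCharacter N θ)
    (hinv : ∀ (g : Γ) (n : N), θ ⟨g * n * g⁻¹, hN.conj_mem (n : Γ) n.2 g⟩ = θ n)
    (d : ℕ) (hd : θ 1 = d) :
    Nat.card S + 1 ≤ d ^ 2 ∨
      ∀ m : N, ∀ n ∈ N, ∀ s ∈ S, (m : Γ) = n * s * n⁻¹ * s⁻¹ → θ m = θ 1 := by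
  classical
  haveI : Fintype N := Fintype.ofFinite _
  haveI : Fintype S := Fintype.ofFinite _
  have hbot : N ⊓ S = ⊥ := (Subgroup.disjoint_of_coprime_natCard hcop).eq_bot
  have hidx : N.index = Nat.card S := by
    rw [← Subgroup.relIndex_top_right, ← hsup, Subgroup.relIndex_sup_left,
      ← Subgroup.inf_relIndex_right, hbot, Subgroup.relIndex_bot_left]
  have hcopI : (Nat.card N).Coprime N.index := by rw [hidx]; exact hcop
  obtain ⟨χh, hcan, hχh⟩ := Cfsg.Agent.Lib.Helper15.exists_canon hcopI hθ hinv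
  have hχc : IsCharacter Γ χh := Cfsg.Agent.Lib.Helper3.IsIrrCharacter.isCharacter hcan.irr
  -- the common centralizer
  let C : Subgroup Γ := N ⊓ Subgroup.centralizer (S : Set Γ)
  haveI : Fintype C := Fintype.ofFinite _
  have hCmem : ∀ g : Γ, g ∈ C ↔ g ∈ N ∧ ∀ y ∈ S, y * g = g * y := by
    intro g
    show g ∈ N ⊓ Subgroup.centralizer (S : Set Γ) ↔ _
    rw [Subgroup.mem_inf, Subgroup.mem_centralizer_iff]
    rfl
  have hCx : ∀ x ∈ S, x ≠ 1 → ∀ g : Γ, g ∈ C ↔ g ∈ N ∧ g * x = x * g := by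
    intro x hx hx1 g
    rw [hCmem]
    constructor
    · rintro ⟨h1, h2⟩
      exact ⟨h1, (h2 x hx).symm⟩
    · rintro ⟨h1, h2⟩
      exact ⟨h1, fun y hy => (hfix x hx hx1 g h1 h2 y hy).symm⟩
  have hCN : C ≤ N := inf_le_left
  -- the coset sums
  have hW : ∀ x : S, (x : Γ) ≠ 1 →
      ∑ c : C, χh ((c : Γ) * x) * conj (χh ((c : Γ) * x)) = Nat.card C := by
    intro x hx1
    have hox : (Nat.card N).Coprime (orderOf (x : Γ)) := by
      apply Nat.Coprime.coprime_dvd_right _ hcop
      rw [Subgroup.orderOf_coe]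
      exact orderOf_dvd_natCard x
    exact coset_norm_of_coprime N (x : Γ) hox hχc hcan.res C (hCx x x.2 hx1)
  -- the restriction to `C`
  let θC : C → ℂ := fun c => χh c
  have hθC : IsCharacter C θC := Cfsg.Agent.Lib.Helper3.IsCharacter.restrict hχc C
  obtain ⟨m, hm⟩ := exists_nat_classInner_self hθC
  -- the character of `C × S`
  let f : C × S →* Γ := MonoidHom.noncommCoprod C.subtype S.subtype (by
    intro c s
    have := ((hCmem c).1 c.2).2 s s.2
    exact this.symm)
  let φ : C × S → ℂ := fun z => χh (f z)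
  have hφ : IsCharacter (C × S) φ := Cfsg.Agent.Lib.Helper25.IsCharacter.comp_hom f hχc
  obtain ⟨n, hn⟩ := exists_nat_classInner_self hφ
  have hfz : ∀ z : C × S, f z = (z.1 : Γ) * (z.2 : Γ) := fun z => rfl
  -- the counting identity
  have hcount : (Nat.card C : ℂ) * (Nat.card S : ℂ) * n
      = (Nat.card C : ℂ) * m + ((Nat.card S : ℂ) - 1) * (Nat.card C : ℂ) := by
    have h1 := sum_normSq_eq φ
    rw [hn, Nat.card_prod, Fintype.sum_prod_type_right] at h1
    push_cast at h1
    rw [← h1]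
    have h2 : ∀ x : S, ∑ c : C, φ (c, x) * conj (φ (c, x))
        = if x = 1 then (Nat.card C : ℂ) * m else (Nat.card C : ℂ) := by
      intro x
      split_ifs with hx
      · subst hx
        have h3 := sum_normSq_eq θC
        rw [hm] at h3
        rw [← h3]
        apply Finset.sum_congr rfl
        intro c _
        show χh (f (c, 1)) * conj (χh (f (c, 1))) = _
        rw [hfz]
        simp only [OneMemClass.coe_one, mul_one]
        rfl
      · have hx1 : (x : Γ) ≠ 1 := fun h => hx (Subtype.ext h)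
        rw [← hW x hx1]
        rfl
    rw [Finset.sum_congr rfl (fun x _ => h2 x), Finset.sum_ite, Finset.sum_const, Finset.sum_const]
    have hf1 : (Finset.univ.filter (fun x : S => x = 1)).card = 1 := by
      rw [Finset.filter_eq' Finset.univ (1 : S)]
      simp
    have hf2 : (Finset.univ.filter (fun x : S => ¬ x = 1)).card = Nat.card S - 1 := by
      have h4 := Finset.card_filter_add_card_filter_not (s := (Finset.univ : Finset S))
        (fun x : S => x = 1)
      rw [hf1, Finset.card_univ, ← Nat.card_eq_fintype_card] at h4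
      omega
    rw [hf1, hf2]
    have hS1 : 1 ≤ Nat.card S := Nat.card_pos
    simp only [nsmul_eq_mul, Nat.cast_one, one_mul]
    rw [Nat.cast_sub hS1]
    push_cast
    ring
  have hC0 : (Nat.card C : ℂ) ≠ 0 := by
    have : Nat.card C ≠ 0 := Nat.card_pos.ne'
    exact_mod_cast this
  have hcountN : Nat.card S * n + 1 = m + Nat.card S := by
    have h1 : (Nat.card C : ℂ) * ((Nat.card S : ℂ) * n + 1)
        = (Nat.card C : ℂ) * ((m : ℂ) + Nat.card S) := by
      linear_combination hcount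
    have h2 := mul_left_cancel₀ hC0 h1
    exact_mod_cast h2
  -- `m ≤ d²` and `1 ≤ m`
  have hsumθ : ∑ c : C, θC c * conj (θC c) = (Nat.card C : ℂ) * m := by
    rw [sum_normSq_eq, hm]
  have hθCval : ∀ c : C, θC c = θ ⟨c, hCN c.2⟩ := fun c => hχh ⟨c, hCN c.2⟩
  have hnorm : ∀ c : C, θC c * conj (θC c) = ((‖θC c‖ ^ 2 : ℝ) : ℂ) := by
    intro c
    rw [Complex.mul_conj, Complex.normSq_eq_norm_sq]
  have hle : ∀ c : C, ‖θC c‖ ^ 2 ≤ (d : ℝ) ^ 2 := by
    intro c
    have h1 := Cfsg.Agent.Lib.Helper80.irr_norm_le ⟨θ, hθ⟩ ⟨c, hCN c.2⟩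
    simp only at h1
    rw [hd, ← hθCval] at h1
    have h2 : ‖(d : ℂ)‖ = (d : ℝ) := by simp
    rw [h2] at h1
    exact pow_le_pow_left₀ (norm_nonneg _) h1 2
  have hmle : m ≤ d ^ 2 := by
    have h1 : ((Nat.card C : ℝ) * m : ℝ) = ∑ c : C, ‖θC c‖ ^ 2 := by
      have h2 : (((Nat.card C : ℝ) * m : ℝ) : ℂ) = ((∑ c : C, ‖θC c‖ ^ 2 : ℝ) : ℂ) := by
        push_cast
        rw [← hsumθ]
        apply Finset.sum_congr rfl
        intro c _
        rw [hnorm c]
        push_cast
        rfl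
      exact_mod_cast h2
    have h3 : (∑ c : C, ‖θC c‖ ^ 2 : ℝ) ≤ ∑ _c : C, (d : ℝ) ^ 2 :=
      Finset.sum_le_sum (fun c _ => hle c)
    rw [Finset.sum_const, Finset.card_univ, ← Nat.card_eq_fintype_card, nsmul_eq_mul, ← h1] at h3
    have hCpos : (0 : ℝ) < Nat.card C := by
      have : 0 < Nat.card C := Nat.card_pos
      exact_mod_cast this
    have h4 := le_of_mul_le_mul_left h3 hCpos
    exact_mod_cast h4
  have hd0 : d ≠ 0 := by
    intro h0
    have h1 : θ 1 = 0 := by rw [hd, h0]; simp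
    exact Cfsg.Agent.Lib.Helper80.irr_one_ne_zero ⟨θ, hθ⟩ h1
  have hm1 : 1 ≤ m := by
    by_contra hcon
    have hm0 : m = 0 := by omega
    rw [hm0] at hsumθ
    simp only [Nat.cast_zero, mul_zero] at hsumθ
    have h1 : ∀ c : C, θC c * conj (θC c) = 0 := by
      intro c
      have h2 : ∀ c ∈ (Finset.univ : Finset C), (0 : ℝ) ≤ ‖θC c‖ ^ 2 := fun c _ => by positivity
      have h3 : (∑ c : C, ‖θC c‖ ^ 2 : ℝ) = 0 := by
        have h4 : ((∑ c : C, ‖θC c‖ ^ 2 : ℝ) : ℂ) = 0 := by
          push_cast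
          rw [← hsumθ]
          apply Finset.sum_congr rfl
          intro c _
          rw [hnorm c]
          push_cast
          rfl
        exact_mod_cast h4
      have h5 := (Finset.sum_eq_zero_iff_of_nonneg h2).1 h3 c (Finset.mem_univ c)
      rw [hnorm c, h5]
      simp
    have h6 := h1 1
    rw [hθCval] at h6
    have h7 : (⟨((1 : C) : Γ), hCN (1 : C).2⟩ : N) = 1 := rfl
    rw [h7, hd] at h6
    simp only [map_natCast, mul_self_eq_zero, Nat.cast_eq_zero] at h6
    exact hd0 h6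
  -- case analysis
  have hS1 : 1 ≤ Nat.card S := Nat.card_pos
  by_cases hn2 : 2 ≤ n
  · left
    have : Nat.card S * 2 ≤ Nat.card S * n := Nat.mul_le_mul_left _ hn2
    omega
  · right
    have hm_eq : m = 1 := by
      have hn01 : n = 0 ∨ n = 1 := by omega
      rcases hn01 with h0 | h1
      · rw [h0] at hcountN
        omega
      · rw [h1] at hcountN
        omega
    rw [hm_eq] at hm
    have hirrC : IsIrrCharacter C θC :=
      Cfsg.Agent.Lib.Helper3.isIrrCharacter_of_classInner_self_eq_one hθC (by rw [hm]; simp)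
    obtain ⟨k, ρ, hρ, hchar⟩ := hcan.irr
    have hresC : (Cfsg.Agent.Lib.Helper15.resRep ρ C).IsIrreducible := by
      apply Cfsg.Agent.Lib.Helper15.resRep_irreducible ρ C
      rw [hchar]
      exact hirrC
    have hscal : ∀ s ∈ S, ∃ a : ℂ, ρ s = a • LinearMap.id := by
      intro s hs
      haveI := hresC
      apply Cfsg.Agent.Lib.Helper80.schur_scalar (Cfsg.Agent.Lib.Helper15.resRep ρ C) (ρ s)
      intro c
      show ρ s * ρ (c : Γ) = ρ (c : Γ) * ρ s
      rw [← map_mul, ← map_mul, ((hCmem c).1 c.2).2 s hs]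
    intro mm nn hnn s hs hmm
    rw [← hχh mm, ← hχh 1, hmm, ← hchar]
    obtain ⟨a, ha⟩ := hscal s hs
    have h1 : ρ (nn * s * nn⁻¹ * s⁻¹) = 1 := by
      rw [map_mul, map_mul, map_mul, ha]
      have h2 : ρ nn * a • LinearMap.id * ρ nn⁻¹ = a • LinearMap.id := by
        have : ρ nn * a • (LinearMap.id : (Fin k → ℂ) →ₗ[ℂ] (Fin k → ℂ)) = a • ρ nn := by
          rw [mul_smul_comm]
          congr 1
        rw [this, smul_mul_assoc, ← map_mul, mul_inv_cancel, map_one]
        rfl
      rw [h2, ← ha, ← map_mul, mul_inv_cancel, map_one]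
    unfold Representation.character
    rw [h1]
    simp

end Cfsg.Agent.Lib.Helper79
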