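import Mathlib
import Cfsg.Prelude.Def_Characters
import Cfsg.Agent.Lib.Helper79.CliffordCorr
import Cfsg.Agent.Lib.Helper79.TI2
import Cfsg.Agent.Lib.Helper79.Ito
import Cfsg.Agent.Lib.Helper75.Twist
import Cfsg.Agent.Lib.Helper3.OddOrder

set_option autoImplicit false
set_option linter.unusedSectionVars false
set_option linter.style.haveILetI false

/-!
# Theorem B in general position, and the degree bound (Theorem A)
-/

namespace Cfsg.Agent.Lib.Helper79

open Cfsg Cfsg.Agent.Lib.Helper75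
open scoped ComplexConjugate

universe u

theorem thmB {Γ : Type u} [Group Γ] [Fintype Γ] (N S : Subgroup Γ) [hN : N.Normal]
    (hcop : (Nat.card N).Coprime (Nat.card S))
    (hfix : ∀ x ∈ S, x ≠ 1 → ∀ c ∈ N, c * x = x * c → ∀ y ∈ S, c * y = y * c)
    {θ : N → ℂ} (hθ : IsIrrCharacter N θ) (hS : S ≤ inertia N θ)
    (d : ℕ) (hd : θ 1 = d) :
    Nat.card S + 1 ≤ d ^ 2 ∨
      ∀ m : N, ∀ n ∈ N, ∀ s ∈ S, (m : Γ) = n * s * n⁻¹ * s⁻¹ → θ m = θ 1 := by
  classical
  let M : Subgroup Γ := N ⊔ S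
  have hNM : N ≤ M := le_sup_left
  have hSM : S ≤ M := le_sup_right
  let N' : Subgroup M := N.subgroupOf M
  let S' : Subgroup M := S.subgroupOf M
  haveI hN' : N'.Normal := Subgroup.normal_subgroupOf
  let e : N' ≃* N := Subgroup.subgroupOfEquivOfLe hNM
  let θ' : N' → ℂ := fun n' => θ (e n')
  have hθ' : IsIrrCharacter N' θ' := isIrrCharacter_comp_surjective hθ e.toMonoidHom e.surjective
  have hsup' : N' ⊔ S' = ⊤ := by
    show N.subgroupOf M ⊔ S.subgroupOf M = ⊤
    rw [← Subgroup.subgroupOf_sup hNM hSM]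
    exact Subgroup.subgroupOf_self M
  have hcN : Nat.card N' = Nat.card N := Nat.card_congr e.toEquiv
  have hcS : Nat.card S' = Nat.card S :=
    Nat.card_congr (Subgroup.subgroupOfEquivOfLe hSM).toEquiv
  have hcop' : (Nat.card N').Coprime (Nat.card S') := by rw [hcN, hcS]; exact hcop
  have hfix' : ∀ x ∈ S', x ≠ 1 → ∀ c ∈ N', c * x = x * c → ∀ y ∈ S', c * y = y * c := by
    intro x hx hx1 c hc hcx y hy
    apply Subtype.ext
    have h1 := hfix (x : Γ) (Subgroup.mem_subgroupOf.1 hx) (fun h => hx1 (Subtype.ext h))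
      (c : Γ) (Subgroup.mem_subgroupOf.1 hc) (congrArg Subtype.val hcx) (y : Γ)
      (Subgroup.mem_subgroupOf.1 hy)
    exact h1
  have hcl : IsClassFunction N θ := Cfsg.Agent.Lib.Helper3.IsCharacter.isClassFunction
    (Cfsg.Agent.Lib.Helper3.IsIrrCharacter.isCharacter hθ)
  have hMT : M ≤ inertia N θ := sup_le (le_inertia N hcl) hS
  have hinv' : ∀ (g : M) (n : N'),
      θ' ⟨g * n * g⁻¹, hN'.conj_mem (n : M) n.2 g⟩ = θ' n := by
    intro g n
    have h1 := (mem_inertia N θ (g : Γ)).1 (hMT g.2)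
    have h2 := congrFun h1 (e n)
    rw [conjFun_apply] at h2
    show θ (e _) = θ (e n)
    rw [← h2]
    congr 1
  have hd' : θ' 1 = d := by
    show θ (e 1) = d
    rw [map_one, hd]
  rcases thmB0 N' S' hsup' hcop' hfix' hθ' hinv' d hd' with h | h
  · left
    rw [← hcS]
    exact h
  · right
    intro m n hn s hs hm
    have hnM : n ∈ M := hNM hn
    have hsM : s ∈ M := hSM hs
    have h1 := h (e.symm m) ⟨n, hnM⟩ (Subgroup.mem_subgroupOf.2 hn) ⟨s, hsM⟩
      (Subgroup.mem_subgroupOf.2 hs) (by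
        apply Subtype.ext
        show ((e.symm m : N') : M).1 = n * s * n⁻¹ * s⁻¹
        rw [← hm]
        rfl)
    show θ m = θ 1
    have h2 : θ' (e.symm m) = θ m := by
      show θ (e (e.symm m)) = θ m
      rw [MulEquiv.apply_symm_apply]
    have h3 : θ' 1 = θ 1 := by
      show θ (e 1) = θ 1
      rw [map_one]
    rw [← h2, ← h3]
    exact h1

theorem card_sup_of_disjoint {Γ : Type u} [Group Γ] (N X : Subgroup Γ) [hN : N.Normal]
    (h : N ⊓ X = ⊥) : Nat.card ↥(N ⊔ X) = Nat.card N * Nat.card X := by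
  have h1 := Subgroup.relIndex_mul_relIndex (H := (⊥ : Subgroup Γ)) (K := N) (L := N ⊔ X) bot_le
    le_sup_left
  rw [Subgroup.relIndex_bot_left, Subgroup.relIndex_bot_left, Subgroup.relIndex_sup_left,
    ← Subgroup.inf_relIndex_right, h, Subgroup.relIndex_bot_left] at h1
  exact h1.symm

theorem thmA0 {Γ : Type u} [Group Γ] [Fintype Γ] (N H : Subgroup Γ) [hN : N.Normal]
    (hsup : N ⊔ H = ⊤) (hcop : (Nat.card N).Coprime (Nat.card H)) (hH : H ≠ ⊥)
    (hfix : ∀ x ∈ H, x ≠ 1 → ∀ c ∈ N, c * x = x * c → ∀ y ∈ H, c * y = y * c)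
    (hgen : ∀ S : Subgroup Γ, S ≤ H → S ≠ ⊥ → ∀ L : Subgroup Γ,
      (∀ n ∈ N, ∀ s ∈ S, n * s * n⁻¹ * s⁻¹ ∈ L) → N ≤ L)
    {ψ : Γ → ℂ} (hψ : IsIrrCharacter Γ ψ) (hψN : ∃ n ∈ N, ψ n ≠ ψ 1)
    (D : ℕ) (hD : ψ 1 = D) : Nat.card H < D ^ 2 := by
  classical
  haveI : Fintype N := Fintype.ofFinite _
  obtain ⟨θ, hθ, hne⟩ := exists_irr_constituent_restrict N hψ
  have hψc : IsCharacter Γ ψ := Cfsg.Agent.Lib.Helper3.IsIrrCharacter.isCharacter hψ
  have hθc : IsCharacter N θ := Cfsg.Agent.Lib.Helper3.IsIrrCharacter.isCharacter hθ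
  obtain ⟨e', he'⟩ := Cfsg.Agent.Lib.Helper3.IsCharacter.classInner_irr_nat
    (Cfsg.Agent.Lib.Helper3.IsCharacter.restrict hψc N) hθ
  have he0 : e' ≠ 0 := by
    intro h0
    apply hne
    rw [he', h0]
    simp
  obtain ⟨d, hd, -, hd0⟩ := Cfsg.Agent.Lib.Helper3.IsIrrCharacter.apply_one_dvd_card hθ
  have hdeg := clifford_degree N hψ hθ hne
  set T := inertia N θ with hT
  let S : Subgroup Γ := T ⊓ H
  have hNT : N ≤ T := le_inertia N (Cfsg.Agent.Lib.Helper3.IsCharacter.isClassFunction hθc)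
  have hDeq : D = e' * T.index * d := by
    rw [hD, he', hd] at hdeg
    exact_mod_cast hdeg
  have hbotH : N ⊓ H = ⊥ := (Subgroup.disjoint_of_coprime_natCard hcop).eq_bot
  have hbotS : N ⊓ S = ⊥ := by
    apply le_antisymm _ bot_le
    rw [← hbotH]
    exact inf_le_inf_left N inf_le_right
  have hTeq : T = N ⊔ S := by
    apply le_antisymm
    · intro t ht
      have h1 : t ∈ N ⊔ H := by rw [hsup]; exact Subgroup.mem_top t
      rw [← SetLike.mem_coe, Subgroup.normal_mul] at h1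
      obtain ⟨n, hn, h, hh, rfl⟩ := h1
      have h2 : h ∈ T := by
        have := T.mul_mem (T.inv_mem (hNT hn)) ht
        simpa using this
      exact Subgroup.mul_mem_sup hn ⟨h2, hh⟩
    · exact sup_le hNT inf_le_left
  have hcardT : Nat.card T = Nat.card N * Nat.card S := by
    rw [hTeq]
    exact card_sup_of_disjoint N S hbotS
  have hcardΓ : Nat.card Γ = Nat.card N * Nat.card H := by
    have h1 := card_sup_of_disjoint N H hbotH
    rw [hsup] at h1
    rw [← h1]
    exact (Nat.card_congr Subgroup.topEquiv.toEquiv).symm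
  have hidxS : T.index * Nat.card S = Nat.card H := by
    have h1 := Subgroup.index_mul_card T
    rw [hcardT, hcardΓ] at h1
    have hN0 : 0 < Nat.card N := Nat.card_pos
    have h2 : Nat.card N * (T.index * Nat.card S) = Nat.card N * Nat.card H := by
      rw [← h1]; ring
    exact Nat.eq_of_mul_eq_mul_left hN0 h2
  have hidx0 : 0 < T.index := by
    rcases Nat.eq_zero_or_pos T.index with h | h
    · rw [h, zero_mul] at hidxS
      have : 0 < Nat.card H := Nat.card_pos
      omega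
    · exact h
  have hH2 : 1 < Nat.card H := (Subgroup.one_lt_card_iff_ne_bot H).2 hH
  have he1 : 1 ≤ e' := Nat.one_le_iff_ne_zero.2 he0
  have hd1 : 1 ≤ d := Nat.one_le_iff_ne_zero.2 hd0
  by_cases hS : S = ⊥
  · have hS1 : Nat.card S = 1 := by rw [hS]; exact Subgroup.card_bot
    rw [hS1, mul_one] at hidxS
    rw [hDeq, hidxS]
    have h1 : Nat.card H ≤ e' * Nat.card H * d := by
      calc Nat.card H = 1 * Nat.card H * 1 := by ring
        _ ≤ e' * Nat.card H * d := by gcongr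
    calc Nat.card H < Nat.card H * Nat.card H := by nlinarith
      _ ≤ (e' * Nat.card H * d) * (e' * Nat.card H * d) := Nat.mul_le_mul h1 h1
      _ = (e' * Nat.card H * d) ^ 2 := by ring
  · have hSH : S ≤ H := inf_le_right
    have hcopS : (Nat.card N).Coprime (Nat.card S) :=
      Nat.Coprime.coprime_dvd_right (Subgroup.card_dvd_of_le hSH) hcop
    have hfixS : ∀ x ∈ S, x ≠ 1 → ∀ c ∈ N, c * x = x * c → ∀ y ∈ S, c * y = y * c :=
      fun x hx hx1 c hc hcx y hy => hfix x (hSH hx) hx1 c hc hcx y (hSH hy)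
    rcases thmB N S hcopS hfixS hθ inf_le_left d hd with h | h
    · rw [hDeq, ← hidxS]
      have h1 : T.index * (Nat.card S + 1) ≤ (e' * T.index * d) ^ 2 := by
        calc T.index * (Nat.card S + 1) ≤ T.index * d ^ 2 := Nat.mul_le_mul_left _ h
          _ ≤ (T.index * T.index) * d ^ 2 := by
              apply Nat.mul_le_mul_right
              nlinarith
          _ = (1 * T.index * d) ^ 2 := by ring
          _ ≤ (e' * T.index * d) ^ 2 := by gcongr
      calc T.index * Nat.card S < T.index * (Nat.card S + 1) := by nlinarith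
        _ ≤ _ := h1
    · exfalso
      let L : Subgroup Γ := (charKer hθc).map N.subtype
      have hL : ∀ n ∈ N, ∀ s ∈ S, n * s * n⁻¹ * s⁻¹ ∈ L := by
        intro n hn s hs
        have hmem : n * s * n⁻¹ * s⁻¹ ∈ N := by
          have := N.mul_mem hn (hN.conj_mem _ (N.inv_mem hn) s)
          simpa [mul_assoc] using this
        refine ⟨⟨_, hmem⟩, ?_, rfl⟩
        show (⟨_, hmem⟩ : N) ∈ charKer hθc
        rw [mem_charKer]
        exact h ⟨_, hmem⟩ n hn s hs rfl
      have hNL := hgen S hSH hS L hL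
      have hconst : ∀ n : N, θ n = θ 1 := by
        intro n
        obtain ⟨n', hn', hnn⟩ := hNL n.2
        have : n' = n := Subtype.ext hnn
        rw [← this]
        exact (mem_charKer hθc n').1 hn'
      have hnorm := Cfsg.Agent.Lib.Helper3.classInner_irr hθ hθ
      rw [if_pos rfl] at hnorm
      have hd_eq : d = 1 := by
        unfold classInner at hnorm
        simp only [hconst, hd] at hnorm
        rw [Finset.sum_const, Finset.card_univ, ← Nat.card_eq_fintype_card, nsmul_eq_mul,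
          Complex.conj_natCast, ← mul_assoc] at hnorm
        have hN0 : (Nat.card N : ℂ) ≠ 0 := by
          have : Nat.card N ≠ 0 := Nat.card_pos.ne'
          exact_mod_cast this
        rw [inv_mul_cancel₀ hN0, one_mul] at hnorm
        have : d * d = 1 := by exact_mod_cast hnorm
        exact Nat.eq_one_of_mul_eq_one_right this
      have hθ1 : θ = fun _ => (1 : ℂ) := by
        funext n
        rw [hconst n, hd, hd_eq]
        simp
      rw [hθ1] at hne
      have hker := Cfsg.Agent.Lib.Helper75.apply_eq_one_of_classInner_one_ne_zero N hψ hne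
      obtain ⟨n, hn, hnn⟩ := hψN
      exact hnn (hker n hn)

theorem thmA {G : Type u} [Group G] [Fintype G] (N H : Subgroup G)
    (hnorm : H ≤ Subgroup.normalizer (N : Set G)) (hcop : (Nat.card N).Coprime (Nat.card H))
    (hH : H ≠ ⊥)
    (hfix : ∀ x ∈ H, x ≠ 1 → ∀ c ∈ N, c * x = x * c → ∀ y ∈ H, c * y = y * c)
    (hgen : ∀ S : Subgroup G, S ≤ H → S ≠ ⊥ → N ≤ ⁅N, S⁆)
    {χ : G → ℂ} (hχ : IsCharacter G χ) (hχN : ∃ n ∈ N, χ n ≠ χ 1)
    (D : ℕ) (hD : χ 1 = D) : Nat.card H < D ^ 2 := by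
  classical
  let M : Subgroup G := H ⊔ N
  have hNM : N ≤ M := le_sup_right
  have hHM : H ≤ M := le_sup_left
  let N' : Subgroup M := N.subgroupOf M
  let H' : Subgroup M := H.subgroupOf M
  haveI hN' : N'.Normal := Subgroup.normal_subgroupOf_sup_of_le_normalizer hnorm
  have hsup' : N' ⊔ H' = ⊤ := by
    show N.subgroupOf M ⊔ H.subgroupOf M = ⊤
    rw [← Subgroup.subgroupOf_sup hNM hHM, sup_comm]
    exact Subgroup.subgroupOf_self M
  have hcN : Nat.card N' = Nat.card N :=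
    Nat.card_congr (Subgroup.subgroupOfEquivOfLe hNM).toEquiv
  have hcH : Nat.card H' = Nat.card H :=
    Nat.card_congr (Subgroup.subgroupOfEquivOfLe hHM).toEquiv
  have hcop' : (Nat.card N').Coprime (Nat.card H') := by rw [hcN, hcH]; exact hcop
  have hH' : H' ≠ ⊥ := by
    intro h
    have h1 : Nat.card H' = 1 := by rw [h]; exact Subgroup.card_bot
    rw [hcH] at h1
    exact hH (Subgroup.card_eq_one.1 h1)
  have hfix' : ∀ x ∈ H', x ≠ 1 → ∀ c ∈ N', c * x = x * c → ∀ y ∈ H', c * y = y * c := by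
    intro x hx hx1 c hc hcx y hy
    apply Subtype.ext
    exact hfix (x : G) (Subgroup.mem_subgroupOf.1 hx) (fun h => hx1 (Subtype.ext h))
      (c : G) (Subgroup.mem_subgroupOf.1 hc) (congrArg Subtype.val hcx) (y : G)
      (Subgroup.mem_subgroupOf.1 hy)
  have hgen' : ∀ S : Subgroup M, S ≤ H' → S ≠ ⊥ → ∀ L : Subgroup M,
      (∀ n ∈ N', ∀ s ∈ S, n * s * n⁻¹ * s⁻¹ ∈ L) → N' ≤ L := by
    intro S hS hS0 L hL
    have hS1 : S.map M.subtype ≤ H := by
      rintro _ ⟨s, hs, rfl⟩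
      exact Subgroup.mem_subgroupOf.1 (hS hs)
    have hS2 : S.map M.subtype ≠ ⊥ := by
      intro h
      apply hS0
      rw [eq_bot_iff]
      intro s hs
      have : (s : G) ∈ S.map M.subtype := ⟨s, hs, rfl⟩
      rw [h, Subgroup.mem_bot] at this
      rw [Subgroup.mem_bot]
      exact Subtype.ext this
    have h1 := hgen _ hS1 hS2
    have h2 : ⁅N, S.map M.subtype⁆ ≤ L.map M.subtype := by
      rw [Subgroup.commutator_le]
      rintro n hn _ ⟨s, hs, rfl⟩
      rw [commutatorElement_def]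
      exact ⟨_, hL ⟨n, hNM hn⟩ (Subgroup.mem_subgroupOf.2 hn) s hs, rfl⟩
    intro n hn
    obtain ⟨l, hl, hln⟩ := h2 (h1 (Subgroup.mem_subgroupOf.1 hn))
    have : l = n := Subtype.ext hln
    rw [← this]
    exact hl
  -- decompose the restriction
  let χ' : M → ℂ := fun g => χ g
  have hχ' : IsCharacter M χ' := Cfsg.Agent.Lib.Helper3.IsCharacter.restrict hχ M
  haveI : Fintype (IrrCharacter M) := Fintype.ofFinite _
  obtain ⟨m, -, hsum⟩ := Cfsg.Agent.Lib.Helper3.IsCharacter.exists_mult hχ'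
  have hval : ∀ g : M, χ' g = ∑ ψ : IrrCharacter M, (m ψ : ℂ) * (ψ : M → ℂ) g := by
    intro g
    conv_lhs => rw [hsum]
    rw [Finset.sum_apply]
    rfl
  obtain ⟨n, hn, hnn⟩ := hχN
  obtain ⟨ψ, hmψ, hψn⟩ : ∃ ψ : IrrCharacter M, m ψ ≠ 0 ∧
      (ψ : M → ℂ) ⟨n, hNM hn⟩ ≠ (ψ : M → ℂ) 1 := by
    by_contra hcon
    push Not at hcon
    apply hnn
    show χ' ⟨n, hNM hn⟩ = χ' 1
    rw [hval, hval]
    apply Finset.sum_congr rfl
    intro ψ _
    by_cases h0 : m ψ = 0
    · rw [h0]; simp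
    · rw [hcon ψ h0]
  choose dφ hdφ using fun φ : IrrCharacter M =>
    Cfsg.Agent.Lib.Helper3.IsIrrCharacter.apply_one_dvd_card φ.2
  have hDsum : D = ∑ φ : IrrCharacter M, m φ * dφ φ := by
    have h1 := hval 1
    have h2 : χ' 1 = D := hD
    rw [h2] at h1
    have h3 : (D : ℂ) = ((∑ φ : IrrCharacter M, m φ * dφ φ : ℕ) : ℂ) := by
      rw [h1]
      push_cast
      apply Finset.sum_congr rfl
      intro φ _
      rw [(hdφ φ).1]
    exact_mod_cast h3
  have hDψ : dφ ψ ≤ D := by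
    rw [hDsum]
    calc dφ ψ = 1 * dφ ψ := (one_mul _).symm
      _ ≤ m ψ * dφ ψ := Nat.mul_le_mul_right _ (Nat.one_le_iff_ne_zero.2 hmψ)
      _ ≤ ∑ φ : IrrCharacter M, m φ * dφ φ :=
        Finset.single_le_sum (f := fun φ => m φ * dφ φ) (fun _ _ => Nat.zero_le _)
          (Finset.mem_univ ψ)
  have key := thmA0 N' H' hsup' hcop' hH' hfix' hgen' ψ.2
    ⟨⟨n, hNM hn⟩, Subgroup.mem_subgroupOf.2 hn, hψn⟩ (dφ ψ) (hdφ ψ).1
  rw [hcH] at key
  calc Nat.card H < dφ ψ ^ 2 := key
    _ ≤ D ^ 2 := Nat.pow_le_pow_left hDψ 2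

end Cfsg.Agent.Lib.Helper79
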