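import Mathlib
import Cfsg.Prelude.Def_Characters
import Cfsg.Prelude.Def_Blocks
import Cfsg.Prelude.Def_Local
import Cfsg.Agent.Lib.Helper24.Coprime
import Cfsg.Agent.Lib.Helper63.HHDual
import Cfsg.Agent.Lib.Helper48.PCore
import Cfsg.Agent.Lib.Helper22.Fitting
import Cfsg.Agent.Lib.Helper79.TI3

set_option autoImplicit false
set_option linter.unusedSectionVars false
set_option linter.style.haveILetI false

/-!
# `p`-solvable groups with a TI Sylow `p`-subgroup: faithful characters have large degree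
-/

namespace Cfsg.Agent.Lib.Helper79

open Cfsg
open scoped ComplexConjugate commutatorElement Pointwise

universe u

/-- conjugation by an element normalizing `X` and `Y` normalizes `⁅X, Y⁆`. -/
theorem conj_mem_commutator {G : Type u} [Group G] (X Y : Subgroup G) (g : G)
    (hX : ∀ x ∈ X, g * x * g⁻¹ ∈ X) (hY : ∀ y ∈ Y, g * y * g⁻¹ ∈ Y) :
    ∀ h ∈ ⁅X, Y⁆, g * h * g⁻¹ ∈ ⁅X, Y⁆ := by
  have h1 : ⁅X, Y⁆ ≤ (⁅X, Y⁆ : Subgroup G).comap (MulAut.conj g).toMonoidHom := by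
    rw [Subgroup.commutator_le]
    intro x hx y hy
    rw [Subgroup.mem_comap]
    show (MulAut.conj g) ⁅x, y⁆ ∈ _
    rw [map_commutatorElement]
    exact Subgroup.commutator_mem_commutator (hX x hx) (hY y hy)
  intro h hh
  exact h1 hh

theorem le_normalizer_of_conj_mem {G : Type u} [Group G] (A U : Subgroup G)
    (h : ∀ c ∈ A, ∀ x ∈ U, c * x * c⁻¹ ∈ U) : A ≤ Subgroup.normalizer (U : Set G) := by
  intro c hc
  rw [Subgroup.mem_normalizer_iff]
  intro x
  constructor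
  · exact h c hc x
  · intro hx
    have := h c⁻¹ (A.inv_mem hc) _ hx
    simpa [mul_assoc] using this

/-- TI Sylow: centralizers in a normal `p'`-subgroup of nonidentity elements of `P` centralize
`P`. -/
theorem ti_centralizer {G : Type u} [Group G] (P K : Subgroup G) [hK : K.Normal]
    (hPK : K ⊓ P = ⊥)
    (hTI : ∀ g : G, g ∉ Subgroup.normalizer (P : Set G) → P ⊓ (MulAut.conj g • P) = ⊥) :
    ∀ x ∈ P, x ≠ 1 → ∀ c ∈ K, c * x = x * c → ∀ y ∈ P, c * y = y * c := by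
  intro x hx hx1 c hc hcx y hy
  have hcN : c ∈ Subgroup.normalizer (P : Set G) := by
    by_contra hcon
    have h1 := hTI c hcon
    have h2 : x ∈ P ⊓ (MulAut.conj c • P) := by
      refine Subgroup.mem_inf.2 ⟨hx, ?_⟩
      rw [Subgroup.mem_pointwise_smul_iff_inv_smul_mem]
      show (MulAut.conj c)⁻¹ x ∈ P
      rw [MulAut.conj_inv_apply]
      have : c⁻¹ * x * c = x := by rw [mul_assoc, ← hcx, inv_mul_cancel_left]
      rw [this]
      exact hx
    rw [h1, Subgroup.mem_bot] at h2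
    exact hx1 h2
  have h3 : c * y * c⁻¹ ∈ P := (Subgroup.mem_normalizer_iff.1 hcN y).1 hy
  have h4 : c * y * c⁻¹ * y⁻¹ ∈ P := P.mul_mem h3 (P.inv_mem hy)
  have h5 : c * y * c⁻¹ * y⁻¹ ∈ K := by
    have := K.mul_mem hc (hK.conj_mem _ (K.inv_mem hc) y)
    simpa [mul_assoc] using this
  have h6 : c * y * c⁻¹ * y⁻¹ ∈ K ⊓ P := ⟨h5, h4⟩
  rw [hPK, Subgroup.mem_bot] at h6
  have h7 : c * y * c⁻¹ = y := by
    have := congrArg (· * y) h6
    simpa using this
  have h8 := congrArg (· * c) h7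
  simpa using h8

theorem hgen_of_central {G : Type u} [Group G] [Finite G] {p : ℕ} [Fact p.Prime]
    (K₁ P A : Subgroup G) (hP : IsPGroup p P)
    (hPK : P ≤ Subgroup.normalizer (K₁ : Set G))
    (hcop : (Nat.card K₁).Coprime (Nat.card P))
    (hAP : A ≤ P) (hAc : ∀ a ∈ A, ∀ y ∈ P, a * y = y * a)
    (hfix : ∀ x ∈ P, x ≠ 1 → ∀ c ∈ K₁, c * x = x * c → ∀ y ∈ P, c * y = y * c)
    (hKA : ⁅K₁, A⁆ = K₁) :
    ∀ S : Subgroup G, S ≤ P → S ≠ ⊥ → K₁ ≤ ⁅K₁, S⁆ := by
  intro S hSP hS0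
  have hSK : S ≤ Subgroup.normalizer (K₁ : Set G) := hSP.trans hPK
  have hcopS : (Nat.card S).Coprime (Nat.card K₁) :=
    (Nat.Coprime.coprime_dvd_right (Subgroup.card_dvd_of_le hSP) hcop).symm
  haveI : Group.IsNilpotent S := (hP.to_le hSP).isNilpotent
  have hdec := Cfsg.Agent.Lib.Helper24.commutator_sup_centralizer_eq S K₁ hSK hcopS
    (Or.inl inferInstance)
  obtain ⟨x, hxS, hx1⟩ : ∃ x ∈ S, x ≠ 1 := by
    by_contra hcon
    push Not at hcon
    apply hS0
    rw [eq_bot_iff]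
    intro x hx
    rw [Subgroup.mem_bot]
    exact hcon x hx
  have hnD : K₁ ≤ Subgroup.normalizer ((⁅K₁, S⁆ : Subgroup G) : Set G) :=
    Cfsg.Agent.Lib.Helper24.le_normalizer_commutator_left K₁ S
  have hAD : ∀ a ∈ A, ∀ d ∈ ⁅K₁, S⁆, a * d * a⁻¹ ∈ ⁅K₁, S⁆ := by
    intro a ha
    apply conj_mem_commutator
    · intro k hk
      exact (Subgroup.mem_normalizer_iff.1 (hPK (hAP ha)) k).1 hk
    · intro s hs
      rw [hAc a ha s (hSP hs), mul_inv_cancel_right]
      exact hs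
  conv_lhs => rw [← hKA]
  rw [Subgroup.commutator_le]
  intro k hk a ha
  have hk' : k ∈ ⁅K₁, S⁆ ⊔ (K₁ ⊓ Subgroup.centralizer (S : Set G)) := by rw [hdec]; exact hk
  rw [← SetLike.mem_coe, Subgroup.coe_mul_of_right_le_normalizer_left _ _
    (inf_le_left.trans hnD)] at hk'
  obtain ⟨d, hd, c, hc, rfl⟩ := hk'
  have hcx : c * x = x * c := by
    have := Subgroup.mem_centralizer_iff.1 hc.2 x hxS
    exact this.symm
  have hca : c * a = a * c := hfix x (hSP hxS) hx1 c hc.1 hcx a (hAP ha)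
  have hcomm : ⁅d * c, a⁆ = d * (a * d⁻¹ * a⁻¹) := by
    rw [commutatorElement_def]
    have : d * c * a * (d * c)⁻¹ = d * a * d⁻¹ := by
      rw [mul_inv_rev, mul_assoc d c a, hca]
      group
    rw [this]
    group
  rw [hcomm]
  exact Subgroup.mul_mem _ hd (hAD a ha d⁻¹ (Subgroup.inv_mem _ hd))

theorem ti_sylow_psolvable {G : Type u} [Group G] [Finite G] (p : ℕ) [Fact p.Prime]
    (hsolv : Cfsg.IsPSolvable p G) (P : Sylow p G)
    (hTI : ∀ g : G, g ∉ Subgroup.normalizer ((P : Subgroup G) : Set G) →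
      (P : Subgroup G) ⊓ (MulAut.conj g • (P : Subgroup G)) = ⊥)
    (χ : G → ℂ) (hχ : Cfsg.IsCharacter G χ) (hfaith : ∀ g : G, χ g = χ 1 → g = 1)
    (hdeg : Cfsg.charDegree χ ^ 2 ≤ Nat.card ↥(P : Subgroup G)) : (P : Subgroup G).Normal := by
  classical
  by_contra hnn
  haveI : Fintype G := Fintype.ofFinite G
  obtain ⟨g₀, hg₀⟩ : ∃ g : G, g ∉ Subgroup.normalizer ((P : Subgroup G) : Set G) := by
    by_contra h
    push Not at h
    apply hnn
    exact Subgroup.normalizer_eq_top_iff.1 (eq_top_iff.2 fun g _ => h g)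
  -- `O_p(G) = 1`
  have hO : pCore p G = ⊥ := by
    have h1 : pCore p G ≤ (P : Subgroup G) := Cfsg.Agent.Lib.Helper48.pCore_le_sylow P
    haveI hQn : (pCore p G).Normal := Cfsg.Agent.Lib.Helper22.pCore_normal' p G
    rw [eq_bot_iff, ← hTI g₀ hg₀]
    intro q hq
    refine Subgroup.mem_inf.2 ⟨h1 hq, ?_⟩
    rw [Subgroup.mem_pointwise_smul_iff_inv_smul_mem]
    show (MulAut.conj g₀)⁻¹ q ∈ (P : Subgroup G)
    rw [MulAut.conj_inv_apply]
    apply h1
    have := hQn.conj_mem q hq g₀⁻¹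
    simpa using this
  set K := pPrimeCore p G with hKdef
  haveI hKn : K.Normal := Cfsg.Agent.Lib.Helper22.pPrimeCore_normal' p G
  have hKcop : (Nat.card K).Coprime p := Cfsg.Agent.Lib.Helper55.pPrimeCore_card_coprime p
  have hCK : Subgroup.centralizer (K : Set G) ≤ K :=
    Cfsg.Agent.Lib.Helper63.HH.centralizer_pPrimeCore_le hsolv hO
  obtain ⟨k, hk⟩ := IsPGroup.iff_card.1 P.2
  have hKP : (Nat.card K).Coprime (Nat.card (P : Subgroup G)) := by
    rw [hk]; exact Nat.Coprime.pow_right k hKcop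
  have hKPbot : K ⊓ (P : Subgroup G) = ⊥ := (Subgroup.disjoint_of_coprime_natCard hKP).eq_bot
  have hPne : (P : Subgroup G) ≠ ⊥ := by
    intro h
    apply hnn
    rw [h]
    infer_instance
  haveI : Nontrivial (P : Subgroup G) := (Subgroup.nontrivial_iff_ne_bot _).2 hPne
  haveI hcn : Nontrivial (Subgroup.center (P : Subgroup G)) := P.2.center_nontrivial
  obtain ⟨z, hz1⟩ := exists_ne (1 : Subgroup.center (P : Subgroup G))
  let z₀ : G := ((z : (P : Subgroup G)) : G)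
  have hz₀P : z₀ ∈ (P : Subgroup G) := (z : (P : Subgroup G)).2
  have hz₀1 : z₀ ≠ 1 := by
    intro h
    apply hz1
    apply Subtype.ext
    apply Subtype.ext
    exact h
  have hz₀c : ∀ y ∈ (P : Subgroup G), z₀ * y = y * z₀ := by
    intro y hy
    have h1 := Subgroup.mem_center_iff.1 z.2 ⟨y, hy⟩
    have h2 := congrArg Subtype.val h1
    exact h2.symm
  let A : Subgroup G := Subgroup.zpowers z₀
  have hAP : A ≤ (P : Subgroup G) := (Subgroup.zpowers_le).2 hz₀P
  have hAc : ∀ a ∈ A, ∀ y ∈ (P : Subgroup G), a * y = y * a := by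
    intro a ha y hy
    obtain ⟨n, rfl⟩ := Subgroup.mem_zpowers_iff.1 ha
    have : Commute z₀ y := hz₀c y hy
    exact (this.zpow_left n).eq
  have hA0 : A ≠ ⊥ := by
    intro h
    apply hz₀1
    have : z₀ ∈ A := Subgroup.mem_zpowers z₀
    rw [h, Subgroup.mem_bot] at this
    exact this
  let K₁ : Subgroup G := ⁅K, A⁆
  have hK₁K : K₁ ≤ K := Subgroup.commutator_le_left K A
  have hfixK := ti_centralizer (P : Subgroup G) K hKPbot hTI
  have hfix₁ : ∀ x ∈ (P : Subgroup G), x ≠ 1 → ∀ c ∈ K₁, c * x = x * c →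
      ∀ y ∈ (P : Subgroup G), c * y = y * c :=
    fun x hx hx1 c hc => hfixK x hx hx1 c (hK₁K hc)
  have hPnK₁ : (P : Subgroup G) ≤ Subgroup.normalizer (K₁ : Set G) := by
    apply le_normalizer_of_conj_mem
    intro y hy
    apply conj_mem_commutator
    · intro k hk
      exact hKn.conj_mem k hk y
    · intro a ha
      rw [← hAc a ha y hy, mul_inv_cancel_right]
      exact ha
  have hAK : A ≤ Subgroup.normalizer (K : Set G) := by
    rw [Subgroup.normalizer_eq_top_iff.2 hKn]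
    exact le_top
  have hcopAK : (Nat.card A).Coprime (Nat.card K) :=
    (Nat.Coprime.coprime_dvd_right (Subgroup.card_dvd_of_le hAP) hKP).symm
  haveI : Group.IsNilpotent A := (P.2.to_le hAP).isNilpotent
  have hK₁ne : K₁ ≠ ⊥ := by
    intro h
    have h1 : K ≤ Subgroup.centralizer (A : Set G) :=
      Subgroup.commutator_eq_bot_iff_le_centralizer.1 h
    have h2 : A ≤ Subgroup.centralizer (K : Set G) := Subgroup.le_centralizer_iff.1 h1
    have h3 : A ≤ K ⊓ (P : Subgroup G) := le_inf (h2.trans hCK) hAP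
    rw [hKPbot] at h3
    exact hA0 (eq_bot_iff.2 h3)
  have hcop₁ : (Nat.card K₁).Coprime (Nat.card (P : Subgroup G)) :=
    Nat.Coprime.coprime_dvd_left (Subgroup.card_dvd_of_le hK₁K) hKP
  have hKA : ⁅K₁, A⁆ = K₁ :=
    Cfsg.Agent.Lib.Helper24.commutator_commutator_eq A K hAK hcopAK (Or.inl inferInstance)
  have hgen := hgen_of_central K₁ (P : Subgroup G) A P.2 hPnK₁ hcop₁ hAP hAc hfix₁ hKA
  obtain ⟨n, hn, hn1⟩ : ∃ n ∈ K₁, n ≠ 1 := by
    by_contra hcon
    push Not at hcon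
    apply hK₁ne
    rw [eq_bot_iff]
    intro x hx
    rw [Subgroup.mem_bot]
    exact hcon x hx
  have hχN : ∃ n ∈ K₁, χ n ≠ χ 1 := ⟨n, hn, fun h => hn1 (hfaith n h)⟩
  obtain ⟨D, hD⟩ : ∃ D : ℕ, χ 1 = D := by
    obtain ⟨m, ρ, rfl⟩ := hχ
    refine ⟨Module.finrank ℂ (Fin m → ℂ), ?_⟩
    exact Representation.char_one ρ
  have key := thmA K₁ (P : Subgroup G) hPnK₁ hcop₁ hPne hfix₁ hgen hχ hχN D hD
  have hcd : Cfsg.charDegree χ = D := by
    unfold Cfsg.charDegree
    rw [hD]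
    simp
  rw [hcd] at hdeg
  omega

end Cfsg.Agent.Lib.Helper79
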