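import Mathlib
import Cfsg.Prelude.Def_Characters
import Cfsg.Prelude.Def_Blocks
import Cfsg.Prelude.Def_Local
import Cfsg.Agent.Lib.Helper24.Coprime
import Cfsg.Agent.Lib.Helper24.SylowInv
import Cfsg.Agent.Lib.Helper76.PSolvable
import Cfsg.Agent.Lib.Helper55.Cores
import Cfsg.Agent.Lib.Helper48.PCore
import Cfsg.Agent.Lib.Helper22.Fitting
import Cfsg.Agent.Lib.Helper79.TI4

set_option autoImplicit false
set_option linter.unusedSectionVars false
set_option linter.style.haveILetI false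

/-! Group-theoretic reductions for the Ito–Winter theorem. -/

namespace Cfsg.Agent.Lib.Helper79.IW

open Cfsg
open scoped commutatorElement Pointwise

universe u

variable {G : Type u} [Group G]

/-- If `P` normalizes `R`, meets it trivially and is normal in `R P`, then `R` centralizes
`P`. -/
theorem le_centralizer_of_normal_subgroupOf (R P : Subgroup G)
    (hPR : P ≤ Subgroup.normalizer (R : Set G)) (hRP : R ⊓ P = ⊥)
    (hn : (P.subgroupOf (R ⊔ P)).Normal) : R ≤ Subgroup.centralizer (P : Set G) := by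
  intro r hr
  rw [Subgroup.mem_centralizer_iff]
  intro g hg
  have hg' : g ∈ R ⊔ P := (le_sup_right : P ≤ R ⊔ P) hg
  have hr' : r ∈ R ⊔ P := (le_sup_left : R ≤ R ⊔ P) hr
  have h1 : r * g * r⁻¹ ∈ P := by
    have := hn.conj_mem ⟨g, hg'⟩ (Subgroup.mem_subgroupOf.2 hg) ⟨r, hr'⟩
    exact Subgroup.mem_subgroupOf.1 this
  have h2 : r * g * r⁻¹ * g⁻¹ ∈ P := P.mul_mem h1 (P.inv_mem hg)
  have h3 : g * r⁻¹ * g⁻¹ ∈ R :=
    (Subgroup.mem_normalizer_iff.1 (hPR hg) r⁻¹).1 (R.inv_mem hr)
  have h4 : r * g * r⁻¹ * g⁻¹ ∈ R := by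
    have e : r * g * r⁻¹ * g⁻¹ = r * (g * r⁻¹ * g⁻¹) := by group
    rw [e]
    exact R.mul_mem hr h3
  have h5 : r * g * r⁻¹ * g⁻¹ ∈ R ⊓ P := ⟨h4, h2⟩
  rw [hRP, Subgroup.mem_bot] at h5
  have h6 : r * g = g * r := by
    have : r * g = (r * g * r⁻¹ * g⁻¹) * (g * r) := by group
    rw [this, h5, one_mul]
  exact h6.symm

/-- Minimality for invariant subgroups from the condition on overgroups of `P`. -/
theorem min_of_overgroups (Q P : Subgroup G) (hQP : Q ⊓ P = ⊥)
    (H2 : ∀ H : Subgroup G, P ≤ H → H ≠ ⊤ → (P.subgroupOf H).Normal) (R : Subgroup G)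
    (hRQ : R ≤ Q) (hne : R ≠ Q) (hPR : P ≤ Subgroup.normalizer (R : Set G)) :
    R ≤ Subgroup.centralizer (P : Set G) := by
  have hRP : R ⊓ P = ⊥ := by
    rw [eq_bot_iff, ← hQP]
    exact inf_le_inf_right P hRQ
  apply le_centralizer_of_normal_subgroupOf R P hPR hRP
  apply H2 _ le_sup_right
  intro htop
  apply hne
  apply le_antisymm hRQ
  intro x hx
  have hx' : x ∈ ((R ⊔ P : Subgroup G) : Set G) := by
    rw [htop]
    exact Set.mem_univ x
  rw [Subgroup.coe_mul_of_right_le_normalizer_left R P hPR] at hx'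
  obtain ⟨r, hr, g, hg, rfl⟩ := hx'
  have hgQ : g ∈ Q := by
    have : g = r⁻¹ * (r * g) := by group
    rw [this]
    exact Q.mul_mem (Q.inv_mem (hRQ hr)) hx
  have hg1 : g ∈ Q ⊓ P := ⟨hgQ, hg⟩
  rw [hQP, Subgroup.mem_bot] at hg1
  subst hg1
  simpa using hr

/-- Under the minimality condition, the fixed points of `P` on `Q` are central in `Q`. -/
theorem fixed_le_centralizer [Finite G] (Q P : Subgroup G)
    (hPQ : P ≤ Subgroup.normalizer (Q : Set G))
    (hcop : (Nat.card P).Coprime (Nat.card Q)) (hsolvQ : Group.IsSolvable Q) (hsolvP : Group.IsSolvable P)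
    (hMin : ∀ R : Subgroup G, R ≤ Q → R ≠ Q → P ≤ Subgroup.normalizer (R : Set G) →
      R ≤ Subgroup.centralizer (P : Set G))
    (hnc : ¬ Q ≤ Subgroup.centralizer (P : Set G)) :
    Q ⊓ Subgroup.centralizer (P : Set G) ≤ Subgroup.centralizer (Q : Set G) := by
  -- `[Q, P] = Q`
  have hK : ⁅Q, P⁆ = Q := by
    by_contra hne
    have hKQ : ⁅Q, P⁆ ≤ Q := Cfsg.Agent.Lib.Helper24.commutator_le_of_le_normalizer Q P hPQ
    have hPK := Cfsg.Agent.Lib.Helper24.le_normalizer_commutator_right Q P hPQ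
    have h1 := hMin _ hKQ hne hPK
    have h2 : ⁅⁅Q, P⁆, P⁆ = ⊥ := Subgroup.commutator_eq_bot_iff_le_centralizer.2 h1
    rw [Cfsg.Agent.Lib.Helper24.commutator_commutator_eq P Q hPQ hcop (Or.inl hsolvP)] at h2
    exact hnc (Subgroup.commutator_eq_bot_iff_le_centralizer.1 h2)
  -- `Q' ≤ C(P)`
  have hQne : Nontrivial Q := by
    rw [Subgroup.nontrivial_iff_ne_bot]
    intro h
    apply hnc
    rw [h]
    exact bot_le
  have hQ' : ⁅Q, Q⁆ ≤ Subgroup.centralizer (P : Set G) := by
    apply hMin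
    · rw [Subgroup.commutator_le]
      intro a ha b hb
      exact Q.mul_mem (Q.mul_mem (Q.mul_mem ha hb) (Q.inv_mem ha)) (Q.inv_mem hb)
    · intro h
      have h1 : commutator Q < ⊤ := Group.IsSolvable.commutator_lt_top_of_nontrivial Q
      have h2 : (commutator Q).map Q.subtype = ⁅Q, Q⁆ := Subgroup.map_subtype_commutator Q
      rw [h] at h2
      have h3 : (commutator Q).map Q.subtype = (⊤ : Subgroup Q).map Q.subtype := by
        rw [h2, ← MonoidHom.range_eq_map, Subgroup.range_subtype]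
      have h4 := Subgroup.map_injective Q.subtype_injective h3
      exact absurd h4 (ne_of_lt h1)
    · apply le_normalizer_of_conj_mem
      intro y hy
      apply conj_mem_commutator
      · intro k hk
        exact (Subgroup.mem_normalizer_iff.1 (hPQ hy) k).1 hk
      · intro k hk
        exact (Subgroup.mem_normalizer_iff.1 (hPQ hy) k).1 hk
  set C := Q ⊓ Subgroup.centralizer (P : Set G) with hC
  have h1 : ⁅⁅P, C⁆, Q⁆ = ⊥ := by
    have : ⁅P, C⁆ = ⊥ := by
      rw [Subgroup.commutator_comm, Subgroup.commutator_eq_bot_iff_le_centralizer]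
      exact inf_le_right
    rw [this]
    exact Subgroup.commutator_bot_left Q
  have h2 : ⁅⁅C, Q⁆, P⁆ = ⊥ := by
    rw [Subgroup.commutator_eq_bot_iff_le_centralizer]
    exact (Subgroup.commutator_mono inf_le_left le_rfl).trans hQ'
  have h3 : ⁅⁅Q, P⁆, C⁆ = ⊥ := Subgroup.commutator_commutator_eq_bot_of_rotate h1 h2
  rw [hK] at h3
  have h4 : Q ≤ Subgroup.centralizer (C : Set G) :=
    Subgroup.commutator_eq_bot_iff_le_centralizer.1 h3
  exact Subgroup.le_centralizer_iff.1 h4

/-- `p`-solvable, abelian Sylow `p`-subgroup: `O_{p'}(G) P` is normal. -/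
theorem pPrimeCore_sup_sylow_normal [Finite G] {p : ℕ} [Fact p.Prime]
    (hsolv : IsPSolvable p G) (P : Sylow p G)
    (hab : ∀ x ∈ (P : Subgroup G), ∀ y ∈ (P : Subgroup G), x * y = y * x) :
    ((P : Subgroup G) ⊔ pPrimeCore p G).Normal := by
  haveI hNn : (pPrimeCore p G).Normal := Cfsg.Agent.Lib.Helper22.pPrimeCore_normal' p G
  have hsolv' : IsPSolvable p (G ⧸ pPrimeCore p G) :=
    Cfsg.Agent.Lib.Helper76.isPSolvable_quotient (pPrimeCore p G) hsolv
  have hO : pPrimeCore p (G ⧸ pPrimeCore p G) = ⊥ :=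
    Cfsg.Agent.Lib.Helper55.pPrimeCore_quotient_eq_bot p
  have hHH := Cfsg.Agent.Lib.Helper76.centralizer_pCore_le_of_isPSolvable hsolv' hO
  let π := QuotientGroup.mk' (pPrimeCore p G)
  have hπ : Function.Surjective π := QuotientGroup.mk'_surjective _
  let Pb : Sylow p (G ⧸ pPrimeCore p G) := P.mapSurjective hπ
  have hPb : (Pb : Subgroup (G ⧸ pPrimeCore p G)) = (P : Subgroup G).map π :=
    Sylow.coe_mapSurjective hπ P
  have h1 : pCore p (G ⧸ pPrimeCore p G) ≤ (Pb : Subgroup _) :=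
    Cfsg.Agent.Lib.Helper48.pCore_le_sylow Pb
  have h2 : (Pb : Subgroup (G ⧸ pPrimeCore p G)) ≤
      Subgroup.centralizer (pCore p (G ⧸ pPrimeCore p G) : Set (G ⧸ pPrimeCore p G)) := by
    intro x hx
    rw [Subgroup.mem_centralizer_iff]
    intro y hy
    have hy' := h1 hy
    rw [hPb] at hx hy'
    obtain ⟨a, ha, rfl⟩ := hx
    obtain ⟨b, hb, rfl⟩ := hy'
    rw [← map_mul, ← map_mul, hab b hb a ha]
  have h3 : (Pb : Subgroup (G ⧸ pPrimeCore p G)) = pCore p (G ⧸ pPrimeCore p G) :=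
    le_antisymm (h2.trans hHH) h1
  haveI hcn : (pCore p (G ⧸ pPrimeCore p G)).Normal :=
    Cfsg.Agent.Lib.Helper22.pCore_normal' p _
  have h4 : (((P : Subgroup G).map π).comap π).Normal := by
    rw [← hPb, h3]
    exact Subgroup.Normal.comap hcn π
  rw [Subgroup.comap_map_eq, QuotientGroup.ker_mk'] at h4
  exact h4

/-- The structure of a minimal configuration: `G = Q P` with `Q` a normal `q`-group not
centralized by `P`. -/
theorem exists_structure [Finite G] {p : ℕ} [Fact p.Prime] (hsolv : IsPSolvable p G)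
    (P : Sylow p G)
    (hab : ∀ x ∈ (P : Subgroup G), ∀ y ∈ (P : Subgroup G), x * y = y * x)
    (hnn : ¬ (P : Subgroup G).Normal)
    (H2 : ∀ H : Subgroup G, (P : Subgroup G) ≤ H → H ≠ ⊤ →
      ((P : Subgroup G).subgroupOf H).Normal) :
    ∃ (q : ℕ) (Q : Subgroup G), q.Prime ∧ Q.Normal ∧ IsPGroup q Q ∧
      (Nat.card Q).Coprime p ∧ Q ⊔ (P : Subgroup G) = ⊤ ∧
      ¬ Q ≤ Subgroup.centralizer ((P : Subgroup G) : Set G) := by
  classical
  haveI hNn : (pPrimeCore p G).Normal := Cfsg.Agent.Lib.Helper22.pPrimeCore_normal' p G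
  have hNcop : (Nat.card (pPrimeCore p G)).Coprime p :=
    Cfsg.Agent.Lib.Helper55.pPrimeCore_card_coprime p
  set N := pPrimeCore p G with hN
  set A : Subgroup G := (P : Subgroup G) with hA
  have hMn : (A ⊔ N).Normal := pPrimeCore_sup_sylow_normal hsolv P hab
  -- `A ⊔ N = ⊤`
  have hM : A ⊔ N = ⊤ := by
    by_contra hne
    have h1 := H2 (A ⊔ N) le_sup_left hne
    have h2 : A ⊔ N ≤ Subgroup.normalizer (A : Set G) :=
      (Subgroup.normal_subgroupOf_iff_le_normalizer le_sup_left).1 h1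
    let PM : Sylow p (A ⊔ N : Subgroup G) := P.subtype le_sup_left
    have h3 := Sylow.normalizer_sup_eq_top PM
    have h4 : ((PM : Subgroup (A ⊔ N : Subgroup G)).map (A ⊔ N : Subgroup G).subtype) = A := by
      rw [Sylow.coe_subtype]
      exact Subgroup.map_subgroupOf_eq_of_le le_sup_left
    rw [h4] at h3
    have h5 : Subgroup.normalizer (A : Set G) = ⊤ := by
      rw [eq_top_iff, ← h3]
      exact sup_le le_rfl h2
    exact hnn (Subgroup.normalizer_eq_top_iff.1 h5)
  obtain ⟨k, hk⟩ := IsPGroup.iff_card.1 P.2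
  have hcopAN : (Nat.card A).Coprime (Nat.card N) := by
    rw [hA, hk]
    exact (Nat.Coprime.pow_right k hNcop).symm
  have hAN : A ≤ Subgroup.normalizer (N : Set G) := by
    rw [Subgroup.normalizer_eq_top_iff.2 hNn]
    exact le_top
  haveI : Group.IsNilpotent A := (P.2).isNilpotent
  have hsolvA : Group.IsSolvable A := inferInstance
  have hNA : N ⊓ A = ⊥ := (Subgroup.disjoint_of_coprime_natCard hcopAN.symm).eq_bot
  -- some invariant Sylow subgroup of `N` is not centralized
  have hex : ∃ q : ℕ, q.Prime ∧ ∃ Q : Subgroup G, Q ≤ N ∧ IsPGroup q Q ∧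
      A ≤ Subgroup.normalizer (Q : Set G) ∧ ¬ Q ≤ Subgroup.centralizer (A : Set G) := by
    by_contra hcon
    push Not at hcon
    set C := N ⊓ Subgroup.centralizer (A : Set G) with hC
    have hdvd : Nat.card N ∣ Nat.card C := by
      rw [Nat.dvd_iff_prime_pow_dvd_dvd]
      intro q j hq hqj
      haveI : Fact q.Prime := ⟨hq⟩
      obtain ⟨S, hS⟩ := Cfsg.Agent.Lib.Helper24.exists_invariant_sylow (p := q) A N hAN hcopAN
        (Or.inl hsolvA)
      have hSN : (S : Subgroup N).map N.subtype ≤ N := by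
        rintro _ ⟨x, _, rfl⟩
        exact x.2
      have hSp : IsPGroup q ((S : Subgroup N).map N.subtype) := S.2.map _
      have h1 := hcon q hq _ hSN hSp hS
      have h2 : (S : Subgroup N).map N.subtype ≤ C := le_inf hSN h1
      have h3 : Nat.card ((S : Subgroup N).map N.subtype) = Nat.card (S : Subgroup N) :=
        Subgroup.card_map_of_injective N.subtype_injective
      have h4 : Nat.card (S : Subgroup N) = q ^ (Nat.card N).factorization q :=
        S.card_eq_multiplicity
      have hN0 : Nat.card N ≠ 0 := Nat.card_pos.ne'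
      have h5 : j ≤ (Nat.card N).factorization q :=
        (hq.pow_dvd_iff_le_factorization hN0).1 hqj
      calc q ^ j ∣ q ^ (Nat.card N).factorization q := pow_dvd_pow q h5
        _ = Nat.card ((S : Subgroup N).map N.subtype) := by rw [h3, h4]
        _ ∣ Nat.card C := Subgroup.card_dvd_of_le h2
    have hCN : C = N := by
      apply Subgroup.eq_of_le_of_card_ge inf_le_left
      exact Nat.le_of_dvd Nat.card_pos hdvd
    have hNc : N ≤ Subgroup.centralizer (A : Set G) := by
      rw [← hCN]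
      exact inf_le_right
    apply hnn
    rw [← Subgroup.normalizer_eq_top_iff, eq_top_iff, ← hM]
    exact sup_le Subgroup.le_normalizer (hNc.trans (Subgroup.centralizer_le_normalizer _))
  obtain ⟨q, hq, Q, hQN, hQq, hAQ, hQc⟩ := hex
  have hQA : Q ⊓ A = ⊥ := by
    rw [eq_bot_iff, ← hNA]
    exact inf_le_inf_right A hQN
  have htop : Q ⊔ A = ⊤ := by
    by_contra hne
    exact hQc (le_centralizer_of_normal_subgroupOf Q A hAQ hQA (H2 _ le_sup_right hne))
  refine ⟨q, Q, hq, ?_, hQq, ?_, htop, hQc⟩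
  · rw [← Subgroup.normalizer_eq_top_iff, eq_top_iff, ← htop]
    exact sup_le Subgroup.le_normalizer hAQ
  · exact Nat.Coprime.coprime_dvd_left (Subgroup.card_dvd_of_le hQN) hNcop

end Cfsg.Agent.Lib.Helper79.IW
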