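import Mathlib
import Cfsg.Prelude.Def_Characters
import Cfsg.Prelude.Def_Blocks
import Cfsg.Agent.Lib.Helper3.CharBasic
import Cfsg.Agent.Lib.Helper3.CharOps
import Cfsg.Agent.Lib.Helper15.IrrCrit
import Cfsg.Agent.Lib.Helper15.Gallagher
import Cfsg.Agent.Lib.Helper81.Irr
import Cfsg.Agent.Lib.Helper79.Basic
import Cfsg.Agent.Lib.Helper79.Classes
import Cfsg.Agent.Lib.Helper79.CenterIndex
import Cfsg.Agent.Lib.Helper79.CliffordCorr
import Cfsg.Agent.Lib.Helper79.IW1

set_option autoImplicit false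
set_option linter.unusedSectionVars false
set_option linter.style.haveILetI false

/-! Character-theoretic part of the Ito–Winter theorem. -/

namespace Cfsg.Agent.Lib.Helper79.IW

open Cfsg Cfsg.Agent.Lib.Helper75
open scoped ComplexConjugate commutatorElement

universe u

section General

variable {G : Type u} [Group G]

/-- A character whose restriction to a subgroup is irreducible is irreducible. -/
theorem isIrrCharacter_of_restrict [Finite G] {χ : G → ℂ} (hχ : IsCharacter G χ) (H : Subgroup G)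
    (h : IsIrrCharacter H (fun x : H => χ x)) : IsIrrCharacter G χ := by
  classical
  haveI : Fintype G := Fintype.ofFinite G
  obtain ⟨n, ρ, rfl⟩ := hχ
  have h1 := Cfsg.Agent.Lib.Helper15.resRep_irreducible ρ H h
  exact ⟨n, ρ, isIrreducible_of_forall_exists (Cfsg.Agent.Lib.Helper15.resRep ρ H) ρ
    (fun g => ⟨(g : G), rfl⟩) h1, rfl⟩

/-- Degree of a character in terms of multiplicities. -/
theorem degree_eq_sum [Fintype G] [Fintype (IrrCharacter G)] {χ : G → ℂ}
    (m : IrrCharacter G → ℕ) (hdec : χ = ∑ ψ : IrrCharacter G, (m ψ : ℂ) • (ψ : G → ℂ)) (n : ℕ)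
    (hn : χ 1 = (n : ℂ)) : n = ∑ ψ : IrrCharacter G, m ψ * charDegree (ψ : G → ℂ) := by
  have h1 : χ 1 = ∑ ψ : IrrCharacter G, (m ψ : ℂ) * (charDegree (ψ : G → ℂ) : ℂ) := by
    rw [hdec, Finset.sum_apply]
    apply Finset.sum_congr rfl
    intro ψ _
    rw [Pi.smul_apply, smul_eq_mul, Cfsg.Agent.Lib.Helper81.irr_apply_one_eq_charDegree]
  rw [hn] at h1
  exact_mod_cast h1

theorem charDegree_irr_pos (ψ : IrrCharacter G) : 1 ≤ charDegree (ψ : G → ℂ) := by
  rw [Nat.one_le_iff_ne_zero]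
  intro h
  have h1 := Cfsg.Agent.Lib.Helper81.irr_apply_one_eq_charDegree ψ
  rw [h, Nat.cast_zero] at h1
  exact irr_one_ne_zero ψ h1

/-- The degree of an irreducible character divides the group order. -/
theorem charDegree_dvd_card [Finite G] (ψ : IrrCharacter G) :
    charDegree (ψ : G → ℂ) ∣ Nat.card G := by
  obtain ⟨d, ρ, hirr, hchar⟩ := ψ.2
  haveI := hirr
  have h1 : charDegree (ψ : G → ℂ) = d := by
    rw [← hchar]
    exact charDegree_rep ρ
  have h2 := finrank_dvd_index_center ρ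
  rw [Module.finrank_fin_fun] at h2
  rw [h1]
  exact h2.trans (Subgroup.index_dvd_card _)

/-- A finite `p`-group with a faithful character of degree less than `p` is commutative. -/
theorem comm_of_small_degree {A : Type u} [Group A] [Finite A] {p : ℕ} [hp : Fact p.Prime]
    (hA : IsPGroup p A) {ψ : A → ℂ} (hψ : IsCharacter A ψ) (hfaith : ∀ a : A, ψ a = ψ 1 → a = 1)
    (n : ℕ) (hn : ψ 1 = (n : ℂ)) (hnp : n < p) : ∀ a b : A, a * b = b * a := by
  classical
  haveI : Fintype A := Fintype.ofFinite A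
  haveI : Fintype (IrrCharacter A) := Fintype.ofFinite _
  obtain ⟨m, hm, hdec⟩ := Cfsg.Agent.Lib.Helper15.exists_nat_decomp hψ
  have hsum := degree_eq_sum m hdec n hn
  have hlin : ∀ θ : IrrCharacter A, m θ ≠ 0 → (θ : A → ℂ) 1 = 1 := by
    intro θ hθ
    have h1 : m θ * charDegree (θ : A → ℂ) ≤ n := by
      rw [hsum]
      exact Finset.single_le_sum (f := fun θ : IrrCharacter A => m θ * charDegree (θ : A → ℂ))
        (fun _ _ => Nat.zero_le _) (Finset.mem_univ θ)
    have h2 : charDegree (θ : A → ℂ) ≤ m θ * charDegree (θ : A → ℂ) :=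
      Nat.le_mul_of_pos_left _ (Nat.pos_of_ne_zero hθ)
    have h3 : charDegree (θ : A → ℂ) < p := lt_of_le_of_lt (h2.trans h1) hnp
    obtain ⟨k, hk⟩ := IsPGroup.iff_card.1 hA
    have h4 : charDegree (θ : A → ℂ) ∣ p ^ k := hk ▸ charDegree_dvd_card θ
    obtain ⟨j, _, hj⟩ := (Nat.dvd_prime_pow hp.out).1 h4
    have hj0 : j = 0 := by
      by_contra hj0
      have : p ≤ p ^ j := by
        calc p = p ^ 1 := (pow_one p).symm
          _ ≤ p ^ j := Nat.pow_le_pow_right hp.out.pos (Nat.one_le_iff_ne_zero.2 hj0)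
      omega
    rw [hj0, pow_zero] at hj
    rw [Cfsg.Agent.Lib.Helper81.irr_apply_one_eq_charDegree, hj]
    simp
  have hcomm : ∀ c ∈ commutator A, c = 1 := by
    intro c hc
    apply hfaith
    rw [hdec, Finset.sum_apply, Finset.sum_apply]
    apply Finset.sum_congr rfl
    intro θ _
    rw [Pi.smul_apply, Pi.smul_apply]
    by_cases hθ : m θ = 0
    · rw [hθ]
      simp
    · rw [isCharacter_one_commutator (isCharacter_of_isIrrCharacter θ.2) (hlin θ hθ) hc,
        hlin θ hθ]
  intro a b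
  have h1 : ⁅a, b⁆ = 1 := hcomm _ (Subgroup.commutator_mem_commutator (Subgroup.mem_top a)
    (Subgroup.mem_top b))
  exact commutatorElement_eq_one_iff_mul_comm.1 h1

end General

section Local

variable {G : Type u} [Group G] [Fintype G]

open Cfsg.Agent.Lib.Helper3 in
/-- Constituents of the restriction to a normal subgroup of `p`-power index of a character of
degree less than `p` are invariant. -/
theorem inertia_eq_top_of_constituent (Q : Subgroup G) [hQ : Q.Normal] [Fintype Q] {p : ℕ}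
    [hp : Fact p.Prime] (hidx : ∃ k : ℕ, Q.index = p ^ k) {χ : G → ℂ} (hχ : IsCharacter G χ)
    (n : ℕ) (hn : χ 1 = (n : ℂ)) (hnp : n < p) {θ : Q → ℂ} (hθ : IsIrrCharacter Q θ)
    (h : classInner (fun x : Q => χ x) θ ≠ 0) : inertia Q θ = ⊤ := by
  classical
  haveI : Fintype (IrrCharacter G) := Fintype.ofFinite _
  obtain ⟨a, ha, hdec⟩ := Cfsg.Agent.Lib.Helper15.exists_nat_decomp hχ
  have hsum := degree_eq_sum a hdec n hn
  have hres : (fun x : Q => χ x) =
      ∑ ψ : IrrCharacter G, (a ψ : ℂ) • (fun x : Q => (ψ : G → ℂ) x) := by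
    funext x
    conv_lhs => rw [hdec]
    rw [Finset.sum_apply, Finset.sum_apply]
    rfl
  rw [hres, classInner_sum_left] at h
  obtain ⟨ψ, _, hψ⟩ := Finset.exists_ne_zero_of_sum_ne_zero h
  rw [classInner_smul_left] at hψ
  have haψ : a ψ ≠ 0 := by
    intro h0
    apply hψ
    rw [h0]
    simp
  have hne : classInner (fun x : Q => (ψ : G → ℂ) x) θ ≠ 0 := right_ne_zero_of_mul hψ
  have hcl := clifford_degree Q ψ.2 hθ hne
  obtain ⟨e, he⟩ := Cfsg.Agent.Lib.Helper15.exists_nat_classInner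
    (isCharacter_restrict (isCharacter_of_isIrrCharacter ψ.2) Q) (isCharacter_of_isIrrCharacter hθ)
  have he0 : e ≠ 0 := by
    intro h0
    apply hne
    rw [he, h0]
    simp
  have hθ1 := Cfsg.Agent.Lib.Helper81.irr_apply_one_eq_charDegree (⟨θ, hθ⟩ : IrrCharacter Q)
  have hψ1 := Cfsg.Agent.Lib.Helper81.irr_apply_one_eq_charDegree ψ
  have ht := charDegree_irr_pos (⟨θ, hθ⟩ : IrrCharacter Q)
  simp only [] at hθ1 ht
  rw [he, hθ1, hψ1] at hcl
  have hcl' : charDegree (ψ : G → ℂ) = e * (inertia Q θ).index * charDegree θ := by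
    exact_mod_cast hcl
  have h1 : (inertia Q θ).index ≤ charDegree (ψ : G → ℂ) := by
    rw [hcl']
    calc (inertia Q θ).index = 1 * (inertia Q θ).index * 1 := by ring
      _ ≤ e * (inertia Q θ).index * charDegree θ :=
        Nat.mul_le_mul (Nat.mul_le_mul (Nat.one_le_iff_ne_zero.2 he0) le_rfl) ht
  have h2 : a ψ * charDegree (ψ : G → ℂ) ≤ n := by
    rw [hsum]
    exact Finset.single_le_sum (f := fun ψ : IrrCharacter G => a ψ * charDegree (ψ : G → ℂ))
      (fun _ _ => Nat.zero_le _) (Finset.mem_univ ψ)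
  have h3 : charDegree (ψ : G → ℂ) ≤ a ψ * charDegree (ψ : G → ℂ) :=
    Nat.le_mul_of_pos_left _ (Nat.pos_of_ne_zero haψ)
  have h4 : (inertia Q θ).index < p := by omega
  obtain ⟨k, hk⟩ := hidx
  have hcf : IsClassFunction Q θ :=
    Cfsg.Agent.Lib.Helper3.IsCharacter.isClassFunction (isCharacter_of_isIrrCharacter hθ)
  have h5 : (inertia Q θ).index ∣ p ^ k := hk ▸ Subgroup.index_dvd_of_le (le_inertia Q hcf)
  obtain ⟨j, _, hj⟩ := (Nat.dvd_prime_pow hp.out).1 h5
  have hj0 : j = 0 := by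
    by_contra hj0
    have : p ≤ p ^ j := by
      calc p = p ^ 1 := (pow_one p).symm
        _ ≤ p ^ j := Nat.pow_le_pow_right hp.out.pos (Nat.one_le_iff_ne_zero.2 hj0)
    omega
  rw [hj0, pow_zero] at hj
  exact Subgroup.index_eq_one.1 hj

/-- If all constituents of the restriction of a faithful character to a normal subgroup are
invariant and linear, the subgroup is central. -/
theorem le_center_of_linear_constituents (Q : Subgroup G) [hQ : Q.Normal] [Fintype Q]
    {χ : G → ℂ} (hχ : IsCharacter G χ) (hfaith : ∀ g : G, χ g = χ 1 → g = 1)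
    (hinv : ∀ θ : IrrCharacter Q, classInner (fun x : Q => χ x) (θ : Q → ℂ) ≠ 0 →
      inertia Q (θ : Q → ℂ) = ⊤)
    (hlin : ∀ θ : IrrCharacter Q, classInner (fun x : Q => χ x) (θ : Q → ℂ) ≠ 0 →
      (θ : Q → ℂ) 1 = 1) : Q ≤ Subgroup.center G := by
  classical
  haveI : Fintype (IrrCharacter Q) := Fintype.ofFinite _
  obtain ⟨m, hm, hdec⟩ := Cfsg.Agent.Lib.Helper15.exists_nat_decomp
    (isCharacter_restrict hχ Q)
  intro x hx
  rw [Subgroup.mem_center_iff]
  intro g
  have hc : g * x * g⁻¹ ∈ Q := hQ.conj_mem x hx g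
  let c : Q := ⟨g * x * g⁻¹, hc⟩ * (⟨x, hx⟩ : Q)⁻¹
  have hval : χ ((c : Q) : G) = χ 1 := by
    have h1 : (fun y : Q => χ y) c = (fun y : Q => χ y) 1 := by
      rw [hdec, Finset.sum_apply, Finset.sum_apply]
      apply Finset.sum_congr rfl
      intro θ _
      rw [Pi.smul_apply, Pi.smul_apply]
      by_cases hθ : m θ = 0
      · rw [hθ]
        simp
      · have hne : classInner (fun x : Q => χ x) (θ : Q → ℂ) ≠ 0 := by
          rw [hm θ]
          exact_mod_cast hθ
        obtain ⟨lam, hlam⟩ := exists_monoidHom_of_isCharacter_of_one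
          (isCharacter_of_isIrrCharacter θ.2) (hlin θ hne)
        have hg : g ∈ inertia Q (θ : Q → ℂ) := by
          rw [hinv θ hne]
          exact Subgroup.mem_top g
        rw [mem_inertia] at hg
        have h2 : (θ : Q → ℂ) ⟨g * x * g⁻¹, hc⟩ = (θ : Q → ℂ) ⟨x, hx⟩ := by
          have := congrFun hg ⟨x, hx⟩
          rw [conjFun_apply] at this
          exact this
        have h3 : lam ⟨g * x * g⁻¹, hc⟩ = lam ⟨x, hx⟩ := by
          apply Units.ext
          rw [← hlam, ← hlam, h2]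
        have h4 : lam c = 1 := by
          change lam (⟨g * x * g⁻¹, hc⟩ * (⟨x, hx⟩ : Q)⁻¹) = 1
          rw [map_mul, map_inv, h3, mul_inv_cancel]
        rw [hlam c, h4, hlam 1, map_one]
    simpa using h1
  have h5 := hfaith _ hval
  have h6 : g * x * g⁻¹ * x⁻¹ = 1 := by
    have : ((c : Q) : G) = g * x * g⁻¹ * x⁻¹ := rfl
    rw [← this, h5]
  calc g * x = (g * x * g⁻¹ * x⁻¹) * (x * g) := by group
    _ = x * g := by rw [h6, one_mul]

end Local

end Cfsg.Agent.Lib.Helper79.IW
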