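import Mathlib
import Cfsg.Prelude.Def_Characters
import Cfsg.Prelude.Def_Blocks
import Cfsg.Prelude.Def_Local
import Cfsg.Agent.Lib.Helper79.IW2
import Cfsg.Agent.Lib.Helper79.IW3

set_option autoImplicit false
set_option linter.unusedSectionVars false
set_option linter.style.haveILetI false

/-! The Ito–Winter theorem: `p`-solvable linear groups of degree at most `p - 1`. -/

namespace Cfsg.Agent.Lib.Helper79.IW

open Cfsg Cfsg.Agent.Lib.Helper75
open scoped ComplexConjugate commutatorElement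

universe u

/-- The local configuration `G = Q P`. -/
theorem local_main {G : Type u} [Group G] [Fintype G] {p q : ℕ} [hp : Fact p.Prime]
    (hq : q.Prime) (Q P : Subgroup G) [hQn : Q.Normal] (hQq : IsPGroup q Q)
    (hQcop : (Nat.card Q).Coprime p) (hP : IsPGroup p P) (htop : Q ⊔ P = ⊤)
    (hfixc : Q ⊓ Subgroup.centralizer (P : Set G) ≤ Subgroup.centralizer (Q : Set G))
    (hnc : ¬ Q ≤ Subgroup.centralizer (P : Set G)) {χ : G → ℂ} (hχ : IsCharacter G χ)
    (hfaith : ∀ g : G, χ g = χ 1 → g = 1) (n : ℕ) (hn : χ 1 = (n : ℂ)) (hnp : n + 1 ≤ p) :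
    n + 1 = p ∧ (∃ k : ℕ, n = 2 ^ k) ∧ IsIrrCharacter G χ := by
  classical
  haveI : Fintype Q := Fintype.ofFinite Q
  haveI : Fintype (IrrCharacter Q) := Fintype.ofFinite _
  have hidx : ∃ k : ℕ, Q.index = p ^ k := by
    obtain ⟨k, hk⟩ := IsPGroup.iff_card.1 hP
    have h1 : Q.relIndex (Q ⊔ P) = Q.relIndex P := Subgroup.relIndex_sup_left P Q
    rw [htop, Subgroup.relIndex_top_right] at h1
    have h2 : Q.relIndex P ∣ Nat.card P := Subgroup.relIndex_dvd_card Q P
    rw [hk, ← h1] at h2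
    obtain ⟨j, _, hj⟩ := (Nat.dvd_prime_pow hp.out).1 h2
    exact ⟨j, hj⟩
  have hinv : ∀ θ : IrrCharacter Q, classInner (fun x : Q => χ x) (θ : Q → ℂ) ≠ 0 →
      inertia Q (θ : Q → ℂ) = ⊤ := fun θ h =>
    inertia_eq_top_of_constituent Q hidx hχ n hn (by omega) θ.2 h
  obtain ⟨m, hm, hdec⟩ := Cfsg.Agent.Lib.Helper15.exists_nat_decomp (isCharacter_restrict hχ Q)
  have hn' : (fun x : Q => χ x) 1 = (n : ℂ) := by
    simpa using hn
  have hsum := degree_eq_sum m hdec n hn'
  have hex : ∃ φ : IrrCharacter Q, m φ ≠ 0 ∧ (φ : Q → ℂ) 1 ≠ 1 := by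
    by_contra hcon
    push Not at hcon
    apply hnc
    have := le_center_of_linear_constituents Q hχ hfaith hinv (fun θ h => hcon θ (by
      rw [hm θ] at h
      exact_mod_cast h))
    exact this.trans (Subgroup.center_le_centralizer _)
  obtain ⟨φ, hφm, hφ1⟩ := hex
  set d := charDegree (φ : Q → ℂ) with hd
  have hφd : (φ : Q → ℂ) 1 = (d : ℂ) := Cfsg.Agent.Lib.Helper81.irr_apply_one_eq_charDegree φ
  have hd1 : d ≠ 1 := by
    intro h
    apply hφ1
    rw [hφd, h]
    simp
  have hd0 : 1 ≤ d := charDegree_irr_pos φ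
  let κ : P →* MulAut Q := (MulAut.conjNormal (H := Q)).comp P.subtype
  have hκ : ∀ (g : P) (x : Q), ((κ g x : Q) : G) = (g : G) * x * (g : G)⁻¹ := fun g x =>
    MulAut.conjNormal_apply (g : G) x
  have hφne : classInner (fun x : Q => χ x) (φ : Q → ℂ) ≠ 0 := by
    rw [hm φ]
    exact_mod_cast hφm
  have hdvd : p ∣ d ^ 2 - 1 := by
    apply sq_degree_modEq κ hP hQcop φ.2 _ _ d hφd
    · intro g x
      have hg : (g : G) ∈ inertia Q (φ : Q → ℂ) := by
        rw [hinv φ hφne]
        exact Subgroup.mem_top _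
      rw [mem_inertia] at hg
      have h1 := congrFun hg x
      rw [conjFun_apply] at h1
      rw [← h1]
      exact congrArg _ (Subtype.ext (hκ g x))
    · intro x hx
      have hxc : (x : G) ∈ Q ⊓ Subgroup.centralizer (P : Set G) := by
        refine Subgroup.mem_inf.2 ⟨x.2, ?_⟩
        rw [Subgroup.mem_centralizer_iff]
        intro g hg
        have h1 := congrArg Subtype.val (hx ⟨g, hg⟩)
        rw [hκ] at h1
        change g * (x : G) * g⁻¹ = x at h1
        calc g * (x : G) = (g * (x : G) * g⁻¹) * g := by group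
          _ = x * g := by rw [h1]
      have h2 := hfixc hxc
      rw [Subgroup.mem_center_iff]
      intro y
      rw [Subgroup.mem_centralizer_iff] at h2
      exact Subtype.ext (h2 y y.2)
  -- arithmetic
  have h1 : m φ * d ≤ n := by
    rw [hsum]
    exact Finset.single_le_sum (f := fun θ : IrrCharacter Q => m θ * charDegree (θ : Q → ℂ))
      (fun _ _ => Nat.zero_le _) (Finset.mem_univ φ)
  have h2 : d ≤ m φ * d := Nat.le_mul_of_pos_left _ (Nat.pos_of_ne_zero hφm)
  obtain ⟨c, hc⟩ : ∃ c : ℕ, d = c + 1 := ⟨d - 1, by omega⟩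
  have hc0 : 1 ≤ c := by omega
  have hsq : d ^ 2 - 1 = c * (c + 2) := by
    have : d ^ 2 = c * (c + 2) + 1 := by
      rw [hc]
      ring
    omega
  rw [hsq] at hdvd
  have hpd : d + 1 = p := by
    rcases (Nat.Prime.dvd_mul hp.out).1 hdvd with h | h
    · have := Nat.le_of_dvd (by omega) h
      omega
    · have := Nat.le_of_dvd (by omega) h
      omega
  have hnd : n = d := by omega
  -- `d` is a power of `q`
  haveI : Fact q.Prime := ⟨hq⟩
  obtain ⟨e, he⟩ := IsPGroup.iff_card.1 hQq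
  have hdq : d ∣ q ^ e := he ▸ charDegree_dvd_card φ
  obtain ⟨j, _, hj⟩ := (Nat.dvd_prime_pow hq).1 hdq
  have hj0 : j ≠ 0 := by
    intro h0
    apply hd1
    rw [hj, h0, pow_zero]
  have hq2 : q = 2 := by
    have hp3 : p ≠ 2 := by omega
    have hodd : Odd p := hp.out.odd_of_ne_two hp3
    have heven : Even (q ^ j) := by
      rw [← hj]
      have : Odd (d + 1) := hpd ▸ hodd
      rcases Nat.even_or_odd d with h | h
      · exact h
      · exact absurd (Odd.add_odd h odd_one) (Nat.not_even_iff_odd.2 this)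
    have : Even q := (Nat.even_pow.1 heven).1
    exact (Nat.Prime.even_iff hq).1 this
  refine ⟨by omega, ⟨j, by rw [hnd, hj, hq2]⟩, ?_⟩
  -- `χ|_Q = φ`
  have hmφ : m φ = 1 := by
    have : m φ * d ≤ 1 * d := by omega
    have := Nat.le_of_mul_le_mul_right this (by omega)
    omega
  have hrest : ∀ θ : IrrCharacter Q, θ ≠ φ → m θ = 0 := by
    intro θ hθ
    have h3 := Finset.add_sum_erase Finset.univ
      (fun θ : IrrCharacter Q => m θ * charDegree (θ : Q → ℂ)) (Finset.mem_univ φ)
    rw [← hsum] at h3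
    rw [hmφ, one_mul, ← hd] at h3
    have h4 : ∑ x ∈ Finset.univ.erase φ, m x * charDegree (x : Q → ℂ) = 0 := by omega
    have h5 := (Finset.sum_eq_zero_iff.1 h4) θ (Finset.mem_erase.2 ⟨hθ, Finset.mem_univ θ⟩)
    rcases Nat.mul_eq_zero.1 h5 with h | h
    · exact h
    · have := charDegree_irr_pos θ
      omega
  have hresφ : (fun x : Q => χ x) = (φ : Q → ℂ) := by
    rw [hdec, Finset.sum_eq_single φ]
    · rw [hmφ]
      simp
    · intro θ _ hθ
      rw [hrest θ hθ]
      simp
    · intro h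
      exact absurd (Finset.mem_univ φ) h
  apply isIrrCharacter_of_restrict hχ Q
  rw [hresφ]
  exact φ.2

/-- **Ito–Winter**, by induction on the group order. -/
theorem ito_winter_aux (p : ℕ) [hp : Fact p.Prime] : ∀ (N : ℕ) (G : Type u) [Group G] [Finite G],
    Nat.card G = N → ∀ (χ : G → ℂ), IsCharacter G χ → (∀ g : G, χ g = χ 1 → g = 1) →
    ∀ n : ℕ, χ 1 = (n : ℂ) → IsPSolvable p G → n + 1 ≤ p → ∀ P : Sylow p G,
    ¬ (P : Subgroup G).Normal → n + 1 = p ∧ (∃ k : ℕ, n = 2 ^ k) ∧ IsIrrCharacter G χ := by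
  intro N
  induction N using Nat.strong_induction_on with
  | _ N ih =>
  intro G _ _ hcard χ hχ hfaith n hn hsolv hnp P hnn
  classical
  haveI : Fintype G := Fintype.ofFinite G
  by_cases hH : ∃ H : Subgroup G, (P : Subgroup G) ≤ H ∧ H ≠ ⊤ ∧
      ¬ ((P : Subgroup G).subgroupOf H).Normal
  · obtain ⟨H, hPH, hHne, hHn⟩ := hH
    have hlt : Nat.card H < N := by
      rw [← hcard]
      exact lt_of_le_of_ne (Subgroup.card_le_card_group H)
        (fun h => hHne ((Subgroup.card_eq_iff_eq_top H).1 h))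
    have key := ih (Nat.card H) hlt H rfl (fun x : H => χ x) (isCharacter_restrict hχ H)
      (fun g hg => Subtype.ext (hfaith g (by simpa using hg))) n (by simpa using hn)
      (Cfsg.Agent.Lib.Helper76.isPSolvable_subgroup H hsolv) hnp (P.subtype hPH)
      (by rw [Sylow.coe_subtype]; exact hHn)
    obtain ⟨h1, h2, h3⟩ := key
    exact ⟨h1, h2, isIrrCharacter_of_restrict hχ H h3⟩
  · push Not at hH
    have H2 : ∀ H : Subgroup G, (P : Subgroup G) ≤ H → H ≠ ⊤ →
        ((P : Subgroup G).subgroupOf H).Normal := hH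
    have hab : ∀ x ∈ (P : Subgroup G), ∀ y ∈ (P : Subgroup G), x * y = y * x := by
      have h1 := comm_of_small_degree (A := ↥(P : Subgroup G)) P.2
        (isCharacter_restrict hχ (P : Subgroup G))
        (fun g hg => Subtype.ext (hfaith g (by simpa using hg))) n (by simpa using hn)
        (by omega)
      intro x hx y hy
      exact congrArg Subtype.val (h1 ⟨x, hx⟩ ⟨y, hy⟩)
    obtain ⟨q, Q, hq, hQn, hQq, hQcop, htop, hnc⟩ := exists_structure hsolv P hab hnn H2
    haveI := hQn
    haveI : Fact q.Prime := ⟨hq⟩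
    obtain ⟨k, hk⟩ := IsPGroup.iff_card.1 P.2
    have hcop : (Nat.card (P : Subgroup G)).Coprime (Nat.card Q) := by
      rw [hk]
      exact (Nat.Coprime.pow_right k hQcop).symm
    have hQP : Q ⊓ (P : Subgroup G) = ⊥ :=
      (Subgroup.disjoint_of_coprime_natCard hcop.symm).eq_bot
    have hMin := fun R hRQ hne hPR => min_of_overgroups Q (P : Subgroup G) hQP H2 R hRQ hne hPR
    have hPQ : (P : Subgroup G) ≤ Subgroup.normalizer (Q : Set G) := by
      rw [Subgroup.normalizer_eq_top_iff.2 hQn]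
      exact le_top
    haveI : Group.IsNilpotent (P : Subgroup G) := (P.2).isNilpotent
    haveI : Group.IsNilpotent Q := hQq.isNilpotent
    have hfixc := fixed_le_centralizer Q (P : Subgroup G) hPQ hcop inferInstance inferInstance
      hMin hnc
    exact local_main hq Q (P : Subgroup G) hQq hQcop P.2 htop hfixc hnc hχ hfaith n hn hnp

/-- **Ito–Winter**: a `p`-solvable group with a faithful character of degree `n ≤ p - 1` and a
non-normal Sylow `p`-subgroup has `n = p - 1` a power of `2`, and the character is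
irreducible. -/
theorem ito_winter {G : Type u} [Group G] [Finite G] (χ : G → ℂ) (hχ : IsCharacter G χ)
    (hfaith : ∀ g : G, χ g = χ 1 → g = 1) (n : ℕ) (hn : charDegree χ = n) (p : ℕ)
    (hp : p.Prime) (hsolv : IsPSolvable p G) (hnp : n + 1 ≤ p) (P : Sylow p G)
    (hP : ¬ (P : Subgroup G).Normal) :
    n + 1 = p ∧ (∃ k : ℕ, n = 2 ^ k) ∧ IsIrrCharacter G χ := by
  haveI : Fact p.Prime := ⟨hp⟩
  have hn' : χ 1 = (n : ℂ) := by
    obtain ⟨k, ρ, rfl⟩ := hχ
    rw [← hn, charDegree_rep ρ]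
    exact rep_character_one ρ
  exact ito_winter_aux p (Nat.card G) G rfl χ hχ hfaith n hn' hsolv hnp P hP

end Cfsg.Agent.Lib.Helper79.IW
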