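import Mathlib

/-!
# Jordan–Frobenius lemma, part 1: operator-norm lemmas for isometric representations

Helper library (helper79).  A finite group `G` acting by linear isometries `ρ g` on a complex inner
product space `V`.  We prove the commutator estimate
`‖ρ ⁅x,y⁆ - 1‖ ≤ 2 ‖ρ x - 1‖ ‖ρ y - c‖`, the numerical range lemma and the orthogonality of
eigenvectors of an isometry.
-/

set_option autoImplicit false
set_option linter.unusedSectionVars false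
set_option linter.style.haveILetI false

namespace Cfsg.Agent.Lib.Helper79.Jordan

open scoped ComplexConjugate InnerProductSpace commutatorElement

variable {V : Type*} [NormedAddCommGroup V] [InnerProductSpace ℂ V]

theorem norm_mul_left_of_isometry (U T : V →L[ℂ] V) (hU : ∀ v, ‖U v‖ = ‖v‖) :
    ‖U * T‖ = ‖T‖ := by
  apply le_antisymm
  · apply ContinuousLinearMap.opNorm_le_bound _ (norm_nonneg _)
    intro v
    rw [mul_apply_eq_comp, hU]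
    exact T.le_opNorm v
  · apply ContinuousLinearMap.opNorm_le_bound _ (norm_nonneg _)
    intro v
    have := (U * T).le_opNorm v
    rwa [mul_apply_eq_comp, hU] at this

theorem norm_mul_right_of_isometry (T U U' : V →L[ℂ] V) (hU : ∀ v, ‖U v‖ = ‖v‖)
    (hU' : ∀ v, ‖U' v‖ = ‖v‖) (h : U * U' = 1) : ‖T * U‖ = ‖T‖ := by
  apply le_antisymm
  · apply ContinuousLinearMap.opNorm_le_bound _ (norm_nonneg _)
    intro v
    rw [mul_apply_eq_comp]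
    have := T.le_opNorm (U v)
    rwa [hU] at this
  · apply ContinuousLinearMap.opNorm_le_bound _ (norm_nonneg _)
    intro v
    have h1 := (T * U).le_opNorm (U' v)
    rw [mul_apply_eq_comp, hU'] at h1
    have h2 : U (U' v) = v := by
      have := congrArg (fun f : V →L[ℂ] V => f v) h
      simpa using this
    rwa [h2] at h1

section Rep

variable {G : Type*} [Group G] (ρ : G →* (V →L[ℂ] V)) (hiso : ∀ g v, ‖ρ g v‖ = ‖v‖)

include hiso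

theorem inner_map_map (g : G) (u v : V) : ⟪ρ g u, ρ g v⟫_ℂ = ⟪u, v⟫_ℂ := by
  let f : V →ₗᵢ[ℂ] V := ⟨(ρ g).toLinearMap, hiso g⟩
  exact f.inner_map_map u v

theorem norm_conj (g : G) (T : V →L[ℂ] V) : ‖ρ g * T * ρ g⁻¹‖ = ‖T‖ := by
  have h1 : ρ g⁻¹ * ρ g = 1 := by rw [← map_mul, inv_mul_cancel, map_one]
  rw [norm_mul_right_of_isometry (ρ g * T) (ρ g⁻¹) (ρ g) (hiso g⁻¹) (hiso g) h1,
    norm_mul_left_of_isometry (ρ g) T (hiso g)]

theorem norm_conj_sub (g x : G) (c : ℂ) :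
    ‖ρ (g * x * g⁻¹) - c • (1 : V →L[ℂ] V)‖ = ‖ρ x - c • (1 : V →L[ℂ] V)‖ := by
  have h1 : ρ g * ρ g⁻¹ = 1 := by rw [← map_mul, mul_inv_cancel, map_one]
  have : ρ (g * x * g⁻¹) - c • (1 : V →L[ℂ] V) = ρ g * (ρ x - c • 1) * ρ g⁻¹ := by
    rw [map_mul, map_mul, mul_sub, sub_mul, mul_smul_comm, mul_one, smul_mul_assoc, h1]
  rw [this, norm_conj ρ hiso]

/-- The commutator estimate. -/
theorem norm_commutator_sub_one_le (x y : G) (c : ℂ) :
    ‖ρ ⁅x, y⁆ - 1‖ ≤ 2 * ‖ρ x - 1‖ * ‖ρ y - c • (1 : V →L[ℂ] V)‖ := by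
  have h1 : ρ (y * x) * ρ (y * x)⁻¹ = 1 := by rw [← map_mul, mul_inv_cancel, map_one]
  have h2 : ρ ⁅x, y⁆ - 1 = (ρ (x * y) - ρ (y * x)) * ρ (y * x)⁻¹ := by
    rw [sub_mul, h1, ← map_mul]
    congr 2
    rw [commutatorElement_def]
    group
  have h3 : ρ (x * y) - ρ (y * x)
      = (ρ x - 1) * (ρ y - c • (1 : V →L[ℂ] V)) - (ρ y - c • (1 : V →L[ℂ] V)) * (ρ x - 1) := by
    rw [map_mul, map_mul]
    simp only [sub_mul, mul_sub, mul_one, one_mul, mul_smul_comm, smul_mul_assoc, smul_sub]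
    abel
  have h4 : ρ (y * x)⁻¹ * ρ (y * x) = 1 := by rw [← map_mul, inv_mul_cancel, map_one]
  rw [h2, norm_mul_right_of_isometry _ (ρ (y * x)⁻¹) (ρ (y * x)) (hiso _) (hiso _) h4, h3]
  calc ‖(ρ x - 1) * (ρ y - c • (1 : V →L[ℂ] V)) - (ρ y - c • (1 : V →L[ℂ] V)) * (ρ x - 1)‖
      ≤ ‖(ρ x - 1) * (ρ y - c • (1 : V →L[ℂ] V))‖ + ‖(ρ y - c • (1 : V →L[ℂ] V)) * (ρ x - 1)‖ :=
        norm_sub_le _ _
    _ ≤ ‖ρ x - 1‖ * ‖ρ y - c • (1 : V →L[ℂ] V)‖ + ‖ρ y - c • (1 : V →L[ℂ] V)‖ * ‖ρ x - 1‖ :=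
        add_le_add (norm_mul_le _ _) (norm_mul_le _ _)
    _ = 2 * ‖ρ x - 1‖ * ‖ρ y - c • (1 : V →L[ℂ] V)‖ := by ring

/-- Numerical range: if `‖ρ x - 1‖ < 1` then `⟪u, ρ x u⟫ ≠ 0` for `u ≠ 0`. -/
theorem inner_apply_ne_zero (x : G) (hx : ‖ρ x - 1‖ < 1) (u : V) (hu : u ≠ 0) :
    ⟪u, ρ x u⟫_ℂ ≠ 0 := by
  intro h0
  have h1 : ρ x u = u + (ρ x - 1) u := by simp
  rw [h1, inner_add_right] at h0
  have h2 : (⟪u, u⟫_ℂ).re = ‖u‖ ^ 2 := by
    rw [inner_self_eq_norm_sq_to_K]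
    norm_cast
  have h3 : |(⟪u, (ρ x - 1) u⟫_ℂ).re| ≤ ‖u‖ * ‖(ρ x - 1) u‖ := by
    calc |(⟪u, (ρ x - 1) u⟫_ℂ).re| ≤ ‖⟪u, (ρ x - 1) u⟫_ℂ‖ := Complex.abs_re_le_norm _
      _ ≤ ‖u‖ * ‖(ρ x - 1) u‖ := norm_inner_le_norm _ _
  have h4 : ‖(ρ x - 1) u‖ ≤ ‖ρ x - 1‖ * ‖u‖ := (ρ x - 1).le_opNorm u
  have h5 := congrArg Complex.re h0
  rw [Complex.add_re, h2, Complex.zero_re] at h5
  have hupos : 0 < ‖u‖ := norm_pos_iff.mpr hu
  have h6 : ‖u‖ * ‖(ρ x - 1) u‖ < ‖u‖ ^ 2 := by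
    calc ‖u‖ * ‖(ρ x - 1) u‖ ≤ ‖u‖ * (‖ρ x - 1‖ * ‖u‖) := by gcongr
      _ < ‖u‖ * (1 * ‖u‖) := by gcongr
      _ = ‖u‖ ^ 2 := by ring
  have h7 := abs_le.mp h3
  linarith [h7.1]

/-- Eigenvectors of an isometry for distinct eigenvalues (the first of norm one) are
orthogonal. -/
theorem inner_eq_zero_of_eigen (g : G) (a b : V) (α β : ℂ) (hα : ‖α‖ = 1) (hαβ : α ≠ β)
    (ha : ρ g a = α • a) (hb : ρ g b = β • b) : ⟪a, b⟫_ℂ = 0 := by
  have h := inner_map_map ρ hiso g a b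
  rw [ha, hb, inner_smul_left, inner_smul_right] at h
  by_contra hne
  have h1 : conj α * β = 1 := by
    have : (conj α * β - 1) * ⟪a, b⟫_ℂ = 0 := by
      rw [sub_mul, one_mul, mul_assoc, h, sub_self]
    rcases mul_eq_zero.mp this with h' | h'
    · exact sub_eq_zero.mp h'
    · exact absurd h' hne
  apply hαβ
  have h2 : α * conj α = 1 := by
    rw [Complex.mul_conj, Complex.normSq_eq_norm_sq, hα]
    norm_num
  calc α = α * (conj α * β) := by rw [h1, mul_one]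
    _ = (α * conj α) * β := by ring
    _ = β := by rw [h2, one_mul]

end Rep

end Cfsg.Agent.Lib.Helper79.Jordan
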