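import Cfsg.Agent.Lib.Helper79.Jordan1

/-!
# Jordan–Frobenius lemma, part 2: spectral decomposition for a finite abelian group of isometries
-/

set_option autoImplicit false
set_option linter.unusedSectionVars false
set_option linter.style.haveILetI false

namespace Cfsg.Agent.Lib.Helper79.Jordan

open scoped ComplexConjugate InnerProductSpace commutatorElement

variable {V : Type*} [NormedAddCommGroup V] [InnerProductSpace ℂ V]

section Spectral

variable {C : Type*} [CommGroup C] [Fintype C] (σ : C →* (V →L[ℂ] V))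

/-- The spectral projection attached to a character `ψ` of the finite abelian group `C`. -/
noncomputable def proj (ψ : AddChar (Additive C) ℂ) : V →L[ℂ] V :=
  (Fintype.card C : ℂ)⁻¹ • ∑ b : C, conj (ψ (Additive.ofMul b)) • σ b

theorem sum_proj : ∑ ψ : AddChar (Additive C) ℂ, proj σ ψ = 1 := by
  classical
  unfold proj
  rw [← Finset.smul_sum, Finset.sum_comm]
  have h1 : ∀ b : C, ∑ ψ : AddChar (Additive C) ℂ, conj (ψ (Additive.ofMul b)) • σ b
      = (if b = 1 then (Fintype.card C : ℂ) else 0) • σ b := by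
    intro b
    rw [← Finset.sum_smul]
    congr 1
    have h2 : ∀ ψ : AddChar (Additive C) ℂ, conj (ψ (Additive.ofMul b)) = ψ (-(Additive.ofMul b)) :=
      fun ψ => (AddChar.map_neg_eq_conj ψ _).symm
    simp_rw [h2]
    rw [AddChar.sum_apply_eq_ite]
    have : (-(Additive.ofMul b) = 0) ↔ b = 1 := by
      rw [neg_eq_zero]
      exact Iff.rfl
    simp only [this]
    congr 2
    exact Fintype.card_congr Additive.toMul
  simp_rw [h1]
  rw [Finset.sum_eq_single (1 : C)]
  · simp only [if_true, map_one]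
    rw [smul_smul, inv_mul_cancel₀, one_smul]
    exact_mod_cast Fintype.card_ne_zero
  · intro b _ hb
    simp [hb]
  · intro h
    exact absurd (Finset.mem_univ _) h

theorem map_mul_sum (c : C) (ψ : AddChar (Additive C) ℂ) :
    σ c * ∑ b : C, conj (ψ (Additive.ofMul b)) • σ b
      = ψ (Additive.ofMul c) • ∑ b : C, conj (ψ (Additive.ofMul b)) • σ b := by
  rw [Finset.mul_sum, Finset.smul_sum]
  rw [← Fintype.sum_equiv (Equiv.mulLeft c)
    (fun b => ψ (Additive.ofMul c) • conj (ψ (Additive.ofMul (c * b))) • σ (c * b))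
    (fun b => ψ (Additive.ofMul c) • conj (ψ (Additive.ofMul b)) • σ b) (fun b => rfl)]
  apply Finset.sum_congr rfl
  intro b _
  rw [mul_smul_comm, ← map_mul, smul_smul]
  congr 1
  have h1 : ψ (Additive.ofMul (c * b)) = ψ (Additive.ofMul c) * ψ (Additive.ofMul b) := by
    rw [ofMul_mul, AddChar.map_add_eq_mul]
  have h2 : ψ (Additive.ofMul c) * conj (ψ (Additive.ofMul c)) = 1 := by
    rw [Complex.mul_conj, Complex.normSq_eq_norm_sq, AddChar.norm_apply]
    norm_num
  rw [h1, map_mul]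
  calc conj (ψ (Additive.ofMul b))
      = (ψ (Additive.ofMul c) * conj (ψ (Additive.ofMul c))) * conj (ψ (Additive.ofMul b)) := by
        rw [h2, one_mul]
    _ = ψ (Additive.ofMul c) * (conj (ψ (Additive.ofMul c)) * conj (ψ (Additive.ofMul b))) := by
        ring

theorem map_mul_proj (c : C) (ψ : AddChar (Additive C) ℂ) :
    σ c * proj σ ψ = ψ (Additive.ofMul c) • proj σ ψ := by
  unfold proj
  rw [mul_smul_comm, map_mul_sum, smul_comm]

theorem map_proj_apply (c : C) (ψ : AddChar (Additive C) ℂ) (v : V) :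
    σ c (proj σ ψ v) = ψ (Additive.ofMul c) • proj σ ψ v := by
  have := congrArg (fun f : V →L[ℂ] V => f v) (map_mul_proj σ c ψ)
  simpa using this

variable (hσ : ∀ c v, ‖σ c v‖ = ‖v‖)

include hσ

theorem inner_proj_proj {ψ φ : AddChar (Additive C) ℂ} (h : ψ ≠ φ) (u v : V) :
    ⟪proj σ ψ u, proj σ φ v⟫_ℂ = 0 := by
  obtain ⟨a, ha⟩ : ∃ a : Additive C, ψ a ≠ φ a := by
    by_contra hcon
    push Not at hcon
    exact h (DFunLike.ext _ _ hcon)
  exact inner_eq_zero_of_eigen σ hσ (Additive.toMul a) _ _ (ψ a) (φ a) (AddChar.norm_apply ψ a) ha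
    (map_proj_apply σ _ ψ u) (map_proj_apply σ _ φ v)

theorem norm_sq_eq_sum_proj (v : V) :
    ‖v‖ ^ 2 = ∑ ψ : AddChar (Additive C) ℂ, ‖proj σ ψ v‖ ^ 2 := by
  classical
  have h1 : v = ∑ ψ : AddChar (Additive C) ℂ, proj σ ψ v := by
    have := congrArg (fun f : V →L[ℂ] V => f v) (sum_proj σ)
    simp only [sum_apply, one_apply_eq_self] at this
    exact this.symm
  have h2 : (⟪v, v⟫_ℂ).re = ‖v‖ ^ 2 := by
    rw [inner_self_eq_norm_sq_to_K]; norm_cast
  rw [← h2]
  conv_lhs => rw [h1]
  rw [sum_inner]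
  simp_rw [inner_sum]
  rw [Complex.re_sum]
  apply Finset.sum_congr rfl
  intro ψ _
  rw [Finset.sum_eq_single ψ]
  · rw [inner_self_eq_norm_sq_to_K]; norm_cast
  · intro φ _ hφ
    exact inner_proj_proj σ hσ (Ne.symm hφ) v v
  · intro h; exact absurd (Finset.mem_univ _) h

/-- Norm bound for `σ c - z` from the eigenvalues. -/
theorem norm_sub_smul_le (c : C) (z : ℂ) (r : ℝ) (hr : 0 ≤ r)
    (h : ∀ ψ : AddChar (Additive C) ℂ, proj σ ψ ≠ 0 → ‖ψ (Additive.ofMul c) - z‖ ≤ r) :
    ‖σ c - z • (1 : V →L[ℂ] V)‖ ≤ r := by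
  classical
  apply ContinuousLinearMap.opNorm_le_bound _ hr
  intro v
  have h0 : ∀ ψ : AddChar (Additive C) ℂ,
      proj σ ψ ((σ c - z • (1 : V →L[ℂ] V)) v) = (ψ (Additive.ofMul c) - z) • proj σ ψ v := by
    intro ψ
    have hcomm : proj σ ψ * σ c = σ c * proj σ ψ := by
      unfold proj
      rw [smul_mul_assoc, mul_smul_comm, Finset.sum_mul, Finset.mul_sum]
      congr 1
      apply Finset.sum_congr rfl
      intro b _
      rw [smul_mul_assoc, mul_smul_comm, ← map_mul, ← map_mul, mul_comm]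
    have h1 : proj σ ψ (σ c v) = σ c (proj σ ψ v) := by
      have := congrArg (fun f : V →L[ℂ] V => f v) hcomm
      simpa using this
    simp only [sub_apply, smul_apply,
      one_apply_eq_self, map_sub, map_smul, h1, map_proj_apply, sub_smul]
  have h2 : ‖(σ c - z • (1 : V →L[ℂ] V)) v‖ ^ 2 ≤ (r * ‖v‖) ^ 2 := by
    rw [norm_sq_eq_sum_proj σ hσ ((σ c - z • (1 : V →L[ℂ] V)) v), mul_pow,
      norm_sq_eq_sum_proj σ hσ v, Finset.mul_sum]
    apply Finset.sum_le_sum
    intro ψ _
    rw [h0 ψ, norm_smul, mul_pow]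
    by_cases hψ : proj σ ψ = 0
    · simp [hψ]
    · have := h ψ hψ
      gcongr
  exact abs_le_of_sq_le_sq' h2 (mul_nonneg hr (norm_nonneg _)) |>.2

/-- The number of characters with non-zero projection is at most the dimension. -/
theorem card_proj_ne_zero_le [FiniteDimensional ℂ V] :
    Nat.card {ψ : AddChar (Additive C) ℂ // proj σ ψ ≠ 0} ≤ Module.finrank ℂ V := by
  classical
  haveI : Fintype {ψ : AddChar (Additive C) ℂ // proj σ ψ ≠ 0} := Fintype.ofFinite _
  rw [Nat.card_eq_fintype_card]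
  have hex : ∀ ψ : {ψ : AddChar (Additive C) ℂ // proj σ ψ ≠ 0}, ∃ v : V, proj σ ψ.1 v ≠ 0 := by
    intro ψ
    by_contra hcon
    push Not at hcon
    exact ψ.2 (ContinuousLinearMap.ext (fun v => by simpa using hcon v))
  choose w hw using hex
  have hli : LinearIndependent ℂ (fun ψ : {ψ : AddChar (Additive C) ℂ // proj σ ψ ≠ 0} =>
      proj σ ψ.1 (w ψ)) := by
    apply linearIndependent_of_ne_zero_of_inner_eq_zero hw
    intro ψ φ hne
    exact inner_proj_proj σ hσ (fun h => hne (Subtype.ext h)) _ _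
  exact hli.fintype_card_le_finrank

end Spectral

end Cfsg.Agent.Lib.Helper79.Jordan
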