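import Cfsg.Agent.Lib.Helper79.Jordan2

/-!
# Jordan–Frobenius lemma, part 3: the commuting set of elements close to the identity
-/

set_option autoImplicit false
set_option linter.unusedSectionVars false
set_option linter.style.haveILetI false

namespace Cfsg.Agent.Lib.Helper79.Jordan

open scoped ComplexConjugate InnerProductSpace commutatorElement

variable {V : Type*} [NormedAddCommGroup V] [InnerProductSpace ℂ V]

/-- The commutative group structure on a subgroup whose elements commute. -/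
@[reducible] def commGroupOfComm {G : Type*} [Group G] (B : Subgroup G)
    (hB : ∀ a ∈ B, ∀ b ∈ B, a * b = b * a) : CommGroup B :=
  { (inferInstance : Group B) with
    mul_comm := fun a b => Subtype.ext (hB a a.2 b b.2) }

section Rep

variable {G : Type*} [Group G] [Finite G] (ρ : G →* (V →L[ℂ] V))
  (hiso : ∀ g v, ‖ρ g v‖ = ‖v‖) (hinj : ∀ g, ρ g = 1 → g = 1)

include hiso hinj

/-- Frobenius' lemma: if `y` commutes with its conjugate `x y x⁻¹` and `ρ x` is close to the
identity, then `x` and `y` commute. -/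
theorem eq_of_commute_conj (x y : G) (hx : ‖ρ x - 1‖ < 1)
    (hc : y * (x * y * x⁻¹) = (x * y * x⁻¹) * y) : x * y * x⁻¹ = y := by
  classical
  set w := x * y * x⁻¹ with hw
  let B : Subgroup G := Subgroup.closure {y, w}
  have hB : ∀ a ∈ B, ∀ b ∈ B, a * b = b * a := by
    have hS : ({y, w} : Set G) ⊆ Subgroup.centralizer ({y, w} : Set G) := by
      intro a ha
      rw [SetLike.mem_coe, Subgroup.mem_centralizer_iff]
      intro b hb
      rcases ha with rfl | ha <;> rcases hb with rfl | hb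
      · rfl
      · rw [Set.mem_singleton_iff] at hb; rw [hb]; exact hc.symm
      · rw [Set.mem_singleton_iff] at ha; rw [ha]; exact hc
      · rw [Set.mem_singleton_iff] at ha hb; rw [ha, hb]
    have h1 : B ≤ Subgroup.centralizer (B : Set G) := by
      rw [Subgroup.centralizer_closure]
      exact (Subgroup.closure_le _).2 hS
    intro a ha b hb
    exact (Subgroup.mem_centralizer_iff.1 (h1 hb)) a ha
  letI : CommGroup B := commGroupOfComm B hB
  haveI : Fintype B := Fintype.ofFinite B
  let σ : B →* (V →L[ℂ] V) := ρ.comp B.subtype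
  have hσ : ∀ c v, ‖σ c v‖ = ‖v‖ := fun c v => hiso c v
  let yB : B := ⟨y, Subgroup.subset_closure (by simp)⟩
  let wB : B := ⟨w, Subgroup.subset_closure (by simp)⟩
  have hρ : ρ y = ρ w := by
    apply ContinuousLinearMap.ext
    intro v
    have h1 : v = ∑ ψ : AddChar (Additive B) ℂ, proj σ ψ v := by
      have := congrArg (fun f : V →L[ℂ] V => f v) (sum_proj σ)
      simp only [sum_apply, one_apply_eq_self] at this
      exact this.symm
    rw [h1, map_sum, map_sum]
    apply Finset.sum_congr rfl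
    intro ψ _
    set u := proj σ ψ v with hu
    have hy : ρ y u = ψ (Additive.ofMul yB) • u := map_proj_apply σ yB ψ v
    have hw' : ρ w u = ψ (Additive.ofMul wB) • u := map_proj_apply σ wB ψ v
    by_cases hu0 : u = 0
    · rw [hu0, map_zero, map_zero]
    by_cases hne : ψ (Additive.ofMul yB) = ψ (Additive.ofMul wB)
    · rw [hy, hw', hne]
    exfalso
    set u' := ρ x⁻¹ u with hu'
    have h2 : ρ y u' = ψ (Additive.ofMul wB) • u' := by
      have e1 : y * x⁻¹ = x⁻¹ * w := by rw [hw]; group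
      calc ρ y u' = (ρ y * ρ x⁻¹) u := rfl
        _ = (ρ x⁻¹ * ρ w) u := by rw [← map_mul, e1, map_mul]
        _ = ρ x⁻¹ (ρ w u) := rfl
        _ = ψ (Additive.ofMul wB) • u' := by rw [hw', map_smul]
    have h3 : ⟪u, u'⟫_ℂ = 0 :=
      inner_eq_zero_of_eigen ρ hiso y u u' _ _ (AddChar.norm_apply ψ _) hne hy h2
    have h4 : ⟪u, u'⟫_ℂ = conj ⟪u, ρ x u⟫_ℂ := by
      have e2 : ρ x u' = u := by
        calc ρ x u' = (ρ x * ρ x⁻¹) u := rfl
          _ = u := by rw [← map_mul, mul_inv_cancel, map_one]; rfl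
      rw [← inner_map_map ρ hiso x u u', e2, inner_conj_symm]
    have h5 := inner_apply_ne_zero ρ hiso x hx u hu0
    rw [h4] at h3
    exact h5 ((map_eq_zero _).1 h3)
  have h6 : ρ (w * y⁻¹) = 1 := by
    rw [map_mul, ← hρ, ← map_mul, mul_inv_cancel, map_one]
  have := hinj _ h6
  exact mul_inv_eq_one.1 this

/-- The descent: an element `y` with `‖ρ y - c‖ < 1/2` commutes with every `x` with
`‖ρ x - 1‖ < 1`. -/
theorem commute_of_close (c : ℂ) (y : G) (hy : ‖ρ y - c • (1 : V →L[ℂ] V)‖ < 1 / 2) :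
    ∀ x : G, ‖ρ x - 1‖ < 1 → x * y = y * x := by
  suffices H : ∀ n : ℕ, ∀ x : G, Set.ncard {g : G | ‖ρ g - 1‖ < ‖ρ x - 1‖} = n →
      ‖ρ x - 1‖ < 1 → x * y = y * x from fun x => H _ x rfl
  intro n
  induction n using Nat.strong_induction_on with
  | _ n ih =>
    intro x hn hx
    by_cases hx1 : x = 1
    · simp [hx1]
    have hpos : 0 < ‖ρ x - 1‖ := norm_pos_iff.2 (sub_ne_zero.2 (fun h => hx1 (hinj x h)))
    set x' := ⁅x, y⁆ with hx'
    have hlt : ‖ρ x' - 1‖ < ‖ρ x - 1‖ := by
      calc ‖ρ x' - 1‖ ≤ 2 * ‖ρ x - 1‖ * ‖ρ y - c • (1 : V →L[ℂ] V)‖ :=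
            norm_commutator_sub_one_le ρ hiso x y c
        _ < 2 * ‖ρ x - 1‖ * (1 / 2) := by gcongr
        _ = ‖ρ x - 1‖ := by ring
    have hcard : Set.ncard {g : G | ‖ρ g - 1‖ < ‖ρ x' - 1‖} < n := by
      rw [← hn]
      apply Set.ncard_lt_ncard _ (Set.toFinite _)
      refine ⟨fun g hg => lt_trans hg hlt, fun hsub => ?_⟩
      have : ‖ρ x' - 1‖ < ‖ρ x' - 1‖ := hsub hlt
      exact lt_irrefl _ this
    have hcomm' : x' * y = y * x' := ih _ hcard x' rfl (hlt.trans hx)
    have hw : x * y * x⁻¹ = x' * y := by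
      rw [hx', commutatorElement_def]; group
    have hc : y * (x * y * x⁻¹) = (x * y * x⁻¹) * y := by
      rw [hw, ← mul_assoc, ← hcomm', mul_assoc]
    have h := eq_of_commute_conj ρ hiso hinj x y hx hc
    calc x * y = (x * y * x⁻¹) * x := by group
      _ = y * x := by rw [h]

end Rep

end Cfsg.Agent.Lib.Helper79.Jordan
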