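import Cfsg.Agent.Lib.Helper79.Jordan3

/-!
# Jordan–Frobenius lemma, part 4: the abelian normal subgroup and the box count
-/

set_option autoImplicit false
set_option linter.unusedSectionVars false
set_option linter.style.haveILetI false

namespace Cfsg.Agent.Lib.Helper79.Jordan

open scoped ComplexConjugate InnerProductSpace commutatorElement

variable {V : Type*} [NormedAddCommGroup V] [InnerProductSpace ℂ V]

/-- The centre `√3/2` of the disc of radius `1/2` covering the arc of angle `±π/6`. -/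
noncomputable def c₀ : ℂ := ((Real.sqrt 3 / 2 : ℝ) : ℂ)

theorem one_lt_sqrt_three : (1 : ℝ) < Real.sqrt 3 := by
  rw [show (1 : ℝ) = Real.sqrt 1 by simp]
  exact Real.sqrt_lt_sqrt (by norm_num) (by norm_num)

theorem sqrt_three_lt_two : Real.sqrt 3 < 2 := by
  rw [show (2 : ℝ) = Real.sqrt 4 by
    rw [show (4 : ℝ) = 2 ^ 2 by norm_num, Real.sqrt_sq (by norm_num)]]
  exact Real.sqrt_lt_sqrt (by norm_num) (by norm_num)

theorem norm_c₀_sub_one : ‖c₀ - 1‖ < 1 / 2 := by
  have h : c₀ - 1 = ((Real.sqrt 3 / 2 - 1 : ℝ) : ℂ) := by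
    unfold c₀; push_cast; ring
  rw [h, Complex.norm_real, Real.norm_eq_abs, abs_lt]
  constructor <;> linarith [one_lt_sqrt_three, sqrt_three_lt_two]

/-- The arc index (one of twelve arcs of angle `π/6`) of a complex number. -/
noncomputable def arcIdx (z : ℂ) : Fin 12 :=
  ⟨⌈(Complex.arg z + Real.pi) * 6 / Real.pi⌉₊ - 1, by
    have h1 : (Complex.arg z + Real.pi) * 6 / Real.pi ≤ 12 := by
      rw [div_le_iff₀ Real.pi_pos]
      nlinarith [Complex.arg_le_pi z, Real.pi_pos]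
    have h2 : ⌈(Complex.arg z + Real.pi) * 6 / Real.pi⌉₊ ≤ 12 := by
      apply Nat.ceil_le.2
      exact_mod_cast h1
    omega⟩

theorem abs_arg_sub_lt {z z' : ℂ} (h : arcIdx z = arcIdx z') :
    |Complex.arg z' - Complex.arg z| < Real.pi / 6 := by
  have hpos : ∀ w : ℂ, 0 < (Complex.arg w + Real.pi) * 6 / Real.pi := by
    intro w
    apply div_pos _ Real.pi_pos
    nlinarith [Complex.neg_pi_lt_arg w]
  have hk : ∀ w : ℂ, 1 ≤ ⌈(Complex.arg w + Real.pi) * 6 / Real.pi⌉₊ := by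
    intro w
    exact Nat.one_le_iff_ne_zero.2 (fun h0 => by
      have := Nat.ceil_eq_zero.1 h0
      linarith [hpos w])
  have h1 : ⌈(Complex.arg z + Real.pi) * 6 / Real.pi⌉₊ = ⌈(Complex.arg z' + Real.pi) * 6 / Real.pi⌉₊ := by
    have := congrArg Fin.val h
    simp only [arcIdx] at this
    have := hk z
    have := hk z'
    omega
  set t := (Complex.arg z + Real.pi) * 6 / Real.pi with ht
  set t' := (Complex.arg z' + Real.pi) * 6 / Real.pi with ht'
  have a1 : t ≤ (⌈t⌉₊ : ℝ) := Nat.le_ceil t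
  have a2 : (⌈t⌉₊ : ℝ) < t + 1 := Nat.ceil_lt_add_one (hpos z).le
  have b1 : t' ≤ (⌈t'⌉₊ : ℝ) := Nat.le_ceil t'
  have b2 : (⌈t'⌉₊ : ℝ) < t' + 1 := Nat.ceil_lt_add_one (hpos z').le
  rw [h1] at a1 a2
  have h2 : |t' - t| < 1 := by
    rw [abs_lt]; constructor <;> linarith
  have h3 : t' - t = (Complex.arg z' - Complex.arg z) * (6 / Real.pi) := by
    rw [ht, ht']; field_simp; ring
  rw [h3, abs_mul, abs_of_pos (div_pos (by norm_num : (0:ℝ) < 6) Real.pi_pos)] at h2
  have h4 : |Complex.arg z' - Complex.arg z| < 1 / (6 / Real.pi) := by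
    rw [lt_div_iff₀ (div_pos (by norm_num : (0:ℝ) < 6) Real.pi_pos)]
    exact h2
  have h5 : (1 : ℝ) / (6 / Real.pi) = Real.pi / 6 := by
    field_simp
  rwa [h5] at h4

/-- Two unit complex numbers in the same arc have a quotient within `1/2` of `c₀`. -/
theorem norm_mul_conj_sub_lt {z z' : ℂ} (hz : ‖z‖ = 1) (hz' : ‖z'‖ = 1)
    (h : arcIdx z = arcIdx z') : ‖conj z * z' - c₀‖ < 1 / 2 := by
  have hφ := abs_arg_sub_lt h
  set φ := Complex.arg z' - Complex.arg z with hφdef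
  have e1 : z = Complex.exp (Complex.arg z * Complex.I) := by
    have := Complex.norm_mul_exp_arg_mul_I z
    rw [hz] at this
    simpa using this.symm
  have e2 : z' = Complex.exp (Complex.arg z' * Complex.I) := by
    have := Complex.norm_mul_exp_arg_mul_I z'
    rw [hz'] at this
    simpa using this.symm
  have e3 : conj z * z' = Complex.exp ((φ : ℝ) * Complex.I) := by
    conv_lhs => rw [e1, e2]
    rw [← Complex.exp_conj, ← Complex.exp_add]
    congr 1
    rw [map_mul, Complex.conj_ofReal, Complex.conj_I, hφdef]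
    push_cast
    ring
  have hcos : Real.sqrt 3 / 2 < Real.cos φ := by
    rw [← Real.cos_pi_div_six, ← Real.cos_abs φ]
    apply Real.cos_lt_cos_of_nonneg_of_le_pi (abs_nonneg _) _ hφ
    linarith [Real.pi_pos]
  have hsq : Real.sqrt 3 ^ 2 = 3 := Real.sq_sqrt (by norm_num)
  have hnorm : ‖conj z * z' - c₀‖ ^ 2 < (1 / 2) ^ 2 := by
    rw [e3, Complex.sq_norm, Complex.normSq_apply]
    simp only [c₀, Complex.sub_re, Complex.sub_im, Complex.exp_ofReal_mul_I_re,
      Complex.exp_ofReal_mul_I_im, Complex.ofReal_re, Complex.ofReal_im, sub_zero]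
    have := Real.sin_sq_add_cos_sq φ
    nlinarith [one_lt_sqrt_three]
  exact lt_of_pow_lt_pow_left₀ 2 (by norm_num) hnorm

theorem exists_uniform_bound {ι : Type*} [Finite ι] (a : ι → ℝ) (b : ℝ) (hb : 0 < b)
    (h : ∀ i, a i < b) : ∃ r : ℝ, 0 ≤ r ∧ r < b ∧ ∀ i, a i ≤ r := by
  rcases isEmpty_or_nonempty ι with hι | hι
  · exact ⟨0, le_rfl, hb, fun i => (hι.false i).elim⟩
  · obtain ⟨i₀, hi₀⟩ := Finite.exists_max a
    exact ⟨max (a i₀) 0, le_max_right _ _, max_lt (h i₀) hb, fun i => (hi₀ i).trans (le_max_left _ _)⟩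

section Rep

variable {G : Type*} [Group G] [Finite G] (ρ : G →* (V →L[ℂ] V))

/-- The set of group elements acting within `1/2` of `c₀ = √3/2`. -/
def nearSet : Set G := {g | ‖ρ g - c₀ • (1 : V →L[ℂ] V)‖ < 1 / 2}

theorem norm_sub_one_lt_of_mem_nearSet {g : G} (hg : g ∈ nearSet ρ) : ‖ρ g - 1‖ < 1 := by
  have h1 : ρ g - 1 = (ρ g - c₀ • (1 : V →L[ℂ] V)) + (c₀ - 1) • (1 : V →L[ℂ] V) := by
    rw [sub_smul, one_smul]; abel
  have h2 : ‖(c₀ - 1) • (1 : V →L[ℂ] V)‖ ≤ ‖c₀ - 1‖ := by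
    rw [norm_smul]
    calc ‖c₀ - 1‖ * ‖(1 : V →L[ℂ] V)‖ ≤ ‖c₀ - 1‖ * 1 := by
          gcongr
          exact ContinuousLinearMap.norm_id_le
      _ = ‖c₀ - 1‖ := mul_one _
  have h3 : ‖ρ g - c₀ • (1 : V →L[ℂ] V)‖ < 1 / 2 := hg
  calc ‖ρ g - 1‖ = ‖(ρ g - c₀ • (1 : V →L[ℂ] V)) + (c₀ - 1) • (1 : V →L[ℂ] V)‖ := by rw [h1]
    _ ≤ ‖ρ g - c₀ • (1 : V →L[ℂ] V)‖ + ‖(c₀ - 1) • (1 : V →L[ℂ] V)‖ := norm_add_le _ _
    _ < 1 / 2 + 1 / 2 := add_lt_add_of_lt_of_le h3 (h2.trans norm_c₀_sub_one.le)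
    _ = 1 := by norm_num

variable (hiso : ∀ g v, ‖ρ g v‖ = ‖v‖) (hinj : ∀ g, ρ g = 1 → g = 1)

include hiso hinj

theorem nearSet_commute {x y : G} (hx : x ∈ nearSet ρ) (hy : y ∈ nearSet ρ) : x * y = y * x :=
  commute_of_close ρ hiso hinj c₀ y hy x (norm_sub_one_lt_of_mem_nearSet ρ hx)

omit hinj in
theorem conj_mem_nearSet {x : G} (hx : x ∈ nearSet ρ) (g : G) : g * x * g⁻¹ ∈ nearSet ρ := by
  show ‖ρ (g * x * g⁻¹) - c₀ • (1 : V →L[ℂ] V)‖ < 1 / 2
  rw [norm_conj_sub ρ hiso]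
  exact hx

theorem closure_nearSet_comm :
    ∀ a ∈ Subgroup.closure (nearSet ρ), ∀ b ∈ Subgroup.closure (nearSet ρ), a * b = b * a := by
  have hS : nearSet ρ ⊆ Subgroup.centralizer (nearSet ρ) := by
    intro a ha
    rw [SetLike.mem_coe, Subgroup.mem_centralizer_iff]
    intro b hb
    exact nearSet_commute ρ hiso hinj hb ha
  have h1 : Subgroup.closure (nearSet ρ) ≤
      Subgroup.centralizer (Subgroup.closure (nearSet ρ) : Set G) := by
    rw [Subgroup.centralizer_closure]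
    exact (Subgroup.closure_le _).2 hS
  intro a ha b hb
  exact (Subgroup.mem_centralizer_iff.1 (h1 hb)) a ha

omit hinj in
theorem closure_nearSet_normal : (Subgroup.closure (nearSet ρ)).Normal := by
  constructor
  intro n hn g
  induction hn using Subgroup.closure_induction with
  | mem x hx => exact Subgroup.subset_closure (conj_mem_nearSet ρ hiso hx g)
  | one => simp
  | mul x y _ _ hx hy =>
    have : g * (x * y) * g⁻¹ = (g * x * g⁻¹) * (g * y * g⁻¹) := by group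
    rw [this]
    exact Subgroup.mul_mem _ hx hy
  | inv x _ hx =>
    have : g * x⁻¹ * g⁻¹ = (g * x * g⁻¹)⁻¹ := by group
    rw [this]
    exact Subgroup.inv_mem _ hx

omit hinj in
/-- The box count: an abelian subgroup meets the closure of the near set in a subgroup of index
at most `12 ^ dim V`. -/
theorem index_subgroupOf_le [FiniteDimensional ℂ V] (H : Subgroup G)
    (hH : ∀ x ∈ H, ∀ y ∈ H, x * y = y * x) :
    ((Subgroup.closure (nearSet ρ)).subgroupOf H).index ≤ 12 ^ Module.finrank ℂ V := by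
  classical
  letI : CommGroup H := commGroupOfComm H hH
  haveI : Fintype H := Fintype.ofFinite H
  let σ : H →* (V →L[ℂ] V) := ρ.comp H.subtype
  have hσ : ∀ c v, ‖σ c v‖ = ‖v‖ := fun c v => hiso c v
  let Λ := {ψ : AddChar (Additive H) ℂ // proj σ ψ ≠ 0}
  haveI : Finite Λ := inferInstance
  let f : H → (Λ → Fin 12) := fun h ψ => arcIdx (ψ.1 (Additive.ofMul h))
  have key : ∀ h h' : H, f h = f h' → h⁻¹ * h' ∈ (Subgroup.closure (nearSet ρ)).subgroupOf H := by
    intro h h' hff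
    rw [Subgroup.mem_subgroupOf]
    apply Subgroup.subset_closure
    show ‖ρ ((h⁻¹ * h' : H) : G) - c₀ • (1 : V →L[ℂ] V)‖ < 1 / 2
    have hval : ∀ ψ : Λ, ‖ψ.1 (Additive.ofMul (h⁻¹ * h')) - c₀‖ < 1 / 2 := by
      intro ψ
      have e : ψ.1 (Additive.ofMul (h⁻¹ * h'))
          = conj (ψ.1 (Additive.ofMul h)) * ψ.1 (Additive.ofMul h') := by
        rw [ofMul_mul, AddChar.map_add_eq_mul, ofMul_inv, AddChar.map_neg_eq_conj]
      rw [e]
      exact norm_mul_conj_sub_lt (AddChar.norm_apply _ _) (AddChar.norm_apply _ _)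
        (congrFun hff ψ)
    obtain ⟨r, hr0, hr, hle⟩ := exists_uniform_bound
      (fun ψ : Λ => ‖ψ.1 (Additive.ofMul (h⁻¹ * h')) - c₀‖) (1 / 2) (by norm_num) hval
    have := norm_sub_smul_le σ hσ (h⁻¹ * h') c₀ r hr0 (fun ψ hψ => hle ⟨ψ, hψ⟩)
    exact lt_of_le_of_lt this hr
  have hinj' : Function.Injective
      (fun q : H ⧸ (Subgroup.closure (nearSet ρ)).subgroupOf H => f q.out) := by
    intro q q' hqq
    have := key _ _ hqq
    rw [← QuotientGroup.out_eq' q, ← QuotientGroup.out_eq' q']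
    exact QuotientGroup.eq.2 this
  have h1 := Nat.card_le_card_of_injective _ hinj'
  rw [Nat.card_fun, Nat.card_fin] at h1
  rw [Subgroup.index_eq_card]
  exact h1.trans (Nat.pow_le_pow_right (by norm_num) (card_proj_ne_zero_le σ hσ))

/-- The abstract Jordan–Frobenius lemma. -/
theorem jordan_abstract [FiniteDimensional ℂ V] :
    ∃ A : Subgroup G, A.Normal ∧ (∀ x ∈ A, ∀ y ∈ A, x * y = y * x) ∧
      ∀ H : Subgroup G, (∀ x ∈ H, ∀ y ∈ H, x * y = y * x) →
        (A.subgroupOf H).index ≤ 12 ^ Module.finrank ℂ V :=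
  ⟨Subgroup.closure (nearSet ρ), closure_nearSet_normal ρ hiso,
    closure_nearSet_comm ρ hiso hinj, fun H hH => index_subgroupOf_le ρ hiso H hH⟩

end Rep

end Cfsg.Agent.Lib.Helper79.Jordan
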