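import Mathlib
import Cfsg.Prelude.Def_Characters
import Cfsg.Prelude.Def_Blocks
import Cfsg.Agent.Lib.Helper79.Jordan4

/-!
# Jordan–Frobenius lemma, part 5: the invariant inner product and the final statement
-/

set_option autoImplicit false
set_option linter.unusedSectionVars false
set_option linter.style.haveILetI false

namespace Cfsg.Agent.Lib.Helper79.Jordan

open scoped ComplexConjugate InnerProductSpace commutatorElement
open Cfsg

/-- A copy of `Fin n → ℂ` that will carry the `G`-invariant inner product of `ρ`. -/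
def WV {G : Type*} [Group G] {n : ℕ} (_ρ : Representation ℂ G (Fin n → ℂ)) : Type := Fin n → ℂ

section

variable {G : Type*} [Group G] {n : ℕ} (ρ : Representation ℂ G (Fin n → ℂ))

instance : AddCommGroup (WV ρ) := inferInstanceAs (AddCommGroup (Fin n → ℂ))
instance : Module ℂ (WV ρ) := inferInstanceAs (Module ℂ (Fin n → ℂ))
instance : FiniteDimensional ℂ (WV ρ) := inferInstanceAs (FiniteDimensional ℂ (Fin n → ℂ))

theorem finrank_WV : Module.finrank ℂ (WV ρ) = n := by
  show Module.finrank ℂ (Fin n → ℂ) = n
  simp

/-- The action of `g` on `WV ρ` as a linear map. -/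
def act (g : G) : WV ρ →ₗ[ℂ] WV ρ := ρ g

theorem act_one : act ρ 1 = LinearMap.id := by
  unfold act; rw [map_one]; rfl

theorem act_mul (g h : G) : act ρ (g * h) = (act ρ g).comp (act ρ h) := by
  unfold act; rw [map_mul]; rfl

variable [Fintype G]

/-- The invariant Hermitian form. -/
noncomputable def form (u v : WV ρ) : ℂ :=
  ∑ g : G, ∑ i : Fin n, conj ((act ρ g u : Fin n → ℂ) i) * (act ρ g v : Fin n → ℂ) i

theorem form_act (h : G) (u v : WV ρ) : form ρ (act ρ h u) (act ρ h v) = form ρ u v := by
  unfold form
  rw [← Fintype.sum_equiv (Equiv.mulRight h)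
    (fun g => ∑ i : Fin n, conj ((act ρ (g * h) u : Fin n → ℂ) i) * (act ρ (g * h) v : Fin n → ℂ) i)
    (fun g => ∑ i : Fin n, conj ((act ρ g u : Fin n → ℂ) i) * (act ρ g v : Fin n → ℂ) i)
    (fun g => rfl)]
  apply Finset.sum_congr rfl
  intro g _
  rw [act_mul]
  rfl

@[instance_reducible]
noncomputable def core : InnerProductSpace.Core ℂ (WV ρ) where
  inner u v := form ρ u v
  conj_inner_symm u v := by
    show conj (form ρ v u) = form ρ u v
    unfold form
    rw [map_sum]
    apply Finset.sum_congr rfl
    intro g _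
    rw [map_sum]
    apply Finset.sum_congr rfl
    intro i _
    rw [map_mul, Complex.conj_conj, mul_comm]
  re_inner_nonneg u := by
    show 0 ≤ (form ρ u u).re
    unfold form
    rw [Complex.re_sum]
    apply Finset.sum_nonneg
    intro g _
    rw [Complex.re_sum]
    apply Finset.sum_nonneg
    intro i _
    rw [mul_comm, Complex.mul_conj]
    exact_mod_cast Complex.normSq_nonneg _
  add_left u v w := by
    show form ρ (u + v) w = form ρ u w + form ρ v w
    unfold form
    rw [← Finset.sum_add_distrib]
    apply Finset.sum_congr rfl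
    intro g _
    rw [← Finset.sum_add_distrib]
    apply Finset.sum_congr rfl
    intro i _
    rw [map_add]
    show conj ((act ρ g u : Fin n → ℂ) i + (act ρ g v : Fin n → ℂ) i) * _ = _
    rw [map_add, add_mul]
  smul_left u v r := by
    show form ρ (r • u) v = conj r * form ρ u v
    unfold form
    rw [Finset.mul_sum]
    apply Finset.sum_congr rfl
    intro g _
    rw [Finset.mul_sum]
    apply Finset.sum_congr rfl
    intro i _
    rw [map_smul]
    show conj (r * (act ρ g u : Fin n → ℂ) i) * _ = _
    rw [map_mul, mul_assoc]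
  definite u hu := by
    have hu' : form ρ u u = 0 := hu
    unfold form at hu'
    have h1 := congrArg Complex.re hu'
    rw [Complex.re_sum, Complex.zero_re] at h1
    have hnn : ∀ g : G, 0 ≤ (∑ i : Fin n, conj ((act ρ g u : Fin n → ℂ) i) *
        (act ρ g u : Fin n → ℂ) i).re := by
      intro g
      rw [Complex.re_sum]
      apply Finset.sum_nonneg
      intro i _
      rw [mul_comm, Complex.mul_conj]
      exact_mod_cast Complex.normSq_nonneg _
    have h2 := (Finset.sum_eq_zero_iff_of_nonneg (fun g _ => hnn g)).1 h1 1 (Finset.mem_univ _)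
    rw [Complex.re_sum] at h2
    have h3 := (Finset.sum_eq_zero_iff_of_nonneg (fun i _ => by
      rw [mul_comm, Complex.mul_conj]
      exact_mod_cast Complex.normSq_nonneg _)).1 h2
    funext i
    have h4 := h3 i (Finset.mem_univ _)
    rw [mul_comm, Complex.mul_conj] at h4
    have h5 : Complex.normSq ((act ρ 1 u : Fin n → ℂ) i) = 0 := by exact_mod_cast h4
    rw [act_one] at h5
    exact Complex.normSq_eq_zero.1 h5

noncomputable instance : NormedAddCommGroup (WV ρ) :=
  @InnerProductSpace.Core.toNormedAddCommGroup ℂ (WV ρ) _ _ _ (core ρ)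

noncomputable instance : InnerProductSpace ℂ (WV ρ) :=
  InnerProductSpace.ofCore (core ρ).toCore

theorem inner_eq_form (u v : WV ρ) : ⟪u, v⟫_ℂ = form ρ u v := rfl

theorem norm_act (g : G) (v : WV ρ) : ‖act ρ g v‖ = ‖v‖ := by
  rw [norm_eq_sqrt_re_inner (𝕜 := ℂ), norm_eq_sqrt_re_inner (𝕜 := ℂ), inner_eq_form, inner_eq_form,
    form_act]

/-- The representation by continuous linear maps on `WV ρ`. -/
noncomputable def crep : G →* (WV ρ →L[ℂ] WV ρ) where
  toFun g := LinearMap.toContinuousLinearMap (act ρ g)
  map_one' := by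
    apply ContinuousLinearMap.ext
    intro v
    rw [LinearMap.coe_toContinuousLinearMap', act_one]
    rfl
  map_mul' g h := by
    apply ContinuousLinearMap.ext
    intro v
    rw [LinearMap.coe_toContinuousLinearMap', act_mul]
    rfl

theorem crep_apply (g : G) (v : WV ρ) : crep ρ g v = act ρ g v := rfl

end

/-- Jordan–Frobenius: a finite group with a faithful character of degree `n` has an abelian normal
subgroup `A` with `|H : H ∩ A| ≤ 12 ^ n` for every abelian subgroup `H`. -/
theorem jordan_frobenius {G : Type*} [Group G] [Finite G] (χ : G → ℂ) (hχ : IsCharacter G χ)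
    (hfaith : ∀ g : G, χ g = χ 1 → g = 1) (n : ℕ) (hn : charDegree χ = n) :
    ∃ A : Subgroup G, A.Normal ∧ (∀ x ∈ A, ∀ y ∈ A, x * y = y * x) ∧
      ∀ H : Subgroup G, (∀ x ∈ H, ∀ y ∈ H, x * y = y * x) → (A.subgroupOf H).index ≤ 12 ^ n := by
  classical
  haveI : Fintype G := Fintype.ofFinite G
  obtain ⟨m, ρ, hρ⟩ := hχ
  have hm : m = n := by
    rw [← hn, ← hρ]
    unfold charDegree
    rw [Representation.character, map_one]
    have : LinearMap.trace ℂ (Fin m → ℂ) 1 = (m : ℂ) := by
      rw [LinearMap.trace_one]; simp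
    rw [this]; simp
  subst hm
  have hiso : ∀ g v, ‖crep ρ g v‖ = ‖v‖ := fun g v => norm_act ρ g v
  have hinj : ∀ g, crep ρ g = 1 → g = 1 := by
    intro g hg
    apply hfaith
    rw [← hρ]
    have h1 : ρ g = ρ 1 := by
      rw [map_one]
      apply LinearMap.ext
      intro v
      have := congrArg (fun f : WV ρ →L[ℂ] WV ρ => f v) hg
      exact this
    show LinearMap.trace ℂ _ (ρ g) = LinearMap.trace ℂ _ (ρ 1)
    rw [h1]
  have := jordan_abstract (crep ρ) hiso hinj
  rwa [finrank_WV] at this

end Cfsg.Agent.Lib.Helper79.Jordan
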