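import Mathlib
import Cfsg.Agent.Lib.Helper75.GaloisNorm
import Cfsg.Agent.Lib.Helper75.GaloisCyc
import Cfsg.Agent.Lib.Helper75.BurnsideGallagher

set_option autoImplicit false
set_option linter.unusedSectionVars false
set_option linter.style.haveILetI false

/-!
Galois AM-GM: a finite family of nonzero elements of the ring generated by the `N`-th roots of
unity whose squared absolute values sum to a rational number `r` has at most `r` members.
-/

namespace Cfsg.Agent.Lib.Helper79.KN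

open scoped ComplexConjugate

/-- The subring of `ℂ` generated by the `N`-th roots of unity. -/
def rootRing (N : ℕ) : Subring ℂ := Subring.closure {μ : ℂ | μ ^ N = 1}

theorem root_mem_rootRing {N : ℕ} {μ : ℂ} (h : μ ^ N = 1) : μ ∈ rootRing N :=
  Subring.subset_closure h

theorem root_mem_rootRing_of_dvd {N k : ℕ} (hk : k ∣ N) {μ : ℂ} (h : μ ^ k = 1) : μ ∈ rootRing N := by
  apply root_mem_rootRing
  obtain ⟨m, rfl⟩ := hk
  rw [pow_mul, h, one_pow]

theorem rootRing_isIntegral {N : ℕ} (hN : 0 < N) {x : ℂ} (hx : x ∈ rootRing N) :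
    IsIntegral ℤ x := by
  have hle : rootRing N ≤ (integralClosure ℤ ℂ).toSubring := by
    apply Subring.closure_le.mpr
    intro μ hμ
    change IsIntegral ℤ μ
    refine ⟨Polynomial.X ^ N - 1, Polynomial.monic_X_pow_sub_C 1 hN.ne', ?_⟩
    have h1 : μ ^ N = 1 := hμ
    simp [h1]
  exact hle hx

theorem ringEquiv_eq_of_rootRing {N : ℕ} (τ τ' : ℂ ≃+* ℂ) (h : ∀ μ : ℂ, μ ^ N = 1 → τ μ = τ' μ)
    {x : ℂ} (hx : x ∈ rootRing N) : τ x = τ' x := by
  have := RingHom.eqOn_set_closure (f := τ.toRingHom) (g := τ'.toRingHom)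
    (s := {μ : ℂ | μ ^ N = 1}) (fun μ hμ => h μ hμ)
  exact this hx

theorem conj_root {N : ℕ} (hN : 0 < N) {μ : ℂ} (h : μ ^ N = 1) : conj μ = μ⁻¹ := by
  have h1 : ‖μ‖ = 1 := Complex.norm_eq_one_of_pow_eq_one h hN.ne'
  exact (Complex.inv_eq_conj h1).symm

theorem ringEquiv_conj_of_rootRing {N : ℕ} (hN : 0 < N) (τ : ℂ ≃+* ℂ) {x : ℂ}
    (hx : x ∈ rootRing N) : τ (conj x) = conj (τ x) := by
  have := RingHom.eqOn_set_closure (f := τ.toRingHom.comp (starRingEnd ℂ))
    (g := (starRingEnd ℂ).comp τ.toRingHom)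
    (s := {μ : ℂ | μ ^ N = 1}) (fun μ hμ => by
      have h1 : μ ^ N = 1 := hμ
      have h2 : (τ μ) ^ N = 1 := by rw [← map_pow, h1, map_one]
      change τ (conj μ) = conj (τ μ)
      rw [conj_root hN h1, conj_root hN h2, map_inv₀])
  exact this hx

theorem pow_mod_of_pow_eq_one {N : ℕ} {μ : ℂ} (h : μ ^ N = 1) (k : ℕ) : μ ^ (k % N) = μ ^ k := by
  conv_rhs => rw [← Nat.div_add_mod k N, pow_add, pow_mul, h, one_pow, one_mul]

/-- Galois AM-GM. -/
theorem galois_amgm {N : ℕ} (hN : 0 < N) {I : Type*} [Fintype I] (b : I → ℂ)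
    (hb : ∀ i, b i ∈ rootRing N) (hb0 : ∀ i, b i ≠ 0) (r : ℚ)
    (hr : ∑ i, b i * conj (b i) = (r : ℂ)) : (Fintype.card I : ℝ) ≤ (r : ℝ) := by
  classical
  haveI : NeZero N := ⟨hN.ne'⟩
  have hex : ∀ u : (ZMod N)ˣ, ∃ σ : ℂ ≃+* ℂ, ∀ μ : ℂ, μ ^ N = 1 → σ μ = μ ^ (u : ZMod N).val :=
    fun u => Cfsg.Agent.Lib.Helper75.exists_ringEquiv_pow_rootsOfUnity N (u : ZMod N).val hN
      (ZMod.val_coe_unit_coprime u)
  choose τ hτ using hex
  -- (1) the sum of squared absolute values is Galois invariant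
  have key1 : ∀ σ : ℂ ≃+* ℂ, ∑ i, Complex.normSq (σ (b i)) = (r : ℝ) := by
    intro σ
    have h1 : ∑ i, σ (b i) * conj (σ (b i)) = (r : ℂ) := by
      have h2 : ∑ i, σ (b i) * conj (σ (b i)) = σ (∑ i, b i * conj (b i)) := by
        rw [map_sum]
        apply Finset.sum_congr rfl
        intro i _
        rw [map_mul, ringEquiv_conj_of_rootRing hN σ (hb i)]
      rw [h2, hr, map_ratCast]
    have h3 : ((∑ i, Complex.normSq (σ (b i)) : ℝ) : ℂ) = (((r : ℝ)) : ℂ) := by
      rw [Complex.ofReal_sum]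
      simp only [← Complex.mul_conj]
      rw [h1]
      simp
    exact_mod_cast h3
  -- (2) each Galois orbit sum is at least φ(N)
  have key2 : ∀ i, (Fintype.card (ZMod N)ˣ : ℝ) ≤ ∑ u : (ZMod N)ˣ, Complex.normSq (τ u (b i)) := by
    intro i
    have h1 := Cfsg.Agent.Lib.Helper75.card_le_sum_of_one_le_prod
      (Finset.univ : Finset (ZMod N)ˣ) (fun u => Complex.normSq (τ u (b i)))
      (fun _ _ => Complex.normSq_nonneg _) ?_
    · simpa using h1
    · rw [← map_prod]
      set P : ℂ := ∏ u : (ZMod N)ˣ, τ u (b i) with hP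
      have hPint : IsIntegral ℤ P := by
        apply IsIntegral.prod
        intro u _
        exact map_isIntegral_int (τ u) (rootRing_isIntegral hN (hb i))
      have hPfix : ∀ σ : ℂ ≃+* ℂ, σ P = P := by
        intro σ
        obtain ⟨j, hj, hσ⟩ := Cfsg.Agent.Lib.Helper75.exists_pow_of_ringEquiv σ N hN
        let ju : (ZMod N)ˣ := ZMod.unitOfCoprime j hj
        rw [hP, map_prod]
        rw [← Equiv.prod_comp (Equiv.mulLeft ju) (fun u : (ZMod N)ˣ => τ u (b i))]
        apply Finset.prod_congr rfl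
        intro u _
        have h2 := ringEquiv_eq_of_rootRing (N := N) ((τ u).trans σ) (τ (ju * u)) ?_ (hb i)
        · simpa using h2
        · intro μ hμ
          have hμ' : (μ ^ (u : ZMod N).val) ^ N = 1 := by
            rw [← pow_mul, mul_comm, pow_mul, hμ, one_pow]
          rw [RingEquiv.trans_apply, hτ u μ hμ, map_pow, hσ μ hμ, hτ (ju * u) μ hμ, ← pow_mul,
            Units.val_mul, ZMod.val_mul, ZMod.coe_unitOfCoprime, ZMod.val_natCast,
            pow_mod_of_pow_eq_one hμ]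
          have : μ ^ (j % N * (u : ZMod N).val) = μ ^ (j * (u : ZMod N).val) := by
            rw [pow_mul, pow_mod_of_pow_eq_one hμ, ← pow_mul]
          exact this.symm
      obtain ⟨z, hz⟩ := Cfsg.Agent.Lib.Helper75.exists_int_eq_of_forall_ringEquiv_eq P hPint hPfix
      have hP0 : P ≠ 0 := by
        rw [hP, Finset.prod_ne_zero_iff]
        intro u _
        exact (map_ne_zero_iff (τ u) (τ u).injective).mpr (hb0 i)
      have hz0 : z ≠ 0 := by
        intro h0
        apply hP0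
        rw [← hz, h0, Int.cast_zero]
      rw [← hz]
      have h3 : Complex.normSq ((z : ℂ)) = (z : ℝ) * (z : ℝ) := by
        have : ((z : ℂ)) = (((z : ℝ)) : ℂ) := by push_cast; rfl
        rw [this, Complex.normSq_ofReal]
      rw [h3]
      have h4 : (1 : ℤ) ≤ z * z := by
        have := mul_self_pos.mpr hz0
        omega
      exact_mod_cast h4
  -- combine
  have hφ : (0 : ℝ) < Fintype.card (ZMod N)ˣ := by exact_mod_cast Fintype.card_pos
  have h1 : (Fintype.card I : ℝ) * Fintype.card (ZMod N)ˣ ≤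
      ∑ i, ∑ u : (ZMod N)ˣ, Complex.normSq (τ u (b i)) := by
    rw [← nsmul_eq_mul]
    have := Finset.card_nsmul_le_sum (Finset.univ : Finset I)
      (fun i => ∑ u : (ZMod N)ˣ, Complex.normSq (τ u (b i))) _ (fun i _ => key2 i)
    simpa using this
  rw [Finset.sum_comm] at h1
  simp only [key1] at h1
  rw [Finset.sum_const, Finset.card_univ, nsmul_eq_mul, mul_comm] at h1
  exact le_of_mul_le_mul_left h1 hφ

end Cfsg.Agent.Lib.Helper79.KN
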