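import Mathlib

set_option autoImplicit false
set_option linter.unusedSectionVars false
set_option linter.style.haveILetI false

/-!
Gauss-sum data attached to a finite module over the group algebra `𝔽_p[C]` of a finite abelian
`p'`-group `C`.
-/

namespace Cfsg.Agent.Lib.Helper79.KN

open scoped ComplexConjugate
open Classical

universe u

section Good

variable (p : ℕ) [Fact p.Prime] (C : Type u) [CommGroup C] [Finite C]

/-- Gauss data for a module over `𝔽_p[C]`. -/
def Good (M : Type u) [AddCommGroup M] [Module (MonoidAlgebra (ZMod p) C) M] : Prop :=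
  ∃ (J : Type u) (_ : Fintype J) (a : J → ℂ) (lam : J → C → ℂ),
    (∀ j, a j ^ p = 1) ∧ (∀ j, lam j 1 = 1) ∧
    (∀ j c c', lam j (c * c') = lam j c * lam j c') ∧
    (∀ c : C, Complex.normSq (∑ j, a j * lam j c) *
        (Nat.card {m : M // (MonoidAlgebra.of (ZMod p) C c) • m = m} : ℝ) = (Nat.card M : ℝ)) ∧
    (∀ c : C, ∑ j, lam j c =
      if (∀ m : M, (MonoidAlgebra.of (ZMod p) C c) • m = m) then (Fintype.card J : ℂ) else 0) ∧
    ¬ p ∣ Fintype.card J

variable {p C}

theorem good_of_subsingleton (M : Type u) [AddCommGroup M] [Module (MonoidAlgebra (ZMod p) C) M]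
    [Subsingleton M] : Good p C M := by
  refine ⟨PUnit, inferInstance, fun _ => 1, fun _ _ => 1, ?_, ?_, ?_, ?_, ?_, ?_⟩
  · intro j; simp
  · intro j; rfl
  · intro j c c'; simp
  · intro c
    have h1 : Nat.card M = 1 := Nat.card_unique
    haveI : Subsingleton {m : M // (MonoidAlgebra.of (ZMod p) C c) • m = m} := inferInstance
    haveI : Nonempty {m : M // (MonoidAlgebra.of (ZMod p) C c) • m = m} := ⟨⟨0, smul_zero _⟩⟩
    have h2 : Nat.card {m : M // (MonoidAlgebra.of (ZMod p) C c) • m = m} = 1 :=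
      Nat.card_eq_one_iff_unique.mpr ⟨inferInstance, inferInstance⟩
    rw [h1, h2]
    simp
  · intro c
    rw [if_pos (fun m : M => Subsingleton.elim _ _)]
    simp
  · have hp : p.Prime := Fact.out
    simp only [Fintype.card_punit]
    exact hp.one_lt.ne' ∘ Nat.dvd_one.mp

theorem good_congr {M M' : Type u} [AddCommGroup M] [Module (MonoidAlgebra (ZMod p) C) M]
    [AddCommGroup M'] [Module (MonoidAlgebra (ZMod p) C) M']
    (e : M ≃ₗ[MonoidAlgebra (ZMod p) C] M') (h : Good p C M) : Good p C M' := by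
  obtain ⟨J, hJ, a, lam, h1, h2, h3, h4, h5, h6⟩ := h
  refine ⟨J, hJ, a, lam, h1, h2, h3, ?_, ?_, h6⟩
  · intro c
    have hc : Nat.card {m : M' // (MonoidAlgebra.of (ZMod p) C c) • m = m} =
        Nat.card {m : M // (MonoidAlgebra.of (ZMod p) C c) • m = m} := by
      apply Nat.card_congr
      refine (Equiv.subtypeEquiv e.toEquiv ?_).symm
      intro m
      constructor
      · intro h
        change (MonoidAlgebra.of (ZMod p) C c) • e m = e m
        rw [← map_smul, h]
      · intro h
        change (MonoidAlgebra.of (ZMod p) C c) • e m = e m at h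
        rw [← map_smul] at h
        exact e.injective h
    rw [hc, ← Nat.card_congr e.toEquiv]
    exact h4 c
  · intro c
    rw [h5 c]
    have : (∀ m : M, (MonoidAlgebra.of (ZMod p) C c) • m = m) ↔
        (∀ m : M', (MonoidAlgebra.of (ZMod p) C c) • m = m) := by
      constructor
      · intro h m
        have := h (e.symm m)
        have h2 := congrArg e this
        rwa [map_smul, e.apply_symm_apply] at h2
      · intro h m
        have := h (e m)
        rw [← map_smul] at this
        exact e.injective this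
    simp only [this]

theorem good_prod {M₁ M₂ : Type u} [AddCommGroup M₁] [Module (MonoidAlgebra (ZMod p) C) M₁]
    [AddCommGroup M₂] [Module (MonoidAlgebra (ZMod p) C) M₂] [Finite M₁] [Finite M₂]
    (h₁ : Good p C M₁) (h₂ : Good p C M₂) : Good p C (M₁ × M₂) := by
  classical
  obtain ⟨J₁, hJ₁, a₁, lam₁, h11, h12, h13, h14, h15, h16⟩ := h₁
  obtain ⟨J₂, hJ₂, a₂, lam₂, h21, h22, h23, h24, h25, h26⟩ := h₂
  have hp : p.Prime := Fact.out
  refine ⟨J₁ × J₂, inferInstance, fun j => a₁ j.1 * a₂ j.2, fun j c => lam₁ j.1 c * lam₂ j.2 c,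
    ?_, ?_, ?_, ?_, ?_, ?_⟩
  · intro j
    rw [mul_pow, h11, h21, one_mul]
  · intro j
    simp only [h12, h22, one_mul]
  · intro j c c'
    simp only [h13, h23]
    ring
  · intro c
    have hsum : ∑ j : J₁ × J₂, a₁ j.1 * a₂ j.2 * (lam₁ j.1 c * lam₂ j.2 c) =
        (∑ j, a₁ j * lam₁ j c) * (∑ j, a₂ j * lam₂ j c) := by
      rw [Fintype.sum_prod_type, Finset.sum_mul_sum]
      apply Finset.sum_congr rfl
      intro i _
      apply Finset.sum_congr rfl
      intro j _
      ring
    have hfix : Nat.card {m : M₁ × M₂ // (MonoidAlgebra.of (ZMod p) C c) • m = m} =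
        Nat.card {m : M₁ // (MonoidAlgebra.of (ZMod p) C c) • m = m} *
          Nat.card {m : M₂ // (MonoidAlgebra.of (ZMod p) C c) • m = m} := by
      rw [← Nat.card_prod]
      apply Nat.card_congr
      refine ⟨fun x => (⟨x.1.1, ?_⟩, ⟨x.1.2, ?_⟩), fun y => ⟨(y.1.1, y.2.1), ?_⟩, ?_, ?_⟩
      · have := x.2
        exact congrArg Prod.fst this
      · have := x.2
        exact congrArg Prod.snd this
      · rw [Prod.smul_mk, y.1.2, y.2.2]
      · intro x; rfl
      · intro y; rfl
    rw [hsum, map_mul, hfix, Nat.card_prod]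
    push_cast
    rw [← h14 c, ← h24 c]
    ring
  · intro c
    have hsum : ∑ j : J₁ × J₂, lam₁ j.1 c * lam₂ j.2 c =
        (∑ j, lam₁ j c) * (∑ j, lam₂ j c) := by
      rw [Fintype.sum_prod_type, Finset.sum_mul_sum]
    rw [hsum, h15 c, h25 c]
    have hiff : (∀ m : M₁ × M₂, (MonoidAlgebra.of (ZMod p) C c) • m = m) ↔
        ((∀ m : M₁, (MonoidAlgebra.of (ZMod p) C c) • m = m) ∧
          (∀ m : M₂, (MonoidAlgebra.of (ZMod p) C c) • m = m)) := by
      constructor
      · intro h
        refine ⟨fun m => ?_, fun m => ?_⟩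
        · exact congrArg Prod.fst (h (m, 0))
        · exact congrArg Prod.snd (h (0, m))
      · rintro ⟨h1, h2⟩ ⟨m1, m2⟩
        rw [Prod.smul_mk, h1, h2]
    by_cases hc1 : ∀ m : M₁, (MonoidAlgebra.of (ZMod p) C c) • m = m
    · by_cases hc2 : ∀ m : M₂, (MonoidAlgebra.of (ZMod p) C c) • m = m
      · rw [if_pos hc1, if_pos hc2, if_pos (hiff.mpr ⟨hc1, hc2⟩), Fintype.card_prod]
        push_cast
        rfl
      · rw [if_neg hc2, if_neg (fun h => hc2 (hiff.mp h).2), mul_zero]
    · rw [if_neg hc1, if_neg (fun h => hc1 (hiff.mp h).1), zero_mul]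
  · rw [Fintype.card_prod]
    intro h
    rcases (Nat.Prime.dvd_mul hp).mp h with h | h
    · exact h16 h
    · exact h26 h

theorem sum_units_eq_sum {F : Type*} [Field F] [Fintype F] (f : F → ℂ) (hf : f 0 = 0) :
    ∑ x : Fˣ, f (x : F) = ∑ a : F, f a := by
  classical
  have h1 : ∑ a : F, f a = ∑ a ∈ Finset.univ.filter (fun a : F => a ≠ 0), f a := by
    rw [Finset.sum_filter]
    apply Finset.sum_congr rfl
    intro a _
    by_cases h : a = 0
    · simp [h, hf]
    · simp [h]
  rw [h1]
  refine Finset.sum_bij (fun (x : Fˣ) _ => (x : F)) ?_ ?_ ?_ ?_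
  · intro x _
    simp
  · intro x _ y _ h
    exact Units.ext h
  · intro a ha
    have ha' : a ≠ 0 := by simpa using ha
    exact ⟨Units.mk0 a ha', Finset.mem_univ _, rfl⟩
  · intro x _
    rfl

theorem gauss_field {F : Type u} [Field F] [Fintype F] (hpF : ((p : ℕ) : F) = 0) (κ0 : C →* F) :
    ∃ (J : Type u) (_ : Fintype J) (a : J → ℂ) (lam : J → C → ℂ),
      (∀ j, a j ^ p = 1) ∧ (∀ j, lam j 1 = 1) ∧
      (∀ j c c', lam j (c * c') = lam j c * lam j c') ∧
      (∀ c : C, Complex.normSq (∑ j, a j * lam j c) *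
          (Nat.card {m : F // κ0 c * m = m} : ℝ) = (Nat.card F : ℝ)) ∧
      (∀ c : C, ∑ j, lam j c =
        if (∀ m : F, κ0 c * m = m) then (Fintype.card J : ℂ) else 0) ∧
      ¬ p ∣ Fintype.card J := by
  have hp : p.Prime := Fact.out
  have hcardF : p ∣ Fintype.card F := by
    have h1 : addOrderOf (1 : F) ∣ p := by
      apply addOrderOf_dvd_of_nsmul_eq_zero
      rw [nsmul_eq_mul, hpF, zero_mul]
    rcases (Nat.dvd_prime hp).mp h1 with h2 | h2
    · rw [AddMonoid.addOrderOf_eq_one_iff] at h2
      exact absurd h2 one_ne_zero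
    · rw [← h2]
      exact addOrderOf_dvd_card
  have hunits : ¬ p ∣ Fintype.card Fˣ := by
    rw [Fintype.card_units]
    intro h
    have h1 : 0 < Fintype.card F := Fintype.card_pos
    have h2 : p ∣ Fintype.card F - (Fintype.card F - 1) := Nat.dvd_sub hcardF h
    have h3 : Fintype.card F - (Fintype.card F - 1) = 1 := by omega
    rw [h3] at h2
    exact hp.one_lt.ne' (Nat.dvd_one.mp h2)
  -- additive character
  obtain ⟨ψ, hψ1⟩ := (AddChar.exists_apply_ne_zero (α := F) (a := 1)).mpr one_ne_zero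
  have hψ : ψ ≠ 1 := by
    intro h
    apply hψ1
    rw [h]
    rfl
  have hψprim : ψ.IsPrimitive := AddChar.IsPrimitive.of_ne_one hψ
  have hψp : ∀ x : F, ψ x ^ p = 1 := by
    intro x
    rw [← AddChar.map_nsmul_eq_pow, nsmul_eq_mul, hpF, zero_mul, AddChar.map_zero_eq_one]
  -- multiplicative characters
  haveI : NeZero ((Monoid.exponent Fˣ : ℕ) : ℂ) :=
    ⟨Nat.cast_ne_zero.mpr Monoid.exponent_ne_zero_of_finite⟩
  obtain ⟨e⟩ := MulChar.mulEquiv_units F ℂ
  let κ : C →* Fˣ := κ0.toHomUnits
  have hκ : ∀ c : C, ((κ c : Fˣ) : F) = κ0 c := fun c => rfl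
  have hfixall : ∀ c : C, (∀ m : F, κ0 c * m = m) ↔ κ c = 1 := by
    intro c
    constructor
    · intro h
      have := h 1
      rw [mul_one] at this
      exact Units.ext this
    · intro h m
      rw [← hκ, h, Units.val_one, one_mul]
  let χ : C → MulChar F ℂ := fun c => e.symm (κ c)
  have hχ1 : ∀ c, χ c = 1 ↔ κ c = 1 := by
    intro c
    constructor
    · intro h
      have : e.symm (κ c) = e.symm 1 := by rw [map_one]; exact h
      exact e.symm.injective this
    · intro h
      change e.symm (κ c) = 1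
      rw [h, map_one]
  have hDgauss : ∀ c : C, ∑ x : Fˣ, ψ (x : F) * (χ c) (x : F) = gaussSum (χ c) ψ := by
    intro c
    rw [sum_units_eq_sum (fun a : F => ψ a * (χ c) a)
      (by simp only [MulChar.map_nonunit (χ c) not_isUnit_zero, mul_zero])]
    unfold gaussSum
    apply Finset.sum_congr rfl
    intro a _
    ring
  refine ⟨Fˣ, inferInstance, fun x => ψ (x : F), fun x c => (χ c) (x : F), ?_, ?_, ?_, ?_, ?_,
    hunits⟩
  · intro x
    exact hψp _
  · intro x
    change (e.symm (κ 1)) (x : F) = 1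
    rw [map_one, map_one, MulChar.one_apply_coe]
  · intro x c c'
    change (e.symm (κ (c * c'))) (x : F) = (e.symm (κ c)) (x : F) * (e.symm (κ c')) (x : F)
    rw [map_mul, map_mul, MulChar.mul_apply]
  · intro c
    rw [hDgauss c]
    by_cases hc : κ c = 1
    · have h1 : χ c = 1 := (hχ1 c).mpr hc
      rw [h1, gaussSum_one_left hψ]
      have h2 : Nat.card {m : F // κ0 c * m = m} = Nat.card F := by
        apply Nat.card_congr
        exact Equiv.subtypeUnivEquiv ((hfixall c).mpr hc)
      rw [h2]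
      simp
    · have h1 : χ c ≠ 1 := fun h => hc ((hχ1 c).mp h)
      have h2 : Nat.card {m : F // κ0 c * m = m} = 1 := by
        rw [Nat.card_eq_one_iff_unique]
        refine ⟨⟨?_⟩, ⟨⟨0, mul_zero _⟩⟩⟩
        rintro ⟨m, hm⟩ ⟨m', hm'⟩
        apply Subtype.ext
        have hz : ∀ m : F, κ0 c * m = m → m = 0 := by
          intro m hm
          have h3 : (κ0 c - 1) * m = 0 := by rw [sub_mul, hm, one_mul, sub_self]
          rcases mul_eq_zero.mp h3 with h4 | h4
          · exfalso
            apply hc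
            apply Units.ext
            rw [Units.val_one, hκ]
            exact sub_eq_zero.mp h4
          · exact h4
        change m = m'
        rw [hz m hm, hz m' hm']
      rw [h2]
      have h3 := gaussSum_mul_gaussSum_eq_card h1 hψprim
      rw [← star_gaussSum_eq] at h3
      have h4 : ((Complex.normSq (gaussSum (χ c) ψ) : ℝ) : ℂ) = ((Fintype.card F : ℝ) : ℂ) := by
        rw [← Complex.mul_conj, Complex.ofReal_natCast]
        exact h3
      have h5 : Complex.normSq (gaussSum (χ c) ψ) = (Fintype.card F : ℝ) := by exact_mod_cast h4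
      rw [h5, Nat.card_eq_fintype_card]
      simp
  · intro c
    by_cases hc : κ c = 1
    · rw [if_pos ((hfixall c).mpr hc)]
      have h1 : χ c = 1 := (hχ1 c).mpr hc
      simp only [h1, MulChar.one_apply_coe, Finset.sum_const, Finset.card_univ, nsmul_eq_mul, mul_one]
    · rw [if_neg (fun h => hc ((hfixall c).mp h))]
      have h1 : χ c ≠ 1 := fun h => hc ((hχ1 c).mp h)
      rw [sum_units_eq_sum (fun a : F => (χ c) a) (MulChar.map_nonunit (χ c) not_isUnit_zero)]
      exact MulChar.sum_eq_zero_of_ne_one h1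

theorem good_quotient (I : Ideal (MonoidAlgebra (ZMod p) C)) [hI : I.IsMaximal]
    [Finite (MonoidAlgebra (ZMod p) C ⧸ I)] : Good p C (MonoidAlgebra (ZMod p) C ⧸ I) := by
  letI : Field (MonoidAlgebra (ZMod p) C ⧸ I) := Ideal.Quotient.field I
  haveI : Fintype (MonoidAlgebra (ZMod p) C ⧸ I) := Fintype.ofFinite _
  have hpA : ((p : ℕ) : MonoidAlgebra (ZMod p) C) = 0 := by
    rw [← map_natCast (algebraMap (ZMod p) (MonoidAlgebra (ZMod p) C)), ZMod.natCast_self, map_zero]
  have hpF : ((p : ℕ) : MonoidAlgebra (ZMod p) C ⧸ I) = 0 := by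
    rw [← map_natCast (Ideal.Quotient.mk I), hpA, map_zero]
  let κ0 : C →* (MonoidAlgebra (ZMod p) C ⧸ I) :=
    ((Ideal.Quotient.mk I : MonoidAlgebra (ZMod p) C →+* _) :
      MonoidAlgebra (ZMod p) C →* (MonoidAlgebra (ZMod p) C ⧸ I)).comp
      (MonoidAlgebra.of (ZMod p) C)
  have hsmul : ∀ (c : C) (m : MonoidAlgebra (ZMod p) C ⧸ I),
      (MonoidAlgebra.of (ZMod p) C c) • m = κ0 c * m := by
    intro c m
    rw [Algebra.smul_def]
    rfl
  obtain ⟨J, hJ, a, lam, h1, h2, h3, h4, h5, h6⟩ := gauss_field (p := p) hpF κ0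
  refine ⟨J, hJ, a, lam, h1, h2, h3, ?_, ?_, h6⟩
  · intro c
    simp only [hsmul]
    exact h4 c
  · intro c
    simp only [hsmul]
    exact h5 c

theorem good_simple (M : Type u) [AddCommGroup M] [Module (MonoidAlgebra (ZMod p) C) M]
    [Finite M] [hs : IsSimpleModule (MonoidAlgebra (ZMod p) C) M] : Good p C M := by
  obtain ⟨I, hI, ⟨e⟩⟩ := isSimpleModule_iff_quot_maximal.mp hs
  haveI : Finite (MonoidAlgebra (ZMod p) C ⧸ I) := Finite.of_equiv M e.toEquiv
  exact good_congr e.symm (good_quotient I)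

theorem good_all (hpC : ¬ p ∣ Nat.card C) : ∀ (n : ℕ) (M : Type u) [AddCommGroup M]
    [Module (MonoidAlgebra (ZMod p) C) M] [Finite M], Nat.card M = n → Good p C M := by
  intro n
  induction n using Nat.strong_induction_on with
  | _ n ih =>
    intro M _ _ _ hn
    by_cases hsub : Subsingleton M
    · exact good_of_subsingleton M
    · haveI : Nontrivial M := not_subsingleton_iff_nontrivial.mp hsub
      haveI : NeZero ((Nat.card C : ℕ) : ZMod p) :=
        ⟨fun h => hpC ((ZMod.natCast_eq_zero_iff _ _).mp h)⟩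
      obtain ⟨W, hW⟩ :=
        IsSemisimpleModule.exists_simple_submodule (MonoidAlgebra (ZMod p) C) M
      obtain ⟨W', hW'⟩ := exists_isCompl W
      let e := Submodule.prodEquivOfIsCompl W W' hW'
      have hcard : Nat.card M = Nat.card W * Nat.card W' := by
        rw [← Nat.card_congr e.toEquiv, Nat.card_prod]
      haveI : Nontrivial W := IsSimpleModule.nontrivial (MonoidAlgebra (ZMod p) C) W
      have hW2 : 2 ≤ Nat.card W := by
        have := Finite.one_lt_card (α := W)
        omega
      have hpos : 0 < Nat.card W' := Nat.card_pos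
      have hlt : Nat.card W' < n := by
        rw [← hn, hcard]
        nlinarith
      exact good_congr e (good_prod (good_simple W) (ih _ hlt W' rfl))

/-- Gauss data for a representation of a finite abelian `p'`-group on a finite `𝔽_p`-space. -/
theorem good_of_representation (hpC : ¬ p ∣ Nat.card C) {M : Type u} [AddCommGroup M]
    [Module (ZMod p) M] [Finite M] (ρ : Representation (ZMod p) C M) :
    ∃ (J : Type u) (_ : Fintype J) (a : J → ℂ) (lam : J → C → ℂ),
      (∀ j, a j ^ p = 1) ∧ (∀ j, lam j 1 = 1) ∧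
      (∀ j c c', lam j (c * c') = lam j c * lam j c') ∧
      (∀ c : C, Complex.normSq (∑ j, a j * lam j c) *
          (Nat.card {m : M // ρ c m = m} : ℝ) = (Nat.card M : ℝ)) ∧
      (∀ c : C, ∑ j, lam j c =
        if (∀ m : M, ρ c m = m) then (Fintype.card J : ℂ) else 0) ∧
      ¬ p ∣ Fintype.card J := by
  haveI : Finite ρ.asModule := Finite.of_equiv M ρ.asModuleEquiv.symm.toEquiv
  obtain ⟨J, hJ, a, lam, h1, h2, h3, h4, h5, h6⟩ :=
    good_all (p := p) (C := C) hpC (Nat.card ρ.asModule) ρ.asModule rfl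
  have hsm : ∀ (c : C) (m : ρ.asModule),
      (MonoidAlgebra.of (ZMod p) C c) • m = m ↔ ρ c (ρ.asModuleEquiv m) = ρ.asModuleEquiv m := by
    intro c m
    constructor
    · intro h
      have := congrArg ρ.asModuleEquiv h
      rw [Representation.asModuleEquiv_map_smul, Representation.asAlgebraHom_of] at this
      exact this
    · intro h
      apply ρ.asModuleEquiv.injective
      rw [Representation.asModuleEquiv_map_smul, Representation.asAlgebraHom_of]
      exact h
  refine ⟨J, hJ, a, lam, h1, h2, h3, ?_, ?_, h6⟩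
  · intro c
    have hc : Nat.card {m : M // ρ c m = m} =
        Nat.card {m : ρ.asModule // (MonoidAlgebra.of (ZMod p) C c) • m = m} := by
      apply Nat.card_congr
      refine (Equiv.subtypeEquiv ρ.asModuleEquiv.toEquiv ?_).symm
      intro m
      exact hsm c m
    rw [hc, ← Nat.card_congr ρ.asModuleEquiv.toEquiv]
    exact h4 c
  · intro c
    rw [h5 c]
    have : (∀ m : ρ.asModule, (MonoidAlgebra.of (ZMod p) C c) • m = m) ↔ (∀ m : M, ρ c m = m) := by
      constructor
      · intro h m
        have := (hsm c (ρ.asModuleEquiv.symm m)).mp (h _)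
        simpa using this
      · intro h m
        exact (hsm c m).mpr (h _)
    simp only [this]

end Good

end Cfsg.Agent.Lib.Helper79.KN
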