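import Mathlib
import Cfsg.Prelude.Def_Characters
import Cfsg.Agent.Lib.Helper79.KN1
import Cfsg.Agent.Lib.Helper79.KGV2

set_option autoImplicit false
set_option linter.unusedSectionVars false
set_option linter.style.haveILetI false

/-!
Group-theoretic lemmas for the Robinson–Thompson argument: elements `v * c` with `v` a `p`-element
of the normal abelian Sylow `V` and `c` in the (abelian) stabilizer `C = C_G(v)`.
-/

namespace Cfsg.Agent.Lib.Helper79.KN

open scoped ComplexConjugate

universe u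

theorem pow_eq_of_modEq {X : Type*} [Group X] {x : X} {m a b : ℕ} (hx : x ^ m = 1)
    (h : a ≡ b [MOD m]) : x ^ a = x ^ b := by
  rw [pow_eq_pow_iff_modEq]
  exact h.of_dvd (orderOf_dvd_of_pow_eq_one hx)

/-- CRT exponents splitting a product of commuting elements of coprime orders. -/
theorem exists_split_exponents {p m : ℕ} (hpm : Nat.Coprime p m) :
    ∃ k k' : ℕ, ∀ {X : Type u} [Group X] (v c : X), Commute v c → v ^ p = 1 → c ^ m = 1 →
      (v * c) ^ k = c ∧ (v * c) ^ k' = v := by
  obtain ⟨k, hk1, hk2⟩ := Nat.chineseRemainder hpm 0 1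
  obtain ⟨k', hk1', hk2'⟩ := Nat.chineseRemainder hpm 1 0
  refine ⟨k, k', ?_⟩
  intro X _ v c hvc hv hc
  constructor
  · rw [hvc.mul_pow, pow_eq_of_modEq hv hk1, pow_eq_of_modEq hc hk2, pow_zero, pow_one, one_mul]
  · rw [hvc.mul_pow, pow_eq_of_modEq hv hk1', pow_eq_of_modEq hc hk2', pow_zero, pow_one, mul_one]

section Setting

variable {X : Type u} [Group X] [Finite X] (p : ℕ) [Fact p.Prime] (V : Subgroup X) [V.Normal]
  (hVexp : ∀ v ∈ V, v ^ p = 1) (hidx : ¬ p ∣ V.index)
  (hVab : ∀ a ∈ V, ∀ b ∈ V, a * b = b * a)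
  (G : Subgroup X) (hGV : Subgroup.IsComplement' V G) (v : X) (hv : v ∈ V)
  (hab : ∀ a ∈ G ⊓ Subgroup.centralizer ({v} : Set X),
    ∀ b ∈ G ⊓ Subgroup.centralizer ({v} : Set X), a * b = b * a)

include hVexp hidx hVab hGV hv hab

theorem coprime_card_G : Nat.Coprime p (Nat.card G) := by
  have hp : p.Prime := Fact.out
  rw [Nat.Prime.coprime_iff_not_dvd hp]
  rw [← hGV.symm.index_eq_card]
  exact hidx

/-- The key analysis: an element conjugating `v * c` to `v * c'`. -/
theorem conj_analysis (c c' : X) (hc : c ∈ G ⊓ Subgroup.centralizer ({v} : Set X))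
    (hc' : c' ∈ G ⊓ Subgroup.centralizer ({v} : Set X)) (x : X)
    (hx : x * (v * c) * x⁻¹ = v * c') :
    c' = c ∧ ∀ u ∈ V, ∀ g ∈ G, x = u * g → c * u * c⁻¹ = u ∧
      g ∈ G ⊓ Subgroup.centralizer ({v} : Set X) := by
  have hp : p.Prime := Fact.out
  have hcop := coprime_card_G p V hVexp hidx hVab G hGV v hv hab
  obtain ⟨k, k', hkk⟩ := exists_split_exponents.{u} hcop
  have hcomm : ∀ d ∈ G ⊓ Subgroup.centralizer ({v} : Set X), Commute v d := by
    intro d hd
    have := (Subgroup.mem_centralizer_iff.mp hd.2) v (Set.mem_singleton v)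
    exact this
  have hcard : ∀ d ∈ G ⊓ Subgroup.centralizer ({v} : Set X), d ^ Nat.card G = 1 := by
    intro d hd
    have h1 : (⟨d, hd.1⟩ : G) ^ Nat.card G = 1 := pow_card_eq_one'
    have h2 := congrArg Subtype.val h1
    simp only [SubgroupClass.coe_pow, OneMemClass.coe_one] at h2
    exact h2
  have h1 := hkk v c (hcomm c hc) (hVexp v hv) (hcard c hc)
  have h2 := hkk v c' (hcomm c' hc') (hVexp v hv) (hcard c' hc')
  have hxc : x * c * x⁻¹ = c' := by
    have : (x * (v * c) * x⁻¹) ^ k = (v * c') ^ k := by rw [hx]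
    rw [conj_pow, h1.1, h2.1] at this
    exact this
  have hxv : x * v * x⁻¹ = v := by
    have : (x * (v * c) * x⁻¹) ^ k' = (v * c') ^ k' := by rw [hx]
    rw [conj_pow, h1.2, h2.2] at this
    exact this
  have hmain : ∀ u ∈ V, ∀ g ∈ G, x = u * g → c' = c ∧ c * u * c⁻¹ = u ∧
      g ∈ G ⊓ Subgroup.centralizer ({v} : Set X) := by
    intro u hu g hg hxug
    have hgv : g * v * g⁻¹ = v := by
      have h3 : u * g * v * (u * g)⁻¹ = v := by rw [← hxug]; exact hxv
      have h4 : g * v * g⁻¹ = u⁻¹ * (u * g * v * (u * g)⁻¹) * u := by group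
      rw [h4, h3, mul_assoc, hVab v hv u hu, ← mul_assoc, inv_mul_cancel, one_mul]
    have hgC : g ∈ G ⊓ Subgroup.centralizer ({v} : Set X) := by
      refine Subgroup.mem_inf.2 ⟨hg, ?_⟩
      rw [Subgroup.mem_centralizer_iff]
      intro h hh
      rw [Set.mem_singleton_iff] at hh
      subst hh
      have : g * h = h * g := by
        calc g * h = (g * h * g⁻¹) * g := by group
          _ = h * g := by rw [hgv]
      exact this.symm
    have hgc : g * c * g⁻¹ = c := by
      rw [hab g hgC c hc, mul_inv_cancel_right]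
    have hucu : u * c * u⁻¹ = c' := by
      rw [← hxc, hxug]
      calc u * c * u⁻¹ = u * (g * c * g⁻¹) * u⁻¹ := by rw [hgc]
        _ = u * g * c * (u * g)⁻¹ := by group
    have hcc : c' * c⁻¹ = 1 := by
      have h5 : c' * c⁻¹ ∈ V := by
        rw [← hucu]
        have : u * c * u⁻¹ * c⁻¹ = u * (c * u⁻¹ * c⁻¹) := by group
        rw [this]
        exact V.mul_mem hu (Subgroup.Normal.conj_mem inferInstance _ (V.inv_mem hu) c)
      have h6 : c' * c⁻¹ ∈ G := G.mul_mem hc'.1 (G.inv_mem hc.1)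
      have hdisj := hGV.disjoint
      rw [Subgroup.disjoint_def] at hdisj
      exact hdisj h5 h6
    have hceq : c' = c := by
      rw [mul_inv_eq_one] at hcc
      exact hcc
    refine ⟨hceq, ?_, hgC⟩
    rw [hceq] at hucu
    calc c * u * c⁻¹ = (u * c * u⁻¹) * u * c⁻¹ := by rw [hucu]
      _ = u := by group
  obtain ⟨⟨u, g⟩, hug⟩ := hGV.2 x
  simp only at hug
  refine ⟨(hmain u u.2 g g.2 hug.symm).1, ?_⟩
  intro u hu g hg hxug
  exact (hmain u hu g hg hxug).2

theorem isConj_iff_eq (c c' : X) (hc : c ∈ G ⊓ Subgroup.centralizer ({v} : Set X))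
    (hc' : c' ∈ G ⊓ Subgroup.centralizer ({v} : Set X)) :
    IsConj (v * c) (v * c') ↔ c = c' := by
  constructor
  · intro h
    rw [isConj_iff] at h
    obtain ⟨x, hx⟩ := h
    exact (conj_analysis p V hVexp hidx hVab G hGV v hv hab c c' hc hc' x hx).1.symm
  · rintro rfl
    exact IsConj.refl _

theorem card_centralizer_le (c : X) (hc : c ∈ G ⊓ Subgroup.centralizer ({v} : Set X)) :
    Nat.card (Subgroup.centralizer ({v * c} : Set X)) ≤
      Nat.card {u : V // c * (u : X) * c⁻¹ = u} *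
        Nat.card ↥(G ⊓ Subgroup.centralizer ({v} : Set X)) := by
  classical
  have hdec : ∀ x : X, ∃ ug : V × G, (ug.1 : X) * (ug.2 : X) = x := fun x => hGV.2 x
  choose ug hug using hdec
  rw [← Nat.card_prod]
  have hx : ∀ x : Subgroup.centralizer ({v * c} : Set X),
      (x : X) * (v * c) * (x : X)⁻¹ = v * c := by
    intro x
    have := (Subgroup.mem_centralizer_iff.mp x.2) (v * c) (Set.mem_singleton _)
    rw [← this, mul_inv_cancel_right]
  have hana := fun x : Subgroup.centralizer ({v * c} : Set X) =>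
    (conj_analysis p V hVexp hidx hVab G hGV v hv hab c c hc hc (x : X) (hx x)).2
      (ug (x : X)).1 (ug (x : X)).1.2 (ug (x : X)).2 (ug (x : X)).2.2 (hug (x : X)).symm
  let Φ : Subgroup.centralizer ({v * c} : Set X) →
      {u : V // c * (u : X) * c⁻¹ = u} × ↥(G ⊓ Subgroup.centralizer ({v} : Set X)) :=
    fun x => (⟨(ug (x : X)).1, (hana x).1⟩, ⟨((ug (x : X)).2 : X), (hana x).2⟩)
  apply Nat.card_le_card_of_injective Φ
  intro x y hxy
  apply Subtype.ext
  have h1 : (ug (x : X)).1 = (ug (y : X)).1 := by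
    have := congrArg (fun z => (z.1 : V)) hxy
    exact this
  have h2 : ((ug (x : X)).2 : X) = ((ug (y : X)).2 : X) := by
    have := congrArg (fun z => ((z.2 : ↥(G ⊓ Subgroup.centralizer ({v} : Set X))) : X)) hxy
    exact this
  rw [← hug (x : X), ← hug (y : X), h1, h2]

end Setting

end Cfsg.Agent.Lib.Helper79.KN
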