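import Mathlib
import Cfsg.Prelude.Def_Characters
import Cfsg.Agent.Lib.Helper79.KN3
import Cfsg.Agent.Lib.Helper38.AbelianRestrict
import Cfsg.Agent.Lib.Helper82.TypePAbs
import Cfsg.Agent.Lib.Helper15.IrrCrit

set_option autoImplicit false
set_option linter.unusedSectionVars false
set_option linter.style.haveILetI false

/-!
The Robinson–Thompson inequality with Knörr's Gauss-sum class function: character theory.
-/

namespace Cfsg.Agent.Lib.Helper79.KN

open Cfsg
open scoped ComplexConjugate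

universe u

/-- If a combination of `p`-th roots of unity with natural multiplicities vanishes, the total
multiplicity is divisible by `p`. -/
theorem prime_dvd_of_weighted_sum_roots_eq_zero {p : ℕ} (hp : p.Prime) {ι : Type*} (s : Finset ι)
    (m : ι → ℕ) (ω : ι → ℂ) (hω : ∀ i ∈ s, ω i ^ p = 1)
    (hsum : ∑ i ∈ s, (m i : ℂ) * ω i = 0) : p ∣ ∑ i ∈ s, m i := by
  classical
  have hpos : 0 < p := hp.pos
  haveI : NeZero p := ⟨hpos.ne'⟩
  haveI : Fact p.Prime := ⟨hp⟩
  have hζ : IsPrimitiveRoot (Complex.exp (2 * Real.pi * Complex.I / ((p : ℕ) : ℂ))) p :=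
    Complex.isPrimitiveRoot_exp _ hpos.ne'
  set ζ := Complex.exp (2 * Real.pi * Complex.I / ((p : ℕ) : ℂ)) with hζdef
  have hex : ∀ i, ∃ j : ℕ, i ∈ s → ζ ^ j = ω i := by
    intro i
    by_cases hi : i ∈ s
    · obtain ⟨j, _, hj⟩ := hζ.eq_pow_of_pow_eq_one (hω i hi)
      exact ⟨j, fun _ => hj⟩
    · exact ⟨0, fun h => absurd h hi⟩
  choose j hj using hex
  set P : Polynomial ℤ := ∑ i ∈ s, Polynomial.C (m i : ℤ) * Polynomial.X ^ (j i) with hP
  have haeval : Polynomial.aeval ζ P = 0 := by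
    rw [hP, map_sum, ← hsum]
    apply Finset.sum_congr rfl
    intro i hi
    simp [hj i hi]
  have hmin : Polynomial.cyclotomic p ℤ = minpoly ℤ ζ :=
    Polynomial.cyclotomic_eq_minpoly hζ hpos
  have hdvd : minpoly ℤ ζ ∣ P := minpoly.isIntegrallyClosed_dvd (hζ.isIntegral hpos) haeval
  rw [← hmin] at hdvd
  obtain ⟨Q, hQ⟩ := hdvd
  have h1 : P.eval 1 = ((∑ i ∈ s, m i : ℕ) : ℤ) := by
    rw [hP, Polynomial.eval_finsetSum]
    simp
  have h2 : (Polynomial.cyclotomic p ℤ).eval 1 = (p : ℤ) := Polynomial.eval_one_cyclotomic_prime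
  have h3 : ((∑ i ∈ s, m i : ℕ) : ℤ) = (p : ℤ) * Q.eval 1 := by
    rw [← h1, hQ, Polynomial.eval_mul, h2]
  have : (p : ℤ) ∣ ((∑ i ∈ s, m i : ℕ) : ℤ) := ⟨_, h3⟩
  exact_mod_cast this

section Main

open Cfsg.Agent.Lib.Helper3

variable {X : Type u} [Group X] [Finite X] (p : ℕ) [Fact p.Prime] (V : Subgroup X) [V.Normal]
  (hVexp : ∀ v ∈ V, v ^ p = 1) (hidx : ¬ p ∣ V.index)
  (hVab : ∀ a ∈ V, ∀ b ∈ V, a * b = b * a)
  (v : X) (hv : v ∈ V) (C : Subgroup X) (hCv : ∀ d ∈ C, v * d = d * v)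
  (hab : ∀ a ∈ C, ∀ b ∈ C, a * b = b * a)
  {J : Type*} [Fintype J] (a : J → ℂ)
  (lam : J → C → ℂ)
  (ha : ∀ j, a j ^ p = 1) (hlam1 : ∀ j, lam j 1 = 1)
  (hlammul : ∀ j c c', lam j (c * c') = lam j c * lam j c')
  (hsum : ∀ c : C, c ≠ 1 → ∑ j, lam j c = 0)
  (hJ : ¬ p ∣ Fintype.card J)

include hVexp hidx hVab hv hCv hab ha hlam1 hlammul hsum hJ in
/-- Part A: the numbers `b χ` are nonzero elements of the ring of roots of unity. -/
theorem partA [Fintype C] (χ : IrrCharacter X) :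
    (Nat.card C : ℂ)⁻¹ *
      ∑ c : C, (χ : X → ℂ) (v * (c : X)) * conj (∑ j, a j * lam j c) ∈
        rootRing (p * Nat.card X) ∧
    (Nat.card C : ℂ)⁻¹ *
      ∑ c : C, (χ : X → ℂ) (v * (c : X)) * conj (∑ j, a j * lam j c) ≠ 0 := by
  classical
  haveI : Fintype X := Fintype.ofFinite X
  have hp : p.Prime := Fact.out
  have hC0 : (Nat.card C : ℂ) ≠ 0 := by exact_mod_cast Nat.card_pos.ne'
  have hχc : IsCharacter X (χ : X → ℂ) := IsIrrCharacter.isCharacter χ.2
  -- the homs attached to `lam`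
  let L : J → (C →* ℂ) := fun j =>
    { toFun := lam j, map_one' := hlam1 j, map_mul' := hlammul j }
  let Lu : J → (C →* ℂˣ) := fun j => (L j).toHomUnits
  have hLu : ∀ j c, ((Lu j c : ℂˣ) : ℂ) = lam j c := fun j c => rfl
  -- the abelian subgroup `A = ⟨v, C⟩`
  let A : Subgroup X := Subgroup.closure ({v} ∪ (C : Set X))
  have hcommS : ∀ x ∈ ({v} ∪ (C : Set X)), ∀ y ∈ ({v} ∪ (C : Set X)), x * y = y * x := by
    have hvc : ∀ d ∈ C, v * d = d * v := hCv
    rintro x (hx | hx) y (hy | hy)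
    · rw [Set.mem_singleton_iff] at hx hy
      rw [hx, hy]
    · rw [Set.mem_singleton_iff] at hx
      rw [hx]
      exact hvc y hy
    · rw [Set.mem_singleton_iff] at hy
      rw [hy]
      exact (hvc x hx).symm
    · exact hab x hx y hy
  haveI : IsMulCommutative A := Subgroup.isMulCommutative_closure hcommS
  haveI : Fintype A := Fintype.ofFinite A
  haveI : Finite (IrrCharacter A) := irrCharacter_finite
  haveI := Fintype.ofFinite (IrrCharacter A)
  have hvA : v ∈ A := Subgroup.subset_closure (Or.inl rfl)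
  have hCA : C ≤ A := fun x hx => Subgroup.subset_closure (Or.inr hx)
  obtain ⟨n, -, hdec⟩ := Cfsg.Agent.Lib.Helper15.exists_nat_decomp (IsCharacter.restrict hχc A)
  have hval : ∀ a' : A, (χ : X → ℂ) a' = ∑ ψ : IrrCharacter A, (n ψ : ℂ) * (ψ : A → ℂ) a' := by
    intro a'
    have := congrFun hdec a'
    rw [Finset.sum_apply] at this
    simpa using this
  let Ψ : IrrCharacter A → (C →* ℂˣ) := fun ψ =>
    (Cfsg.Agent.Lib.Helper38.irrHom ψ).comp (Subgroup.inclusion hCA)
  have hΨ : ∀ (ψ : IrrCharacter A) (c : C),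
      ((Ψ ψ c : ℂˣ) : ℂ) = (ψ : A → ℂ) ⟨(c : X), hCA c.2⟩ := fun ψ c => rfl
  -- general expansion
  have hgen : ∀ (y : A) (α : J → ℂ),
      (Nat.card C : ℂ)⁻¹ * ∑ c : C, (χ : X → ℂ) ((y : X) * (c : X)) * conj (∑ j, α j * lam j c) =
        ∑ ψ : IrrCharacter A, ∑ j : J,
          ((n ψ : ℂ) * (ψ : A → ℂ) y * conj (α j)) * (if Ψ ψ = Lu j then 1 else 0) := by
    intro y α
    have e1 : ∀ c : C, (χ : X → ℂ) ((y : X) * (c : X)) * conj (∑ j, α j * lam j c) =
        ∑ ψ : IrrCharacter A, ∑ j : J, ((n ψ : ℂ) * (ψ : A → ℂ) y * conj (α j)) *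
          (((Ψ ψ c : ℂˣ) : ℂ) * conj ((Lu j c : ℂˣ) : ℂ)) := by
      intro c
      have h1 : (χ : X → ℂ) ((y : X) * (c : X)) =
          ∑ ψ : IrrCharacter A, (n ψ : ℂ) * ((ψ : A → ℂ) y * ((Ψ ψ c : ℂˣ) : ℂ)) := by
        have := hval (y * ⟨(c : X), hCA c.2⟩)
        rw [show ((y * ⟨(c : X), hCA c.2⟩ : A) : X) = (y : X) * (c : X) from rfl] at this
        rw [this]
        apply Finset.sum_congr rfl
        intro ψ _
        rw [Cfsg.Agent.Lib.Helper15.linChar_mul (Cfsg.Agent.Lib.Helper38.irr_linear ψ), hΨ]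
      have h2 : conj (∑ j, α j * lam j c) = ∑ j, conj (α j) * conj ((Lu j c : ℂˣ) : ℂ) := by
        rw [map_sum]
        apply Finset.sum_congr rfl
        intro j _
        rw [map_mul, hLu]
      rw [h1, h2, Finset.sum_mul_sum]
      apply Finset.sum_congr rfl
      intro ψ _
      apply Finset.sum_congr rfl
      intro j _
      ring
    calc (Nat.card C : ℂ)⁻¹ * ∑ c : C, (χ : X → ℂ) ((y : X) * (c : X)) * conj (∑ j, α j * lam j c)
        = (Nat.card C : ℂ)⁻¹ * ∑ c : C, ∑ ψ : IrrCharacter A, ∑ j : J,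
            ((n ψ : ℂ) * (ψ : A → ℂ) y * conj (α j)) *
              (((Ψ ψ c : ℂˣ) : ℂ) * conj ((Lu j c : ℂˣ) : ℂ)) := by
          congr 1
          exact Finset.sum_congr rfl (fun c _ => e1 c)
      _ = (Nat.card C : ℂ)⁻¹ * ∑ ψ : IrrCharacter A, ∑ j : J, ∑ c : C,
            ((n ψ : ℂ) * (ψ : A → ℂ) y * conj (α j)) *
              (((Ψ ψ c : ℂˣ) : ℂ) * conj ((Lu j c : ℂˣ) : ℂ)) := by
          congr 1
          rw [Finset.sum_comm]
          apply Finset.sum_congr rfl
          intro ψ _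
          rw [Finset.sum_comm]
      _ = ∑ ψ : IrrCharacter A, ∑ j : J,
            ((n ψ : ℂ) * (ψ : A → ℂ) y * conj (α j)) * (if Ψ ψ = Lu j then 1 else 0) := by
          rw [Finset.mul_sum]
          apply Finset.sum_congr rfl
          intro ψ _
          rw [Finset.mul_sum]
          apply Finset.sum_congr rfl
          intro j _
          rw [← Finset.mul_sum]
          have := Cfsg.Agent.Lib.Helper82.classInner_hom (Ψ ψ) (Lu j)
          unfold classInner at this
          rw [← this]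
          ring
  -- the weights
  let m : IrrCharacter A × J → ℕ := fun q => if Ψ q.1 = Lu q.2 then n q.1 else 0
  have hm : ∀ (ψ : IrrCharacter A) (j : J) (z : ℂ),
      ((n ψ : ℂ) * z) * (if Ψ ψ = Lu j then (1 : ℂ) else 0) = (m (ψ, j) : ℂ) * z := by
    intro ψ j z
    change _ = ((if Ψ ψ = Lu j then n ψ else 0 : ℕ) : ℂ) * z
    by_cases h : Ψ ψ = Lu j
    · rw [if_pos h, if_pos h, mul_one]
    · rw [if_neg h, if_neg h, mul_zero, Nat.cast_zero, zero_mul]
  let vA : A := ⟨v, hvA⟩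
  let ω : IrrCharacter A × J → ℂ := fun q => (q.1 : A → ℂ) vA * conj (a q.2)
  have hb : (Nat.card C : ℂ)⁻¹ * ∑ c : C, (χ : X → ℂ) (v * (c : X)) * conj (∑ j, a j * lam j c) =
      ∑ q : IrrCharacter A × J, (m q : ℂ) * ω q := by
    have := hgen vA a
    rw [show ((vA : A) : X) = v from rfl] at this
    rw [this, Fintype.sum_prod_type]
    apply Finset.sum_congr rfl
    intro ψ _
    apply Finset.sum_congr rfl
    intro j _
    rw [mul_assoc (n ψ : ℂ), hm]
  have hω : ∀ q : IrrCharacter A × J, ω q ^ p = 1 := by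
    intro q
    change ((q.1 : A → ℂ) vA * conj (a q.2)) ^ p = 1
    have h1 : ((q.1 : A → ℂ) vA) ^ p = 1 := by
      rw [← Cfsg.Agent.Lib.Helper38.irrHom_apply, ← Units.val_pow_eq_pow_val, ← map_pow]
      have : vA ^ p = 1 := Subtype.ext (by simpa using hVexp v hv)
      rw [this, map_one, Units.val_one]
    rw [mul_pow, h1, one_mul, ← map_pow, ha, map_one]
  -- the count
  obtain ⟨d, hd⟩ := Cfsg.Agent.Lib.Helper79.exists_nat_irr_one χ
  have hcount : (∑ q : IrrCharacter A × J, m q) * Nat.card C = d * Fintype.card J := by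
    have h1 := hgen 1 (fun _ => 1)
    have h2 : ∑ c : C, (χ : X → ℂ) (((1 : A) : X) * (c : X)) * conj (∑ j, (1 : ℂ) * lam j c) =
        (d : ℂ) * (Fintype.card J : ℂ) := by
      rw [Finset.sum_eq_single (1 : C)]
      · simp only [OneMemClass.coe_one, mul_one, hlam1, Finset.sum_const,
          Finset.card_univ, nsmul_eq_mul, map_natCast]
        rw [hd]
      · intro c _ hc
        simp only [one_mul]
        rw [hsum c hc, map_zero, mul_zero]
      · intro h
        exact absurd (Finset.mem_univ _) h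
    rw [h2] at h1
    have h3 : ∑ ψ : IrrCharacter A, ∑ j : J,
        ((n ψ : ℂ) * (ψ : A → ℂ) 1 * conj (1 : ℂ)) * (if Ψ ψ = Lu j then 1 else 0) =
        ((∑ q : IrrCharacter A × J, m q : ℕ) : ℂ) := by
      rw [Fintype.sum_prod_type]
      push_cast
      apply Finset.sum_congr rfl
      intro ψ _
      apply Finset.sum_congr rfl
      intro j _
      rw [(Cfsg.Agent.Lib.Helper38.irr_linear ψ).2, map_one, mul_one, hm ψ j 1, mul_one]
    rw [h3] at h1
    have h4 : ((∑ q : IrrCharacter A × J, m q : ℕ) : ℂ) * (Nat.card C : ℂ) =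
        (d : ℂ) * (Fintype.card J : ℂ) := by
      rw [← h1]
      field_simp
    exact_mod_cast h4
  rw [hb]
  constructor
  · apply Subring.sum_mem
    intro q _
    apply Subring.mul_mem
    · exact natCast_mem _ _
    · exact root_mem_rootRing_of_dvd (Dvd.intro _ rfl) (hω q)
  · intro h0
    have h1 := prime_dvd_of_weighted_sum_roots_eq_zero hp Finset.univ m ω (fun q _ => hω q) h0
    have h2 : p ∣ d * Fintype.card J := by
      rw [← hcount]
      exact Dvd.dvd.mul_right h1 _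
    rcases (Nat.Prime.dvd_mul hp).mp h2 with h3 | h3
    · have hdvd : d ∣ V.index :=
        Cfsg.Agent.Lib.Helper79.ito_aux (Nat.card X) X rfl V hVab (χ : X → ℂ) χ.2 d hd
      exact hidx (h3.trans hdvd)
    · exact hJ h3

include hVexp hidx hVab hv hCv hab ha hlam1 hlammul hsum hJ in
/-- The Robinson–Thompson inequality with Knörr-type data. -/
theorem knorr_main (G : Subgroup X) (hGV : Subgroup.IsComplement' V G)
    (hCdef : C = G ⊓ Subgroup.centralizer ({v} : Set X))
    (hD : ∀ c : C, Complex.normSq (∑ j, a j * lam j c) *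
      (Nat.card {u : V // (c : X) * (u : X) * (c : X)⁻¹ = u} : ℝ) = (Nat.card V : ℝ)) :
    Nat.card (ConjClasses X) ≤ Nat.card V := by
  classical
  haveI : Fintype X := Fintype.ofFinite X
  haveI : Finite (IrrCharacter X) := irrCharacter_finite
  haveI := Fintype.ofFinite (IrrCharacter X)
  haveI : Fintype C := Fintype.ofFinite C
  have hp : p.Prime := Fact.out
  have hCpos : (0 : ℝ) < (Nat.card C : ℝ) := by exact_mod_cast Nat.card_pos
  have hNpos : 0 < p * Nat.card X := Nat.mul_pos hp.pos Nat.card_pos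
  let D : C → ℂ := fun c => ∑ j, a j * lam j c
  let b : IrrCharacter X → ℂ := fun χ =>
    (Nat.card C : ℂ)⁻¹ * ∑ c : C, (χ : X → ℂ) (v * (c : X)) * conj (D c)
  have hA := fun χ : IrrCharacter X =>
    partA p V hVexp hidx hVab v hv C hCv hab a lam ha hlam1 hlammul hsum hJ χ
  have hCmem : ∀ c : C, (c : X) ∈ G ⊓ Subgroup.centralizer ({v} : Set X) := fun c => hCdef ▸ c.2
  have hab' : ∀ x ∈ G ⊓ Subgroup.centralizer ({v} : Set X),
      ∀ y ∈ G ⊓ Subgroup.centralizer ({v} : Set X), x * y = y * x := by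
    intro x hx y hy
    rw [← hCdef] at hx hy
    exact hab x hx y hy
  have hconj : ∀ c c' : C, IsConj (v * (c : X)) (v * (c' : X)) ↔ c = c' := by
    intro c c'
    rw [isConj_iff_eq p V hVexp hidx hVab G hGV v hv hab' c c' (hCmem c) (hCmem c')]
    exact Subtype.ext_iff.symm
  have hcent : ∀ c : C, Nat.card (Subgroup.centralizer ({v * (c : X)} : Set X)) ≤
      Nat.card {u : V // (c : X) * (u : X) * (c : X)⁻¹ = u} * Nat.card C := by
    intro c
    have h1 := card_centralizer_le p V hVexp hidx hVab G hGV v hv hab' c (hCmem c)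
    have h2 : Nat.card ↥(G ⊓ Subgroup.centralizer ({v} : Set X)) = Nat.card C := by rw [hCdef]
    rw [h2] at h1
    exact h1
  -- the norm sum
  have hbconj : ∀ χ : IrrCharacter X, conj (b χ) =
      (Nat.card C : ℂ)⁻¹ * ∑ c' : C, conj ((χ : X → ℂ) (v * (c' : X))) * D c' := by
    intro χ
    change conj ((Nat.card C : ℂ)⁻¹ * ∑ c : C, (χ : X → ℂ) (v * (c : X)) * conj (D c)) = _
    simp only [map_mul, map_inv₀, map_natCast, map_sum, Complex.conj_conj]
  have hprod : ∀ χ : IrrCharacter X, b χ * conj (b χ) = ((Nat.card C : ℂ)⁻¹) ^ 2 *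
      ∑ c : C, ∑ c' : C, ((χ : X → ℂ) (v * (c : X)) * conj ((χ : X → ℂ) (v * (c' : X)))) *
        (conj (D c) * D c') := by
    intro χ
    rw [hbconj]
    change ((Nat.card C : ℂ)⁻¹ * ∑ c : C, (χ : X → ℂ) (v * (c : X)) * conj (D c)) * _ = _
    rw [mul_mul_mul_comm, ← sq, Finset.sum_mul_sum]
    congr 1
    apply Finset.sum_congr rfl
    intro c _
    apply Finset.sum_congr rfl
    intro c' _
    ring
  have hS : ∑ χ : IrrCharacter X, b χ * conj (b χ) = ((Nat.card C : ℂ)⁻¹) ^ 2 *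
      ∑ c : C, (Nat.card (Subgroup.centralizer ({v * (c : X)} : Set X)) : ℂ) *
        ((Complex.normSq (D c) : ℝ) : ℂ) := by
    simp only [hprod]
    rw [← Finset.mul_sum]
    congr 1
    rw [Finset.sum_comm]
    apply Finset.sum_congr rfl
    intro c _
    rw [Finset.sum_comm]
    have h1 : ∀ c' : C, ∑ χ : IrrCharacter X,
        ((χ : X → ℂ) (v * (c : X)) * conj ((χ : X → ℂ) (v * (c' : X)))) * (conj (D c) * D c') =
        (if c = c' then (Nat.card (Subgroup.centralizer ({v * (c : X)} : Set X)) : ℂ) else 0) *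
          (conj (D c) * D c') := by
      intro c'
      rw [← Finset.sum_mul, column_orthogonality]
      congr 1
      by_cases h : c = c'
      · rw [if_pos h, if_pos ((hconj c c').mpr h)]
      · rw [if_neg h, if_neg (fun h' => h ((hconj c c').mp h'))]
    simp only [h1]
    rw [Finset.sum_eq_single c]
    · rw [if_pos rfl, mul_comm (conj (D c)), Complex.mul_conj]
    · intro c' _ hc'
      rw [if_neg (Ne.symm hc'), zero_mul]
    · intro h
      exact absurd (Finset.mem_univ _) h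
  have hfixpos : ∀ c : C, (0 : ℝ) <
      (Nat.card {u : V // (c : X) * (u : X) * (c : X)⁻¹ = u} : ℝ) := by
    intro c
    haveI : Nonempty {u : V // (c : X) * (u : X) * (c : X)⁻¹ = u} := ⟨⟨1, by simp⟩⟩
    exact_mod_cast Nat.card_pos
  have hnorm : ∀ c : C, Complex.normSq (D c) = (Nat.card V : ℝ) /
      (Nat.card {u : V // (c : X) * (u : X) * (c : X)⁻¹ = u} : ℝ) := by
    intro c
    rw [eq_div_iff (hfixpos c).ne']
    exact hD c
  let r : ℚ := ((Nat.card C : ℚ)⁻¹) ^ 2 *
    ∑ c : C, (Nat.card (Subgroup.centralizer ({v * (c : X)} : Set X)) : ℚ) *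
      ((Nat.card V : ℚ) / (Nat.card {u : V // (c : X) * (u : X) * (c : X)⁻¹ = u} : ℚ))
  have hr : ∑ χ : IrrCharacter X, b χ * conj (b χ) = (r : ℂ) := by
    rw [hS]
    change _ = (((((Nat.card C : ℚ)⁻¹) ^ 2 *
      ∑ c : C, (Nat.card (Subgroup.centralizer ({v * (c : X)} : Set X)) : ℚ) *
        ((Nat.card V : ℚ) / (Nat.card {u : V // (c : X) * (u : X) * (c : X)⁻¹ = u} : ℚ)) : ℚ)) : ℂ)
    push_cast
    congr 1
    apply Finset.sum_congr rfl
    intro c _
    rw [hnorm c]
    push_cast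
    rfl
  have hrle : (r : ℝ) ≤ (Nat.card V : ℝ) := by
    change (((((Nat.card C : ℚ)⁻¹) ^ 2 *
      ∑ c : C, (Nat.card (Subgroup.centralizer ({v * (c : X)} : Set X)) : ℚ) *
        ((Nat.card V : ℚ) / (Nat.card {u : V // (c : X) * (u : X) * (c : X)⁻¹ = u} : ℚ)) : ℚ)) : ℝ)
          ≤ _
    push_cast
    have hterm : ∀ c : C, (Nat.card (Subgroup.centralizer ({v * (c : X)} : Set X)) : ℝ) *
        ((Nat.card V : ℝ) / (Nat.card {u : V // (c : X) * (u : X) * (c : X)⁻¹ = u} : ℝ)) ≤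
        (Nat.card C : ℝ) * (Nat.card V : ℝ) := by
      intro c
      have h1 : (Nat.card (Subgroup.centralizer ({v * (c : X)} : Set X)) : ℝ) ≤
          (Nat.card {u : V // (c : X) * (u : X) * (c : X)⁻¹ = u} : ℝ) * (Nat.card C : ℝ) := by
        exact_mod_cast hcent c
      have h2 : (0 : ℝ) ≤ (Nat.card V : ℝ) /
          (Nat.card {u : V // (c : X) * (u : X) * (c : X)⁻¹ = u} : ℝ) :=
        div_nonneg (Nat.cast_nonneg _) (hfixpos c).le
      calc _ ≤ ((Nat.card {u : V // (c : X) * (u : X) * (c : X)⁻¹ = u} : ℝ) * (Nat.card C : ℝ)) *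
            ((Nat.card V : ℝ) / (Nat.card {u : V // (c : X) * (u : X) * (c : X)⁻¹ = u} : ℝ)) :=
            mul_le_mul_of_nonneg_right h1 h2
        _ = (Nat.card C : ℝ) * (Nat.card V : ℝ) := by
            have h3 := (hfixpos c).ne'
            field_simp
    have hsumle : ∑ c : C, (Nat.card (Subgroup.centralizer ({v * (c : X)} : Set X)) : ℝ) *
        ((Nat.card V : ℝ) / (Nat.card {u : V // (c : X) * (u : X) * (c : X)⁻¹ = u} : ℝ)) ≤
        (Nat.card C : ℝ) * ((Nat.card C : ℝ) * (Nat.card V : ℝ)) := by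
      have := Finset.sum_le_sum (fun c (_ : c ∈ (Finset.univ : Finset C)) => hterm c)
      rw [Finset.sum_const, Finset.card_univ, nsmul_eq_mul, ← Nat.card_eq_fintype_card] at this
      exact this
    calc _ ≤ ((Nat.card C : ℝ)⁻¹) ^ 2 * ((Nat.card C : ℝ) * ((Nat.card C : ℝ) * (Nat.card V : ℝ))) :=
          mul_le_mul_of_nonneg_left hsumle (by positivity)
      _ = (Nat.card V : ℝ) := by
          field_simp
  have hfin := galois_amgm hNpos b (fun χ => (hA χ).1) (fun χ => (hA χ).2) r hr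
  rw [← card_irrCharacter, Nat.card_eq_fintype_card]
  exact_mod_cast hfin.trans hrle

end Main

end Cfsg.Agent.Lib.Helper79.KN
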