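import Mathlib
import Cfsg.Prelude.Def_Characters
import Cfsg.Agent.Lib.Helper79.KN2
import Cfsg.Agent.Lib.Helper79.KN4

set_option autoImplicit false
set_option linter.unusedSectionVars false
set_option linter.style.haveILetI false

/-!
Knörr's theorem: `k(GV) ≤ |V|` when some vector has an abelian stabilizer.
-/

namespace Cfsg.Agent.Lib.Helper79.KN

open Cfsg
open scoped ComplexConjugate
open scoped IsMulCommutative

universe u

/-- Knörr's abelian-stabilizer criterion for the `k(GV)`-problem. -/
theorem knorr_abelian_stabilizer {X : Type u} [Group X] [Finite X] (p : ℕ) [Fact p.Prime]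
    (V : Subgroup X) [V.Normal] (hVexp : ∀ v ∈ V, v ^ p = 1) (hidx : ¬ p ∣ V.index)
    (hself : Subgroup.centralizer (V : Set X) = V) (G : Subgroup X)
    (hGV : Subgroup.IsComplement' V G) (v : X) (hv : v ∈ V)
    (hab : ∀ a ∈ G ⊓ Subgroup.centralizer ({v} : Set X),
      ∀ b ∈ G ⊓ Subgroup.centralizer ({v} : Set X), a * b = b * a) :
    Nat.card (ConjClasses X) ≤ Nat.card V := by
  classical
  have hp : p.Prime := Fact.out
  have hVab : ∀ a ∈ V, ∀ b ∈ V, a * b = b * a := by
    intro a ha b hb
    have ha' : a ∈ Subgroup.centralizer (V : Set X) := by rw [hself]; exact ha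
    exact ((Subgroup.mem_centralizer_iff.mp ha') b hb).symm
  obtain ⟨C, hCdef⟩ : ∃ C : Subgroup X, C = G ⊓ Subgroup.centralizer ({v} : Set X) := ⟨_, rfl⟩
  rw [← hCdef] at hab
  have hCG : C ≤ G := by rw [hCdef]; exact inf_le_left
  have hCv : ∀ d ∈ C, v * d = d * v := by
    intro d hd
    rw [hCdef] at hd
    exact (Subgroup.mem_centralizer_iff.mp (Subgroup.mem_inf.1 hd).2) v (Set.mem_singleton v)
  have hpC : ¬ p ∣ Nat.card C := by
    intro h
    apply hidx
    rw [hGV.symm.index_eq_card]
    exact h.trans (Subgroup.card_dvd_of_le hCG)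
  haveI instC : IsMulCommutative C := ⟨⟨fun x y => Subtype.ext (hab x x.2 y y.2)⟩⟩
  haveI instV : IsMulCommutative V := ⟨⟨fun x y => Subtype.ext (hVab x x.2 y y.2)⟩⟩
  letI instM : Module (ZMod p) (Additive V) := AddCommGroup.zmodModule (n := p) (by
    intro x
    change Additive.ofMul (x.toMul ^ p) = Additive.ofMul 1
    congr 1
    apply Subtype.ext
    rw [SubgroupClass.coe_pow]
    exact hVexp _ (x.toMul).2)
  have hinst1 : Module (ZMod p) (Additive V) := inferInstance
  let f : C → (Additive V →ₗ[ZMod p] Additive V) := fun c => AddMonoidHom.toZModLinearMap p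
    (MonoidHom.toAdditive ((MulAut.conjNormal ((c : X)) : MulAut V).toMonoidHom))
  have hf1 : f 1 = 1 := by
    apply LinearMap.ext
    intro m
    change Additive.ofMul ((MulAut.conjNormal (((1 : C) : X)) : MulAut V) m.toMul) = m
    rw [OneMemClass.coe_one, map_one]
    rfl
  have hfmul : ∀ c c' : C, f (c * c') = f c * f c' := by
    intro c c'
    apply LinearMap.ext
    intro m
    change Additive.ofMul ((MulAut.conjNormal (((c * c' : C)) : X) : MulAut V) m.toMul) =
      Additive.ofMul ((MulAut.conjNormal ((c : X)) : MulAut V)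
        ((MulAut.conjNormal ((c' : X)) : MulAut V) m.toMul))
    rw [Subgroup.coe_mul, map_mul]
    rfl
  let ρ : Representation (ZMod p) C (Additive V) := MonoidHom.mk ⟨f, hf1⟩ hfmul
  have hρ : ∀ (c : C) (m : Additive V),
      (((ρ c m).toMul : V) : X) = (c : X) * ((m.toMul : V) : X) * (c : X)⁻¹ := by
    intro c m
    change ((((MulAut.conjNormal ((c : X)) : MulAut V) m.toMul : V)) : X) = _
    rw [MulAut.conjNormal_apply]
  haveI : Finite (Additive V) := Finite.of_equiv V Additive.ofMul
  obtain ⟨J, hJ, a, lam, h1, h2, h3, h4, h5, h6⟩ := good_of_representation (p := p) hpC ρ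
  have hfixiff : ∀ (c : C) (m : Additive V), ρ c m = m ↔
      (c : X) * ((m.toMul : V) : X) * (c : X)⁻¹ = ((m.toMul : V) : X) := by
    intro c m
    rw [← hρ c m]
    constructor
    · intro h
      rw [h]
    · intro h
      have : (ρ c m).toMul = m.toMul := Subtype.ext h
      exact Additive.toMul.injective this
  have hD : ∀ c : C, Complex.normSq (∑ j, a j * lam j c) *
      (Nat.card {u : V // (c : X) * (u : X) * (c : X)⁻¹ = u} : ℝ) = (Nat.card V : ℝ) := by
    intro c
    have hc1 : Nat.card {u : V // (c : X) * (u : X) * (c : X)⁻¹ = u} =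
        Nat.card {m : Additive V // ρ c m = m} := by
      apply Nat.card_congr
      refine (Equiv.subtypeEquiv Additive.toMul ?_).symm
      intro m
      exact hfixiff c m
    have hc2 : Nat.card V = Nat.card (Additive V) := Nat.card_congr Additive.ofMul
    rw [hc1, hc2]
    exact h4 c
  have hsum : ∀ c : C, c ≠ 1 → ∑ j, lam j c = 0 := by
    intro c hc
    rw [h5 c, if_neg]
    intro hall
    apply hc
    have hcent : (c : X) ∈ Subgroup.centralizer (V : Set X) := by
      rw [Subgroup.mem_centralizer_iff]
      intro u hu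
      have := (hfixiff c (Additive.ofMul ⟨u, hu⟩)).mp (hall _)
      change (c : X) * u * (c : X)⁻¹ = u at this
      calc u * (c : X) = ((c : X) * u * (c : X)⁻¹) * (c : X) := by rw [this]
        _ = (c : X) * u := by group
    rw [hself] at hcent
    have hdisj := hGV.disjoint
    rw [Subgroup.disjoint_def] at hdisj
    have := hdisj hcent (hCG c.2)
    exact Subtype.ext this
  exact knorr_main p V hVexp hidx hVab v hv C hCv hab a lam h1 h2 h3 hsum h6 G hGV hCdef hD

end Cfsg.Agent.Lib.Helper79.KN
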