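import Mathlib
import Cfsg.Agent.Lib.Helper37.MBalDefs
import Cfsg.Agent.Lib.Helper14.FiniteQuad

/-!
# S2733 hive (helper37), leaf MB-G1C: `cent_invol`

A semilinear semi-similarity commuting with the part of the centralizer of an isometry
involution `t` lying in `Ω` is a scalar multiple of `1` or of `t`, with trivial field automorphism.
All auxiliary lemmas are prefixed `g1c_`.

NOTE: helper61 landed the same leaf a few minutes earlier (`Lib/Helper61/MBalG1C.lean`, in the
namespace `Cfsg.Agent.Lib.Helper37.MBal`); to exclude any name clash this spare copy lives in its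
own namespace `Cfsg.Agent.Lib.Helper79.MBalG1C`.
-/

set_option autoImplicit false
set_option linter.unusedSectionVars false
set_option linter.style.haveILetI false
set_option linter.unusedVariables false

namespace Cfsg.Agent.Lib.Helper79.MBalG1C

open Cfsg.Agent.Lib.Helper37.MBal

universe u v

open Module

section g1c

variable {K : Type u} [Field K] {V : Type v} [AddCommGroup V] [Module K V]

/-- a reflection in an eigenvector of the isometry `t` (eigenvalue `±1`) commutes with `t` -/
theorem g1c_refl_comm (B : LinearMap.BilinForm K V) (t : V ≃ₗ[K] V)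
    (ht : ∀ u w, B (t u) (t w) = B u w) (u : V) (ε : K) (hε : ε * ε = 1)
    (hu : t u = ε • u) : reflE B u * t = t * reflE B u := by
  ext x
  simp only [LinearEquiv.mul_apply, reflE_apply, map_sub, map_smul, hu]
  have h1 : B (t x) u = ε * B x u := by
    have h := ht x u
    rw [hu, map_smul, smul_eq_mul] at h
    calc B (t x) u = (ε * ε) * B (t x) u := by rw [hε, one_mul]
      _ = ε * (ε * B (t x) u) := by ring
      _ = ε * B x u := by rw [h]
  rw [h1]
  module

/-- the product of the reflections in two orthogonal vectors -/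
theorem g1c_pair_apply (B : LinearMap.BilinForm K V) (hs : B.IsSymm) (u w : V)
    (huw : B u w = 0) (x : V) :
    (reflE B u * reflE B w) x =
      x - (B x w) • ((2 * (B w w)⁻¹) • w) - (B x u) • ((2 * (B u u)⁻¹) • u) := by
  rw [LinearEquiv.mul_apply, reflE_apply, reflE_apply]
  have h : B (x - (B x w) • ((2 * (B w w)⁻¹) • w)) u = B x u := by
    simp only [map_sub, map_smul, LinearMap.sub_apply, LinearMap.smul_apply, smul_eq_mul]
    rw [hs.eq w u, huw]; ring
  rw [h]

theorem g1c_pair_self (B : LinearMap.BilinForm K V) (hs : B.IsSymm) (u w : V)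
    (huw : B u w = 0) (hu : B u u ≠ 0) : (reflE B u * reflE B w) u = -u := by
  rw [g1c_pair_apply B hs u w huw, huw, zero_smul, sub_zero, smul_smul]
  have h : B u u * (2 * (B u u)⁻¹) = 2 := by field_simp
  rw [h, two_smul]; abel

theorem g1c_neg_eigen (B : LinearMap.BilinForm K V) (hs : B.IsSymm) (h2 : (2 : K) ≠ 0)
    (u w : V) (huw : B u w = 0) (x : V) (hx : (reflE B u * reflE B w) x = -x) :
    ∃ a b : K, x = a • u + b • w := by
  rw [g1c_pair_apply B hs u w huw] at hx
  refine ⟨B x u * (B u u)⁻¹, B x w * (B w w)⁻¹, ?_⟩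
  have h : (2 : K) • x = (2 : K) • ((B x u * (B u u)⁻¹) • u + (B x w * (B w w)⁻¹) • w) := by
    have h' : x + x = (B x w) • ((2 * (B w w)⁻¹) • w) + (B x u) • ((2 * (B u u)⁻¹) • u) := by
      generalize (B x w) • ((2 * (B w w)⁻¹) • w) = A at hx ⊢
      generalize (B x u) • ((2 * (B u u)⁻¹) • u) = C at hx ⊢
      calc x + x = (x - A - C) + x + A + C := by abel
        _ = (-x) + x + A + C := by rw [hx]
        _ = A + C := by abel
    rw [two_smul, h']
    module
  exact smul_right_injective V h2 h

/-- line preservation: if `s` commutes with `r_u r_w` and `r_u r_w'` (`u, w, w'` pairwise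
orthogonal and non-singular) then `s u ∈ K u` -/
theorem g1c_line (B : LinearMap.BilinForm K V) (hs : B.IsSymm) (h2 : (2 : K) ≠ 0)
    (s : V → V) (hneg : ∀ v, s (-v) = - s v) (u w w' : V)
    (huw : B u w = 0) (huw' : B u w' = 0) (hww' : B w w' = 0)
    (hu : B u u ≠ 0) (hw : B w w ≠ 0)
    (hc : ∀ v, s ((reflE B u * reflE B w) v) = (reflE B u * reflE B w) (s v))
    (hc' : ∀ v, s ((reflE B u * reflE B w') v) = (reflE B u * reflE B w') (s v)) :
    ∃ a : K, s u = a • u := by
  have e1 : (reflE B u * reflE B w) (s u) = - s u := by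
    rw [← hc, g1c_pair_self B hs u w huw hu, hneg]
  have e2 : (reflE B u * reflE B w') (s u) = - s u := by
    rw [← hc', g1c_pair_self B hs u w' huw' hu, hneg]
  obtain ⟨a, b, hab⟩ := g1c_neg_eigen B hs h2 u w huw _ e1
  obtain ⟨a', b', hab'⟩ := g1c_neg_eigen B hs h2 u w' huw' _ e2
  have h1 : B (s u) w = b * B w w := by
    rw [hab]
    simp only [map_add, map_smul, LinearMap.add_apply, LinearMap.smul_apply, smul_eq_mul, huw,
      mul_zero, zero_add]
  have h2' : B (s u) w = 0 := by
    rw [hab']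
    simp only [map_add, map_smul, LinearMap.add_apply, LinearMap.smul_apply, smul_eq_mul, huw,
      mul_zero, zero_add, hs.eq w' w, hww']
  have hb : b = 0 := by
    rw [h1] at h2'
    rcases mul_eq_zero.mp h2' with h | h
    · exact h
    · exact absurd h hw
  exact ⟨a, by rw [hab, hb, zero_smul, add_zero]⟩

/-- the commuting hypothesis, specialised to a pair of vectors -/
theorem g1c_hcomm_pair (B : LinearMap.BilinForm K V) (t : V ≃ₗ[K] V) (s : V → V)
    (hcomm : ∀ l : List V, (∀ u ∈ l, B u u ≠ 0) → Even l.length →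
      IsSquare (l.map (fun u => B u u)).prod →
      (l.map (fun u => reflE B u)).prod * t = t * (l.map (fun u => reflE B u)).prod →
      ∀ v, s ((l.map (fun u => reflE B u)).prod v) = (l.map (fun u => reflE B u)).prod (s v))
    (u w : V) (hu : B u u ≠ 0) (hw : B w w ≠ 0) (hsq : IsSquare (B u u * B w w))
    (hcu : reflE B u * t = t * reflE B u) (hcw : reflE B w * t = t * reflE B w) :
    ∀ v, s ((reflE B u * reflE B w) v) = (reflE B u * reflE B w) (s v) := by
  have hct : (reflE B u * reflE B w) * t = t * (reflE B u * reflE B w) := by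
    calc (reflE B u * reflE B w) * t = reflE B u * (reflE B w * t) := by rw [mul_assoc]
      _ = reflE B u * (t * reflE B w) := by rw [hcw]
      _ = (reflE B u * t) * reflE B w := by rw [mul_assoc]
      _ = (t * reflE B u) * reflE B w := by rw [hcu]
      _ = t * (reflE B u * reflE B w) := by rw [mul_assoc]
  have h := hcomm [u, w] (by
      intro x hx
      simp only [List.mem_cons, List.not_mem_nil, or_false] at hx
      rcases hx with rfl | rfl
      · exact hu
      · exact hw) (by simp) (by simpa using hsq) (by simpa using hct)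
  simpa using h

section findim

variable [FiniteDimensional K V]

/-- two orthogonal vectors of prescribed norm in a nondegenerate subspace of dimension `≥ 3` -/
theorem g1c_exists_pair [Finite K] (h2 : (2 : K) ≠ 0) (B : LinearMap.BilinForm K V)
    (hs : B.IsSymm) (Y : Submodule K V) (hY : (B.restrict Y).Nondegenerate)
    (h3 : 3 ≤ finrank K Y) (a : K) :
    ∃ w ∈ Y, ∃ w' ∈ Y, B w w = a ∧ B w' w' = a ∧ B w w' = 0 := by
  haveI := Fintype.ofFinite K
  obtain ⟨d, hd⟩ : ∃ d, finrank K Y = d + 1 := ⟨finrank K Y - 1, by omega⟩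
  have hd2 : 2 ≤ d := by omega
  obtain ⟨e, he, hn⟩ := Cfsg.Agent.Lib.Helper14.exists_normalized_orthogonal_basis h2 d
    (B.restrict Y) (hs.restrict Y) hY hd
  let i0 : Fin (d + 1) := ⟨0, by omega⟩
  let i1 : Fin (d + 1) := ⟨1, by omega⟩
  have h01 : i0 ≠ i1 := by
    intro h; have := congrArg Fin.val h; simp [i0, i1] at this
  have hi0 : i0 ≠ Fin.last d := by
    intro h; have := congrArg Fin.val h; simp [i0] at this; omega
  have hi1 : i1 ≠ Fin.last d := by
    intro h; have := congrArg Fin.val h; simp [i1] at this; omega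
  obtain ⟨x, y, hxy⟩ := Cfsg.Agent.Lib.Helper14.exists_binary_rep h2 1 1 a one_ne_zero one_ne_zero
  have n0 : B (e i0 : V) (e i0 : V) = 1 := hn i0 hi0
  have n1 : B (e i1 : V) (e i1 : V) = 1 := hn i1 hi1
  have o01 : B (e i0 : V) (e i1 : V) = 0 := he h01
  have o10 : B (e i1 : V) (e i0 : V) = 0 := he h01.symm
  refine ⟨x • (e i0 : V) + y • (e i1 : V), Y.add_mem (Y.smul_mem _ (e i0).2) (Y.smul_mem _ (e i1).2),
    (-y) • (e i0 : V) + x • (e i1 : V), Y.add_mem (Y.smul_mem _ (e i0).2) (Y.smul_mem _ (e i1).2),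
    ?_, ?_, ?_⟩
  · simp only [map_add, map_smul, LinearMap.add_apply, LinearMap.smul_apply, smul_eq_mul, n0, n1,
      o01, o10]
    linear_combination hxy
  · simp only [map_add, map_smul, LinearMap.add_apply, LinearMap.smul_apply, smul_eq_mul, n0, n1,
      o01, o10]
    linear_combination hxy
  · simp only [map_add, map_smul, LinearMap.add_apply, LinearMap.smul_apply, smul_eq_mul, n0, n1,
      o01, o10]
    ring

/-- the restriction of `B` to one summand of an orthogonal decomposition is nondegenerate -/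
theorem g1c_nondeg (B : LinearMap.BilinForm K V) (hs : B.IsSymm) (hnd : B.Nondegenerate)
    (W W' : Submodule K V) (hWW' : ∀ x ∈ W, ∀ y ∈ W', B x y = 0)
    (hdec : ∀ v, ∃ x ∈ W, ∃ y ∈ W', v = x + y) : (B.restrict W).Nondegenerate := by
  refine (LinearMap.IsRefl.nondegenerate_iff_separatingLeft (hs.restrict W).isRefl).mpr ?_
  intro x hx
  apply Subtype.ext
  apply hnd.1
  intro v
  obtain ⟨y, hy, y', hy', rfl⟩ := hdec v
  have h1 : B x y = 0 := hx ⟨y, hy⟩
  rw [map_add, h1, hWW' x x.2 y' hy', add_zero]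

/-- nondegeneracy of `W ∩ u^⊥` for a non-singular `u ∈ W` -/
theorem g1c_nondeg_perp (B : LinearMap.BilinForm K V) (hs : B.IsSymm) (W : Submodule K V)
    (hW : (B.restrict W).Nondegenerate) (u : V) (huW : u ∈ W) (hu : B u u ≠ 0) :
    (B.restrict (W ⊓ LinearMap.ker (B.flip u))).Nondegenerate := by
  refine (LinearMap.IsRefl.nondegenerate_iff_separatingLeft (hs.restrict _).isRefl).mpr ?_
  intro x hx
  have hxW : (x : V) ∈ W := x.2.1
  have hxu : B x u = 0 := by
    have := x.2.2
    simpa using this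
  have hx0 : (⟨x, hxW⟩ : W) = 0 := by
    apply hW.1
    intro z
    have hz'W : (z : V) - (B z u * (B u u)⁻¹) • u ∈ W := W.sub_mem z.2 (W.smul_mem _ huW)
    have hz'u : B ((z : V) - (B z u * (B u u)⁻¹) • u) u = 0 := by
      simp only [map_sub, map_smul, LinearMap.sub_apply, LinearMap.smul_apply, smul_eq_mul]
      field_simp
      ring
    have h0 : B x ((z : V) - (B z u * (B u u)⁻¹) • u) = 0 :=
      hx ⟨_, hz'W, by simpa using hz'u⟩
    show B x z = 0
    have hz : (z : V) = ((z : V) - (B z u * (B u u)⁻¹) • u) + (B z u * (B u u)⁻¹) • u := by abel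
    rw [hz, map_add, h0, map_smul, hxu, smul_zero, add_zero]
  apply Subtype.ext
  have := congrArg Subtype.val hx0
  simpa using this

theorem g1c_finrank_perp (B : LinearMap.BilinForm K V) (W : Submodule K V) (u : V) :
    finrank K W ≤ finrank K ↥(W ⊓ LinearMap.ker (B.flip u)) + 1 := by
  have h1 := Submodule.finrank_sup_add_finrank_inf_eq W (LinearMap.ker (B.flip u))
  have h2 := LinearMap.finrank_range_add_finrank_ker (B.flip u)
  have h3 : finrank K (LinearMap.range (B.flip u)) ≤ 1 := by
    calc finrank K (LinearMap.range (B.flip u)) ≤ finrank K K := Submodule.finrank_le _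
      _ = 1 := finrank_self K
  have h4 : finrank K ↥(W ⊔ LinearMap.ker (B.flip u)) ≤ finrank K V := Submodule.finrank_le _
  omega

/-- Step 1: `s` preserves every non-singular line of `W` -/
theorem g1c_step1 [Finite K] (h2 : (2 : K) ≠ 0) (B : LinearMap.BilinForm K V) (hs : B.IsSymm)
    (hnd : B.Nondegenerate) (t : V ≃ₗ[K] V) (W W' : Submodule K V)
    (hcW : ∀ x ∈ W, reflE B x * t = t * reflE B x)
    (hcW' : ∀ y ∈ W', reflE B y * t = t * reflE B y)
    (hWW' : ∀ x ∈ W, ∀ y ∈ W', B x y = 0)
    (hdec : ∀ v, ∃ x ∈ W, ∃ y ∈ W', v = x + y)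
    (s : V → V) (hneg : ∀ v, s (-v) = - s v)
    (hcomm : ∀ l : List V, (∀ u ∈ l, B u u ≠ 0) → Even l.length →
      IsSquare (l.map (fun u => B u u)).prod →
      (l.map (fun u => reflE B u)).prod * t = t * (l.map (fun u => reflE B u)).prod →
      ∀ v, s ((l.map (fun u => reflE B u)).prod v) = (l.map (fun u => reflE B u)).prod (s v))
    (hdim : 3 ≤ finrank K W' ∨ 5 ≤ finrank K W) :
    ∀ u ∈ W, B u u ≠ 0 → ∃ a : K, s u = a • u := by
  intro u huW hu
  -- it suffices to find two partners
  suffices h : ∃ w w' : V, B u w = 0 ∧ B u w' = 0 ∧ B w w' = 0 ∧ B w w = B u u ∧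
      B w' w' = B u u ∧ reflE B w * t = t * reflE B w ∧ reflE B w' * t = t * reflE B w' by
    obtain ⟨w, w', huw, huw', hww', hw, hw', hcw, hcw'⟩ := h
    have hwn : B w w ≠ 0 := by rw [hw]; exact hu
    have hwn' : B w' w' ≠ 0 := by rw [hw']; exact hu
    refine g1c_line B hs h2 s hneg u w w' huw huw' hww' hu hwn ?_ ?_
    · exact g1c_hcomm_pair B t s hcomm u w hu hwn ⟨B u u, by rw [hw]⟩ (hcW u huW) hcw
    · exact g1c_hcomm_pair B t s hcomm u w' hu hwn' ⟨B u u, by rw [hw']⟩ (hcW u huW) hcw'
  rcases hdim with h3 | h5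
  · have hW'nd : (B.restrict W').Nondegenerate :=
      g1c_nondeg B hs hnd W' W (fun x hx y hy => by rw [hs.eq x y]; exact hWW' y hy x hx)
        (fun v => by
          obtain ⟨x, hx, y, hy, rfl⟩ := hdec v
          exact ⟨y, hy, x, hx, add_comm x y⟩)
    obtain ⟨w, hw, w', hw', n1, n2, o⟩ := g1c_exists_pair h2 B hs W' hW'nd h3 (B u u)
    exact ⟨w, w', hWW' u huW w hw, hWW' u huW w' hw', o, n1, n2, hcW' w hw, hcW' w' hw'⟩
  · have hWnd : (B.restrict W).Nondegenerate := g1c_nondeg B hs hnd W W' hWW' hdec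
    have hYnd := g1c_nondeg_perp B hs W hWnd u huW hu
    have hYdim := g1c_finrank_perp B W u
    obtain ⟨w, hw, w', hw', n1, n2, o⟩ := g1c_exists_pair h2 B hs _ hYnd (by omega) (B u u)
    have hwu : B w u = 0 := by simpa using hw.2
    have hw'u : B w' u = 0 := by simpa using hw'.2
    exact ⟨w, w', by rw [hs.eq u w]; exact hwu, by rw [hs.eq u w']; exact hw'u, o, n1, n2,
      hcW w hw.1, hcW w' hw'.1⟩

/-- comparison of the scalars of `s` on two orthogonal non-singular vectors of `W` -/
theorem g1c_coef (B : LinearMap.BilinForm K V) (hs : B.IsSymm) (W : Submodule K V)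
    (τ : K ≃+* K) (s : V → V) (hadd : ∀ u w, s (u + w) = s u + s w)
    (hsmul : ∀ (c : K) v, s (c • v) = τ c • s v)
    (hline : ∀ u ∈ W, B u u ≠ 0 → ∃ a : K, s u = a • u)
    (u u' : V) (huW : u ∈ W) (hu'W : u' ∈ W) (huu' : B u u' = 0) (hu : B u u ≠ 0)
    (hu' : B u' u' ≠ 0) (α α' : K) (hα : s u = α • u) (hα' : s u' = α' • u') (x : K)
    (hx : B u u + x * x * B u' u' ≠ 0) : α * x = τ x * α' := by
  have hu'u : B u' u = 0 := by rw [hs.eq u' u]; exact huu'
  have hvW : u + x • u' ∈ W := W.add_mem huW (W.smul_mem _ hu'W)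
  have hvn : B (u + x • u') (u + x • u') ≠ 0 := by
    have : B (u + x • u') (u + x • u') = B u u + x * x * B u' u' := by
      simp only [map_add, map_smul, LinearMap.add_apply, LinearMap.smul_apply, smul_eq_mul, huu',
        hu'u]
      ring
    rw [this]; exact hx
  obtain ⟨a, ha⟩ := hline _ hvW hvn
  have hsv : s (u + x • u') = α • u + (τ x * α') • u' := by
    rw [hadd, hsmul, hα, hα', smul_smul]
  rw [hsv] at ha
  have e1 : α * B u u = a * B u u := by
    have := congrArg (fun z => B z u) ha
    simp only [map_add, map_smul, LinearMap.add_apply, LinearMap.smul_apply, smul_eq_mul, hu'u,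
      mul_zero, add_zero] at this
    exact this
  have e2 : τ x * α' * B u' u' = a * (x * B u' u') := by
    have := congrArg (fun z => B z u') ha
    simp only [map_add, map_smul, LinearMap.add_apply, LinearMap.smul_apply, smul_eq_mul, huu',
      mul_zero, zero_add] at this
    exact this
  have ha' : α = a := mul_right_cancel₀ hu e1
  have : (τ x * α') * B u' u' = (α * x) * B u' u' := by rw [e2, ha']; ring
  exact (mul_right_cancel₀ hu' this).symm

/-- Step 2: `s` is a scalar on `W` and `τ = 1` -/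
theorem g1c_step2 [Finite K] (h2 : (2 : K) ≠ 0) (B : LinearMap.BilinForm K V) (hs : B.IsSymm)
    (W : Submodule K V) (hWnd : (B.restrict W).Nondegenerate) (h3 : 3 ≤ finrank K W)
    (τ : K ≃+* K) (s : V → V) (hadd : ∀ u w, s (u + w) = s u + s w)
    (hsmul : ∀ (c : K) v, s (c • v) = τ c • s v) (hinj : Function.Injective s)
    (ν : K) (hν : ∀ u w, B (s u) (s w) = ν * τ (B u w))
    (hline : ∀ u ∈ W, B u u ≠ 0 → ∃ a : K, s u = a • u) :
    τ = 1 ∧ ∃ c : K, c ≠ 0 ∧ c * c = ν ∧ ∀ v ∈ W, s v = c • v := by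
  haveI := Fintype.ofFinite K
  obtain ⟨d, hd⟩ : ∃ d, finrank K W = d + 1 := ⟨finrank K W - 1, by omega⟩
  have hd2 : 2 ≤ d := by omega
  obtain ⟨e, he, hn⟩ := Cfsg.Agent.Lib.Helper14.exists_normalized_orthogonal_basis h2 d
    (B.restrict W) (hs.restrict W) hWnd hd
  have hnz : ∀ i, B (e i : V) (e i : V) ≠ 0 := fun i =>
    LinearMap.BilinForm.iIsOrtho.not_isOrtho_basis_self_of_nondegenerate he hWnd i
  have hort : ∀ i j, i ≠ j → B (e i : V) (e j : V) = 0 := fun i j hij => he hij
  have hmem : ∀ i, (e i : V) ∈ W := fun i => (e i).2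
  have hn' : ∀ i, i ≠ Fin.last d → B (e i : V) (e i : V) = 1 := fun i hi => hn i hi
  have hs0 : s 0 = 0 := by
    have := hadd 0 0
    rw [add_zero] at this
    exact left_eq_add.mp this
  choose a ha using fun i => hline (e i : V) (hmem i) (hnz i)
  let i0 : Fin (d + 1) := ⟨0, by omega⟩
  let i1 : Fin (d + 1) := ⟨1, by omega⟩
  have h01 : i0 ≠ i1 := by
    intro h; have := congrArg Fin.val h; simp [i0, i1] at this
  have hi0 : i0 ≠ Fin.last d := by
    intro h; have := congrArg Fin.val h; simp [i0] at this; omega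
  have hi1 : i1 ≠ Fin.last d := by
    intro h; have := congrArg Fin.val h; simp [i1] at this; omega
  have n0 : B (e i0 : V) (e i0 : V) = 1 := hn i0 hi0
  have n1 : B (e i1 : V) (e i1 : V) = 1 := hn i1 hi1
  have htwo : (1 : K) + 1 ≠ 0 := by rw [one_add_one_eq_two]; exact h2
  -- the common scalar
  have hc0 : a i0 ≠ 0 := by
    intro h
    have h1 : s (e i0 : V) = s 0 := by rw [ha i0, h, zero_smul, hs0]
    have h2' := hinj h1
    have := hnz i0
    rw [h2'] at this
    simp at this
  -- all non-last scalars agree with `a i0`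
  have hnl : ∀ i, i ≠ Fin.last d → a i = a i0 := by
    intro i hi
    by_cases hii : i = i0
    · rw [hii]
    · have := g1c_coef B hs W τ s hadd hsmul hline (e i0 : V) (e i : V) (hmem i0) (hmem i)
        (hort i0 i (Ne.symm hii)) (hnz i0) (hnz i) (a i0) (a i) (ha i0) (ha i) 1
        (by rw [n0, hn' i hi]; simpa using htwo)
      rw [map_one, mul_one, one_mul] at this
      exact this.symm
  have h1c : a i1 = a i0 := hnl i1 hi1
  -- the last scalar
  have hlast : a (Fin.last d) = a i0 := by
    set L := Fin.last d with hL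
    by_cases hδ : (1 : K) + B (e L : V) (e L : V) ≠ 0
    · have := g1c_coef B hs W τ s hadd hsmul hline (e i0 : V) (e L : V) (hmem i0) (hmem L)
        (hort i0 L hi0) (hnz i0) (hnz L) (a i0) (a L) (ha i0) (ha L) 1
        (by rw [n0]; simpa using hδ)
      rw [map_one, mul_one, one_mul] at this
      exact this.symm
    · push Not at hδ
      -- use `e i0 + e i1`
      have hu01 : s ((e i0 : V) + (e i1 : V)) = a i0 • ((e i0 : V) + (e i1 : V)) := by
        rw [hadd, ha i0, ha i1, h1c, smul_add]
      have hn01 : B ((e i0 : V) + (e i1 : V)) ((e i0 : V) + (e i1 : V)) = 1 + 1 := by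
        simp only [map_add, LinearMap.add_apply, n0, n1, hort i0 i1 h01, hort i1 i0 h01.symm]
        ring
      have := g1c_coef B hs W τ s hadd hsmul hline ((e i0 : V) + (e i1 : V)) (e L : V)
        (W.add_mem (hmem i0) (hmem i1)) (hmem L)
        (by
          simp only [map_add, LinearMap.add_apply, hort i0 L hi0, hort i1 L hi1, add_zero])
        (by rw [hn01]; exact htwo) (hnz L) (a i0) (a L) hu01 (ha L) 1
        (by
          rw [hn01]
          intro h
          have : (1 : K) = 0 := by linear_combination h - hδ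
          exact one_ne_zero this)
      rw [map_one, mul_one, one_mul] at this
      exact this.symm
  have hall : ∀ i, a i = a i0 := by
    intro i
    by_cases hi : i = Fin.last d
    · rw [hi]; exact hlast
    · exact hnl i hi
  -- `τ = 1`
  have hτ1 : ∀ x : K, 1 + x * x ≠ 0 → τ x = x := by
    intro x hx
    have := g1c_coef B hs W τ s hadd hsmul hline (e i0 : V) (e i1 : V) (hmem i0) (hmem i1)
      (hort i0 i1 h01) (hnz i0) (hnz i1) (a i0) (a i1) (ha i0) (ha i1) x
      (by rw [n0, n1, mul_one]; exact hx)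
    rw [h1c, mul_comm (τ x)] at this
    exact (mul_left_cancel₀ hc0 this).symm
  have hτ : ∀ x : K, τ x = x := by
    intro x
    by_cases hx : 1 + x * x ≠ 0
    · exact hτ1 x hx
    · push Not at hx
      have hx2 : 1 + (x + 2) * (x + 2) ≠ 0 := by
        intro h
        have h4 : (2 : K) * 2 * (x + 1) = 0 := by linear_combination h - hx
        have hx1 : x + 1 = 0 := by
          rcases mul_eq_zero.mp h4 with h | h
          · exact absurd h (mul_ne_zero h2 h2)
          · exact h
        have hxm : x = -1 := by linear_combination hx1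
        rw [hxm] at hx
        apply h2
        linear_combination hx
      have := hτ1 (x + 2) hx2
      rw [map_add, map_ofNat] at this
      exact add_right_cancel this
  have hτeq : τ = 1 := RingEquiv.ext (fun x => by rw [hτ x]; rfl)
  refine ⟨hτeq, a i0, hc0, ?_, ?_⟩
  · have := hν (e i0 : V) (e i0 : V)
    rw [ha i0, n0, map_one, mul_one] at this
    simp only [map_smul, LinearMap.smul_apply, smul_eq_mul, n0, mul_one] at this
    exact this
  · -- linear extension
    let sL : V →ₗ[K] V :=
      { toFun := s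
        map_add' := hadd
        map_smul' := fun c v => by rw [hsmul, hτ]; rfl }
    have hlin : sL.comp W.subtype = (a i0) • W.subtype := by
      apply e.ext
      intro i
      simp only [LinearMap.comp_apply, Submodule.subtype_apply, LinearMap.smul_apply]
      show s (e i : V) = a i0 • (e i : V)
      rw [ha i, hall i]
    intro v hv
    have h := LinearMap.congr_fun hlin ⟨v, hv⟩
    exact h

/-- the core: `W`, `W'` the two eigenspaces (in either order), `W` of dimension `≥ 3` -/
theorem g1c_core [Finite K] (h2 : (2 : K) ≠ 0) (B : LinearMap.BilinForm K V) (hs : B.IsSymm)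
    (hnd : B.Nondegenerate) (t : V ≃ₗ[K] V) (ht : ∀ u w, B (t u) (t w) = B u w)
    (W W' : Submodule K V) (ε : K) (hε : ε * ε = 1)
    (hW : ∀ x ∈ W, t x = ε • x) (hW' : ∀ y ∈ W', t y = (-ε) • y)
    (hWW' : ∀ x ∈ W, ∀ y ∈ W', B x y = 0)
    (hdec : ∀ v, ∃ x ∈ W, ∃ y ∈ W', v = x + y)
    (h3 : 3 ≤ finrank K W) (hodd : Odd (finrank K W')) (h6 : 6 ≤ finrank K W + finrank K W')
    (τ : K ≃+* K) (s : V → V) (hadd : ∀ u w, s (u + w) = s u + s w)
    (hsmul : ∀ (c : K) v, s (c • v) = τ c • s v) (hinj : Function.Injective s)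
    (ν : K) (hν : ∀ u w, B (s u) (s w) = ν * τ (B u w))
    (hcomm : ∀ l : List V, (∀ u ∈ l, B u u ≠ 0) → Even l.length →
      IsSquare (l.map (fun u => B u u)).prod →
      (l.map (fun u => reflE B u)).prod * t = t * (l.map (fun u => reflE B u)).prod →
      ∀ v, s ((l.map (fun u => reflE B u)).prod v) = (l.map (fun u => reflE B u)).prod (s v)) :
    τ = 1 ∧ ∃ c : K, c ≠ 0 ∧ ((∀ v, s v = c • v) ∨ (∀ v, s v = c • t v)) := by
  have hε' : (-ε) * (-ε) = 1 := by rw [neg_mul_neg]; exact hε
  have hcW : ∀ x ∈ W, reflE B x * t = t * reflE B x := fun x hx =>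
    g1c_refl_comm B t ht x ε hε (hW x hx)
  have hcW' : ∀ y ∈ W', reflE B y * t = t * reflE B y := fun y hy =>
    g1c_refl_comm B t ht y (-ε) hε' (hW' y hy)
  have hW'W : ∀ x ∈ W', ∀ y ∈ W, B x y = 0 := fun x hx y hy => by
    rw [hs.eq x y]; exact hWW' y hy x hx
  have hdec' : ∀ v, ∃ x ∈ W', ∃ y ∈ W, v = x + y := fun v => by
    obtain ⟨x, hx, y, hy, rfl⟩ := hdec v
    exact ⟨y, hy, x, hx, add_comm x y⟩
  have hneg : ∀ v, s (-v) = - s v := fun v => by
    have := hsmul (-1) v
    rw [neg_one_smul, map_neg, map_one, neg_one_smul] at this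
    exact this
  have hWnd := g1c_nondeg B hs hnd W W' hWW' hdec
  have hW'nd := g1c_nondeg B hs hnd W' W hW'W hdec'
  have hlineW := g1c_step1 h2 B hs hnd t W W' hcW hcW' hWW' hdec s hneg hcomm
    (by obtain ⟨k, hk⟩ := hodd; omega)
  obtain ⟨hτ, c, hc0, hcc, hcW1⟩ :=
    g1c_step2 h2 B hs W hWnd h3 τ s hadd hsmul hinj ν hν hlineW
  have hτx : ∀ x : K, τ x = x := fun x => by rw [hτ]; rfl
  obtain ⟨c', hc'c', hc'W'⟩ : ∃ c' : K, c' * c' = ν ∧ ∀ y ∈ W', s y = c' • y := by
    by_cases h3' : 3 ≤ finrank K W'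
    · have hlineW' := g1c_step1 h2 B hs hnd t W' W hcW' hcW hW'W hdec' s hneg hcomm (Or.inl h3)
      obtain ⟨_, c', _, hc'c', hc'W'⟩ :=
        g1c_step2 h2 B hs W' hW'nd h3' τ s hadd hsmul hinj ν hν hlineW'
      exact ⟨c', hc'c', hc'W'⟩
    · have h1 : finrank K W' = 1 := by obtain ⟨k, hk⟩ := hodd; omega
      obtain ⟨g, hg0, hg⟩ := finrank_eq_one_iff'.mp h1
      have hgW' : (g : V) ∈ W' := g.2
      -- `g` is non-singular
      have hgn : B (g : V) (g : V) ≠ 0 := by
        intro h
        apply hg0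
        apply hW'nd.1
        intro y
        obtain ⟨l, hl⟩ := hg y
        rw [← hl]
        show B (g : V) ((l • g : W') : V) = 0
        rw [Submodule.coe_smul, map_smul, h, smul_zero]
      -- `s g ∈ W'`
      obtain ⟨x, hx, y', hy', hxy⟩ := hdec (s (g : V))
      have hx0 : (⟨x, hx⟩ : W) = 0 := by
        apply hWnd.1
        intro w
        show B x (w : V) = 0
        have e1 := hν (g : V) (w : V)
        rw [hW'W _ hgW' _ w.2, map_zero, mul_zero, hcW1 _ w.2, map_smul, smul_eq_mul] at e1
        have e2 : B (s (g : V)) (w : V) = 0 := by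
          rcases mul_eq_zero.mp e1 with h | h
          · exact absurd h hc0
          · exact h
        rw [hxy, map_add, LinearMap.add_apply, hW'W y' hy' _ w.2, add_zero] at e2
        exact e2
      have hx0' : x = 0 := by
        have := congrArg Subtype.val hx0
        simpa using this
      rw [hx0', zero_add] at hxy
      obtain ⟨c', hc'⟩ := hg ⟨y', hy'⟩
      have hsg : s (g : V) = c' • (g : V) := by
        rw [hxy]
        have := congrArg Subtype.val hc'
        simpa using this.symm
      refine ⟨c', ?_, ?_⟩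
      · have e := hν (g : V) (g : V)
        rw [hsg, hτx] at e
        simp only [map_smul, LinearMap.smul_apply, smul_eq_mul] at e
        have : (c' * c') * B (g : V) (g : V) = ν * B (g : V) (g : V) := by
          rw [← e]; ring
        exact mul_right_cancel₀ hgn this
      · intro y hy
        obtain ⟨l, hl⟩ := hg ⟨y, hy⟩
        have hyl : y = l • (g : V) := by
          have := congrArg Subtype.val hl
          simpa using this.symm
        rw [hyl, hsmul, hτx, hsg, smul_comm]
  refine ⟨hτ, ?_⟩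
  have hcc' : c' = c ∨ c' = -c := by
    have h : (c' - c) * (c' + c) = 0 := by
      have : c' * c' = c * c := by rw [hc'c', hcc]
      linear_combination this
    rcases mul_eq_zero.mp h with h | h
    · left; exact sub_eq_zero.mp h
    · right; exact eq_neg_of_add_eq_zero_left h
  rcases hcc' with h | h
  · refine ⟨c, hc0, Or.inl ?_⟩
    intro v
    obtain ⟨x, hx, y, hy, rfl⟩ := hdec v
    rw [hadd, hcW1 x hx, hc'W' y hy, h, smul_add]
  · have hε0 : ε ≠ 0 := by
      intro h0
      rw [h0, mul_zero] at hε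
      exact zero_ne_one hε
    refine ⟨c * ε, mul_ne_zero hc0 hε0, Or.inr ?_⟩
    intro v
    obtain ⟨x, hx, y, hy, rfl⟩ := hdec v
    rw [hadd, hcW1 x hx, hc'W' y hy, h, map_add, hW x hx, hW' y hy, smul_add, smul_smul, smul_smul]
    have e1 : c * ε * ε = c := by rw [mul_assoc, hε, mul_one]
    have e2 : c * ε * (-ε) = -c := by
      rw [mul_neg, e1]
    rw [e1, e2]

end findim

end g1c

section invol

variable {K : Type u} [Field K] [Finite K] {V : Type v} [AddCommGroup V] [Module K V]
  [FiniteDimensional K V]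

/-- (MB-G1C) a semilinear semi-similarity `s` commuting with every element of the centralizer of
the isometry involution `t` that is an even product of reflections with square norm product
(i.e. lies in `Ω`) is a scalar times `1` or `t`, and its field automorphism is trivial. -/
theorem cent_invol (h2 : (2 : K) ≠ 0) (B : LinearMap.BilinForm K V) (hs : B.IsSymm)
    (hnd : B.Nondegenerate)
    (t : V ≃ₗ[K] V) (ht : ∀ u w, B (t u) (t w) = B u w) (htt : t * t = 1)
    (hp : Odd (Module.finrank K (LinearMap.ker ((t : V →ₗ[K] V) - 1))))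
    (hm : Odd (Module.finrank K (LinearMap.ker ((t : V →ₗ[K] V) + 1))))
    (hdim : 6 ≤ Module.finrank K V)
    (τ : K ≃+* K) (s : V → V) (hadd : ∀ u w, s (u + w) = s u + s w)
    (hsmul : ∀ (c : K) v, s (c • v) = τ c • s v) (hinj : Function.Injective s)
    (ν : K) (hν : ∀ u w, B (s u) (s w) = ν * τ (B u w))
    (hcomm : ∀ l : List V, (∀ u ∈ l, B u u ≠ 0) → Even l.length →
      IsSquare (l.map (fun u => B u u)).prod →
      (l.map (fun u => reflE B u)).prod * t = t * (l.map (fun u => reflE B u)).prod →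
      ∀ v, s ((l.map (fun u => reflE B u)).prod v) = (l.map (fun u => reflE B u)).prod (s v)) :
    τ = 1 ∧ ∃ c : K, c ≠ 0 ∧ ((∀ v, s v = c • v) ∨ (∀ v, s v = c • t v)) := by
  have memp : ∀ x, x ∈ LinearMap.ker ((t : V →ₗ[K] V) - 1) ↔ t x = x := by
    intro x
    simp [LinearMap.mem_ker, sub_eq_zero]
  have memm : ∀ x, x ∈ LinearMap.ker ((t : V →ₗ[K] V) + 1) ↔ t x = -x := by
    intro x
    simp [LinearMap.mem_ker, add_eq_zero_iff_eq_neg]
  have htt' : ∀ v, t (t v) = v := fun v => by
    have := congrArg (fun f => f v) htt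
    simpa using this
  have hpm : ∀ x ∈ LinearMap.ker ((t : V →ₗ[K] V) - 1),
      ∀ y ∈ LinearMap.ker ((t : V →ₗ[K] V) + 1), B x y = 0 := by
    intro x hx y hy
    have h := ht x y
    rw [(memp x).1 hx, (memm y).1 hy, map_neg] at h
    have h' : (2 : K) * B x y = 0 := by linear_combination -h
    rcases mul_eq_zero.mp h' with h'' | h''
    · exact absurd h'' h2
    · exact h''
  have hmp : ∀ x ∈ LinearMap.ker ((t : V →ₗ[K] V) + 1),
      ∀ y ∈ LinearMap.ker ((t : V →ₗ[K] V) - 1), B x y = 0 := fun x hx y hy => by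
    rw [hs.eq x y]; exact hpm y hy x hx
  have hdecpm : ∀ v, ∃ x ∈ LinearMap.ker ((t : V →ₗ[K] V) - 1),
      ∃ y ∈ LinearMap.ker ((t : V →ₗ[K] V) + 1), v = x + y := by
    intro v
    refine ⟨(2 : K)⁻¹ • (v + t v), (memp _).2 ?_, (2 : K)⁻¹ • (v - t v), (memm _).2 ?_, ?_⟩
    · rw [map_smul, map_add, htt', add_comm]
    · rw [map_smul, map_sub, htt', ← smul_neg, neg_sub]
    · rw [← smul_add]
      have : v + t v + (v - t v) = (2 : K) • v := by rw [two_smul]; abel
      rw [this, smul_smul, inv_mul_cancel₀ h2, one_smul]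
  have hdecmp : ∀ v, ∃ x ∈ LinearMap.ker ((t : V →ₗ[K] V) + 1),
      ∃ y ∈ LinearMap.ker ((t : V →ₗ[K] V) - 1), v = x + y := fun v => by
    obtain ⟨x, hx, y, hy, rfl⟩ := hdecpm v
    exact ⟨y, hy, x, hx, add_comm x y⟩
  have hsum : Module.finrank K (LinearMap.ker ((t : V →ₗ[K] V) - 1)) +
      Module.finrank K (LinearMap.ker ((t : V →ₗ[K] V) + 1)) = Module.finrank K V := by
    have h1 := Submodule.finrank_sup_add_finrank_inf_eq (LinearMap.ker ((t : V →ₗ[K] V) - 1))
      (LinearMap.ker ((t : V →ₗ[K] V) + 1))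
    have hsup : LinearMap.ker ((t : V →ₗ[K] V) - 1) ⊔ LinearMap.ker ((t : V →ₗ[K] V) + 1) = ⊤ := by
      rw [eq_top_iff]
      intro v _
      obtain ⟨x, hx, y, hy, rfl⟩ := hdecpm v
      exact Submodule.add_mem_sup hx hy
    have hinf : LinearMap.ker ((t : V →ₗ[K] V) - 1) ⊓ LinearMap.ker ((t : V →ₗ[K] V) + 1) = ⊥ := by
      rw [eq_bot_iff]
      intro v hv
      have e1 := (memp v).1 hv.1
      have e2 := (memm v).1 hv.2
      have e3 : (2 : K) • v = 0 := by
        rw [two_smul]
        nth_rewrite 1 [← e1]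
        rw [e2]; abel
      rcases smul_eq_zero.mp e3 with h | h
      · exact absurd h h2
      · rw [h]; exact Submodule.zero_mem _
    rw [hsup, hinf, finrank_top, finrank_bot] at h1
    omega
  by_cases h3 : 3 ≤ Module.finrank K (LinearMap.ker ((t : V →ₗ[K] V) - 1))
  · exact g1c_core h2 B hs hnd t ht _ _ 1 (by ring)
      (fun x hx => by rw [one_smul]; exact (memp x).1 hx)
      (fun y hy => by rw [neg_one_smul]; exact (memm y).1 hy)
      hpm hdecpm h3 hm (by omega) τ s hadd hsmul hinj ν hν hcomm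
  · have h3' : 3 ≤ Module.finrank K (LinearMap.ker ((t : V →ₗ[K] V) + 1)) := by omega
    exact g1c_core h2 B hs hnd t ht _ _ (-1) (by ring)
      (fun x hx => by rw [neg_one_smul]; exact (memm x).1 hx)
      (fun y hy => by rw [neg_neg, one_smul]; exact (memp y).1 hy)
      hmp hdecmp h3' hp (by omega) τ s hadd hsmul hinj ν hν hcomm

end invol

end Cfsg.Agent.Lib.Helper79.MBalG1C
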