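import Cfsg.Agent.Lib.Helper79.MinNormal
import Cfsg.Agent.Lib.Helper79.OddMult

set_option autoImplicit false
set_option linter.unusedSectionVars false
set_option linter.style.haveILetI false

namespace Cfsg.Agent.Lib.Helper79

open Cfsg
open scoped ComplexConjugate commutatorElement

universe u

open Matrix Cfsg.Agent.Lib.Helper74 in
/-- A real-valued irreducible character whose restriction to a subgroup contains an irreducible
character of Frobenius–Schur indicator `+1` with multiplicity one has indicator `+1`. -/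
theorem fs_eq_one_of_restrict_mult_one {G : Type u} [Group G] [Fintype G] (I : Subgroup G)
    [Fintype I] {χ : G → ℂ} (hχ : IsIrrCharacter G χ) (hreal : ∀ g, (χ g).im = 0)
    {ψ : I → ℂ} (hψ : IsIrrCharacter I ψ)
    (hψfs : (Nat.card I : ℂ)⁻¹ * ∑ s : I, ψ (s * s) = 1)
    (hmult : classInner (fun i : I => χ i) ψ = 1) :
    (Nat.card G : ℂ)⁻¹ * ∑ s : G, χ (s * s) = 1 := by
  rcases fs_of_real hχ hreal with h | h
  · exact h
  · exfalso
    have hψreal : ∀ g : I, (ψ g).im = 0 := by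
      by_contra hcon
      push Not at hcon
      have := ((fs_trichotomy hψ).2).mpr hcon
      rw [hψfs] at this
      exact one_ne_zero this
    obtain ⟨n, ρ, hρ, rfl⟩ := hχ
    obtain ⟨m, σ, hσ, rfl⟩ := hψ
    obtain ⟨M₀, hM₀0, hM₀, -, hM₀s, -⟩ := exists_form_of_real ρ hρ hreal
    obtain ⟨S₀, hS₀0, hS₀, hspan, hS₀s, -⟩ := exists_form_of_real σ hσ hψreal
    have hρfs : fsInd ρ = -1 := h
    have hσfs : fsInd σ = 1 := hψfs
    rw [hρfs, neg_one_smul] at hM₀s
    rw [hσfs, one_smul] at hS₀s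
    have hdet : M₀.det ≠ 0 := det_ne_zero_of_mem_invForms ρ hρ hM₀ hM₀0
    let τ : Representation ℂ I (Fin n → ℂ) := ρ.comp I.subtype
    have hM₀' : M₀ ∈ invForms τ := fun h => hM₀ (h : G)
    exact classInner_ne_one_of_skew τ σ hσ hM₀' hM₀s hdet hS₀ hS₀s hS₀0 hspan hmult

open Cfsg.Agent.Lib.Helper3 Cfsg.Agent.Lib.Helper75 in
/-- Counting real linear characters against the orthogonal characters lying over an extendible
character of a non-abelian minimal normal subgroup. -/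
theorem card_real_linear_le_of_minimal_normal {G : Type u} [Group G] [Finite G]
    (N : Subgroup G)
    (hN : N.Normal) (hmin : ∀ M : Subgroup G, M.Normal → M ≤ N → M = ⊥ ∨ M = N)
    (hna : ¬ IsMulCommutative ↥N) (φ : IrrCharacter ↥N) (I : Subgroup G)
    (hI : ∀ g : G, g ∈ I ↔ ∀ n n' : ↥N, (n' : G) = g * (n : G) * g⁻¹ →
      (φ : ↥N → ℂ) n' = (φ : ↥N → ℂ) n)
    (hNI : N ≤ I)
    (hext : ∃ ψ : IrrCharacter ↥I,
      (Nat.card ↥I : ℂ)⁻¹ * ∑ᶠ g : ↥I, (ψ : ↥I → ℂ) (g * g) = 1 ∧ ∀ n : ↥N,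
      (ψ : ↥I → ℂ) (Subgroup.inclusion hNI n) = (φ : ↥N → ℂ) n) :
    Nat.card {χ : IrrCharacter G // charDegree (χ : G → ℂ) = 1 ∧
        (Nat.card G : ℂ)⁻¹ * ∑ᶠ g : G, (χ : G → ℂ) (g * g) = 1} ≤
      I.index * Nat.card {χ : IrrCharacter G //
        charDegree (χ : G → ℂ) = charDegree (φ : ↥N → ℂ) * I.index ∧
        (Nat.card G : ℂ)⁻¹ * ∑ᶠ g : G, (χ : G → ℂ) (g * g) = 1} := by
  classical
  haveI := Fintype.ofFinite G
  haveI := hN
  haveI : Fintype I := Fintype.ofFinite I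
  haveI : Fintype N := Fintype.ofFinite N
  haveI : Finite (IrrCharacter G) := irrCharacter_finite
  haveI := Fintype.ofFinite (IrrCharacter G)
  obtain ⟨ψ, hψfs', hψφ⟩ := hext
  have hψfs : (Nat.card I : ℂ)⁻¹ * ∑ s : I, (ψ : I → ℂ) (s * s) = 1 := by
    rw [← finsum_eq_sum_of_fintype]
    exact hψfs'
  have hT : ∀ g : G, g ∈ I ↔ ∀ h : N,
      (φ : N → ℂ) ⟨g * h * g⁻¹, hN.conj_mem h h.2 g⟩ = (φ : N → ℂ) h := by
    intro g
    rw [hI g]
    constructor
    · intro h n
      exact h n ⟨g * n * g⁻¹, hN.conj_mem n n.2 g⟩ rfl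
    · intro h n n' hn'
      have h1 := h n
      have h2 : n' = ⟨g * n * g⁻¹, hN.conj_mem n n.2 g⟩ := Subtype.ext hn'
      rw [h2]
      exact h1
  have hperf : ⁅N, N⁆ = N := commutator_eq_of_minimal_normal N hmin hna
  set N' : Subgroup I := N.subgroupOf I with hN'
  haveI : Fintype N' := Fintype.ofFinite N'
  haveI : N'.Normal := hN.subgroupOf I
  have hresψ : (fun n : N' => (ψ : I → ℂ) n) = resSub N I (φ : N → ℂ) := by
    funext x
    exact hψφ ⟨(x : I), Subgroup.mem_subgroupOf.mp x.2⟩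
  have hresirr : IsIrrCharacter N' (resSub N I (φ : N → ℂ)) := isIrrCharacter_resSub hNI φ.2
  have hψN : IsIrrCharacter N' (fun n : N' => (ψ : I → ℂ) n) := by
    rw [hresψ]
    exact hresirr
  -- linear characters
  have hlin : ∀ lam : IrrCharacter G, charDegree (lam : G → ℂ) = 1 → ∃ f : G →* ℂˣ,
      (∀ g, (lam : G → ℂ) g = ((f g : ℂˣ) : ℂ)) ∧ ∀ n ∈ N, f n = 1 := by
    intro lam hlam
    obtain ⟨d, _, hd1, hd2, -⟩ := Cfsg.Agent.Lib.Helper16.irr_degree_spec lam
    have h1 : (lam : G → ℂ) 1 = 1 := by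
      rw [hd1, ← hd2, hlam]
      simp
    obtain ⟨f, hf⟩ := exists_monoidHom_of_isCharacter_of_one (IsIrrCharacter.isCharacter lam.2) h1
    refine ⟨f, hf, ?_⟩
    intro n hn
    have h2 : ⁅N, N⁆ ≤ f.ker :=
      (Subgroup.commutator_mono le_top le_top).trans (Abelianization.commutator_subset_ker f)
    rw [← hperf] at hn
    exact h2 hn
  -- the twisted characters
  let tw : IrrCharacter G → (I → ℂ) := fun lam => (fun i : I => (lam : G → ℂ) i) * (ψ : I → ℂ)
  let F : IrrCharacter G → (G → ℂ) := fun lam => indFun I (tw lam)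
  have hlamI : ∀ lam : IrrCharacter G, charDegree (lam : G → ℂ) = 1 →
      IsIrrCharacter I (fun i : I => (lam : G → ℂ) i) ∧
      (∀ (n : N') (g : I), (fun i : I => (lam : G → ℂ) i) ((n : I) * g) =
        (fun i : I => (lam : G → ℂ) i) g) ∧ (lam : G → ℂ) 1 = 1 := by
    intro lam hlam
    obtain ⟨f, hf, hfN⟩ := hlin lam hlam
    refine ⟨?_, ?_, ?_⟩
    · have := isIrrCharacter_of_monoidHom (f.comp I.subtype)
      convert this using 2
      exact hf _
    · intro n g
      change (lam : G → ℂ) (((n : I) : G) * (g : G)) = (lam : G → ℂ) (g : G)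
      rw [hf, hf, map_mul, hfN _ (Subgroup.mem_subgroupOf.mp n.2), one_mul]
    · rw [hf, map_one]
      rfl
  have htw : ∀ lam : IrrCharacter G, charDegree (lam : G → ℂ) = 1 →
      IsIrrCharacter I (tw lam) ∧
      classInner (indFun N' (resSub N I (φ : N → ℂ))) (tw lam) ≠ 0 := by
    intro lam hlam
    obtain ⟨h1, h2, h3⟩ := hlamI lam hlam
    have hirr : IsIrrCharacter I (tw lam) :=
      Cfsg.Agent.Lib.Helper15.isIrrCharacter_mul_ext N' ψ.2 hψN h1 h2
    refine ⟨hirr, ?_⟩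
    rw [Cfsg.Agent.Lib.Helper25.frobenius_reciprocity N' _ _
      (IsCharacter.isClassFunction (IsIrrCharacter.isCharacter hirr))]
    have h4 : (fun h : N' => tw lam h) = resSub N I (φ : N → ℂ) := by
      rw [← hresψ]
      funext x
      change (lam : G → ℂ) ((x : I) : G) * (ψ : I → ℂ) x = (ψ : I → ℂ) x
      have := h2 x 1
      simp only [mul_one] at this
      have h5 : (lam : G → ℂ) ((x : I) : G) = 1 := by
        rw [this]
        exact h3
      rw [h5, one_mul]
    rw [h4, classInner_irr hresirr hresirr, if_pos rfl]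
    exact one_ne_zero
  obtain ⟨dφ, _, hdφ1, hdφ2, -⟩ := Cfsg.Agent.Lib.Helper16.irr_degree_spec φ
  have hψ1 : (ψ : I → ℂ) 1 = (dφ : ℂ) := by
    rw [← hdφ1, ← hψφ 1]
    rfl
  have hF : ∀ lam : IrrCharacter G, charDegree (lam : G → ℂ) = 1 →
      IsIrrCharacter G (F lam) ∧ charDegree (F lam) = charDegree (φ : N → ℂ) * I.index := by
    intro lam hlam
    obtain ⟨h1, h2⟩ := htw lam hlam
    refine ⟨(clifford_corr_induction N I (φ : N → ℂ) φ.2 hT hNI (tw lam) (tw lam) h1 h1 h2 h2).1, ?_⟩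
    rw [hdφ2]
    apply charDegree_of_natCast'
    change indFun I (tw lam) 1 = _
    rw [Cfsg.Agent.Lib.Helper75.indFun_apply_one]
    change (I.index : ℂ) * ((lam : G → ℂ) 1 * (ψ : I → ℂ) 1) = _
    rw [(hlamI lam hlam).2.2, hψ1]
    push_cast
    ring
  have hFinj : ∀ lam lam' : IrrCharacter G, charDegree (lam : G → ℂ) = 1 →
      charDegree (lam' : G → ℂ) = 1 → F lam = F lam' →
      (fun i : I => (lam : G → ℂ) i) = fun i : I => (lam' : G → ℂ) i := by
    intro lam lam' hlam hlam' hFF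
    obtain ⟨h1, h2⟩ := htw lam hlam
    obtain ⟨h1', h2'⟩ := htw lam' hlam'
    have h3 := (clifford_corr_induction N I (φ : N → ℂ) φ.2 hT hNI (tw lam) (tw lam') h1 h1'
      h2 h2').2 hFF
    obtain ⟨a1, a2, _⟩ := hlamI lam hlam
    obtain ⟨b1, b2, _⟩ := hlamI lam' hlam'
    exact Cfsg.Agent.Lib.Helper15.mul_ext_injective N' ψ.2 hψN a1 a2 b1 b2 h3
  -- Frobenius–Schur indicators
  have hfsG : ∀ χ : G → ℂ, ((Nat.card G : ℂ)⁻¹ * ∑ᶠ g : G, χ (g * g) = 1) ↔
      ((Nat.card G : ℂ)⁻¹ * ∑ g : G, χ (g * g) = 1) := by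
    intro χ
    rw [finsum_eq_sum_of_fintype]
  have hψreal : ∀ g : I, ((ψ : I → ℂ) g).im = 0 := by
    by_contra hcon
    push Not at hcon
    have := ((Cfsg.Agent.Lib.Helper74.fs_trichotomy ψ.2).2).mpr hcon
    rw [hψfs] at this
    exact one_ne_zero this
  have hFfs : ∀ lam : IrrCharacter G, charDegree (lam : G → ℂ) = 1 →
      (Nat.card G : ℂ)⁻¹ * ∑ g : G, (lam : G → ℂ) (g * g) = 1 →
      (Nat.card G : ℂ)⁻¹ * ∑ g : G, F lam (g * g) = 1 := by
    intro lam hlam hlamfs
    have hlamreal : ∀ g : G, ((lam : G → ℂ) g).im = 0 := by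
      by_contra hcon
      push Not at hcon
      have := ((Cfsg.Agent.Lib.Helper74.fs_trichotomy lam.2).2).mpr hcon
      rw [hlamfs] at this
      exact one_ne_zero this
    obtain ⟨f, hf, _⟩ := hlin lam hlam
    have hsq : ∀ g : G, (lam : G → ℂ) (g * g) = 1 := by
      intro g
      have h1 : (lam : G → ℂ) g⁻¹ = conj ((lam : G → ℂ) g) := by
        obtain ⟨k, ρ, _, hρ⟩ := lam.2
        rw [← hρ]
        exact Cfsg.Agent.Lib.Helper3.character_inv ρ g
      have h2 : conj ((lam : G → ℂ) g) = (lam : G → ℂ) g :=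
        Complex.conj_eq_iff_im.mpr (hlamreal g)
      have h3 : (lam : G → ℂ) g * (lam : G → ℂ) g⁻¹ = 1 := by
        rw [hf, hf, ← Units.val_mul, ← map_mul, mul_inv_cancel, map_one]
        rfl
      rw [hf, map_mul, Units.val_mul, ← hf]
      rw [h1, h2] at h3
      exact h3
    obtain ⟨htwirr, _⟩ := htw lam hlam
    have htwfs : (Nat.card I : ℂ)⁻¹ * ∑ s : I, tw lam (s * s) = 1 := by
      rw [← hψfs]
      congr 1
      apply Finset.sum_congr rfl
      intro s _
      change (lam : G → ℂ) (((s * s : I) : G)) * (ψ : I → ℂ) (s * s) = _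
      rw [Subgroup.coe_mul, hsq, one_mul]
    have htwreal : ∀ i : I, (tw lam i).im = 0 := by
      intro i
      change ((lam : G → ℂ) (i : G) * (ψ : I → ℂ) i).im = 0
      rw [Complex.mul_im, hlamreal, hψreal]
      ring
    have hFreal : ∀ g : G, (F lam g).im = 0 := by
      intro g
      rw [← Complex.conj_eq_iff_im]
      change conj (indFun I (tw lam) g) = indFun I (tw lam) g
      rw [Cfsg.Agent.Lib.Helper25.indFun_apply, map_mul, map_inv₀, Complex.conj_natCast, map_sum]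
      congr 1
      apply Finset.sum_congr rfl
      intro x _
      by_cases hx : x⁻¹ * g * x ∈ I
      · rw [Cfsg.Agent.Lib.Helper25.extendByZero_of_mem I _ hx]
        exact Complex.conj_eq_iff_im.mpr (htwreal _)
      · rw [Cfsg.Agent.Lib.Helper25.extendByZero_of_not_mem I _ hx, map_zero]
    obtain ⟨hFirr, _⟩ := hF lam hlam
    have hmult : classInner (fun i : I => F lam i) (tw lam) = 1 := by
      rw [← Cfsg.Agent.Lib.Helper25.frobenius_reciprocity' I (tw lam) (F lam)
        (IsCharacter.isClassFunction (IsIrrCharacter.isCharacter hFirr))]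
      change classInner (F lam) (F lam) = 1
      rw [classInner_irr hFirr hFirr, if_pos rfl]
    exact fs_eq_one_of_restrict_mult_one I hFirr hFreal htwirr htwfs hmult
  -- counting
  set s : Finset (IrrCharacter G) :=
    Finset.univ.filter (fun lam => charDegree (lam : G → ℂ) = 1 ∧
      (Nat.card G : ℂ)⁻¹ * ∑ᶠ g : G, (lam : G → ℂ) (g * g) = 1) with hs
  set t : Finset (IrrCharacter G) := Finset.univ.filter
    (fun χ => charDegree (χ : G → ℂ) = charDegree (φ : N → ℂ) * I.index ∧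
      (Nat.card G : ℂ)⁻¹ * ∑ᶠ g : G, (χ : G → ℂ) (g * g) = 1) with ht
  have hcard_s : Nat.card {χ : IrrCharacter G // charDegree (χ : G → ℂ) = 1 ∧
      (Nat.card G : ℂ)⁻¹ * ∑ᶠ g : G, (χ : G → ℂ) (g * g) = 1} = s.card := by
    rw [Nat.card_eq_fintype_card, Fintype.card_subtype]
  have hcard_t : Nat.card {χ : IrrCharacter G //
      charDegree (χ : G → ℂ) = charDegree (φ : N → ℂ) * I.index ∧
      (Nat.card G : ℂ)⁻¹ * ∑ᶠ g : G, (χ : G → ℂ) (g * g) = 1} = t.card := by
    rw [Nat.card_eq_fintype_card, Fintype.card_subtype]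
  rw [hcard_s, hcard_t]
  have himg : (s.image F).card ≤ t.card := by
    have hsub : s.image F ⊆ t.image (fun χ : IrrCharacter G => χ.1) := by
      intro a ha
      obtain ⟨lam, hlam, rfl⟩ := Finset.mem_image.mp ha
      obtain ⟨hlam1, hlam2⟩ := (Finset.mem_filter.mp hlam).2
      obtain ⟨h1, h2⟩ := hF lam hlam1
      have h3 := hFfs lam hlam1 ((hfsG _).mp hlam2)
      exact Finset.mem_image.mpr ⟨⟨F lam, h1⟩,
        Finset.mem_filter.mpr ⟨Finset.mem_univ _, h2, (hfsG _).mpr h3⟩, rfl⟩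
    exact (Finset.card_le_card hsub).trans Finset.card_image_le
  have hfib : ∀ a ∈ s.image F, (s.filter (fun x => F x = a)).card ≤ I.index := by
    intro a ha
    obtain ⟨lam₀, hlam₀, rfl⟩ := Finset.mem_image.mp ha
    have hlam₀' : charDegree (lam₀ : G → ℂ) = 1 := (Finset.mem_filter.mp hlam₀).2.1
    obtain ⟨c1, _, c3⟩ := hlamI lam₀ hlam₀'
    apply card_le_index_of_restrict_eq I c1 c3
    intro lam hlam
    obtain ⟨hl1, hl2⟩ := Finset.mem_filter.mp hlam
    exact hFinj lam lam₀ (Finset.mem_filter.mp hl1).2.1 hlam₀' hl2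
  calc s.card ≤ I.index * (s.image F).card := Finset.card_le_mul_card_image s I.index hfib
    _ ≤ I.index * t.card := Nat.mul_le_mul_left _ himg

end Cfsg.Agent.Lib.Helper79
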