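import Mathlib
import Cfsg.Prelude.Def_Characters
import Cfsg.Agent.Lib.Helper79.PermFS
import Cfsg.Agent.Lib.Helper79.CliffordCorr
import Cfsg.Agent.Lib.Helper79.Abelian
import Cfsg.Agent.Lib.Helper15.Gallagher
import Cfsg.Agent.Lib.Helper3.OddOrder
import Cfsg.Agent.Lib.Helper3.IndAlg
import Cfsg.Agent.Lib.Helper74.FS5

set_option autoImplicit false
set_option linter.unusedSectionVars false
set_option linter.style.haveILetI false

namespace Cfsg.Agent.Lib.Helper79

open Cfsg Cfsg.Agent.Lib.Helper75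
open scoped ComplexConjugate

universe u

section OddIndexReal

variable {G : Type u} [Group G] [Fintype G]

/-- The sum of an induced function over squares. -/
theorem sum_indFun_sq (H : Subgroup G) (θ : H → ℂ) :
    ∑ g : G, indFun H θ (g * g) =
      (Nat.card H : ℂ)⁻¹ * ((Nat.card G : ℂ) * ∑ g : G, extendByZero H θ (g * g)) := by
  classical
  simp only [Cfsg.Agent.Lib.Helper25.indFun_apply]
  rw [← Finset.mul_sum, Finset.sum_comm]
  congr 1
  have hx : ∀ x : G, ∑ g : G, extendByZero H θ (x⁻¹ * (g * g) * x) =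
      ∑ g : G, extendByZero H θ (g * g) := by
    intro x
    apply Fintype.sum_equiv (MulAut.conj x⁻¹).toEquiv
    intro g
    congr 1
    simp only [MulEquiv.toEquiv_eq_coe, MulEquiv.coe_toEquiv, MulAut.conj_apply, inv_inv]
    group
  rw [Finset.sum_congr rfl (fun x _ => hx x), Finset.sum_const, Finset.card_univ, nsmul_eq_mul,
    Nat.card_eq_fintype_card (α := G)]

/-- In a normal subgroup of odd index, square roots of members are members. -/
theorem mem_of_sq_mem_of_odd_index (N : Subgroup G) [N.Normal] (hodd : Odd N.index) {g : G}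
    (h : g * g ∈ N) : g ∈ N := by
  have h1 : ((g : G ⧸ N)) ^ 2 = 1 := by
    rw [pow_two, ← QuotientGroup.mk_mul]
    exact (QuotientGroup.eq_one_iff _).mpr h
  have h2 : orderOf (g : G ⧸ N) ∣ 2 := orderOf_dvd_of_pow_eq_one h1
  have h3 : orderOf (g : G ⧸ N) ∣ N.index := by
    rw [Subgroup.index_eq_card]
    exact orderOf_dvd_natCard _
  have h4 : orderOf (g : G ⧸ N) = 1 := by
    have h5 := Nat.dvd_gcd h2 h3
    have hc : Nat.gcd 2 N.index = 1 := Nat.coprime_two_left.mpr hodd
    rw [hc] at h5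
    exact Nat.dvd_one.mp h5
  exact (QuotientGroup.eq_one_iff _).mp (orderOf_eq_one_iff.mp h4)

/-- The Frobenius–Schur sum of a function induced from a normal subgroup of odd index. -/
theorem fs_indFun_of_odd_index (N : Subgroup G) [N.Normal] [Fintype N] (hodd : Odd N.index)
    (θ : N → ℂ) :
    (Nat.card G : ℂ)⁻¹ * ∑ g : G, indFun N θ (g * g) =
      (Nat.card N : ℂ)⁻¹ * ∑ n : N, θ (n * n) := by
  classical
  rw [sum_indFun_sq]
  have h0 : ∀ g : G, g ∉ N → extendByZero N θ (g * g) = 0 := fun g hg =>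
    Cfsg.Agent.Lib.Helper25.extendByZero_of_not_mem N θ
      (fun h => hg (mem_of_sq_mem_of_odd_index N hodd h))
  have h1 : ∑ g : G, extendByZero N θ (g * g) = ∑ n : N, θ (n * n) := by
    rw [← Finset.sum_subset (Finset.subset_univ (Finset.univ.filter (fun g : G => g ∈ N)))
      (by
        intro g _ hg
        apply h0
        simpa using hg)]
    rw [Finset.sum_subtype (Finset.univ.filter (fun g : G => g ∈ N)) (p := fun g : G => g ∈ N)
      (by simp)]
    apply Finset.sum_congr rfl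
    intro n _
    exact Cfsg.Agent.Lib.Helper25.extendByZero_coe N θ (n * n)
  rw [h1]
  have hG0 : (Nat.card G : ℂ) ≠ 0 := by exact_mod_cast Nat.card_pos.ne'
  field_simp

/-- Existence: over an irreducible character `φ` of indicator `1` of a normal subgroup of odd
index lies an irreducible character of indicator `1`. -/
theorem exists_fs_one_over (N : Subgroup G) [N.Normal] [Fintype N] (hodd : Odd N.index)
    (φ : IrrCharacter N)
    (hφ : (Nat.card N : ℂ)⁻¹ * ∑ n : N, (φ : N → ℂ) (n * n) = 1) :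
    ∃ χ : IrrCharacter G, (Nat.card G : ℂ)⁻¹ * ∑ g : G, (χ : G → ℂ) (g * g) = 1 ∧
      classInner (fun n : N => (χ : G → ℂ) n) (φ : N → ℂ) ≠ 0 := by
  classical
  haveI : Finite (IrrCharacter G) := Cfsg.Agent.Lib.Helper3.irrCharacter_finite
  haveI := Fintype.ofFinite (IrrCharacter G)
  by_contra hcon
  push Not at hcon
  have hsum := sum_classInner_mul_fs (π := indFun N (φ : N → ℂ))
    (Cfsg.Agent.Lib.Helper3.isClassFunction_indFun N _)
  rw [fs_indFun_of_odd_index N hodd, hφ] at hsum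
  have hterm : ∀ χ : IrrCharacter G,
      (classInner (indFun N (φ : N → ℂ)) (χ : G → ℂ) *
        ((Nat.card G : ℂ)⁻¹ * ∑ s : G, (χ : G → ℂ) (s * s))).re ≤ 0 := by
    intro χ
    have hχc : IsCharacter G (χ : G → ℂ) := Cfsg.Agent.Lib.Helper3.IsIrrCharacter.isCharacter χ.2
    rw [Cfsg.Agent.Lib.Helper25.frobenius_reciprocity N _ _
      (Cfsg.Agent.Lib.Helper3.IsCharacter.isClassFunction hχc)]
    obtain ⟨m, hm⟩ := classInner_character_eq_natCast
      (Cfsg.Agent.Lib.Helper3.IsIrrCharacter.isCharacter φ.2)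
      (Cfsg.Agent.Lib.Helper3.IsCharacter.restrict hχc N)
    rw [hm]
    rcases (Cfsg.Agent.Lib.Helper74.fs_trichotomy χ.2).1 with h | h | h
    · rw [h]; simp
    · have := hcon χ h
      rw [Cfsg.Agent.Lib.Helper3.classInner_conj_symm, hm] at this
      have hm0 : m = 0 := by
        have : (m : ℂ) = 0 := by simpa using this
        exact_mod_cast this
      rw [hm0]; simp
    · rw [h]; simp
  have : (∑ χ : IrrCharacter G, classInner (indFun N (φ : N → ℂ)) (χ : G → ℂ) *
        ((Nat.card G : ℂ)⁻¹ * ∑ s : G, (χ : G → ℂ) (s * s))).re ≤ 0 := by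
    rw [Complex.re_sum]
    exact Finset.sum_nonpos (fun χ _ => hterm χ)
  rw [hsum] at this
  simp at this
  linarith

/-- The complex conjugate irreducible character. -/
noncomputable def conjIrr' (β : IrrCharacter G) : IrrCharacter G :=
  ⟨fun g => conj ((β : G → ℂ) g), Cfsg.Agent.Lib.Helper3.IsIrrCharacter.conj β.2⟩

theorem conjIrr'_apply (β : IrrCharacter G) (g : G) :
    (conjIrr' β : G → ℂ) g = conj ((β : G → ℂ) g) := rfl

theorem conjIrr'_conjIrr' (β : IrrCharacter G) : conjIrr' (conjIrr' β) = β := by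
  apply Subtype.ext
  funext g
  simp [conjIrr'_apply]

/-- Parity of the inner product of restrictions of real-valued irreducible characters to a
normal subgroup of odd index. -/
theorem classInner_restrict_parity (N : Subgroup G) [N.Normal] [Fintype N] (hodd : Odd N.index)
    (χ χ' : IrrCharacter G) (hχ : ∀ g, ((χ : G → ℂ) g).im = 0)
    (hχ' : ∀ g, ((χ' : G → ℂ) g).im = 0) :
    ∃ k : ℕ, classInner (fun n : N => (χ : G → ℂ) n) (fun n : N => (χ' : G → ℂ) n) =
      ((2 * k + (if χ = χ' then 1 else 0) : ℕ) : ℂ) := by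
  classical
  haveI : Finite (IrrCharacter G) := Cfsg.Agent.Lib.Helper3.irrCharacter_finite
  haveI := Fintype.ofFinite (IrrCharacter G)
  have hχc : IsCharacter G (χ : G → ℂ) := Cfsg.Agent.Lib.Helper3.IsIrrCharacter.isCharacter χ.2
  have hχ'c : IsCharacter G (χ' : G → ℂ) := Cfsg.Agent.Lib.Helper3.IsIrrCharacter.isCharacter χ'.2
  have hreal : ∀ g, conj ((χ : G → ℂ) g) = (χ : G → ℂ) g := fun g =>
    Complex.conj_eq_iff_im.mpr (hχ g)
  have hreal' : ∀ g, conj ((χ' : G → ℂ) g) = (χ' : G → ℂ) g := fun g =>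
    Complex.conj_eq_iff_im.mpr (hχ' g)
  set B : Finset (IrrCharacter G) := Finset.univ.filter
    (fun β : IrrCharacter G => ∀ (n : N) (g : G), (β : G → ℂ) ((n : G) * g) = (β : G → ℂ) g) with hB
  have hΘ := Cfsg.Agent.Lib.Helper15.cosetAvg_eq_sum N (χ := (χ' : G → ℂ)) (ψ := (χ : G → ℂ)) hχ'c
    (Cfsg.Agent.Lib.Helper3.IsCharacter.isClassFunction hχc)
  have h1 := congrFun hΘ 1
  rw [Cfsg.Agent.Lib.Helper15.cosetAvg_one] at h1
  rw [Finset.sum_apply] at h1
  simp only [Pi.smul_apply, smul_eq_mul] at h1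
  -- natural-number coefficients
  have hA : ∀ β : IrrCharacter G, ∃ a : ℕ,
      classInner (χ : G → ℂ) ((β : G → ℂ) * (χ' : G → ℂ)) = (a : ℂ) := fun β =>
    classInner_character_eq_natCast hχc
      (Cfsg.Agent.Lib.Helper3.IsCharacter.mul
        (Cfsg.Agent.Lib.Helper3.IsIrrCharacter.isCharacter β.2) hχ'c)
  choose a ha using hA
  have hD : ∀ β : IrrCharacter G, ∃ d : ℕ, (β : G → ℂ) 1 = (d : ℂ) := fun β =>
    exists_nat_irr_one β
  choose d hd using hD
  have h2 : classInner (fun n : N => (χ : G → ℂ) n) (fun n : N => (χ' : G → ℂ) n) =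
      ((∑ β ∈ B, a β * d β : ℕ) : ℂ) := by
    rw [h1]
    push_cast
    apply Finset.sum_congr rfl
    intro β _
    rw [ha, hd]
  -- the trivial character
  have htrivB : trivIrr' G ∈ B := by
    rw [hB, Finset.mem_filter]
    exact ⟨Finset.mem_univ _, fun n g => rfl⟩
  have hatriv : a (trivIrr' G) = if χ = χ' then 1 else 0 := by
    have h3 : classInner (χ : G → ℂ) ((trivIrr' G : G → ℂ) * (χ' : G → ℂ)) =
        classInner (χ : G → ℂ) (χ' : G → ℂ) := by
      congr 1
      funext g
      simp [trivIrr'_apply]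
    have h4 := ha (trivIrr' G)
    rw [h3, Cfsg.Agent.Lib.Helper3.classInner_irr χ.2 χ'.2] at h4
    by_cases hcc : χ = χ'
    · rw [if_pos hcc]
      rw [if_pos (congrArg Subtype.val hcc)] at h4
      exact_mod_cast h4.symm
    · rw [if_neg hcc]
      rw [if_neg (fun h => hcc (Subtype.ext h))] at h4
      exact_mod_cast h4.symm
  have hdtriv : d (trivIrr' G) = 1 := by
    have := hd (trivIrr' G)
    rw [trivIrr'_apply] at this
    exact_mod_cast this.symm
  -- invariance of the coefficients under conjugation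
  have haconj : ∀ β : IrrCharacter G, a (conjIrr' β) = a β := by
    intro β
    have h5 : classInner (χ : G → ℂ) ((conjIrr' β : G → ℂ) * (χ' : G → ℂ)) =
        conj (classInner (χ : G → ℂ) ((β : G → ℂ) * (χ' : G → ℂ))) := by
      unfold classInner
      rw [map_mul, map_sum]
      congr 1
      · simp
      · apply Finset.sum_congr rfl
        intro g _
        simp only [Pi.mul_apply, conjIrr'_apply, map_mul, Complex.conj_conj, hreal, hreal']
    rw [ha, ha, Complex.conj_natCast] at h5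
    exact_mod_cast h5
  have hdconj : ∀ β : IrrCharacter G, d (conjIrr' β) = d β := by
    intro β
    have h5 := hd (conjIrr' β)
    rw [conjIrr'_apply, hd β, Complex.conj_natCast] at h5
    exact_mod_cast h5.symm
  -- the sum over the other characters is even
  have heven : Even (∑ β ∈ B.erase (trivIrr' G), a β * d β) := by
    rw [← ZMod.natCast_eq_zero_iff_even]
    push_cast
    refine Finset.sum_involution (fun β _ => conjIrr' β) ?_ ?_ ?_ ?_
    · intro β _
      rw [haconj, hdconj]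
      exact CharTwo.add_self_eq_zero _
    · intro β hβ _ hfix
      rw [Finset.mem_erase, hB, Finset.mem_filter] at hβ
      obtain ⟨hne, _, hconst⟩ := hβ
      have hβreal : ∀ g, ((β : G → ℂ) g).im = 0 := by
        intro g
        have := congrFun (congrArg Subtype.val hfix) g
        rw [conjIrr'_apply] at this
        exact Complex.conj_eq_iff_im.mp this
      have hfs := fs_eq_of_odd_index N hodd β (fun k hk => by
        have := hconst ⟨k, hk⟩ 1
        simpa using this)
      rw [Cfsg.Agent.Lib.Helper3.classInner_irr β.2 (trivIrr' G).2,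
        if_neg (fun h => hne (Subtype.ext h))] at hfs
      rcases Cfsg.Agent.Lib.Helper74.fs_of_real β.2 hβreal with h | h
      · rw [h] at hfs; exact one_ne_zero hfs
      · rw [h] at hfs
        exact (neg_ne_zero.mpr one_ne_zero) hfs
    · intro β hβ
      rw [Finset.mem_erase, hB, Finset.mem_filter] at hβ ⊢
      obtain ⟨hne, _, hconst⟩ := hβ
      refine ⟨?_, Finset.mem_univ _, ?_⟩
      · intro h
        apply hne
        rw [← conjIrr'_conjIrr' β, h]
        apply Subtype.ext
        funext g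
        simp [conjIrr'_apply, trivIrr'_apply]
      · intro n g
        rw [conjIrr'_apply, conjIrr'_apply, hconst]
    · intro β _
      exact conjIrr'_conjIrr' β
  obtain ⟨k, hk⟩ := heven
  refine ⟨k, ?_⟩
  rw [h2, ← Finset.add_sum_erase B _ htrivB, hk, hatriv, hdtriv]
  congr 1
  ring

/-- Multiplicities in a restriction to a normal subgroup are constant on conjugacy orbits. -/
theorem classInner_restrict_conjFun (N : Subgroup G) [N.Normal] [Fintype N] {χ : G → ℂ}
    (hχ : IsClassFunction G χ) (g : G) (θ : N → ℂ) :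
    classInner (fun n : N => χ n) (conjFun N g θ) = classInner (fun n : N => χ n) θ := by
  conv_lhs => rw [← conjFun_restrict N g hχ]
  exact classInner_conjFun N g _ _

/-- Clifford: the inner products of the restrictions of two irreducible characters lying over
the same `φ`. -/
theorem classInner_restrict_of_over (N : Subgroup G) [N.Normal] [Fintype N]
    (χ χ' : IrrCharacter G) (φ : IrrCharacter N) (m m' : ℕ)
    (hm : classInner (fun n : N => (χ : G → ℂ) n) (φ : N → ℂ) = (m : ℂ))
    (hm' : classInner (fun n : N => (χ' : G → ℂ) n) (φ : N → ℂ) = (m' : ℂ))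
    (hm0 : m ≠ 0) (hm0' : m' ≠ 0) :
    ∃ t : ℕ,
      classInner (fun n : N => (χ : G → ℂ) n) (fun n : N => (χ : G → ℂ) n) = ((t * m * m : ℕ) : ℂ) ∧
      classInner (fun n : N => (χ' : G → ℂ) n) (fun n : N => (χ' : G → ℂ) n) =
        ((t * m' * m' : ℕ) : ℂ) ∧
      classInner (fun n : N => (χ : G → ℂ) n) (fun n : N => (χ' : G → ℂ) n) =
        ((t * m * m' : ℕ) : ℂ) := by
  classical
  haveI : Finite (IrrCharacter N) := Cfsg.Agent.Lib.Helper3.irrCharacter_finite
  haveI := Fintype.ofFinite (IrrCharacter N)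
  have hχc : IsCharacter G (χ : G → ℂ) := Cfsg.Agent.Lib.Helper3.IsIrrCharacter.isCharacter χ.2
  have hχ'c : IsCharacter G (χ' : G → ℂ) := Cfsg.Agent.Lib.Helper3.IsIrrCharacter.isCharacter χ'.2
  have hχcf := Cfsg.Agent.Lib.Helper3.IsCharacter.isClassFunction hχc
  have hχ'cf := Cfsg.Agent.Lib.Helper3.IsCharacter.isClassFunction hχ'c
  obtain ⟨mθ, hmθ, hexp⟩ := Cfsg.Agent.Lib.Helper3.IsCharacter.exists_mult
    (Cfsg.Agent.Lib.Helper3.IsCharacter.restrict hχc N)
  obtain ⟨mθ', hmθ', hexp'⟩ := Cfsg.Agent.Lib.Helper3.IsCharacter.exists_mult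
    (Cfsg.Agent.Lib.Helper3.IsCharacter.restrict hχ'c N)
  have hmne : classInner (fun n : N => (χ : G → ℂ) n) (φ : N → ℂ) ≠ 0 := by
    rw [hm]; exact_mod_cast hm0
  have hmne' : classInner (fun n : N => (χ' : G → ℂ) n) (φ : N → ℂ) ≠ 0 := by
    rw [hm']; exact_mod_cast hm0'
  -- multiplicities on the support
  have hc1 : ∀ θ : IrrCharacter N, mθ θ ≠ 0 → mθ θ = m ∧ mθ' θ = m' := by
    intro θ hθ
    have hne : classInner (fun n : N => (χ : G → ℂ) n) (θ : N → ℂ) ≠ 0 := by
      rw [hmθ]; exact_mod_cast hθ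
    obtain ⟨g, hg⟩ := clifford_conj N χ.2 φ.2 θ.2 hmne hne
    constructor
    · have := hmθ θ
      rw [hg, classInner_restrict_conjFun N hχcf, hm] at this
      exact_mod_cast this.symm
    · have := hmθ' θ
      rw [hg, classInner_restrict_conjFun N hχ'cf, hm'] at this
      exact_mod_cast this.symm
  have hc2 : ∀ θ : IrrCharacter N, mθ' θ ≠ 0 → mθ θ ≠ 0 := by
    intro θ hθ
    have hne : classInner (fun n : N => (χ' : G → ℂ) n) (θ : N → ℂ) ≠ 0 := by
      rw [hmθ']; exact_mod_cast hθ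
    obtain ⟨g, hg⟩ := clifford_conj N χ'.2 φ.2 θ.2 hmne' hne
    have := hmθ θ
    rw [hg, classInner_restrict_conjFun N hχcf, hm] at this
    have h2 : mθ θ = m := by exact_mod_cast this.symm
    rw [h2]; exact hm0
  set S : Finset (IrrCharacter N) := Finset.univ.filter (fun θ => mθ θ ≠ 0) with hS
  have hmS : ∀ θ, mθ θ = if θ ∈ S then m else 0 := by
    intro θ
    by_cases h : mθ θ ≠ 0
    · rw [if_pos (by rw [hS, Finset.mem_filter]; exact ⟨Finset.mem_univ _, h⟩)]
      exact (hc1 θ h).1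
    · rw [if_neg (by rw [hS, Finset.mem_filter]; exact fun hh => h hh.2)]
      push Not at h
      exact h
  have hmS' : ∀ θ, mθ' θ = if θ ∈ S then m' else 0 := by
    intro θ
    by_cases h : mθ θ ≠ 0
    · rw [if_pos (by rw [hS, Finset.mem_filter]; exact ⟨Finset.mem_univ _, h⟩)]
      exact (hc1 θ h).2
    · rw [if_neg (by rw [hS, Finset.mem_filter]; exact fun hh => h hh.2)]
      by_contra h'
      exact h (hc2 θ h')
  have key : ∀ (c c' : IrrCharacter N → ℕ) (k k' : ℕ), (∀ θ, c θ = if θ ∈ S then k else 0) →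
      (∀ θ, c' θ = if θ ∈ S then k' else 0) →
      classInner (∑ θ : IrrCharacter N, (c θ : ℂ) • (θ : N → ℂ))
        (∑ θ : IrrCharacter N, (c' θ : ℂ) • (θ : N → ℂ)) = ((S.card * k * k' : ℕ) : ℂ) := by
    intro c c' k k' hc hc'
    rw [Cfsg.Agent.Lib.Helper3.classInner_sum_sum]
    have : ∀ θ : IrrCharacter N, (c θ : ℂ) * conj ((c' θ : ℂ)) =
        if θ ∈ S then ((k * k' : ℕ) : ℂ) else 0 := by
      intro θ
      rw [hc, hc', Complex.conj_natCast]
      split_ifs <;> simp
    rw [Finset.sum_congr rfl (fun θ _ => this θ), Finset.sum_ite_mem, Finset.univ_inter,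
      Finset.sum_const, nsmul_eq_mul]
    push_cast
    ring
  refine ⟨S.card, ?_, ?_, ?_⟩
  · conv_lhs => rw [hexp]
    exact key mθ mθ m m hmS hmS
  · conv_lhs => rw [hexp']
    exact key mθ' mθ' m' m' hmS' hmS'
  · conv_lhs => rw [hexp, hexp']
    exact key mθ mθ' m m' hmS hmS'

/-- Uniqueness of the irreducible character of indicator `1` over `φ`. -/
theorem fs_one_over_unique (N : Subgroup G) [N.Normal] [Fintype N] (hodd : Odd N.index)
    (φ : IrrCharacter N) (χ χ' : IrrCharacter G)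
    (hν : (Nat.card G : ℂ)⁻¹ * ∑ g : G, (χ : G → ℂ) (g * g) = 1)
    (hν' : (Nat.card G : ℂ)⁻¹ * ∑ g : G, (χ' : G → ℂ) (g * g) = 1)
    (hφχ : classInner (fun n : N => (χ : G → ℂ) n) (φ : N → ℂ) ≠ 0)
    (hφχ' : classInner (fun n : N => (χ' : G → ℂ) n) (φ : N → ℂ) ≠ 0) : χ = χ' := by
  classical
  have hχc : IsCharacter G (χ : G → ℂ) := Cfsg.Agent.Lib.Helper3.IsIrrCharacter.isCharacter χ.2
  have hχ'c : IsCharacter G (χ' : G → ℂ) := Cfsg.Agent.Lib.Helper3.IsIrrCharacter.isCharacter χ'.2
  have hreal : ∀ g, ((χ : G → ℂ) g).im = 0 := by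
    by_contra h
    push Not at h
    have := ((Cfsg.Agent.Lib.Helper74.fs_trichotomy χ.2).2).mpr h
    rw [hν] at this
    exact one_ne_zero this
  have hreal' : ∀ g, ((χ' : G → ℂ) g).im = 0 := by
    by_contra h
    push Not at h
    have := ((Cfsg.Agent.Lib.Helper74.fs_trichotomy χ'.2).2).mpr h
    rw [hν'] at this
    exact one_ne_zero this
  obtain ⟨m, hm⟩ := classInner_character_eq_natCast
    (Cfsg.Agent.Lib.Helper3.IsCharacter.restrict hχc N)
    (Cfsg.Agent.Lib.Helper3.IsIrrCharacter.isCharacter φ.2)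
  obtain ⟨m', hm'⟩ := classInner_character_eq_natCast
    (Cfsg.Agent.Lib.Helper3.IsCharacter.restrict hχ'c N)
    (Cfsg.Agent.Lib.Helper3.IsIrrCharacter.isCharacter φ.2)
  have hm0 : m ≠ 0 := by
    rintro rfl
    exact hφχ (by rw [hm]; simp)
  have hm0' : m' ≠ 0 := by
    rintro rfl
    exact hφχ' (by rw [hm']; simp)
  obtain ⟨t, h1, h2, h3⟩ := classInner_restrict_of_over N χ χ' φ m m' hm hm' hm0 hm0'
  obtain ⟨k1, hk1⟩ := classInner_restrict_parity N hodd χ χ hreal hreal
  obtain ⟨k2, hk2⟩ := classInner_restrict_parity N hodd χ' χ' hreal' hreal'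
  obtain ⟨k3, hk3⟩ := classInner_restrict_parity N hodd χ χ' hreal hreal'
  rw [h1, if_pos rfl] at hk1
  rw [h2, if_pos rfl] at hk2
  rw [h3] at hk3
  have e1 : t * m * m = 2 * k1 + 1 := by exact_mod_cast hk1
  have e2 : t * m' * m' = 2 * k2 + 1 := by exact_mod_cast hk2
  by_contra hne
  rw [if_neg hne] at hk3
  have e3 : t * m * m' = 2 * k3 + 0 := by exact_mod_cast hk3
  have o1 : Odd (t * m * m) := ⟨k1, e1⟩
  have o2 : Odd (t * m' * m') := ⟨k2, e2⟩
  have ot : Odd t := (Nat.odd_mul.mp (Nat.odd_mul.mp o1).1).1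
  have om : Odd m := (Nat.odd_mul.mp o1).2
  have om' : Odd m' := (Nat.odd_mul.mp o2).2
  have o3 : Odd (t * m * m') := (ot.mul om).mul om'
  rw [e3] at o3
  exact (Nat.not_odd_iff_even.mpr ⟨k3, by ring⟩) o3

end OddIndexReal

/-- **Odd index, indicator one**: a unique irreducible character of indicator `1` lies over an
irreducible character of indicator `1` of a normal subgroup of odd index. -/
theorem existsUnique_fs_one_over {G : Type u} [Group G] [Finite G] (N : Subgroup G) [N.Normal]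
    (hodd : Odd N.index) (φ : IrrCharacter N)
    (hφ : (Nat.card N : ℂ)⁻¹ * ∑ᶠ g : N, (φ : N → ℂ) (g * g) = 1) :
    ∃! χ : IrrCharacter G, (Nat.card G : ℂ)⁻¹ * ∑ᶠ g : G, (χ : G → ℂ) (g * g) = 1 ∧
      (∑ᶠ n : N, (χ : G → ℂ) n * (starRingEnd ℂ) ((φ : N → ℂ) n)) ≠ 0 := by
  classical
  haveI : Fintype G := Fintype.ofFinite G
  haveI : Fintype N := Fintype.ofFinite N
  have hN0 : (Nat.card N : ℂ) ≠ 0 := by exact_mod_cast Nat.card_pos.ne'
  have hconv : ∀ χ : IrrCharacter G,
      (∑ᶠ n : N, (χ : G → ℂ) n * (starRingEnd ℂ) ((φ : N → ℂ) n)) ≠ 0 ↔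
        classInner (fun n : N => (χ : G → ℂ) n) (φ : N → ℂ) ≠ 0 := by
    intro χ
    rw [finsum_eq_sum_of_fintype]
    unfold classInner
    constructor
    · intro h
      exact mul_ne_zero (inv_ne_zero hN0) h
    · intro h h0
      apply h
      rw [h0, mul_zero]
  simp only [finsum_eq_sum_of_fintype] at hφ ⊢
  obtain ⟨χ, hχ1, hχ2⟩ := exists_fs_one_over N hodd φ hφ
  refine ⟨χ, ⟨hχ1, ?_⟩, ?_⟩
  · have := (hconv χ).mpr hχ2
    rwa [finsum_eq_sum_of_fintype] at this
  · rintro χ' ⟨h1, h2⟩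
    have h2' : classInner (fun n : N => (χ' : G → ℂ) n) (φ : N → ℂ) ≠ 0 := by
      apply (hconv χ').mp
      rwa [finsum_eq_sum_of_fintype]
    exact fs_one_over_unique N hodd φ χ' χ h1 hχ1 h2' hχ2

end Cfsg.Agent.Lib.Helper79
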