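import Mathlib
import Cfsg.Prelude.Def_ClassicalGeometry
import Cfsg.Prelude.Def_GeometricClasses
import Cfsg.Agent.Lib.Helper81.OnDefs
import Cfsg.Agent.Lib.Helper8.SpBlkDec

/-! # On hive (S5989), leaf ON-FIX core (helper79)

The glue argument of `odd_fix`, with the leaves it uses (`fix_split`, `exists_blocks_sym`,
`exists_copy`, `nd_perp_in`, `nd_sup_of_orth`, `sameType_sup`, `SameType.symm`) as hypotheses. -/

set_option autoImplicit false
set_option linter.unusedSectionVars false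
set_option linter.style.haveILetI false

namespace Cfsg.Agent.Lib.Helper81.On

open Polynomial Module
open Cfsg.Agent.Lib.Helper2.BG Cfsg.Agent.Lib.Helper99 Cfsg.Agent.Lib.Helper48.Ti
open Cfsg.Agent.Lib.Helper8.SpBlk (blk)

variable {F V : Type*} [Field F] [AddCommGroup V] [Module F V] [FiniteDimensional F V]
variable {B : V →ₗ[F] V →ₗ[F] F}
variable [Fintype F] {r : ℕ} [Fact r.Prime]

/-- the sum of an invariant subspace and a subspace of fixed vectors is invariant -/
theorem fix_inv_sup {f : Module.End F V} {W₁ W₂ : Submodule F V} (h1 : Inv f W₁)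
    (h2 : W₂ ≤ LinearMap.ker (f - 1)) : Inv f (W₁ ⊔ W₂) := by
  intro v hv
  obtain ⟨a, ha, b, hb, rfl⟩ := Submodule.mem_sup.mp hv
  rw [map_add]
  have hfb : f b = b := by
    have := h2 hb
    rw [LinearMap.mem_ker, LinearMap.sub_apply, Module.End.one_apply, sub_eq_zero] at this
    exact this
  rw [hfb]
  exact Submodule.add_mem _ (Submodule.mem_sup_left (h1 a ha)) (Submodule.mem_sup_right hb)

/-- ON-FIX with the leaves it glues as hypotheses -/
theorem fix_core (hB : ∀ u v, B u v = B v u) {f : Module.End F V} {W₀ : Submodule F V}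
    (hW₀ : Nd B W₀) (hodd : Odd (finrank F W₀)) (hlt : finrank F W₀ < finrank F V)
    (hmod : finrank F W₀ % blk F r < finrank F (LinearMap.ker (f - 1)))
    (hsplit : ∃ M : Submodule F V, M ≤ (⊤ : Submodule F V) ∧ Inv f M ∧ Nd B M ∧
      M ⊓ LinearMap.ker (f - 1) = ⊥ ∧
      Nd B ((⊤ : Submodule F V) ⊓ LinearMap.ker (f - 1)) ∧
      (∀ u ∈ (⊤ : Submodule F V) ⊓ LinearMap.ker (f - 1), ∀ v ∈ M, B u v = 0) ∧
      Disjoint ((⊤ : Submodule F V) ⊓ LinearMap.ker (f - 1)) M ∧
      ((⊤ : Submodule F V) ⊓ LinearMap.ker (f - 1)) ⊔ M = ⊤)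
    (hblocks : ∀ N : Submodule F V, Inv f N → Nd B N → N ⊓ LinearMap.ker (f - 1) = ⊥ →
      ∃ s : ℕ, finrank F N = s * blk F r ∧ ∀ j ≤ s, ∃ W : Submodule F V, W ≤ N ∧ Inv f W ∧
        Nd B W ∧ finrank F W = j * blk F r)
    (hcopy : ∀ Z T : Submodule F V, Nd B Z → Nd B T → finrank F T < finrank F Z →
      ∃ U : Submodule F V, U ≤ Z ∧ Nd B U ∧ SameType B U T)
    (hperp : ∀ W W' : Submodule F V, Nd B W → Nd B W' → W' ≤ W →
      ∃ W'' : Submodule F V, W'' ≤ W ∧ Nd B W'' ∧ (∀ u ∈ W', ∀ v ∈ W'', B u v = 0) ∧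
        Disjoint W' W'' ∧ W' ⊔ W'' = W)
    (hndsup : ∀ U U' : Submodule F V, Nd B U → Nd B U' → (∀ u ∈ U, ∀ v ∈ U', B u v = 0) →
      Nd B (U ⊔ U') ∧ Disjoint U U')
    (hsamesup : ∀ U U' T T' : Submodule F V, (∀ u ∈ U, ∀ v ∈ U', B u v = 0) →
      (∀ u ∈ T, ∀ v ∈ T', B u v = 0) → Disjoint U U' → Disjoint T T' →
      SameType B U T → SameType B U' T' → SameType B (U ⊔ U') (T ⊔ T'))
    (hsymm : ∀ W W' : Submodule F V, SameType B W W' → SameType B W' W) :
    Fixes B f W₀ := by
  obtain ⟨M, -, hMf, hM, hMfix, hC, horth, hdis, hsup⟩ := hsplit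
  rw [top_inf_eq] at hC horth hdis hsup
  set C := LinearMap.ker (f - 1) with hCdef
  obtain ⟨s, hs, hblk⟩ := hblocks M hMf hM hMfix
  have hdimV : finrank F V = finrank F C + s * blk F r := by
    have h1 := Submodule.finrank_sup_add_finrank_inf_eq C M
    rw [hsup, disjoint_iff.mp hdis, finrank_bot, finrank_top] at h1
    omega
  set c := blk F r with hc
  have hce : Even c := Cfsg.Agent.Lib.Helper8.SpBlk.blk_even (F := F) (r := r)
  set m := finrank F W₀ with hm
  -- the number of blocks used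
  set j := min (m / c) s with hj
  have hjs : j ≤ s := min_le_right _ _
  have hja : j ≤ m / c := min_le_left _ _
  obtain ⟨WM, hWMM, hWMf, hWM, hWMdim⟩ := hblk j hjs
  have hjc_le : j * c ≤ m := le_trans (Nat.mul_le_mul_right c hja) (Nat.div_mul_le_self m c)
  have hjc_lt : j * c < m := by
    rcases lt_or_eq_of_le hjc_le with h | h
    · exact h
    · exfalso
      have : Even m := by rw [← h]; exact hce.mul_left j
      exact (Nat.not_even_iff_odd.mpr hodd) this
  -- a copy of `WM` inside `W₀`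
  obtain ⟨WM', hWM'le, hWM', hsame1⟩ := hcopy W₀ WM hW₀ hWM (by rw [hWMdim]; exact hjc_lt)
  have hWM'dim : finrank F WM' = j * c := by
    obtain ⟨e, -⟩ := hsame1
    rw [e.finrank_eq, hWMdim]
  -- its complement in `W₀`
  obtain ⟨T, hTle, hT, hWM'T, hdisT, hsupT⟩ := hperp W₀ WM' hW₀ hWM' hWM'le
  have hTdim : finrank F T = m - j * c := by
    have h1 := Submodule.finrank_sup_add_finrank_inf_eq WM' T
    rw [hsupT, disjoint_iff.mp hdisT, finrank_bot, hWM'dim] at h1
    omega
  have hTC : finrank F T < finrank F C := by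
    rw [hTdim]
    rcases le_total (m / c) s with h | h
    · have hjeq : j = m / c := min_eq_left h
      rw [hjeq]
      have : m - m / c * c = m % c := by
        have := Nat.div_add_mod m c
        rw [mul_comm] at this
        omega
      rw [this]
      exact hmod
    · have hjeq : j = s := min_eq_right h
      rw [hjeq]
      omega
  -- a copy of `T` inside `C`
  obtain ⟨WC, hWCle, hWC, hsame2⟩ := hcopy C T hC hT hTC
  have horth' : ∀ u ∈ WM, ∀ v ∈ WC, B u v = 0 := by
    intro u hu v hv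
    rw [hB]
    exact horth v (hWCle hv) u (hWMM hu)
  obtain ⟨hnd, hdisW⟩ := hndsup WM WC hWM hWC horth'
  refine ⟨WM ⊔ WC, hnd, ?_, fix_inv_sup hWMf hWCle⟩
  have := hsamesup WM WC WM' T horth' hWM'T hdisW hdisT (hsymm _ _ hsame1) hsame2
  rwa [hsupT] at this

end Cfsg.Agent.Lib.Helper81.On
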