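import Mathlib
import Cfsg.Prelude.Def_ClassicalGeometry
import Cfsg.Prelude.Def_GeometricClasses
import Cfsg.Agent.Lib.Helper81.OnDefs
import Cfsg.Agent.Lib.Helper8.SpBlkDec

/-! # On hive (S5989), leaf ON-NOFIX core (helper79) -/

set_option autoImplicit false
set_option linter.unusedSectionVars false
set_option linter.style.haveILetI false

namespace Cfsg.Agent.Lib.Helper81.On

open Polynomial Module
open Cfsg.Agent.Lib.Helper2.BG Cfsg.Agent.Lib.Helper99 Cfsg.Agent.Lib.Helper48.Ti
open Cfsg.Agent.Lib.Helper8.SpBlk (blk)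

variable {F V : Type*} [Field F] [AddCommGroup V] [Module F V] [FiniteDimensional F V]
variable {B : V →ₗ[F] V →ₗ[F] F}
variable [Fintype F] {r : ℕ} [Fact r.Prime]

/-- ON-NOFIX with the leaves `fix_split` (for `Z = W`) and `exists_blocks_sym` as hypotheses -/
theorem nofix_core {f : Module.End F V}
    (ht : finrank F (LinearMap.ker (f - 1)) < blk F r)
    (hte : Even (finrank F (LinearMap.ker (f - 1)))) {W : Submodule F V}
    (hodd : Odd (finrank F W))
    (hsplit : ∃ M : Submodule F V, M ≤ W ∧ Inv f M ∧ Nd B M ∧ M ⊓ LinearMap.ker (f - 1) = ⊥ ∧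
      Nd B (W ⊓ LinearMap.ker (f - 1)) ∧
      (∀ u ∈ W ⊓ LinearMap.ker (f - 1), ∀ v ∈ M, B u v = 0) ∧
      Disjoint (W ⊓ LinearMap.ker (f - 1)) M ∧ (W ⊓ LinearMap.ker (f - 1)) ⊔ M = W)
    (hblocks : ∀ N : Submodule F V, Inv f N → Nd B N → N ⊓ LinearMap.ker (f - 1) = ⊥ →
      ∃ s : ℕ, finrank F N = s * blk F r) :
    0 < finrank F W % blk F r ∧ finrank F W % blk F r < finrank F (LinearMap.ker (f - 1)) := by
  obtain ⟨M, hMW, hMf, hM, hMfix, -, -, hdis, hsup⟩ := hsplit
  obtain ⟨s, hs⟩ := hblocks M hMf hM hMfix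
  have hdim : finrank F W = finrank F ↥(W ⊓ LinearMap.ker (f - 1)) + s * blk F r := by
    have h1 := Submodule.finrank_sup_add_finrank_inf_eq (W ⊓ LinearMap.ker (f - 1)) M
    rw [hsup, disjoint_iff.mp hdis, finrank_bot] at h1
    omega
  have hle : finrank F ↥(W ⊓ LinearMap.ker (f - 1)) ≤ finrank F (LinearMap.ker (f - 1)) :=
    Submodule.finrank_mono inf_le_right
  set a := finrank F ↥(W ⊓ LinearMap.ker (f - 1)) with ha
  set t := finrank F (LinearMap.ker (f - 1)) with htdef
  have hmod : finrank F W % blk F r = a := by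
    rw [hdim, Nat.add_mul_mod_self_right, Nat.mod_eq_of_lt (lt_of_le_of_lt hle ht)]
  have hbe : Even (s * blk F r) := (Cfsg.Agent.Lib.Helper8.SpBlk.blk_even (F := F) (r := r)).mul_left s
  have haodd : Odd a := by
    rw [hdim] at hodd
    rcases Nat.even_or_odd a with he | ho
    · exact absurd (he.add hbe) (Nat.not_even_iff_odd.mpr hodd)
    · exact ho
  rw [hmod]
  constructor
  · exact haodd.pos
  · rcases lt_or_eq_of_le hle with h | h
    · exact h
    · exfalso
      rw [h] at haodd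
      exact (Nat.not_even_iff_odd.mpr haodd) hte

end Cfsg.Agent.Lib.Helper81.On
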