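import Mathlib
import Cfsg.Prelude.Def_Characters
import Cfsg.Agent.Lib.Helper79.PG3

set_option autoImplicit false
set_option linter.unusedSectionVars false
set_option linter.style.haveILetI false

namespace Cfsg.Agent.Lib.Helper79

open Cfsg
open scoped ComplexConjugate commutatorElement

universe u

/-- Under `GalConjProp`, the number of irreducible characters of a given non-linear degree is at
most `φ(E)` for any exponent-like `E`. -/
theorem GalConjProp.card_degree_le_totient {G : Type u} [Group G] [Finite G]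
    [Fintype (IrrCharacter G)] (H : GalConjProp G) (E : ℕ) (hE : 0 < E) (hexp : ∀ g : G, g ^ E = 1)
    (hcop : ∀ k : ℕ, Nat.Coprime k (Nat.card G) → Nat.Coprime k E)
    (χ₁ : IrrCharacter G) (hχ₁ : charDegree (χ₁ : G → ℂ) ≠ 1) :
    (Finset.univ.filter (fun ψ : IrrCharacter G =>
      charDegree (ψ : G → ℂ) = charDegree (χ₁ : G → ℂ))).card ≤ Nat.totient E := by
  classical
  have hex : ∀ ψ : IrrCharacter G, ∃ k : ℕ, charDegree (ψ : G → ℂ) = charDegree (χ₁ : G → ℂ) →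
      (Nat.Coprime k (Nat.card G) ∧ ∀ g : G, (ψ : G → ℂ) g = (χ₁ : G → ℂ) (g ^ k)) := by
    intro ψ
    by_cases h : charDegree (ψ : G → ℂ) = charDegree (χ₁ : G → ℂ)
    · obtain ⟨k, hk⟩ := H χ₁ ψ hχ₁ h.symm
      exact ⟨k, fun _ => hk⟩
    · exact ⟨0, fun h' => absurd h' h⟩
  choose kf hkf using hex
  rw [Nat.totient_eq_card_coprime]
  apply Finset.card_le_card_of_injOn (fun ψ => kf ψ % E)
  · intro ψ hψ
    have hψ' := (Finset.mem_filter.mp hψ).2
    obtain ⟨h1, -⟩ := hkf ψ hψ'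
    simp only [Finset.coe_filter, Finset.mem_range, Set.mem_ofPred_eq]
    refine ⟨Nat.mod_lt _ hE, ?_⟩
    exact ((ZMod.coprime_mod_iff_coprime _ _).mpr (hcop _ h1)).symm
  · intro ψ hψ ψ' hψ' heq
    have h1 := (hkf ψ (Finset.mem_filter.mp hψ).2).2
    have h2 := (hkf ψ' (Finset.mem_filter.mp hψ').2).2
    apply Subtype.ext
    funext g
    simp only at heq
    rw [h1 g, h2 g, pow_eq_pow_mod (kf ψ) (hexp g), pow_eq_pow_mod (kf ψ') (hexp g), heq]

/-- Splitting the sum of squared degrees along a normal subgroup. -/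
theorem sum_charDegree_sq_split {G : Type u} [Group G] [Finite G] [Fintype (IrrCharacter G)]
    (N : Subgroup G) [N.Normal] [DecidablePred (fun χ : IrrCharacter G =>
      ∀ x ∈ N, (χ : G → ℂ) x = (χ : G → ℂ) 1)] :
    ∑ χ ∈ Finset.univ.filter (fun χ : IrrCharacter G =>
        ¬ ∀ x ∈ N, (χ : G → ℂ) x = (χ : G → ℂ) 1), charDegree (χ : G → ℂ) ^ 2
      + Nat.card (G ⧸ N) = Nat.card G := by
  classical
  haveI : Fintype (IrrCharacter (G ⧸ N)) := Fintype.ofFinite _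
  have h1 := sum_charDegree_sq (G := G)
  have h2 := sum_charDegree_sq (G := G ⧸ N)
  rw [← Finset.sum_filter_add_sum_filter_not Finset.univ
    (fun χ : IrrCharacter G => ∀ x ∈ N, (χ : G → ℂ) x = (χ : G → ℂ) 1)] at h1
  have h3 : Finset.univ.filter (fun χ : IrrCharacter G =>
      ∀ x ∈ N, (χ : G → ℂ) x = (χ : G → ℂ) 1) = Finset.univ.image (inflIrr N) := by
    ext χ
    simp only [Finset.mem_filter, Finset.mem_univ, true_and, Finset.mem_image]
    constructor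
    · intro h
      obtain ⟨ψ, hψ, hψχ⟩ := isIrrCharacter_deflate χ.2 N h
      refine ⟨⟨ψ, hψ⟩, Subtype.ext (funext fun g => ?_)⟩
      rw [inflIrr_apply]
      exact hψχ g
    · rintro ⟨ψ, rfl⟩ x hx
      rw [inflIrr_apply, inflIrr_apply, (QuotientGroup.eq_one_iff x).mpr hx]
      rfl
  have h4 : ∑ χ ∈ Finset.univ.image (inflIrr N), charDegree (χ : G → ℂ) ^ 2 =
      Nat.card (G ⧸ N) := by
    rw [Finset.sum_image (fun a _ b _ h => inflIrr_injective N h), ← h2]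
    apply Finset.sum_congr rfl
    intro ψ _
    unfold charDegree
    rw [inflIrr_apply]
    rfl
  rw [h3, h4] at h1
  rw [← h1, add_comm]

/-- A geometric sum estimate. -/
theorem sum_pow_two_mul_lt (p : ℕ) (hp : 2 ≤ p) (k' : ℕ) :
    ∑ j ∈ Finset.Ico 1 (k' + 1), p ^ (2 * j) < p ^ (2 * k' + 1) := by
  have h1 : ∑ j ∈ Finset.Ico 1 (k' + 1), p ^ (2 * j) =
      ∑ i ∈ (Finset.Ico 1 (k' + 1)).image (fun j => 2 * j), p ^ i := by
    rw [Finset.sum_image]
    intro a _ b _ h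
    exact Nat.eq_of_mul_eq_mul_left (by norm_num) h
  rw [h1]
  apply Nat.geomSum_lt hp
  intro i hi
  obtain ⟨j, hj, rfl⟩ := Finset.mem_image.mp hi
  rw [Finset.mem_Ico] at hj
  omega

/-- The counting bound. -/
theorem sum_sq_le_of_degree_classes {ι : Type*} [DecidableEq ι] (S : Finset ι) (deg : ι → ℕ)
    (p : ℕ) (hp : 2 ≤ p) (k Φ : ℕ)
    (hS : ∀ χ ∈ S, ∃ j, 1 ≤ j ∧ j < k ∧ deg χ = p ^ j)
    (hΦ : ∀ χ₁ ∈ S, (S.filter (fun ψ => deg ψ = deg χ₁)).card ≤ Φ) :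
    ∑ χ ∈ S, deg χ ^ 2 ≤ Φ * ∑ j ∈ Finset.Ico 1 k, p ^ (2 * j) := by
  classical
  have hlog : ∀ χ ∈ S, deg χ = p ^ (Nat.log p (deg χ)) ∧ Nat.log p (deg χ) ∈ Finset.Ico 1 k := by
    intro χ hχ
    obtain ⟨j, hj1, hjk, hj⟩ := hS χ hχ
    rw [hj, Nat.log_pow hp j]
    exact ⟨rfl, Finset.mem_Ico.mpr ⟨hj1, hjk⟩⟩
  rw [← Finset.sum_fiberwise_of_maps_to (g := fun χ => Nat.log p (deg χ))
    (fun χ hχ => (hlog χ hχ).2), Finset.mul_sum]
  apply Finset.sum_le_sum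
  intro j hj
  have h1 : ∑ χ ∈ S.filter (fun χ => Nat.log p (deg χ) = j), deg χ ^ 2 =
      (S.filter (fun χ => Nat.log p (deg χ) = j)).card * (p ^ (2 * j)) := by
    apply Finset.sum_const_nat
    intro χ hχ
    obtain ⟨hχS, hχj⟩ := Finset.mem_filter.mp hχ
    rw [(hlog χ hχS).1, hχj, ← pow_mul, mul_comm]
  rw [h1]
  apply Nat.mul_le_mul_right
  rcases (S.filter (fun χ => Nat.log p (deg χ) = j)).eq_empty_or_nonempty with he | ⟨χ₁, hχ₁⟩
  · rw [he]; simp
  · obtain ⟨hχ₁S, hχ₁j⟩ := Finset.mem_filter.mp hχ₁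
    refine le_trans (Finset.card_le_card ?_) (hΦ χ₁ hχ₁S)
    intro ψ hψ
    obtain ⟨hψS, hψj⟩ := Finset.mem_filter.mp hψ
    refine Finset.mem_filter.mpr ⟨hψS, ?_⟩
    rw [(hlog ψ hψS).1, (hlog χ₁ hχ₁S).1, hψj, hχ₁j]

end Cfsg.Agent.Lib.Helper79
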