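import Mathlib
import Cfsg.Prelude.Def_Characters
import Cfsg.Agent.Lib.Helper79.PG4

set_option autoImplicit false
set_option linter.unusedSectionVars false
set_option linter.style.haveILetI false

namespace Cfsg.Agent.Lib.Helper79

open Cfsg
open scoped ComplexConjugate commutatorElement

universe u

/-- The inductive step: a central subgroup `N` of order `p` inside the derived subgroup with
`P ⧸ N` of the extremal type contradicts `GalConjProp`. -/
theorem galConj_step {P : Type u} [Group P] [Finite P] (p : ℕ) [hp : Fact p.Prime]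
    (hP : IsPGroup p P) (H : GalConjProp P) (N : Subgroup P) [N.Normal]
    (hNZ : N ≤ Subgroup.center P) (hNc : N ≤ commutator P) (hNp : Nat.card N = p)
    (hcyc : IsCyclic (Subgroup.center (P ⧸ N))) (hD : Nat.card (commutator (P ⧸ N)) = p) :
    False := by
  classical
  haveI : Fintype (IrrCharacter P) := Fintype.ofFinite _
  have hQ : IsPGroup p (P ⧸ N) := hP.to_quotient N
  have hp2 : 2 ≤ p := hp.out.two_le
  set zc := Nat.card (Subgroup.center (P ⧸ N)) with hzc
  have hzcpos : 0 < zc := Nat.card_pos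
  -- a non-linear irreducible representation of the quotient
  have hne : commutator (P ⧸ N) ≠ ⊥ := by
    intro h
    rw [h, Subgroup.card_bot] at hD
    exact hp.out.one_lt.ne hD
  obtain ⟨d₀, ρ₀, hirr₀, hd₀⟩ := exists_nonlinear_irr hne
  have hdeg₀ : d₀ ^ 2 * zc = Nat.card (P ⧸ N) := central_type_degree p hQ hcyc hD ρ₀ hd₀
  have hcardP : Nat.card P = Nat.card (P ⧸ N) * p := by
    rw [← hNp]
    exact Subgroup.card_eq_card_quotient_mul_card_subgroup N
  -- powers of p
  obtain ⟨a, ha⟩ := (IsPGroup.iff_card).mp (hQ.to_subgroup (Subgroup.center (P ⧸ N)))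
  obtain ⟨b, hb⟩ := (IsPGroup.iff_card).mp hP
  obtain ⟨b', hb'⟩ := (IsPGroup.iff_card).mp hQ
  have hbpos : b ≠ 0 := by
    rintro rfl
    rw [pow_zero] at hb
    rw [hb] at hcardP
    have : p ∣ 1 := ⟨_, hcardP.trans (mul_comm _ _)⟩
    exact hp.out.one_lt.ne' (Nat.dvd_one.mp this)
  have hd₀dvd : d₀ ∣ p ^ b' := by
    rw [← hb', ← hdeg₀, sq, mul_assoc]
    exact dvd_mul_right _ _
  obtain ⟨k, -, hk⟩ := (Nat.dvd_prime_pow hp.out).mp hd₀dvd
  have hk0 : k ≠ 0 := by
    rintro rfl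
    rw [pow_zero] at hk
    exact hd₀ hk
  obtain ⟨k', rfl⟩ := Nat.exists_eq_succ_of_ne_zero hk0
  rw [Nat.succ_eq_add_one] at hk
  -- the exponent
  set E := p ^ (a + 1 + 1) with hE
  have hEpos : 0 < E := pow_pos hp.out.pos _
  have hleQ : commutator (P ⧸ N) ≤ Subgroup.center (P ⧸ N) :=
    Cfsg.Agent.Lib.Helper76.normal_card_prime_le_center hQ (commutator (P ⧸ N)) hD
  have hexp : ∀ g : P, g ^ E = 1 := by
    intro g
    have h1 : ((g : P ⧸ N)) ^ p ∈ Subgroup.center (P ⧸ N) :=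
      pow_prime_mem_center p hleQ hD (g : P ⧸ N)
    have h2 : (((g : P ⧸ N)) ^ p) ^ zc = 1 := by
      have h3 : (⟨(g : P ⧸ N) ^ p, h1⟩ : Subgroup.center (P ⧸ N)) ^ zc = 1 := pow_card_eq_one'
      exact congrArg Subtype.val h3
    have h4 : (g ^ p) ^ zc ∈ N := by
      rw [← QuotientGroup.eq_one_iff]
      rw [QuotientGroup.mk_pow, QuotientGroup.mk_pow]
      exact h2
    have h5 : ((g ^ p) ^ zc) ^ p = 1 := by
      have h6 : orderOf ((g ^ p) ^ zc) ∣ p := by
        have := Subgroup.orderOf_dvd_natCard N h4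
        rwa [hNp] at this
      exact orderOf_dvd_iff_pow_eq_one.mp h6
    have hEeq : E = p * zc * p := by rw [hE, hzc, ha]; ring
    rw [hEeq, pow_mul, pow_mul]
    exact h5
  have hcop : ∀ i : ℕ, Nat.Coprime i (Nat.card P) → Nat.Coprime i E := by
    intro i hi
    rw [hb] at hi
    have h1 : Nat.Coprime i p := hi.coprime_dvd_right (dvd_pow_self p hbpos)
    exact h1.pow_right _
  have htot : Nat.totient E = p * zc * (p - 1) := by
    rw [hE, Nat.totient_prime_pow_succ hp.out, pow_succ, ← ha, mul_comm zc p]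
  -- degree bound
  have hbound : ∀ χ : IrrCharacter P, charDegree (χ : P → ℂ) ^ 2 ≤ p * d₀ ^ 2 := by
    rintro ⟨χ, n, ρ, hρ, rfl⟩
    rw [charDegree_rep]
    have h1 := sq_degree_mul_card_center_le ρ
    have h2 := card_center_quotient_le p N hNZ hNp hcyc
    have h3 : n ^ 2 * zc ≤ p * d₀ ^ 2 * zc := by
      calc n ^ 2 * zc ≤ n ^ 2 * Nat.card (Subgroup.center P) := Nat.mul_le_mul_left _ h2
        _ ≤ Nat.card P := h1
        _ = p * d₀ ^ 2 * zc := by rw [hcardP, ← hdeg₀]; ring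
    exact Nat.le_of_mul_le_mul_right h3 hzcpos
  -- the set S
  set S := Finset.univ.filter (fun χ : IrrCharacter P =>
      ¬ ∀ x ∈ N, (χ : P → ℂ) x = (χ : P → ℂ) 1) with hS
  have hsplit := sum_charDegree_sq_split (G := P) N
  rw [← hS] at hsplit
  -- inflated reference character
  set χ₀ : IrrCharacter (P ⧸ N) := ⟨ρ₀.character, ⟨_, ρ₀, hirr₀, rfl⟩⟩ with hχ₀
  have hI₀deg : charDegree (inflIrr N χ₀ : P → ℂ) = p ^ (k' + 1) := by
    have e1 : charDegree (inflIrr N χ₀ : P → ℂ) = charDegree (χ₀ : P ⧸ N → ℂ) := by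
      unfold charDegree
      rw [inflIrr_apply]
      rfl
    rw [e1, hχ₀]
    simp only
    rw [charDegree_rep, hk]
  have hI₀ne : charDegree (inflIrr N χ₀ : P → ℂ) ≠ 1 := by
    rw [hI₀deg, ← hk]; exact hd₀
  -- degrees in S
  have hSdeg : ∀ χ ∈ S, ∃ j, 1 ≤ j ∧ j < k' + 1 ∧ charDegree (χ : P → ℂ) = p ^ j := by
    intro χ hχ
    have hχN : ¬ ∀ x ∈ N, (χ : P → ℂ) x = (χ : P → ℂ) 1 := (Finset.mem_filter.mp hχ).2
    obtain ⟨d, hdpos, hd1, hd2, hddvd⟩ := Cfsg.Agent.Lib.Helper16.irr_degree_spec χ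
    rw [hb] at hddvd
    obtain ⟨j, -, hj⟩ := (Nat.dvd_prime_pow hp.out).mp hddvd
    have hne1 : charDegree (χ : P → ℂ) ≠ 1 := by
      intro h1
      apply hχN
      intro x hx
      have h2 : (χ : P → ℂ) 1 = 1 := by rw [hd1, ← hd2, h1]; simp
      rw [h2]
      exact isCharacter_one_commutator (Cfsg.Agent.Lib.Helper3.IsIrrCharacter.isCharacter χ.2) h2
        (hNc hx)
    have hned₀ : charDegree (χ : P → ℂ) ≠ p ^ (k' + 1) := by
      intro h1
      apply hχN
      obtain ⟨i, hi, hiχ⟩ := H (inflIrr N χ₀) χ hI₀ne (by rw [hI₀deg, h1])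
      intro x hx
      rw [galois_conj_ker_iff (inflIrr N χ₀).2 i hi hiχ x, inflIrr_apply, inflIrr_apply,
        (QuotientGroup.eq_one_iff x).mpr hx]
      rfl
    have hb2 := hbound χ
    rw [hd2, hj] at hne1 hned₀ hb2
    rw [hk, ← pow_mul, ← pow_mul, ← pow_succ'] at hb2
    have hle : j * 2 ≤ (k' + 1) * 2 + 1 := (Nat.pow_le_pow_iff_right hp.out.one_lt).mp hb2
    have hj0 : j ≠ 0 := by
      rintro rfl
      exact hne1 (pow_zero p)
    have hjk : j ≠ k' + 1 := by
      rintro rfl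
      exact hned₀ rfl
    refine ⟨j, by omega, by omega, by rw [hd2, hj]⟩
  -- counting
  have hcount := sum_sq_le_of_degree_classes S (fun χ => charDegree (χ : P → ℂ)) p hp2 (k' + 1)
    (Nat.totient E) hSdeg (by
      intro χ₁ hχ₁
      obtain ⟨j, hj1, -, hj⟩ := hSdeg χ₁ hχ₁
      have hne1 : charDegree (χ₁ : P → ℂ) ≠ 1 := by
        rw [hj]
        intro h
        have := Nat.pow_right_injective hp2 (h.trans (pow_zero p).symm)
        omega
      refine le_trans (Finset.card_le_card ?_) (H.card_degree_le_totient E hEpos hexp hcop χ₁ hne1)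
      intro ψ hψ
      exact Finset.mem_filter.mpr ⟨Finset.mem_univ _, (Finset.mem_filter.mp hψ).2⟩)
  have hgeom := sum_pow_two_mul_lt p hp2 k'
  have hp1 : 0 < p - 1 := by omega
  have hlt : ∑ χ ∈ S, charDegree (χ : P → ℂ) ^ 2 < (p - 1) * Nat.card (P ⧸ N) := by
    refine lt_of_le_of_lt hcount ?_
    have h1 : Nat.totient E * ∑ j ∈ Finset.Ico 1 (k' + 1), p ^ (2 * j) <
        Nat.totient E * p ^ (2 * k' + 1) :=
      Nat.mul_lt_mul_of_pos_left hgeom (by rw [htot]; positivity)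
    refine lt_of_lt_of_eq h1 ?_
    rw [htot, ← hdeg₀, hk]
    ring
  have hfinal : ∑ χ ∈ S, charDegree (χ : P → ℂ) ^ 2 + Nat.card (P ⧸ N) <
      Nat.card P := by
    calc ∑ χ ∈ S, charDegree (χ : P → ℂ) ^ 2 + Nat.card (P ⧸ N)
        < (p - 1) * Nat.card (P ⧸ N) + Nat.card (P ⧸ N) := Nat.add_lt_add_right hlt _
      _ = Nat.card P := by
          rw [hcardP]
          obtain ⟨q, rfl⟩ : ∃ q, p = q + 1 := ⟨p - 1, by omega⟩
          simp only [Nat.add_sub_cancel]
          ring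
  exact absurd hsplit hfinal.ne

end Cfsg.Agent.Lib.Helper79
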