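import Mathlib
import Cfsg.Prelude.Def_Characters
import Cfsg.Agent.Lib.Helper79.PG5

set_option autoImplicit false
set_option linter.unusedSectionVars false
set_option linter.style.haveILetI false

namespace Cfsg.Agent.Lib.Helper79

open Cfsg
open scoped ComplexConjugate commutatorElement

universe u

/-- Under `GalConjProp`, a non-abelian `p`-group has derived subgroup of order `p`. -/
theorem card_commutator_of_galConj (p : ℕ) [hp : Fact p.Prime] :
    ∀ (m : ℕ) (P : Type u) [Group P] [Finite P], Nat.card P = m → IsPGroup p P →
      commutator P ≠ ⊥ → GalConjProp P → Nat.card (commutator P) = p := by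
  intro m
  induction m using Nat.strong_induction_on with
  | _ m ih =>
    intro P _ _ hm hP hna H
    by_contra hne
    obtain ⟨b, hbc, hbZ, hb1⟩ :=
      Cfsg.Agent.Lib.Helper76.exists_mem_center_of_normal hP (commutator P) hna
    obtain ⟨a, ha⟩ : ∃ a, orderOf b = p ^ a := by
      rw [exists_orderOf_eq_prime_pow_iff]
      exact hP b
    have ha0 : a ≠ 0 := by
      rintro rfl
      rw [pow_zero, orderOf_eq_one_iff] at ha
      exact hb1 ha
    obtain ⟨a', rfl⟩ := Nat.exists_eq_succ_of_ne_zero ha0
    set z := b ^ (p ^ a') with hz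
    have hzord : orderOf z = p := by
      rw [hz, orderOf_pow_of_dvd (pow_ne_zero _ hp.out.ne_zero)
        (by rw [ha]; exact pow_dvd_pow p (Nat.le_succ a')),
        ha, pow_succ, Nat.mul_div_cancel_left _ (pow_pos hp.out.pos a')]
    have hzc : z ∈ commutator P := Subgroup.pow_mem _ hbc _
    have hzZ : z ∈ Subgroup.center P := Subgroup.pow_mem _ hbZ _
    set N := Subgroup.zpowers z with hN
    have hNZ : N ≤ Subgroup.center P := Subgroup.zpowers_le.mpr hzZ
    have hNc : N ≤ commutator P := Subgroup.zpowers_le.mpr hzc
    have hNp : Nat.card N = p := by rw [hN, Nat.card_zpowers, hzord]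
    haveI : N.Normal := ⟨fun n hn g => by
      have := Subgroup.mem_center_iff.mp (hNZ hn) g
      rw [this, mul_inv_cancel_right]
      exact hn⟩
    have hcard : Nat.card P = Nat.card (P ⧸ N) * p := by
      rw [← hNp]
      exact Subgroup.card_eq_card_quotient_mul_card_subgroup N
    have hlt : Nat.card (P ⧸ N) < m := by
      rw [← hm, hcard]
      have h1 : 0 < Nat.card (P ⧸ N) := Nat.card_pos
      have h2 := hp.out.two_le
      nlinarith
    have hna' : commutator (P ⧸ N) ≠ ⊥ := by
      intro h
      apply hne
      have hle : commutator P ≤ N := by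
        rw [commutator_def, Subgroup.commutator_le]
        intro g₁ _ g₂ _
        rw [← QuotientGroup.eq_one_iff]
        have h3 : ((⁅g₁, g₂⁆ : P) : P ⧸ N) = ⁅(g₁ : P ⧸ N), (g₂ : P ⧸ N)⁆ := by
          simp [commutatorElement_def]
        rw [h3]
        have hmem : ⁅(g₁ : P ⧸ N), (g₂ : P ⧸ N)⁆ ∈ commutator (P ⧸ N) := by
          rw [commutator_def]
          exact Subgroup.commutator_mem_commutator (Subgroup.mem_top _) (Subgroup.mem_top _)
        rw [h] at hmem
        exact Subgroup.mem_bot.mp hmem
      rw [le_antisymm hle hNc, hNp]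
    have hD := ih _ hlt (P ⧸ N) rfl (hP.to_quotient N) hna' (H.quotient N)
    have hcyc := (H.quotient N).isCyclic_center p hD
    exact galConj_step p hP H N hNZ hNc hNp hcyc hD

/-- Non-linear irreducible characters of equal degree of a non-abelian `p`-group are all Galois
conjugate iff the centre is cyclic and the derived subgroup has order `p`. -/
theorem galConj_iff {P : Type u} [Group P] [Finite P] (p : ℕ) [Fact p.Prime] (hP : IsPGroup p P)
    (hna : ¬ IsMulCommutative P) :
    GalConjProp P ↔ (IsCyclic (Subgroup.center P) ∧ Nat.card (commutator P) = p) := by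
  constructor
  · intro H
    have hne : commutator P ≠ ⊥ := by
      intro h
      apply hna
      refine ⟨⟨fun a b => ?_⟩⟩
      have hmem : ⁅a, b⁆ ∈ commutator P := by
        rw [commutator_def]
        exact Subgroup.commutator_mem_commutator (Subgroup.mem_top _) (Subgroup.mem_top _)
      rw [h, Subgroup.mem_bot, commutatorElement_eq_one_iff_commute] at hmem
      exact hmem.eq
    have hD := card_commutator_of_galConj p _ P rfl hP hne H
    exact ⟨H.isCyclic_center p hD, hD⟩
  · rintro ⟨hZ, hD⟩ χ ψ hχ hdeg
    exact galois_conj_of_cyclic_center p hP hZ hD χ ψ hχ hdeg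

end Cfsg.Agent.Lib.Helper79
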