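import Mathlib
import Cfsg.Agent.Lib.Helper85.PSpDefs

/-! # S5171 leaf L14 (helper79 for helper85): `tor d = dHom (diag δ) * torAt l τ` -/

set_option autoImplicit false
set_option linter.unusedSectionVars false
set_option linter.style.haveILetI false

namespace Cfsg.Agent.Lib.Helper85.PSp

open Matrix Cfsg.Agent.Lib.Helper45.SpAut Cfsg.Agent.Lib.Helper41.PSLn

variable {F : Type*} [Field F] [Fintype F] {m : ℕ}

theorem l14_tor_mul (a b : Fin m → Fˣ) : (tor a : SpG m F) * tor b = tor (a * b) := by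
  apply Subtype.ext
  show (tor a : SpG m F).1 * (tor b : SpG m F).1 = (tor (a * b) : SpG m F).1
  rw [tor_coe, tor_coe, tor_coe, fromBlocks_multiply]
  simp only [Matrix.mul_zero, Matrix.zero_mul, add_zero, zero_add, diagonal_mul_diagonal]
  have h1 : (fun i => ((a i : Fˣ) : F) * ((b i : Fˣ) : F)) = fun i => (((a * b) i : Fˣ) : F) := by
    funext i
    rw [Pi.mul_apply, Units.val_mul]
  have h2 : (fun i => (((a i)⁻¹ : Fˣ) : F) * (((b i)⁻¹ : Fˣ) : F)) =
      fun i => ((((a * b) i)⁻¹ : Fˣ) : F) := by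
    funext i
    rw [Pi.mul_apply, mul_inv, Units.val_mul]
  rw [h1, h2]

theorem l14_dg_inv (δ : Fin m → F) (hδ : ∏ i, δ i = 1) (δ' : Fin m → F) (hδ' : ∏ i, δ' i = 1)
    (h : ∀ i, δ i * δ' i = 1) : (dg δ hδ : SLn m F)⁻¹ = dg δ' hδ' := by
  apply inv_eq_of_mul_eq_one_right
  apply Subtype.ext
  show (dg δ hδ : SLn m F).1 * (dg δ' hδ' : SLn m F).1 = 1
  rw [dg_coe, dg_coe, diagonal_mul_diagonal]
  have : (fun i => δ i * δ' i) = fun _ => (1 : F) := funext h
  rw [this, diagonal_one]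

theorem l14_dHom_dg (d' : Fin m → Fˣ) (hδ : ∏ i, ((d' i : Fˣ) : F) = 1) :
    (dHom (dg (fun i => ((d' i : Fˣ) : F)) hδ) : SpG m F) = tor d' := by
  have hδ' : ∏ i, (((d' i)⁻¹ : Fˣ) : F) = 1 := by
    have h1 : ∏ i, (((d' i)⁻¹ : Fˣ) : F) = ((∏ i, (d' i)⁻¹ : Fˣ) : F) := by
      rw [Units.coe_prod]
    have h2 : ((∏ i, d' i : Fˣ) : F) = 1 := by rw [Units.coe_prod]; exact hδ
    have h3 : (∏ i, d' i : Fˣ) = 1 := Units.ext h2
    rw [h1, Finset.prod_inv_distrib, h3, inv_one, Units.val_one]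
  have hinv := l14_dg_inv (fun i => ((d' i : Fˣ) : F)) hδ (fun i => (((d' i)⁻¹ : Fˣ) : F)) hδ'
    (fun i => by rw [← Units.val_mul, mul_inv_cancel, Units.val_one])
  apply Subtype.ext
  rw [dHom_coe, hinv, dg_coe, dg_coe, diagonal_transpose, tor_coe]

/-- L14. `tor d = dHom(diag δ) * torAt l τ` with `τ = ∏ d i`, `δ = d` except `δ l = d l / τ`. -/
theorem tor_eq_dHom_mul_torAt (d : Fin m → Fˣ) (l : Fin m) :
    ∃ (δ : Fin m → F) (hδ : ∏ i, δ i = 1) (d' : Fin m → Fˣ) (τ : Fˣ),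
      dHom (dg δ hδ) = tor d' ∧ tor d = tor d' * torAt l τ := by
  classical
  set τ : Fˣ := ∏ i, d i with hτ
  set u : Fin m → Fˣ := Function.update (fun _ => (1 : Fˣ)) l τ⁻¹ with hu
  set d' : Fin m → Fˣ := d * u with hd'
  have hprodu : ∏ i, u i = τ⁻¹ := by
    rw [Fintype.prod_eq_single l]
    · rw [hu, Function.update_self]
    · intro x hx
      rw [hu, Function.update_of_ne hx]
  have hprod : (∏ i, d' i : Fˣ) = 1 := by
    rw [hd']
    simp only [Pi.mul_apply]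
    rw [Finset.prod_mul_distrib, hprodu, ← hτ, mul_inv_cancel]
  have hδ : ∏ i, ((d' i : Fˣ) : F) = 1 := by
    rw [← Units.coe_prod, hprod, Units.val_one]
  refine ⟨fun i => ((d' i : Fˣ) : F), hδ, d', τ, l14_dHom_dg d' hδ, ?_⟩
  unfold torAt
  rw [l14_tor_mul]
  congr 1
  funext i
  rw [hd', Pi.mul_apply, Pi.mul_apply, hu]
  by_cases h : i = l
  · subst h
    rw [Function.update_self, Function.update_self, mul_assoc, inv_mul_cancel, mul_one]
  · rw [Function.update_of_ne h, Function.update_of_ne h, mul_one, mul_one]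

end Cfsg.Agent.Lib.Helper85.PSp
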