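import Mathlib
import Cfsg.Agent.Lib.Helper85.PSpDefs

/-! # S5171 leaf L15 (helper79 for helper85): `torAt l t` is a product of four transvections
`T (eV l) _`, `T (fV l) _` (the `SL_2` identity `diag(t, 1/t) = x(t-1) y(1) x(1/t-1) y(-t)`). -/

set_option autoImplicit false
set_option linter.unusedSectionVars false
set_option linter.style.haveILetI false

namespace Cfsg.Agent.Lib.Helper85.PSp

open Matrix Cfsg.Agent.Lib.Helper45.SpAut Cfsg.Agent.Lib.Helper41.PSLn

variable {F : Type*} [Field F] {m : ℕ}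

theorem l15_tor_mulVec_inl (d : Fin m → Fˣ) (x : Vec m F) (i : Fin m) :
    ((tor d : SpG m F).1 *ᵥ x) (Sum.inl i) = ((d i : Fˣ) : F) * x (Sum.inl i) := by
  rw [tor_coe]
  have hx : x = Sum.elim (fun j => x (Sum.inl j)) (fun j => x (Sum.inr j)) := by
    funext s
    cases s <;> rfl
  conv_lhs => rw [hx]
  rw [fromBlocks_mulVec]
  simp only [Sum.elim_inl, zero_mulVec, add_zero]
  rw [mulVec_diagonal]
  rfl

theorem l15_tor_mulVec_inr (d : Fin m → Fˣ) (x : Vec m F) (i : Fin m) :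
    ((tor d : SpG m F).1 *ᵥ x) (Sum.inr i) = (((d i)⁻¹ : Fˣ) : F) * x (Sum.inr i) := by
  rw [tor_coe]
  have hx : x = Sum.elim (fun j => x (Sum.inl j)) (fun j => x (Sum.inr j)) := by
    funext s
    cases s <;> rfl
  conv_lhs => rw [hx]
  rw [fromBlocks_mulVec]
  simp only [Sum.elim_inr, zero_mulVec, zero_add]
  rw [mulVec_diagonal]
  rfl

theorem l15_Te_inl (l : Fin m) (c : F) (x : Vec m F) (i : Fin m) :
    ((T (eV l) c : SpG m F).1 *ᵥ x) (Sum.inl i) =
      x (Sum.inl i) + if i = l then c * x (Sum.inr l) else 0 := by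
  rw [T_mulVec, B_eV_right]
  simp only [Pi.add_apply, Pi.smul_apply, eV, smul_eq_mul]
  by_cases h : i = l
  · subst h
    rw [Pi.single_eq_same, mul_one, if_pos rfl]
  · rw [Pi.single_eq_of_ne (by intro h'; exact h (Sum.inl.inj h')), mul_zero, if_neg h]

theorem l15_Te_inr (l : Fin m) (c : F) (x : Vec m F) (i : Fin m) :
    ((T (eV l) c : SpG m F).1 *ᵥ x) (Sum.inr i) = x (Sum.inr i) := by
  rw [T_mulVec, B_eV_right]
  simp only [Pi.add_apply, Pi.smul_apply, eV, smul_eq_mul]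
  rw [Pi.single_eq_of_ne (by intro h'; exact Sum.inr_ne_inl h'), mul_zero, add_zero]

theorem l15_Tf_inl (l : Fin m) (c : F) (x : Vec m F) (i : Fin m) :
    ((T (fV l) c : SpG m F).1 *ᵥ x) (Sum.inl i) = x (Sum.inl i) := by
  rw [T_mulVec, B_fV_right]
  simp only [Pi.add_apply, Pi.smul_apply, fV, smul_eq_mul]
  rw [Pi.single_eq_of_ne (by intro h'; exact Sum.inl_ne_inr h'), mul_zero, add_zero]

theorem l15_Tf_inr (l : Fin m) (c : F) (x : Vec m F) (i : Fin m) :
    ((T (fV l) c : SpG m F).1 *ᵥ x) (Sum.inr i) =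
      x (Sum.inr i) + if i = l then - (c * x (Sum.inl l)) else 0 := by
  rw [T_mulVec, B_fV_right]
  simp only [Pi.add_apply, Pi.smul_apply, fV, smul_eq_mul]
  by_cases h : i = l
  · subst h
    rw [Pi.single_eq_same, mul_one, if_pos rfl, mul_neg]
  · rw [Pi.single_eq_of_ne (by intro h'; exact h (Sum.inr.inj h')), mul_zero, if_neg h]

theorem torAt_eq_prod (l : Fin m) (t : Fˣ) :
    (torAt l t : SpG m F) =
      T (eV l) ((t : F) - 1) * T (fV l) (-1) * T (eV l) (((t⁻¹ : Fˣ) : F) - 1) * T (fV l) (t : F) := by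
  classical
  have ht : ((t : Fˣ) : F) * ((t⁻¹ : Fˣ) : F) = 1 := by
    rw [← Units.val_mul, mul_inv_cancel, Units.val_one]
  apply sp_ext
  intro x
  funext s
  rw [mul_mulVec, mul_mulVec, mul_mulVec]
  unfold torAt
  rcases s with i | i
  · simp only [l15_tor_mulVec_inl, l15_Te_inl, l15_Te_inr, l15_Tf_inl, l15_Tf_inr, if_true]
    by_cases h : i = l
    · subst h
      rw [Function.update_self, if_pos rfl, if_pos rfl]
      have ht' : ((t⁻¹ : Fˣ) : F) = ((t : Fˣ) : F)⁻¹ := by rw [Units.val_inv_eq_inv_val]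
      have hne : ((t : Fˣ) : F) ≠ 0 := t.ne_zero
      rw [ht']
      field_simp
      ring
    · rw [Function.update_of_ne h, if_neg h, if_neg h, Units.val_one, one_mul, add_zero, add_zero]
  · simp only [l15_tor_mulVec_inr, l15_Te_inl, l15_Te_inr, l15_Tf_inl, l15_Tf_inr, if_true]
    by_cases h : i = l
    · subst h
      rw [Function.update_self, if_pos rfl, if_pos rfl]
      have ht' : ((t⁻¹ : Fˣ) : F) = ((t : Fˣ) : F)⁻¹ := by rw [Units.val_inv_eq_inv_val]
      have hne : ((t : Fˣ) : F) ≠ 0 := t.ne_zero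
      rw [ht']
      field_simp
      ring
    · rw [Function.update_of_ne h, if_neg h, if_neg h, inv_one, Units.val_one, one_mul, add_zero,
        add_zero]

/-- L15. `diag(t, 1/t) = x(t-1) y(1) x(1/t-1) y(-t)` inside `Sp(⟨e_l, f_l⟩) = SL_2`. -/
theorem torAt_mem_closure (l : Fin m) (t : Fˣ) :
    torAt l t ∈ Subgroup.closure {g : SpG m F | ∃ c : F, g = T (eV l) c ∨ g = T (fV l) c} := by
  rw [torAt_eq_prod]
  have he : ∀ c : F, (T (eV l) c : SpG m F) ∈
      Subgroup.closure {g : SpG m F | ∃ c : F, g = T (eV l) c ∨ g = T (fV l) c} :=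
    fun c => Subgroup.subset_closure ⟨c, Or.inl rfl⟩
  have hf : ∀ c : F, (T (fV l) c : SpG m F) ∈
      Subgroup.closure {g : SpG m F | ∃ c : F, g = T (eV l) c ∨ g = T (fV l) c} :=
    fun c => Subgroup.subset_closure ⟨c, Or.inr rfl⟩
  exact mul_mem (mul_mem (mul_mem (he _) (hf _)) (he _)) (hf _)

end Cfsg.Agent.Lib.Helper85.PSp
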