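import Mathlib
import Cfsg.Agent.Lib.Helper85.PSpDefs
import Cfsg.Agent.Lib.Helper41.PSLnA

/-! # S5171 leaf L26 (helper79 for helper85): an additive group of symmetric matrices invariant
under `S ↦ A S Aᵀ` (`A ∈ SL_m`) and the diagonal torus, containing `a E_00` (`a ≠ 0`), contains
every symmetric matrix. -/

set_option autoImplicit false
set_option linter.unusedSectionVars false
set_option linter.style.haveILetI false

namespace Cfsg.Agent.Lib.Helper85.PSp

open Matrix Cfsg.Agent.Lib.Helper45.SpAut Cfsg.Agent.Lib.Helper41.PSLn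

variable {F : Type*} [Field F] [Fintype F] {m : ℕ}

theorem l26_sum_mem (P : Matrix (Fin m) (Fin m) F → Prop) (h0 : P 0)
    (hadd : ∀ S S', P S → P S' → P (S + S')) {ι : Type*} (s : Finset ι)
    (f : ι → Matrix (Fin m) (Fin m) F) (hf : ∀ i ∈ s, P (f i)) : P (∑ i ∈ s, f i) := by
  classical
  induction s using Finset.induction_on with
  | empty => simpa using h0
  | insert a s ha ih =>
    rw [Finset.sum_insert ha]
    exact hadd _ _ (hf a (Finset.mem_insert_self a s))
      (ih fun i hi => hf i (Finset.mem_insert_of_mem hi))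

theorem l26_conj_rk (A : Matrix (Fin m) (Fin m) F) (u : Fin m → F) (c : F) :
    A * (c • vecMulVec u u) * Aᵀ = c • vecMulVec (A *ᵥ u) (A *ᵥ u) := by
  rw [Matrix.mul_smul, Matrix.smul_mul, mul_vecMulVec, vecMulVec_mul, vecMul_transpose]

theorem l26_tv_mulVec {i j : Fin m} (hij : i ≠ j) (t : F) (u : Fin m → F) :
    (tv hij t : SLn m F).1 *ᵥ u = u + (t * u j) • Pi.single i (1 : F) := by
  have e1 : (tv hij t : SLn m F).1 = 1 + single i j t := rfl
  rw [e1, add_mulVec, one_mulVec, single_mulVec_eq]

theorem l26_single_eq (i j : Fin m) (c : F) :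
    (single i j c : Matrix (Fin m) (Fin m) F) =
      c • vecMulVec (Pi.single i (1 : F)) (Pi.single j (1 : F)) := by
  rw [← single_eq_single_vecMulVec_single, smul_single, smul_eq_mul, mul_one]

theorem l26_torus [NeZero m] (t : Fˣ) (a : F) :
    diagonal (fun i : Fin m => (((Function.update (fun _ => (1 : Fˣ)) (0 : Fin m) t) i : Fˣ) : F)) *
      single 0 0 a *
      diagonal (fun i : Fin m => (((Function.update (fun _ => (1 : Fˣ)) (0 : Fin m) t) i : Fˣ) : F)) =
      single 0 0 ((t : F) ^ 2 * a) := by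
  classical
  ext k l
  rw [mul_diagonal, diagonal_mul, single_apply, single_apply]
  by_cases hk : 0 = k
  · by_cases hl : 0 = l
    · subst hk
      subst hl
      rw [if_pos ⟨rfl, rfl⟩, if_pos ⟨rfl, rfl⟩, Function.update_self]
      ring
    · rw [if_neg (fun h => hl h.2), if_neg (fun h => hl h.2), mul_zero, zero_mul]
  · rw [if_neg (fun h => hk h.1), if_neg (fun h => hk h.1), mul_zero, zero_mul]

/-- every element of a finite field is `s² - t²` or a square -/
theorem l26_field (x : F) : ∃ s t : F, x = s ^ 2 - t ^ 2 := by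
  by_cases hF : ringChar F = 2
  · obtain ⟨r, hr⟩ := FiniteField.isSquare_of_char_two hF x
    exact ⟨r, 0, by rw [hr]; ring⟩
  · have h2 : (2 : F) ≠ 0 := Ring.two_ne_zero hF
    refine ⟨(x + 1) / 2, (x - 1) / 2, ?_⟩
    field_simp
    ring

/-- L26. -/
theorem all_symm_of_single [NeZero m] (P : Matrix (Fin m) (Fin m) F → Prop) (h0 : P 0)
    (hadd : ∀ S S', P S → P S' → P (S + S')) (hneg : ∀ S, P S → P (-S))
    (hSL : ∀ (A : SLn m F) (S : Matrix (Fin m) (Fin m) F), P S → P (A.1 * S * A.1ᵀ))
    (htor : ∀ (d : Fin m → Fˣ) (S : Matrix (Fin m) (Fin m) F), P S →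
      P (diagonal (fun i => ((d i : Fˣ) : F)) * S * diagonal (fun i => ((d i : Fˣ) : F))))
    {a : F} (ha : a ≠ 0) (h : P (single 0 0 a)) :
    ∀ S : Matrix (Fin m) (Fin m) F, Sᵀ = S → P S := by
  classical
  -- (i) all `c E_00`
  have hsq : ∀ t : F, P (single 0 0 (t ^ 2 * a)) := by
    intro t
    by_cases ht : t = 0
    · subst ht
      have : (single 0 0 ((0 : F) ^ 2 * a) : Matrix (Fin m) (Fin m) F) = 0 := by
        rw [zero_pow two_ne_zero, zero_mul, single_zero]
      rw [this]
      exact h0
    · have h1 := htor (Function.update (fun _ => (1 : Fˣ)) (0 : Fin m) (Units.mk0 t ht)) _ h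
      rw [l26_torus] at h1
      exact h1
  have h00 : ∀ c : F, P (single 0 0 c) := by
    intro c
    obtain ⟨s, t, hst⟩ := l26_field (c / a)
    have hc : c = s ^ 2 * a + -(t ^ 2 * a) := by
      have : c = c / a * a := by field_simp
      rw [this, hst]
      ring
    rw [hc, single_add, ← single_neg]
    exact hadd _ _ (hsq s) (hneg _ (hsq t))
  -- rank one matrices
  have hQA : ∀ (A : SLn m F) (u : Fin m → F), (∀ c : F, P (c • vecMulVec u u)) →
      ∀ c : F, P (c • vecMulVec (A.1 *ᵥ u) (A.1 *ᵥ u)) := by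
    intro A u hu c
    rw [← l26_conj_rk]
    exact hSL A _ (hu c)
  have hQ0 : ∀ c : F, P (c • vecMulVec (Pi.single (0 : Fin m) (1 : F)) (Pi.single (0 : Fin m) (1 : F))) := by
    intro c
    rw [← l26_single_eq]
    exact h00 c
  -- (ii) all `c E_ii`
  have hQe : ∀ (i : Fin m) (c : F),
      P (c • vecMulVec (Pi.single i (1 : F)) (Pi.single i (1 : F))) := by
    intro i
    by_cases hi : i = 0
    · subst hi
      exact hQ0
    · have h1 := hQA (tv hi 1) _ hQ0
      rw [l26_tv_mulVec, Pi.single_eq_same, mul_one, one_smul] at h1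
      have h2 := hQA (tv (Ne.symm hi) (-1)) _ h1
      rw [l26_tv_mulVec, Pi.add_apply, Pi.single_eq_same, Pi.single_eq_of_ne hi, zero_add, mul_one,
        neg_smul, one_smul] at h2
      have h3 : (Pi.single (0 : Fin m) (1 : F) + Pi.single i (1 : F) + -Pi.single (0 : Fin m) (1 : F) :
          Fin m → F) = Pi.single i 1 := by abel
      rw [h3] at h2
      exact h2
  -- (iii) all `offS i j c`
  have hoff : ∀ (i j : Fin m), i ≠ j → ∀ c : F, P (offS i j c) := by
    intro i j hij c
    have h1 := hQA (tv (Ne.symm hij) 1) _ (hQe i) c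
    rw [l26_tv_mulVec, Pi.single_eq_same, mul_one, one_smul] at h1
    have h2 : offS i j c = c • vecMulVec (Pi.single i (1 : F) + Pi.single j (1 : F))
        (Pi.single i (1 : F) + Pi.single j (1 : F)) +
        (-(c • vecMulVec (Pi.single i (1 : F)) (Pi.single i (1 : F))) +
         -(c • vecMulVec (Pi.single j (1 : F)) (Pi.single j (1 : F)))) := by
      unfold offS
      rw [l26_single_eq, l26_single_eq, add_vecMulVec, vecMulVec_add, vecMulVec_add, smul_add,
        smul_add, smul_add]
      abel
    rw [h2]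
    exact hadd _ _ h1 (hadd _ _ (hneg _ (hQe i c)) (hneg _ (hQe j c)))
  -- (iv) sums
  intro S hS
  set u : Fin m → Fin m → F := fun i j => if i < j then S i j else 0 with hu
  have hsum : ∑ i, ∑ j, offS i j (u i j) = of u + (of u)ᵀ := by
    unfold offS
    simp_rw [Finset.sum_add_distrib]
    rw [sum_sum_single]
    congr 1
    rw [Finset.sum_comm, sum_sum_single (fun j i => u i j)]
    rfl
  have hdecomp : S = (∑ i, single i i (S i i)) + ∑ i, ∑ j, offS i j (u i j) := by
    rw [hsum, sum_single_eq_diagonal]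
    ext k l
    rw [Matrix.add_apply, Matrix.add_apply, transpose_apply, of_apply, of_apply, diagonal_apply, hu]
    beta_reduce
    rcases lt_trichotomy k l with hkl | hkl | hkl
    · rw [if_neg (ne_of_lt hkl), if_pos hkl, if_neg (not_lt_of_gt hkl), zero_add, add_zero]
    · subst hkl
      rw [if_pos rfl, if_neg (lt_irrefl k), add_zero, add_zero]
    · rw [if_neg (ne_of_gt hkl), if_neg (not_lt_of_gt hkl), if_pos hkl, zero_add, zero_add]
      have := congrFun (congrFun hS k) l
      rw [transpose_apply] at this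
      exact this.symm
  rw [hdecomp]
  refine hadd _ _ (l26_sum_mem P h0 hadd _ _ fun i _ => ?_)
    (l26_sum_mem P h0 hadd _ _ fun i _ => l26_sum_mem P h0 hadd _ _ fun j _ => ?_)
  · rw [l26_single_eq]
    exact hQe i _
  · by_cases hij : i < j
    · exact hoff i j (ne_of_lt hij) _
    · have : u i j = 0 := by rw [hu]; exact if_neg hij
      rw [this]
      unfold offS
      rw [single_zero, single_zero, add_zero]
      exact h0

end Cfsg.Agent.Lib.Helper85.PSp
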