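import Mathlib
import Cfsg.Agent.Lib.Helper5.SLGen

/-!
# Explicit `3 × 3` calculus for `SL_3(F)` (helper79, for S2278)

Root elements `tv i j h t = 1 + t E_{ij}`, the lower Jordan block `V0`, and the identities needed to show that two
explicit conjugate regular unipotent elements generate `SL_3(F)`.
-/

set_option autoImplicit false
set_option linter.unusedSectionVars false
set_option linter.style.haveILetI false
set_option linter.unusedVariables false

open Matrix

namespace Cfsg.Agent.Lib.Helper79.RU3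

variable {F : Type*} [Field F]

/-- shorthand for `SL_3(F)` -/
abbrev SL3 (F : Type*) [Field F] := Matrix.SpecialLinearGroup (Fin 3) F

theorem h01 : (0 : Fin 3) ≠ 1 := by decide
theorem h02 : (0 : Fin 3) ≠ 2 := by decide
theorem h10 : (1 : Fin 3) ≠ 0 := by decide
theorem h12 : (1 : Fin 3) ≠ 2 := by decide
theorem h20 : (2 : Fin 3) ≠ 0 := by decide
theorem h21 : (2 : Fin 3) ≠ 1 := by decide

/-- the root element `1 + t E_{ij}` -/
noncomputable abbrev tv {i j : Fin 3} (h : i ≠ j) (t : F) : SL3 F :=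
  Matrix.SpecialLinearGroup.transvection h t

theorem tv_apply {i j : Fin 3} (h : i ≠ j) (t : F) (a b : Fin 3) :
    (tv h t).1 a b = (if a = b then 1 else 0) + (if a = i ∧ b = j then t else 0) := by
  change ((1 : Matrix (Fin 3) (Fin 3) F) + Matrix.single i j t) a b = _
  rw [Matrix.add_apply, Matrix.one_apply, Matrix.single_apply]
  congr 1
  by_cases h1 : i = a <;> by_cases h2 : j = b <;> simp [h1, h2, eq_comm]

theorem tv_zero {i j : Fin 3} (h : i ≠ j) : tv h (0 : F) = 1 := by
  apply Subtype.ext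
  ext a b
  rw [tv_apply]
  simp [Matrix.one_apply]

theorem tv_mul {i j : Fin 3} (h : i ≠ j) (s t : F) : tv h s * tv h t = tv h (s + t) := by
  apply Subtype.ext
  ext a b
  rw [Matrix.SpecialLinearGroup.coe_mul, Matrix.mul_apply, Fin.sum_univ_three]
  simp only [tv_apply]
  fin_cases i <;> fin_cases j <;> fin_cases a <;> fin_cases b <;> simp at h ⊢ <;> ring

theorem tv_inv {i j : Fin 3} (h : i ≠ j) (t : F) : (tv h t)⁻¹ = tv h (-t) := by
  rw [inv_eq_iff_mul_eq_one, tv_mul, add_neg_cancel, tv_zero]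

theorem tv_pow {i j : Fin 3} (h : i ≠ j) (t : F) (k : ℕ) : (tv h t) ^ k = tv h ((k : F) * t) := by
  induction k with
  | zero => simp [tv_zero]
  | succ k ih => rw [pow_succ, ih, tv_mul]; congr 1; push_cast; ring

open scoped commutatorElement in
theorem comm_tv {i j k : Fin 3} (hij : i ≠ j) (hik : i ≠ k) (hkj : k ≠ j) (a b : F) :
    ⁅tv hik a, tv hkj b⁆ = tv hij (a * b) := by
  rw [commutatorElement_def, tv_inv, tv_inv]
  apply Subtype.ext
  ext x y
  simp only [Matrix.SpecialLinearGroup.coe_mul, Matrix.mul_apply, Fin.sum_univ_three, tv_apply]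
  fin_cases i <;> fin_cases j <;> fin_cases k <;> fin_cases x <;> fin_cases y <;>
    simp at hij hik hkj ⊢ <;> ring

/-- the lower Jordan block -/
def V0m (F : Type*) [Field F] : Matrix (Fin 3) (Fin 3) F := !![1, 0, 0; 1, 1, 0; 0, 1, 1]

theorem det_V0m : (V0m F).det = 1 := by
  simp [V0m, Matrix.det_fin_three]

/-- the lower Jordan block as an element of `SL_3(F)` -/
def V0 (F : Type*) [Field F] : SL3 F := ⟨V0m F, det_V0m⟩

theorem V0_eq : V0 F = tv h10 1 * tv h21 1 := by
  apply Subtype.ext
  ext a b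
  simp only [Matrix.SpecialLinearGroup.coe_mul, Matrix.mul_apply, Fin.sum_univ_three, tv_apply]
  fin_cases a <;> fin_cases b <;> simp [V0, V0m]

theorem V0_nilp : IsNilpotent (((V0 F : SL3 F) : Matrix (Fin 3) (Fin 3) F) - 1) := by
  refine ⟨3, ?_⟩
  ext a b
  fin_cases a <;> fin_cases b <;>
    simp [V0, V0m, pow_succ, Matrix.mul_apply, Fin.sum_univ_three, Matrix.one_apply]

theorem V0_sq_ne : (((V0 F : SL3 F) : Matrix (Fin 3) (Fin 3) F) - 1) ^ (3 - 1) ≠ 0 := by
  intro h
  have := congrFun (congrFun h 2) 0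
  simp [V0, V0m, pow_succ, Matrix.mul_apply, Fin.sum_univ_three, Matrix.one_apply] at this

end Cfsg.Agent.Lib.Helper79.RU3
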