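import Mathlib
import Cfsg.Agent.Lib.Helper79.RU3Basic

/-!
# The explicit pair for `SL_3(F)` in odd characteristic (helper79, for S2278)
-/

set_option autoImplicit false
set_option linter.unusedSectionVars false
set_option linter.style.haveILetI false
set_option linter.unusedVariables false
set_option linter.unusedSimpArgs false
set_option linter.unusedTactic false
set_option linter.unreachableTactic false
set_option linter.unnecessarySeqFocus false

open Matrix

namespace Cfsg.Agent.Lib.Helper79.RU3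

variable {F : Type*} [Field F]

/-- `c = (1 - l)^3` -/
def cc (l : F) : F := (1 - l) ^ 3
/-- `G = l⁻² + 2 l - 3` -/
def GG (l : F) : F := (l⁻¹) ^ 2 + 2 * l - 3

/-- the semisimple part -/
def Sm (l : F) : Matrix (Fin 3) (Fin 3) F := !![l, 0, 0; 0, (l⁻¹) ^ 2, -GG l; 0, 0, l]

theorem det_Sm {l : F} (hl : l ≠ 0) : (Sm l).det = 1 := by
  simp [Sm, Matrix.det_fin_three]
  field_simp

/-- the semisimple part, in `SL_3(F)` -/
def SS {l : F} (hl : l ≠ 0) : SL3 F := ⟨Sm l, det_Sm hl⟩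

/-- the conjugating matrix -/
def g0m (l : F) : Matrix (Fin 3) (Fin 3) F :=
  !![1, l - 1, (l - 1) ^ 2; 0, l, l ^ 2 - 2 * l + l⁻¹; 0, 0, l⁻¹]

theorem det_g0m {l : F} (hl : l ≠ 0) : (g0m l).det = 1 := by
  simp [g0m, Matrix.det_fin_three]
  field_simp

/-- the conjugating element -/
def g0 {l : F} (hl : l ≠ 0) : SL3 F := ⟨g0m l, det_g0m hl⟩

/-- `g0 V0 = V0 T S g0`. -/
theorem conj_eq {l : F} (hl : l ≠ 0) :
    g0 hl * V0 F = V0 F * tv h02 (cc l) * SS hl * g0 hl := by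
  apply Subtype.ext
  ext a b
  simp only [Matrix.SpecialLinearGroup.coe_mul, Matrix.mul_apply, Fin.sum_univ_three, tv_apply]
  fin_cases a <;> fin_cases b <;> simp [g0, g0m, V0, V0m, SS, Sm, cc, GG] <;> field_simp <;> ring

theorem TS_comm {l : F} (hl : l ≠ 0) (c : F) : tv h02 c * SS hl = SS hl * tv h02 c := by
  apply Subtype.ext
  ext a b
  simp only [Matrix.SpecialLinearGroup.coe_mul, Matrix.mul_apply, Fin.sum_univ_three, tv_apply]
  fin_cases a <;> fin_cases b <;> simp [SS, Sm] <;> ring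

/-- `S` scales the root group `X_{12}` by `l⁻³`. -/
theorem S_tv12 {l : F} (hl : l ≠ 0) (a : F) :
    SS hl * tv h12 a = tv h12 ((l⁻¹) ^ 3 * a) * SS hl := by
  apply Subtype.ext
  ext x y
  simp only [Matrix.SpecialLinearGroup.coe_mul, Matrix.mul_apply, Fin.sum_univ_three, tv_apply]
  fin_cases x <;> fin_cases y <;> simp [SS, Sm] <;> field_simp <;> ring

/-- the diagonal matrix -/
def Dm (l : F) : Matrix (Fin 3) (Fin 3) F := Matrix.diagonal ![l, (l⁻¹) ^ 2, l]

theorem det_Dm {l : F} (hl : l ≠ 0) : (Dm l).det = 1 := by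
  simp [Dm, Matrix.det_diagonal, Fin.prod_univ_three]
  field_simp

/-- the diagonal element -/
def DD {l : F} (hl : l ≠ 0) : SL3 F := ⟨Dm l, det_Dm hl⟩

/-- `S` is diagonalisable: `S P = P D` with `P = tv12 (G / (l⁻² - l))`. -/
theorem S_diag {l : F} (hl : l ≠ 0) (h3 : l ^ 3 ≠ 1) :
    SS hl * tv h12 (GG l / ((l⁻¹) ^ 2 - l)) = tv h12 (GG l / ((l⁻¹) ^ 2 - l)) * DD hl := by
  have hne : (l⁻¹) ^ 2 - l ≠ 0 := by
    intro h
    apply h3
    have : (l⁻¹) ^ 2 = l := by linear_combination h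
    calc l ^ 3 = l ^ 2 * l := by ring
      _ = l ^ 2 * (l⁻¹) ^ 2 := by rw [this]
      _ = 1 := by field_simp
  apply Subtype.ext
  ext x y
  simp only [Matrix.SpecialLinearGroup.coe_mul, Matrix.mul_apply, Fin.sum_univ_three, tv_apply]
  fin_cases x <;> fin_cases y <;> simp [SS, Sm, DD, Dm] <;> field_simp <;> ring

theorem DD_pow {l : F} (hl : l ≠ 0) (k : ℕ) (hk : l ^ k = 1) : (DD hl) ^ k = 1 := by
  apply Subtype.ext
  rw [Matrix.SpecialLinearGroup.coe_pow]
  change (Matrix.diagonal ![l, (l⁻¹) ^ 2, l]) ^ k = 1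
  rw [Matrix.diagonal_pow]
  have h2 : (l ^ 2) ^ k = 1 := by rw [← pow_mul, mul_comm, pow_mul, hk, one_pow]
  ext a b
  fin_cases a <;> fin_cases b <;> simp [Matrix.diagonal, Matrix.one_apply, hk, h2]

theorem SS_pow {l : F} (hl : l ≠ 0) (h3 : l ^ 3 ≠ 1) (k : ℕ) (hk : l ^ k = 1) : (SS hl) ^ k = 1 := by
  have h := S_diag hl h3
  set P := tv h12 (GG l / ((l⁻¹) ^ 2 - l)) with hP
  have h1 : SS hl = P * DD hl * P⁻¹ := by rw [← h]; group
  rw [h1, conj_pow, DD_pow hl k hk]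
  group

end Cfsg.Agent.Lib.Helper79.RU3
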