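import Mathlib
import Cfsg.Agent.Lib.Helper79.RU3Odd

/-!
# Generation of `SL_3(F)`: the group-theoretic part (helper79, for S2278)
-/

set_option autoImplicit false
set_option linter.unusedSectionVars false
set_option linter.style.haveILetI false
set_option linter.unusedVariables false
set_option linter.unusedSimpArgs false
set_option linter.unusedTactic false
set_option linter.unreachableTactic false
set_option linter.unnecessarySeqFocus false

open Matrix
open scoped commutatorElement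

namespace Cfsg.Agent.Lib.Helper79.RU3

variable {F : Type*} [Field F]

/-- `V0 (1 + c E02) V0⁻¹` -/
def T1m (c : F) : Matrix (Fin 3) (Fin 3) F := !![1 + c, -c, c; c, 1 - c, c; 0, 0, 1]

theorem det_T1m (c : F) : (T1m c).det = 1 := by
  simp [T1m, Matrix.det_fin_three]
  ring

/-- `V0 (1 + c E02) V0⁻¹` in `SL_3(F)` -/
def T1 (c : F) : SL3 F := ⟨T1m c, det_T1m c⟩

theorem T1_conj (c : F) : T1 c * V0 F = V0 F * tv h02 c := by
  apply Subtype.ext
  ext a b
  simp only [Matrix.SpecialLinearGroup.coe_mul, Matrix.mul_apply, Fin.sum_univ_three, tv_apply]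
  fin_cases a <;> fin_cases b <;> simp [T1, T1m, V0, V0m] <;> ring

theorem comm_T_T1 (c : F) :
    tv h02 c * T1 c = tv h02 (-c ^ 2) * tv h12 (-c ^ 2) * T1 c * tv h02 c := by
  apply Subtype.ext
  ext a b
  simp only [Matrix.SpecialLinearGroup.coe_mul, Matrix.mul_apply, Fin.sum_univ_three, tv_apply]
  fin_cases a <;> fin_cases b <;> simp [T1, T1m] <;> ring

/-- `V0⁻¹ (1 + c E02) V0` -/
def T1'm (c : F) : Matrix (Fin 3) (Fin 3) F := !![1, c, c; 0, 1 - c, -c; 0, c, 1 + c]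

theorem det_T1'm (c : F) : (T1'm c).det = 1 := by
  simp [T1'm, Matrix.det_fin_three]
  ring

/-- `V0⁻¹ (1 + c E02) V0` in `SL_3(F)` -/
def T1' (c : F) : SL3 F := ⟨T1'm c, det_T1'm c⟩

theorem T1'_conj (c : F) : V0 F * T1' c = tv h02 c * V0 F := by
  apply Subtype.ext
  ext a b
  simp only [Matrix.SpecialLinearGroup.coe_mul, Matrix.mul_apply, Fin.sum_univ_three, tv_apply]
  fin_cases a <;> fin_cases b <;> simp [T1', T1'm, V0, V0m] <;> ring

theorem comm_T1'_T (c : F) :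
    T1' c * tv h02 c = tv h01 (-c ^ 2) * tv h02 (-c ^ 2) * tv h02 c * T1' c := by
  apply Subtype.ext
  ext a b
  simp only [Matrix.SpecialLinearGroup.coe_mul, Matrix.mul_apply, Fin.sum_univ_three, tv_apply]
  fin_cases a <;> fin_cases b <;> simp [T1', T1'm] <;> ring

/-- `V0⁻¹ (1 + E12) V0` -/
def B1m (F : Type*) [Field F] : Matrix (Fin 3) (Fin 3) F := !![1, 0, 0; 0, 2, 1; 0, -1, 0]

theorem det_B1m : (B1m F).det = 1 := by
  simp [B1m, Matrix.det_fin_three]

/-- `V0⁻¹ (1 + E12) V0` in `SL_3(F)` -/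
def B1 (F : Type*) [Field F] : SL3 F := ⟨B1m F, det_B1m⟩

theorem B1_conj : V0 F * B1 F = tv h12 1 * V0 F := by
  apply Subtype.ext
  ext a b
  simp only [Matrix.SpecialLinearGroup.coe_mul, Matrix.mul_apply, Fin.sum_univ_three, tv_apply]
  fin_cases a <;> fin_cases b <;> simp [B1, B1m, V0, V0m] <;> ring

/-- the Weyl element `tv12 2 * B1` moves `X12` to `X21`. -/
theorem weyl_conj (t : F) :
    (tv h12 2 * B1 F) * tv h12 t = tv h21 (-t) * (tv h12 2 * B1 F) := by
  apply Subtype.ext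
  ext a b
  simp only [Matrix.SpecialLinearGroup.coe_mul, Matrix.mul_apply, Fin.sum_univ_three, tv_apply]
  fin_cases a <;> fin_cases b <;> simp [B1, B1m] <;> ring

theorem comm_mem (H : Subgroup (SL3 F)) {x y : SL3 F} (hx : x ∈ H) (hy : y ∈ H) : ⁅x, y⁆ ∈ H := by
  rw [commutatorElement_def]
  exact H.mul_mem (H.mul_mem (H.mul_mem hx hy) (H.inv_mem hx)) (H.inv_mem hy)

/-- a subgroup containing all six root groups is everything -/
theorem top_of_all (H : Subgroup (SL3 F)) (h01f : ∀ t : F, tv h01 t ∈ H) (h02f : ∀ t : F, tv h02 t ∈ H)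
    (h10f : ∀ t : F, tv h10 t ∈ H) (h12f : ∀ t : F, tv h12 t ∈ H) (h20f : ∀ t : F, tv h20 t ∈ H)
    (h21f : ∀ t : F, tv h21 t ∈ H) : H = ⊤ := by
  apply Cfsg.Agent.Lib.Helper5.eq_top_of_transvection_mem
  intro i j hij c
  fin_cases i <;> fin_cases j
  · exact absurd rfl hij
  · exact h01f c
  · exact h02f c
  · exact h10f c
  · exact absurd rfl hij
  · exact h12f c
  · exact h20f c
  · exact h21f c
  · exact absurd rfl hij

/-- From `V0`, one element of `X02` and all of `X12` one gets everything. -/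
theorem top_of_full12 (H : Subgroup (SL3 F)) (hV : V0 F ∈ H) (c : F) (hc : c ≠ 0)
    (hT : tv h02 c ∈ H) (h12f : ∀ t : F, tv h12 t ∈ H) : H = ⊤ := by
  have hB : B1 F ∈ H := by
    have : B1 F = (V0 F)⁻¹ * (tv h12 1 * V0 F) := by rw [← B1_conj]; group
    rw [this]
    exact H.mul_mem (H.inv_mem hV) (H.mul_mem (h12f 1) hV)
  have hn : tv h12 2 * B1 F ∈ H := H.mul_mem (h12f _) hB
  have h21f : ∀ t : F, tv h21 t ∈ H := by
    intro t
    have : tv h21 t = (tv h12 2 * B1 F) * tv h12 (-t) * (tv h12 2 * B1 F)⁻¹ := by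
      rw [weyl_conj, neg_neg]; group
    rw [this]
    exact H.mul_mem (H.mul_mem hn (h12f _)) (H.inv_mem hn)
  have h10one : tv h10 (1 : F) ∈ H := by
    have : tv h10 (1 : F) = V0 F * (tv h21 1)⁻¹ := by rw [V0_eq]; group
    rw [this]
    exact H.mul_mem hV (H.inv_mem (h21f 1))
  have h20f : ∀ t : F, tv h20 t ∈ H := by
    intro t
    have := comm_tv h20 h21 h10 t (1 : F)
    rw [mul_one] at this
    rw [← this]
    exact comm_mem H (h21f t) h10one
  have h01f : ∀ t : F, tv h01 t ∈ H := by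
    intro t
    have := comm_tv h01 h02 h21 c (t / c)
    rw [mul_div_cancel₀ t hc] at this
    rw [← this]
    exact comm_mem H hT (h21f _)
  have h02f : ∀ t : F, tv h02 t ∈ H := by
    intro t
    have := comm_tv h02 h01 h12 t (1 : F)
    rw [mul_one] at this
    rw [← this]
    exact comm_mem H (h01f t) (h12f 1)
  have h10f : ∀ t : F, tv h10 t ∈ H := by
    intro t
    have := comm_tv h10 h12 h20 t (1 : F)
    rw [mul_one] at this
    rw [← this]
    exact comm_mem H (h12f t) (h20f 1)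
  exact top_of_all H h01f h02f h10f h12f h20f h21f

end Cfsg.Agent.Lib.Helper79.RU3

namespace Cfsg.Agent.Lib.Helper79.RU3

variable {F : Type*} [Field F]

/-- The parameters `t` with `1 + t E12 ∈ H`, as an additive subgroup. -/
def A12 (H : Subgroup (SL3 F)) : AddSubgroup F where
  carrier := {t | tv h12 t ∈ H}
  zero_mem' := by
    change tv h12 (0 : F) ∈ H
    rw [tv_zero]; exact H.one_mem
  add_mem' := by
    intro a b ha hb
    change tv h12 (a + b) ∈ H
    rw [← tv_mul]; exact H.mul_mem ha hb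
  neg_mem' := by
    intro a ha
    change tv h12 (-a) ∈ H
    rw [← tv_inv]; exact H.inv_mem ha

theorem mem_A12 (H : Subgroup (SL3 F)) (t : F) : t ∈ A12 H ↔ tv h12 t ∈ H := Iff.rfl

theorem cast_card_sub_one [Fintype F] : ((Fintype.card F - 1 : ℕ) : F) = -1 := by
  rw [Nat.cast_sub Fintype.card_pos, Nat.cast_card_eq_zero F]
  simp

/-- The odd characteristic pair generates (modulo the arithmetic of `l`). -/
theorem odd_main [Fintype F] (l : F) (hl : l ≠ 0) (h3 : l ^ 3 ≠ 1)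
    (hspan : ∀ A : AddSubgroup F, (∀ s ∈ A, (l⁻¹) ^ 3 * s ∈ A) → (∀ s ∈ A, l ^ 3 * s ∈ A) →
      (∃ r ∈ A, r ≠ 0) → A = ⊤)
    (H : Subgroup (SL3 F)) (hV : V0 F ∈ H) (hv : V0 F * tv h02 (cc l) * SS hl ∈ H) : H = ⊤ := by
  have hl1 : l ≠ 1 := by
    rintro rfl
    exact h3 (one_pow 3)
  have hc : cc l ≠ 0 := by
    unfold cc
    exact pow_ne_zero _ (sub_ne_zero.mpr (Ne.symm hl1))
  -- `T S ∈ H`
  have hC : tv h02 (cc l) * SS hl ∈ H := by
    have : tv h02 (cc l) * SS hl = (V0 F)⁻¹ * (V0 F * tv h02 (cc l) * SS hl) := by group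
    rw [this]
    exact H.mul_mem (H.inv_mem hV) hv
  -- its `(q-1)`-th power
  have hpow : (tv h02 (cc l) * SS hl) ^ (Fintype.card F - 1) = tv h02 (-(cc l)) := by
    rw [(show Commute (tv h02 (cc l)) (SS hl) from TS_comm hl (cc l)).mul_pow,
      SS_pow hl h3 _ (FiniteField.pow_card_sub_one_eq_one l hl), mul_one, tv_pow, cast_card_sub_one]
    congr 1
    ring
  have hTn : tv h02 (-(cc l)) ∈ H := by rw [← hpow]; exact H.pow_mem hC _
  have hT : tv h02 (cc l) ∈ H := by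
    have : tv h02 (cc l) = (tv h02 (-(cc l)))⁻¹ := by rw [tv_inv, neg_neg]
    rw [this]; exact H.inv_mem hTn
  have hS : SS hl ∈ H := by
    have : SS hl = (tv h02 (cc l))⁻¹ * (tv h02 (cc l) * SS hl) := by group
    rw [this]; exact H.mul_mem (H.inv_mem hT) hC
  -- `T1 ∈ H`
  have hT1 : T1 (cc l) ∈ H := by
    have : T1 (cc l) = V0 F * tv h02 (cc l) * (V0 F)⁻¹ := by rw [← T1_conj]; group
    rw [this]; exact H.mul_mem (H.mul_mem hV hT) (H.inv_mem hV)
  -- the commutator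
  have hY : tv h02 (-(cc l) ^ 2) * tv h12 (-(cc l) ^ 2) ∈ H := by
    have : tv h02 (-(cc l) ^ 2) * tv h12 (-(cc l) ^ 2)
        = tv h02 (cc l) * T1 (cc l) * (tv h02 (cc l))⁻¹ * (T1 (cc l))⁻¹ := by
      rw [comm_T_T1]; group
    rw [this]
    exact H.mul_mem (H.mul_mem (H.mul_mem hT hT1) (H.inv_mem hT)) (H.inv_mem hT1)
  -- conjugate by `S`
  have hSY : tv h02 (-(cc l) ^ 2) * tv h12 ((l⁻¹) ^ 3 * (-(cc l) ^ 2)) ∈ H := by
    have : tv h02 (-(cc l) ^ 2) * tv h12 ((l⁻¹) ^ 3 * (-(cc l) ^ 2))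
        = SS hl * (tv h02 (-(cc l) ^ 2) * tv h12 (-(cc l) ^ 2)) * (SS hl)⁻¹ := by
      have e1 := TS_comm hl (-(cc l) ^ 2)
      have e2 := S_tv12 hl (-(cc l) ^ 2)
      calc tv h02 (-(cc l) ^ 2) * tv h12 ((l⁻¹) ^ 3 * (-(cc l) ^ 2))
          = tv h02 (-(cc l) ^ 2) * (tv h12 ((l⁻¹) ^ 3 * (-(cc l) ^ 2)) * SS hl) * (SS hl)⁻¹ := by group
        _ = tv h02 (-(cc l) ^ 2) * (SS hl * tv h12 (-(cc l) ^ 2)) * (SS hl)⁻¹ := by rw [e2]
        _ = (tv h02 (-(cc l) ^ 2) * SS hl) * tv h12 (-(cc l) ^ 2) * (SS hl)⁻¹ := by group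
        _ = (SS hl * tv h02 (-(cc l) ^ 2)) * tv h12 (-(cc l) ^ 2) * (SS hl)⁻¹ := by rw [e1]
        _ = SS hl * (tv h02 (-(cc l) ^ 2) * tv h12 (-(cc l) ^ 2)) * (SS hl)⁻¹ := by group
    rw [this]
    exact H.mul_mem (H.mul_mem hS hY) (H.inv_mem hS)
  -- a nontrivial element of `X12`
  have hr : tv h12 ((cc l) ^ 2 * (1 - (l⁻¹) ^ 3)) ∈ H := by
    have : tv h12 ((cc l) ^ 2 * (1 - (l⁻¹) ^ 3))
        = (tv h02 (-(cc l) ^ 2) * tv h12 (-(cc l) ^ 2))⁻¹
          * (tv h02 (-(cc l) ^ 2) * tv h12 ((l⁻¹) ^ 3 * (-(cc l) ^ 2))) := by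
      have : (tv h02 (-(cc l) ^ 2) * tv h12 (-(cc l) ^ 2))⁻¹
          * (tv h02 (-(cc l) ^ 2) * tv h12 ((l⁻¹) ^ 3 * (-(cc l) ^ 2)))
          = (tv h12 (-(cc l) ^ 2))⁻¹ * tv h12 ((l⁻¹) ^ 3 * (-(cc l) ^ 2)) := by group
      rw [this, tv_inv, tv_mul]
      congr 1
      ring
    rw [this]
    exact H.mul_mem (H.inv_mem hY) hSY
  have hmu : (l⁻¹) ^ 3 ≠ 1 := by
    intro h
    apply h3
    have : l ^ 3 * (l⁻¹) ^ 3 = 1 := by field_simp
    rw [h, mul_one] at this
    exact this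
  -- `X12` is full
  have hA : A12 H = ⊤ := by
    apply hspan
    · intro s hs
      rw [mem_A12] at hs ⊢
      have : tv h12 ((l⁻¹) ^ 3 * s) = SS hl * tv h12 s * (SS hl)⁻¹ := by
        rw [S_tv12]; group
      rw [this]
      exact H.mul_mem (H.mul_mem hS hs) (H.inv_mem hS)
    · intro s hs
      rw [mem_A12] at hs ⊢
      have e := S_tv12 hl (l ^ 3 * s)
      have e' : (l⁻¹) ^ 3 * (l ^ 3 * s) = s := by field_simp
      rw [e'] at e
      have : tv h12 (l ^ 3 * s) = (SS hl)⁻¹ * tv h12 s * SS hl := by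
        rw [mul_assoc, ← e]; group
      rw [this]
      exact H.mul_mem (H.mul_mem (H.inv_mem hS) hs) hS
    · refine ⟨_, hr, ?_⟩
      exact mul_ne_zero (pow_ne_zero _ hc) (sub_ne_zero.mpr (Ne.symm hmu))
  have h12f : ∀ t : F, tv h12 t ∈ H := by
    intro t
    rw [← mem_A12, hA]
    trivial
  exact top_of_full12 H hV (cc l) hc hT h12f

end Cfsg.Agent.Lib.Helper79.RU3
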