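import Mathlib
import Cfsg.Agent.Lib.Helper79.RU3Core

/-!
# Characteristic two, the arithmetic of a generator, and the final statement (helper79, for S2278)
-/

set_option autoImplicit false
set_option linter.unusedSectionVars false
set_option linter.style.haveILetI false
set_option linter.unusedVariables false
set_option linter.unusedSimpArgs false
set_option linter.unusedTactic false
set_option linter.unreachableTactic false
set_option linter.unnecessarySeqFocus false

open Matrix
open scoped commutatorElement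

namespace Cfsg.Agent.Lib.Helper79.RU3

variable {F : Type*} [Field F]

/-- `H` contains `1 + t E_{ij}` for all positions. -/
def Good (H : Subgroup (SL3 F)) (t : F) : Prop := ∀ (i j : Fin 3) (h : i ≠ j), tv h t ∈ H

theorem good_zero (H : Subgroup (SL3 F)) : Good H 0 := by
  intro i j h
  rw [tv_zero]; exact H.one_mem

theorem good_add (H : Subgroup (SL3 F)) {a b : F} (ha : Good H a) (hb : Good H b) : Good H (a + b) := by
  intro i j h
  rw [← tv_mul]; exact H.mul_mem (ha i j h) (hb i j h)

theorem good_mul (H : Subgroup (SL3 F)) {a b : F} (ha : Good H a) (hb : Good H b) : Good H (a * b) := by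
  intro i j h
  fin_cases i <;> fin_cases j
  · exact absurd rfl h
  · rw [← comm_tv h01 h02 h21 a b]; exact comm_mem H (ha _ _ _) (hb _ _ _)
  · rw [← comm_tv h02 h01 h12 a b]; exact comm_mem H (ha _ _ _) (hb _ _ _)
  · rw [← comm_tv h10 h12 h20 a b]; exact comm_mem H (ha _ _ _) (hb _ _ _)
  · exact absurd rfl h
  · rw [← comm_tv h12 h10 h02 a b]; exact comm_mem H (ha _ _ _) (hb _ _ _)
  · rw [← comm_tv h20 h21 h10 a b]; exact comm_mem H (ha _ _ _) (hb _ _ _)
  · rw [← comm_tv h21 h20 h01 a b]; exact comm_mem H (ha _ _ _) (hb _ _ _)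
  · exact absurd rfl h

theorem good_pow (H : Subgroup (SL3 F)) (hone : Good H 1) {a : F} (ha : Good H a) (k : ℕ) :
    Good H (a ^ k) := by
  induction k with
  | zero => rw [pow_zero]; exact hone
  | succ k ih => rw [pow_succ]; exact good_mul H ih ha

/-- one root element with parameter `b` spreads to all positions -/
theorem good_of_has (H : Subgroup (SL3 F)) (hone : Good H 1) {b : F} (hb : tv h02 b ∈ H) : Good H b := by
  have e01 : tv h01 b ∈ H := by
    have := comm_tv h01 h02 h21 b (1 : F)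
    rw [mul_one] at this; rw [← this]; exact comm_mem H hb (hone _ _ _)
  have e12 : tv h12 b ∈ H := by
    have := comm_tv h12 h10 h02 (1 : F) b
    rw [one_mul] at this; rw [← this]; exact comm_mem H (hone _ _ _) hb
  have e10 : tv h10 b ∈ H := by
    have := comm_tv h10 h12 h20 b (1 : F)
    rw [mul_one] at this; rw [← this]; exact comm_mem H e12 (hone _ _ _)
  have e20 : tv h20 b ∈ H := by
    have := comm_tv h20 h21 h10 (1 : F) b
    rw [one_mul] at this; rw [← this]; exact comm_mem H (hone _ _ _) e10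
  have e21 : tv h21 b ∈ H := by
    have := comm_tv h21 h20 h01 b (1 : F)
    rw [mul_one] at this; rw [← this]; exact comm_mem H e20 (hone _ _ _)
  intro i j h
  fin_cases i <;> fin_cases j
  · exact absurd rfl h
  · exact e01
  · exact hb
  · exact e10
  · exact absurd rfl h
  · exact e12
  · exact e20
  · exact e21
  · exact absurd rfl h

/-- From `V0` and `1 + E02` one gets all `1 + E_{ij}`. -/
theorem good_one (H : Subgroup (SL3 F)) (hV : V0 F ∈ H) (hT : tv h02 (1 : F) ∈ H) : Good H 1 := by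
  have hTi : tv h02 (-1 : F) ∈ H := by rw [← tv_inv]; exact H.inv_mem hT
  have hT1 : T1 (1 : F) ∈ H := by
    have : T1 (1 : F) = V0 F * tv h02 1 * (V0 F)⁻¹ := by rw [← T1_conj]; group
    rw [this]; exact H.mul_mem (H.mul_mem hV hT) (H.inv_mem hV)
  have hT1' : T1' (1 : F) ∈ H := by
    have : T1' (1 : F) = (V0 F)⁻¹ * (tv h02 1 * V0 F) := by rw [← T1'_conj]; group
    rw [this]; exact H.mul_mem (H.inv_mem hV) (H.mul_mem hT hV)
  have e12n : tv h12 (-1 : F) ∈ H := by
    have h := comm_T_T1 (1 : F)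
    rw [one_pow] at h
    have : tv h12 (-1 : F) = (tv h02 (-1 : F))⁻¹ * (tv h02 1 * T1 1 * (tv h02 1)⁻¹ * (T1 1)⁻¹) := by
      rw [h]; group
    rw [this]
    exact H.mul_mem (H.inv_mem hTi)
      (H.mul_mem (H.mul_mem (H.mul_mem hT hT1) (H.inv_mem hT)) (H.inv_mem hT1))
  have e12 : tv h12 (1 : F) ∈ H := by
    have : tv h12 (1 : F) = (tv h12 (-1 : F))⁻¹ := by rw [tv_inv, neg_neg]
    rw [this]; exact H.inv_mem e12n
  have e01n : tv h01 (-1 : F) ∈ H := by
    have h := comm_T1'_T (1 : F)
    rw [one_pow] at h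
    have : tv h01 (-1 : F) = (T1' 1 * tv h02 1 * (T1' 1)⁻¹ * (tv h02 1)⁻¹) * (tv h02 (-1 : F))⁻¹ := by
      rw [h]; group
    rw [this]
    exact H.mul_mem
      (H.mul_mem (H.mul_mem (H.mul_mem hT1' hT) (H.inv_mem hT1')) (H.inv_mem hT)) (H.inv_mem hTi)
  have e01 : tv h01 (1 : F) ∈ H := by
    have : tv h01 (1 : F) = (tv h01 (-1 : F))⁻¹ := by rw [tv_inv, neg_neg]
    rw [this]; exact H.inv_mem e01n
  have hB : B1 F ∈ H := by
    have : B1 F = (V0 F)⁻¹ * (tv h12 1 * V0 F) := by rw [← B1_conj]; group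
    rw [this]
    exact H.mul_mem (H.inv_mem hV) (H.mul_mem e12 hV)
  have e122 : tv h12 (2 : F) ∈ H := by
    have : tv h12 (2 : F) = tv h12 1 * tv h12 1 := by rw [tv_mul]; norm_num
    rw [this]; exact H.mul_mem e12 e12
  have hn : tv h12 2 * B1 F ∈ H := H.mul_mem e122 hB
  have e21 : tv h21 (1 : F) ∈ H := by
    have : tv h21 (1 : F) = (tv h12 2 * B1 F) * tv h12 (-1) * (tv h12 2 * B1 F)⁻¹ := by
      rw [weyl_conj, neg_neg]; group
    rw [this]
    exact H.mul_mem (H.mul_mem hn e12n) (H.inv_mem hn)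
  have e10 : tv h10 (1 : F) ∈ H := by
    have : tv h10 (1 : F) = V0 F * (tv h21 1)⁻¹ := by rw [V0_eq]; group
    rw [this]
    exact H.mul_mem hV (H.inv_mem e21)
  have e20 : tv h20 (1 : F) ∈ H := by
    have := comm_tv h20 h21 h10 (1 : F) (1 : F)
    rw [mul_one] at this; rw [← this]; exact comm_mem H e21 e10
  intro i j h
  fin_cases i <;> fin_cases j
  · exact absurd rfl h
  · exact e01
  · exact hT
  · exact e10
  · exact absurd rfl h
  · exact e12
  · exact e20
  · exact e21
  · exact absurd rfl h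

/-- the second generator in characteristic two -/
def v2m (θ : F) : Matrix (Fin 3) (Fin 3) F := !![1, 1, θ; 0, 1, 1; 0, 0, 1]

theorem det_v2m (θ : F) : (v2m θ).det = 1 := by
  simp [v2m, Matrix.det_fin_three]

/-- the second generator in characteristic two, in `SL_3(F)` -/
def v2 (θ : F) : SL3 F := ⟨v2m θ, det_v2m θ⟩

/-- the conjugating matrix in characteristic two -/
def g2m (θ : F) : Matrix (Fin 3) (Fin 3) F := !![0, θ, 1; 0, 1, 0; 1, 0, 0]

theorem det_g2m (h2 : (2 : F) = 0) (θ : F) : (g2m θ).det = 1 := by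
  simp [g2m, Matrix.det_fin_three]
  linear_combination (-1 : F) * h2

/-- the conjugating element in characteristic two -/
def g2 (h2 : (2 : F) = 0) (θ : F) : SL3 F := ⟨g2m θ, det_g2m h2 θ⟩

theorem conj2_eq (h2 : (2 : F) = 0) (θ : F) : g2 h2 θ * V0 F = v2 θ * g2 h2 θ := by
  apply Subtype.ext
  ext a b
  simp only [Matrix.SpecialLinearGroup.coe_mul, Matrix.mul_apply, Fin.sum_univ_three]
  fin_cases a <;> fin_cases b <;> simp [g2, g2m, V0, V0m, v2, v2m]

theorem v2_sq (h2 : (2 : F) = 0) (θ : F) : v2 θ * v2 θ = tv h02 1 := by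
  apply Subtype.ext
  ext a b
  simp only [Matrix.SpecialLinearGroup.coe_mul, Matrix.mul_apply, Fin.sum_univ_three, tv_apply]
  fin_cases a <;> fin_cases b <;> simp [v2, v2m] <;>
    first
    | linear_combination h2
    | linear_combination θ * h2
    | linear_combination (θ + 1) * h2
    | linear_combination (2 : F) * h2

theorem v2_eq (θ : F) : v2 θ = tv h01 1 * tv h12 1 * tv h02 (θ - 1) := by
  apply Subtype.ext
  ext a b
  simp only [Matrix.SpecialLinearGroup.coe_mul, Matrix.mul_apply, Fin.sum_univ_three, tv_apply]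
  fin_cases a <;> fin_cases b <;> simp [v2, v2m]

/-- The characteristic two pair generates. -/
theorem even_main (h2 : (2 : F) = 0) (θ : F) (hgen : ∀ x : F, x ≠ 0 → ∃ k : ℕ, θ ^ k = x)
    (H : Subgroup (SL3 F)) (hV : V0 F ∈ H) (hv : v2 θ ∈ H) : H = ⊤ := by
  have hT : tv h02 (1 : F) ∈ H := by rw [← v2_sq h2 θ]; exact H.mul_mem hv hv
  have hone : Good H 1 := good_one H hV hT
  have hθ1 : tv h02 (θ - 1) ∈ H := by
    have : tv h02 (θ - 1) = (tv h01 1 * tv h12 1)⁻¹ * v2 θ := by rw [v2_eq]; group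
    rw [this]
    exact H.mul_mem (H.inv_mem (H.mul_mem (hone _ _ _) (hone _ _ _))) hv
  have hθ : Good H θ := by
    have := good_add H (good_of_has H hone hθ1) hone
    rwa [sub_add_cancel] at this
  have hall : ∀ t : F, Good H t := by
    intro t
    by_cases ht : t = 0
    · rw [ht]; exact good_zero H
    · obtain ⟨k, rfl⟩ := hgen t ht
      exact good_pow H hone hθ k
  exact top_of_all H (fun t => hall t _ _ _) (fun t => hall t _ _ _) (fun t => hall t _ _ _)
    (fun t => hall t _ _ _) (fun t => hall t _ _ _) (fun t => hall t _ _ _)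

end Cfsg.Agent.Lib.Helper79.RU3
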