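import Mathlib
import Cfsg.Agent.Lib.Helper79.RU3Even

/-!
# `SL_3(F)` is generated by two conjugate regular unipotent elements (helper79, for S2278)
-/

set_option autoImplicit false
set_option linter.unusedSectionVars false
set_option linter.style.haveILetI false
set_option linter.unusedVariables false
set_option linter.unusedSimpArgs false
set_option linter.unusedTactic false
set_option linter.unreachableTactic false
set_option linter.unnecessarySeqFocus false

open Matrix

namespace Cfsg.Agent.Lib.Helper79.RU3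

variable {F : Type*} [Field F]

theorem cube_inj_of_three_eq_zero (h3 : (3 : F) = 0) : Function.Injective (fun x : F => x ^ 3) := by
  intro x y hxy
  have hxy' : x ^ 3 = y ^ 3 := hxy
  have h : (x - y) ^ 3 = x ^ 3 - y ^ 3 - 3 * (x * y * (x - y)) := by ring
  rw [h3, zero_mul, sub_zero, hxy', sub_self] at h
  exact sub_eq_zero.mp (pow_eq_zero_iff (by norm_num) |>.mp h)

/-- An additive subgroup stable under multiplication by the cube of a generator is trivial or everything. -/
theorem span_of_gen [Fintype F] (h2 : (2 : F) ≠ 0) (l : F) (hl : l ≠ 0)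
    (hgen : ∀ x : F, x ≠ 0 → ∃ k : ℕ, l ^ k = x) (A : AddSubgroup F)
    (h1 : ∀ s ∈ A, (l⁻¹) ^ 3 * s ∈ A) (h2' : ∀ s ∈ A, l ^ 3 * s ∈ A) (hr : ∃ r ∈ A, r ≠ 0) : A = ⊤ := by
  obtain ⟨r, hrA, hr0⟩ := hr
  have hpow : ∀ k : ℕ, (l ^ 3) ^ k * r ∈ A := by
    intro k
    induction k with
    | zero => simpa using hrA
    | succ k ih =>
      have := h2' _ ih
      rw [pow_succ]
      rwa [mul_comm ((l ^ 3) ^ k) (l ^ 3), mul_assoc]
  have hcube : ∀ y : F, y ^ 3 * r ∈ A := by
    intro y
    by_cases hy : y = 0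
    · rw [hy]; simp
    · obtain ⟨k, rfl⟩ := hgen y hy
      have := hpow k
      rwa [← pow_mul, mul_comm 3 k, pow_mul] at this
  have hall : ∀ z : F, z * r ∈ A := by
    intro z
    by_cases h3 : (3 : F) = 0
    · have hsurj : Function.Surjective (fun x : F => x ^ 3) :=
        Finite.injective_iff_surjective.mp (cube_inj_of_three_eq_zero h3)
      obtain ⟨y, hy⟩ := hsurj z
      have := hcube y
      rw [← hy]
      exact this
    · have h6 : (6 : F) ≠ 0 := by
        have : (6 : F) = 2 * 3 := by norm_num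
        rw [this]; exact mul_ne_zero h2 h3
      have e : z * r = (z / 6 + 1) ^ 3 * r + (z / 6 - 1) ^ 3 * r - ((z / 6) ^ 3 * r + (z / 6) ^ 3 * r) := by
        field_simp
        ring
      rw [e]
      exact A.sub_mem (A.add_mem (hcube _) (hcube _)) (A.add_mem (hcube _) (hcube _))
  rw [eq_top_iff]
  intro w _
  have := hall (w / r)
  rwa [div_mul_cancel₀ w hr0] at this

/-- **Main theorem.** `SL_3(F)` is generated by two conjugate regular unipotent elements. -/
theorem main [Fintype F] :
    ∃ u g : Matrix.SpecialLinearGroup (Fin 3) F,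
      IsNilpotent ((u : Matrix (Fin 3) (Fin 3) F) - 1) ∧
      ((u : Matrix (Fin 3) (Fin 3) F) - 1) ^ (3 - 1) ≠ 0 ∧
      Subgroup.closure ({u, g * u * g⁻¹} : Set (Matrix.SpecialLinearGroup (Fin 3) F)) = ⊤ := by
  classical
  obtain ⟨θu, hθu⟩ := IsCyclic.exists_monoid_generator (α := Fˣ)
  obtain ⟨θ, hθdef⟩ : ∃ θ : F, θ = (θu : F) := ⟨_, rfl⟩
  have hθ0 : θ ≠ 0 := by rw [hθdef]; exact θu.ne_zero
  have hθ : ∀ c : F, c ≠ 0 → ∃ k : ℕ, θ ^ k = c := by
    intro c hc
    obtain ⟨k, hk⟩ := (Submonoid.mem_powers_iff _ _).mp (hθu (Units.mk0 c hc))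
    refine ⟨k, ?_⟩
    have := congrArg Units.val hk
    rw [hθdef]
    simpa using this
  by_cases h2 : (2 : F) = 0
  · refine ⟨V0 F, g2 h2 θ, V0_nilp, V0_sq_ne, ?_⟩
    have hconj : g2 h2 θ * V0 F * (g2 h2 θ)⁻¹ = v2 θ := by
      rw [conj2_eq]; group
    rw [hconj]
    apply even_main h2 θ hθ
    · exact Subgroup.subset_closure (by simp)
    · exact Subgroup.subset_closure (by simp)
  · have h3 : θ ^ 3 ≠ 1 := by
      intro h
      obtain ⟨k, hk⟩ := hθ (-1) (by simp)
      have : ((-1 : F)) ^ 3 = 1 := by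
        rw [← hk, ← pow_mul, mul_comm, pow_mul, h, one_pow]
      apply h2
      have h' : (-1 : F) = 1 := by
        have e : ((-1 : F)) ^ 3 = -1 := by norm_num
        rw [e] at this; exact this
      linear_combination (-1 : F) * h'
    refine ⟨V0 F, g0 hθ0, V0_nilp, V0_sq_ne, ?_⟩
    have hconj : g0 hθ0 * V0 F * (g0 hθ0)⁻¹ = V0 F * tv h02 (cc θ) * SS hθ0 := by
      rw [conj_eq]; group
    rw [hconj]
    apply odd_main θ hθ0 h3 (span_of_gen h2 θ hθ0 hθ)
    · exact Subgroup.subset_closure (by simp)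
    · exact Subgroup.subset_closure (by simp)

end Cfsg.Agent.Lib.Helper79.RU3
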