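import Mathlib

/-!
# S2279 part 1 (helper79): generic matrix lemmas for the rank-one calculus
-/

set_option autoImplicit false
set_option linter.unusedSectionVars false
set_option linter.unusedVariables false
set_option linter.style.haveILetI false
set_option linter.unusedSimpArgs false

open Matrix

namespace Cfsg.Agent.Lib.Helper79.RUn

variable {ι : Type*} [Fintype ι] [DecidableEq ι] {F : Type*} [Field F]

theorem vmv_mulVec (a b x : ι → F) : vecMulVec a b *ᵥ x = (b ⬝ᵥ x) • a := by
  ext i
  simp only [Matrix.mulVec, dotProduct, Matrix.vecMulVec_apply, Pi.smul_apply, smul_eq_mul]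
  rw [Finset.sum_mul]
  apply Finset.sum_congr rfl
  intro l _
  ring

/-- powers of `1 + (a-1) P₁ + (b-1) P₂` for orthogonal idempotents -/
theorem idem_pow (P1 P2 : Matrix ι ι F) (h11 : P1 * P1 = P1) (h22 : P2 * P2 = P2)
    (h12 : P1 * P2 = 0) (h21 : P2 * P1 = 0) (a b : F) (k : ℕ) :
    (1 + (a - 1) • P1 + (b - 1) • P2) ^ k = 1 + (a ^ k - 1) • P1 + (b ^ k - 1) • P2 := by
  induction k with
  | zero => simp
  | succ k ih =>
    rw [pow_succ, ih]
    simp only [mul_add, add_mul, mul_one, one_mul, smul_mul_assoc, mul_smul_comm, smul_smul, h11, h22,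
      h12, h21, smul_zero, add_zero]
    module

/-- conjugation and powers -/
theorem conj_pow_eq (A B X : Matrix ι ι F) (hBA : B * A = 1) (k : ℕ) :
    (A * X * B) ^ k * A = A * X ^ k := by
  induction k with
  | zero => simp
  | succ k ih =>
    rw [pow_succ', Matrix.mul_assoc, ih, pow_succ']
    calc A * X * B * (A * X ^ k) = A * X * (B * A) * X ^ k := by simp only [Matrix.mul_assoc]
      _ = A * (X * X ^ k) := by rw [hBA]; simp only [Matrix.mul_assoc, Matrix.mul_one]

/-- a matrix conjugate (by a matrix with a right inverse) to a regular unipotent is regular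
unipotent -/
theorem regunip_of_cert (V v g gi : Matrix ι ι F) (h : v * g = g * V) (hg : g * gi = 1) (n : ℕ)
    (hV : (V - 1) ^ (n + 1) = 0) (hV' : (V - 1) ^ n ≠ 0) :
    IsNilpotent (v - 1) ∧ (v - 1) ^ n ≠ 0 := by
  have hgi : gi * g = 1 := mul_eq_one_comm.mp hg
  have hv : v - 1 = g * (V - 1) * gi := by
    calc v - 1 = v * (g * gi) - g * gi := by rw [hg, mul_one]
      _ = g * V * gi - g * gi := by rw [← mul_assoc, h]
      _ = g * (V - 1) * gi := by rw [mul_sub, sub_mul, mul_one]
  have hpow : ∀ k : ℕ, (v - 1) ^ k = g * (V - 1) ^ k * gi := by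
    intro k
    calc (v - 1) ^ k = (v - 1) ^ k * (g * gi) := by rw [hg, mul_one]
      _ = ((g * (V - 1) * gi) ^ k * g) * gi := by rw [hv, ← mul_assoc]
      _ = g * (V - 1) ^ k * gi := by rw [conj_pow_eq _ _ _ hgi]
  refine ⟨⟨n + 1, ?_⟩, ?_⟩
  · rw [hpow, hV, mul_zero, zero_mul]
  · intro h0
    apply hV'
    calc (V - 1) ^ n = (gi * g) * (V - 1) ^ n * (gi * g) := by rw [hgi, one_mul, mul_one]
      _ = gi * (g * (V - 1) ^ n * gi) * g := by simp only [mul_assoc]
      _ = 0 := by rw [← hpow, h0, mul_zero, zero_mul]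

theorem det_of_cert (V v g gi : Matrix ι ι F) (h : v * g = g * V) (hg : g * gi = 1)
    (hV : V.det = 1) : v.det = 1 := by
  have hv : v = g * V * gi := by
    calc v = v * (g * gi) := by rw [hg, mul_one]
      _ = g * V * gi := by rw [← mul_assoc, h]
  rw [hv, Matrix.det_mul, Matrix.det_mul, hV, mul_one, ← Matrix.det_mul, hg, Matrix.det_one]

end Cfsg.Agent.Lib.Helper79.RUn
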