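import Mathlib
import Cfsg.Agent.Lib.Helper79.RUnAbs0

/-!
# S2279 part 1 (helper79): abstract rank-one calculus, the case `n ≥ 5`

`V` plays the role of the lower regular unipotent `1 + L`; `e0 .. e3` are the first four basis
columns, `r1 .. r4`, `rA`, `rB` the basis rows `1, 2, 3, 4, n-2, n-1` (they may coincide).
-/

set_option autoImplicit false
set_option linter.unusedSectionVars false
set_option linter.unusedVariables false
set_option linter.style.haveILetI false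
set_option linter.unusedSimpArgs false

open Matrix

namespace Cfsg.Agent.Lib.Helper79.RUn

variable {ι : Type*} [Fintype ι] [DecidableEq ι] {F : Type*} [Field F]

/-- the frame for `n ≥ 5` -/
structure Frame5 (V : Matrix ι ι F) where
  e0 : ι → F
  e1 : ι → F
  e2 : ι → F
  e3 : ι → F
  r1 : ι → F
  r2 : ι → F
  r3 : ι → F
  r4 : ι → F
  rA : ι → F
  rB : ι → F
  V0 : V *ᵥ e0 = e0 + e1
  V1 : V *ᵥ e1 = e1 + e2
  V2 : V *ᵥ e2 = e2 + e3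
  R2 : r2 ᵥ* V = r2 + r1
  R3 : r3 ᵥ* V = r3 + r2
  R4 : r4 ᵥ* V = r4 + r3
  RB : rB ᵥ* V = rB + rA
  p10 : r1 ⬝ᵥ e0 = 0
  p11 : r1 ⬝ᵥ e1 = 1
  p12 : r1 ⬝ᵥ e2 = 0
  p20 : r2 ⬝ᵥ e0 = 0
  p21 : r2 ⬝ᵥ e1 = 0
  p22 : r2 ⬝ᵥ e2 = 1
  p30 : r3 ⬝ᵥ e0 = 0
  p31 : r3 ⬝ᵥ e1 = 0
  p32 : r3 ⬝ᵥ e2 = 0
  p40 : r4 ⬝ᵥ e0 = 0
  p41 : r4 ⬝ᵥ e1 = 0
  p42 : r4 ⬝ᵥ e2 = 0
  pA0 : rA ⬝ᵥ e0 = 0
  pA1 : rA ⬝ᵥ e1 = 0
  pA2 : rA ⬝ᵥ e2 = 0
  pB0 : rB ⬝ᵥ e0 = 0
  pB1 : rB ⬝ᵥ e1 = 0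
  pB2 : rB ⬝ᵥ e2 = 0

variable {V : Matrix ι ι F} (D : Frame5 V) (ε : F)

/-- `η₂` -/
def Frame5.eta2 : ι → F := D.r2 + ε • D.r3 + (ε⁻¹ ^ 2) • D.rB

/-- `η₁` -/
def Frame5.eta1 : ι → F :=
  D.r1 + ε • D.r3 + ((1 + ε) * ε ^ 2) • D.r4 + (ε⁻¹ ^ 2) • D.rA - ε⁻¹ • D.rB

/-- the semisimple part -/
def Frame5.Sm : Matrix ι ι F :=
  1 + vecMulVec (ε • D.e1) (D.eta1 ε) + vecMulVec ((-(ε * (1 + ε)⁻¹)) • (D.e2 + ε • D.e0)) (D.eta2 ε)

/-- the transvection part -/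
def Frame5.Tm : Matrix ι ι F := 1 + vecMulVec D.e0 D.rB

/-- the conjugating matrix -/
def Frame5.gm : Matrix ι ι F :=
  1 + vecMulVec (ε • (D.e1 + D.e2)) (D.r2 + (ε⁻¹ ^ 2) • D.rB) + vecMulVec (ε ^ 2 • (D.e2 - D.e0)) D.r3
    + vecMulVec ((-(ε ^ 3)) • (D.e0 + D.e1)) D.r4

/-- its inverse -/
def Frame5.gi : Matrix ι ι F :=
  1 - vecMulVec (((1 + ε)⁻¹ * ε) • (D.e1 + D.e2)) (D.r2 + (ε⁻¹ ^ 2) • D.rB)
    - vecMulVec (ε ^ 2 • (D.e2 - D.e0)) D.r3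
    - vecMulVec ((-(ε ^ 3)) • (D.e0 + D.e1)) D.r4
    + vecMulVec (((1 + ε)⁻¹ * ε ^ 3) • (D.e1 + D.e2)) D.r3

theorem Frame5.cert (hε : ε ≠ 0) (hθ : 1 + ε ≠ 0) :
    V * D.Tm * D.Sm ε * D.gm ε = D.gm ε * V := by
  simp only [Frame5.Tm, Frame5.Sm, Frame5.gm, Frame5.eta1, Frame5.eta2,
    Matrix.mul_add, Matrix.add_mul, Matrix.mul_one, Matrix.one_mul, Matrix.mul_sub, Matrix.sub_mul,
    Matrix.mul_vecMulVec, Matrix.vecMulVec_mul, Matrix.vecMulVec_mul_vecMulVec,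
    Matrix.mulVec_add, Matrix.mulVec_smul, Matrix.mulVec_sub, Matrix.mulVec_neg,
    Matrix.add_vecMul, Matrix.smul_vecMul, Matrix.sub_vecMul, Matrix.neg_vecMul,
    Matrix.add_mulVec, Matrix.sub_mulVec, Matrix.neg_mulVec, Matrix.one_mulVec, vmv_mulVec,
    Matrix.vecMul_add, Matrix.vecMul_sub, Matrix.vecMul_neg, Matrix.vecMul_one, Matrix.vecMul_vecMulVec,
    Matrix.smul_mulVec, Matrix.vecMul_smul,
    add_dotProduct, dotProduct_add, smul_dotProduct, dotProduct_smul, sub_dotProduct, dotProduct_sub,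
    neg_dotProduct, dotProduct_neg,
    D.V0, D.V1, D.V2, D.R2, D.R3, D.R4, D.RB,
    D.p10, D.p11, D.p12, D.p20, D.p21, D.p22, D.p30, D.p31, D.p32, D.p40, D.p41, D.p42,
    D.pA0, D.pA1, D.pA2, D.pB0, D.pB1, D.pB2,
    smul_eq_mul, mul_zero, zero_mul, mul_one, one_mul, add_zero, zero_add, sub_zero, zero_sub,
    neg_zero, zero_smul, smul_zero]
  ext i j
  simp only [Matrix.add_apply, Matrix.sub_apply, Matrix.neg_apply, Matrix.smul_apply,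
    Matrix.vecMulVec_apply, Pi.add_apply, Pi.sub_apply, Pi.neg_apply, Pi.smul_apply, smul_eq_mul]
  field_simp
  ring

theorem Frame5.g_mul_gi (hε : ε ≠ 0) (hθ : 1 + ε ≠ 0) : D.gm ε * D.gi ε = 1 := by
  simp only [Frame5.gm, Frame5.gi,
    Matrix.mul_add, Matrix.add_mul, Matrix.mul_one, Matrix.one_mul, Matrix.mul_sub, Matrix.sub_mul,
    Matrix.mul_vecMulVec, Matrix.vecMulVec_mul, Matrix.vecMulVec_mul_vecMulVec,
    Matrix.mulVec_add, Matrix.mulVec_smul, Matrix.mulVec_sub, Matrix.mulVec_neg,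
    Matrix.add_vecMul, Matrix.smul_vecMul, Matrix.sub_vecMul, Matrix.neg_vecMul,
    Matrix.add_mulVec, Matrix.sub_mulVec, Matrix.neg_mulVec, Matrix.one_mulVec, vmv_mulVec,
    Matrix.vecMul_add, Matrix.vecMul_sub, Matrix.vecMul_neg, Matrix.vecMul_one, Matrix.vecMul_vecMulVec,
    Matrix.smul_mulVec, Matrix.vecMul_smul,
    add_dotProduct, dotProduct_add, smul_dotProduct, dotProduct_smul, sub_dotProduct, dotProduct_sub,
    neg_dotProduct, dotProduct_neg,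
    D.p10, D.p11, D.p12, D.p20, D.p21, D.p22, D.p30, D.p31, D.p32, D.p40, D.p41, D.p42,
    D.pA0, D.pA1, D.pA2, D.pB0, D.pB1, D.pB2,
    smul_eq_mul, mul_zero, zero_mul, mul_one, one_mul, add_zero, zero_add, sub_zero, zero_sub,
    neg_zero, zero_smul, smul_zero]
  ext i j
  simp only [Matrix.add_apply, Matrix.sub_apply, Matrix.neg_apply, Matrix.smul_apply,
    Matrix.vecMulVec_apply, Pi.add_apply, Pi.sub_apply, Pi.neg_apply, Pi.smul_apply, smul_eq_mul]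
  field_simp
  ring

theorem Frame5.T_comm_S : D.Tm * D.Sm ε = D.Sm ε * D.Tm := by
  simp only [Frame5.Tm, Frame5.Sm, Frame5.eta1, Frame5.eta2,
    Matrix.mul_add, Matrix.add_mul, Matrix.mul_one, Matrix.one_mul, Matrix.mul_sub, Matrix.sub_mul,
    Matrix.mul_vecMulVec, Matrix.vecMulVec_mul, Matrix.vecMulVec_mul_vecMulVec,
    Matrix.mulVec_add, Matrix.mulVec_smul, Matrix.mulVec_sub, Matrix.mulVec_neg,
    Matrix.add_vecMul, Matrix.smul_vecMul, Matrix.sub_vecMul, Matrix.neg_vecMul,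
    Matrix.add_mulVec, Matrix.sub_mulVec, Matrix.neg_mulVec, Matrix.one_mulVec, vmv_mulVec,
    Matrix.vecMul_add, Matrix.vecMul_sub, Matrix.vecMul_neg, Matrix.vecMul_one, Matrix.vecMul_vecMulVec,
    Matrix.smul_mulVec, Matrix.vecMul_smul,
    add_dotProduct, dotProduct_add, smul_dotProduct, dotProduct_smul, sub_dotProduct, dotProduct_sub,
    neg_dotProduct, dotProduct_neg,
    D.p10, D.p11, D.p12, D.p20, D.p21, D.p22, D.p30, D.p31, D.p32, D.p40, D.p41, D.p42,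
    D.pA0, D.pA1, D.pA2, D.pB0, D.pB1, D.pB2,
    smul_eq_mul, mul_zero, zero_mul, mul_one, one_mul, add_zero, zero_add, sub_zero, zero_sub,
    neg_zero, zero_smul, smul_zero]
  ext i j
  simp only [Matrix.add_apply, Matrix.sub_apply, Matrix.neg_apply, Matrix.smul_apply,
    Matrix.vecMulVec_apply, Pi.add_apply, Pi.sub_apply, Pi.neg_apply, Pi.smul_apply, smul_eq_mul]
  ring

/-- the two orthogonal idempotents of `S` -/
def Frame5.P1 : Matrix ι ι F := vecMulVec D.e1 (D.eta1 ε)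

def Frame5.P2 : Matrix ι ι F := vecMulVec (D.e2 + ε • D.e0) (D.eta2 ε)

theorem Frame5.Sm_eq (hθ : 1 + ε ≠ 0) :
    D.Sm ε = 1 + ((1 + ε) - 1) • D.P1 ε + ((1 + ε)⁻¹ - 1) • D.P2 ε := by
  simp only [Frame5.Sm, Frame5.P1, Frame5.P2, smul_vecMulVec]
  congr 2
  · congr 1
    ring
  · field_simp
    ring

theorem Frame5.P1_sq : D.P1 ε * D.P1 ε = D.P1 ε := by
  simp only [Frame5.P1, Frame5.eta1, Matrix.vecMulVec_mul_vecMulVec,
    add_dotProduct, smul_dotProduct, sub_dotProduct, D.p11, D.p31, D.p41, D.pA1, D.pB1,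
    smul_eq_mul, mul_zero, add_zero, sub_zero, one_smul]

theorem Frame5.P2_sq : D.P2 ε * D.P2 ε = D.P2 ε := by
  simp only [Frame5.P2, Frame5.eta2, Matrix.vecMulVec_mul_vecMulVec,
    add_dotProduct, smul_dotProduct, dotProduct_add, dotProduct_smul, D.p22, D.p32, D.pB2, D.p20, D.p30,
    D.pB0, smul_eq_mul, mul_zero, add_zero, one_smul]

theorem Frame5.P1_P2 : D.P1 ε * D.P2 ε = 0 := by
  simp only [Frame5.P1, Frame5.P2, Frame5.eta1, Matrix.vecMulVec_mul_vecMulVec,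
    add_dotProduct, smul_dotProduct, sub_dotProduct, dotProduct_add, dotProduct_smul,
    D.p12, D.p32, D.p42, D.pA2, D.pB2, D.p10, D.p30, D.p40, D.pA0, D.pB0,
    smul_eq_mul, mul_zero, add_zero, sub_zero, zero_smul, Matrix.vecMulVec_zero]

theorem Frame5.P2_P1 : D.P2 ε * D.P1 ε = 0 := by
  simp only [Frame5.P1, Frame5.P2, Frame5.eta2, Matrix.vecMulVec_mul_vecMulVec,
    add_dotProduct, smul_dotProduct, D.p21, D.p31, D.pB1,
    smul_eq_mul, mul_zero, add_zero, zero_smul, Matrix.vecMulVec_zero]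

theorem Frame5.S_mulVec_e1 : D.Sm ε *ᵥ D.e1 = (1 + ε) • D.e1 := by
  simp only [Frame5.Sm, Frame5.eta1, Frame5.eta2, Matrix.add_mulVec, Matrix.one_mulVec, vmv_mulVec,
    add_dotProduct, smul_dotProduct, sub_dotProduct, D.p11, D.p21, D.p31, D.p41, D.pA1, D.pB1,
    smul_eq_mul, mul_zero, add_zero, sub_zero, zero_smul, one_smul, add_smul]

theorem Frame5.r3_vecMul_S : D.r3 ᵥ* D.Sm ε = D.r3 := by
  simp only [Frame5.Sm, Matrix.vecMul_add, Matrix.vecMul_one, Matrix.vecMul_vecMulVec,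
    dotProduct_add, dotProduct_smul, D.p30, D.p31, D.p32,
    smul_eq_mul, mul_zero, add_zero, zero_smul]

theorem Frame5.S_pow_eq_one (hθ : 1 + ε ≠ 0) (k : ℕ) (hk : (1 + ε) ^ k = 1) : D.Sm ε ^ k = 1 := by
  rw [D.Sm_eq ε hθ, idem_pow _ _ (D.P1_sq ε) (D.P2_sq ε) (D.P1_P2 ε) (D.P2_P1 ε), hk, inv_pow, hk]
  simp

end Cfsg.Agent.Lib.Helper79.RUn
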