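import Mathlib
import Cfsg.Agent.S2280

/-!
# S2279 part 1 (helper79): the generation argument

`H ∋ V₀, v` with `V₀⁻¹ v = T S = S T`, `T = x_{0,n-1}(1)`, `S ^ (q-1) = 1`, `S e₁ = θ e₁`,
`e₃ᵀ S = e₃ᵀ`, `θ` a generator of `Fˣ`  ⟹  `H = SL_n(F)`.
-/

set_option autoImplicit false
set_option linter.unusedSectionVars false
set_option linter.unusedVariables false
set_option linter.style.haveILetI false
set_option linter.unusedSimpArgs false

open Matrix

namespace Cfsg.Agent.Lib.Helper79.RUn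

open Cfsg.Agent.S2280 Cfsg.Agent.S5058 Cfsg.Agent.S5043

variable {F : Type*} [Field F] [Fintype F] {m : ℕ}

local notation "𝐟[" k ", " h "]" => (Pi.single (⟨k, h⟩ : Fin (m + 3)) (1 : F) : Fin (m + 3) → F)

theorem gen_main (hm : 1 ≤ m) (Sm : Matrix (Fin (m + 3)) (Fin (m + 3)) F) (θ : F)
    (hθ : ∀ c : F, c ≠ 0 → ∃ k : ℕ, θ ^ k = c)
    (v : SpecialLinearGroup (Fin (m + 3)) F)
    (hv : v.1 = V0M F m * tvM 𝐟[0, by omega] 𝐟[m + 2, by omega] * Sm)
    (hcomm : tvM 𝐟[0, by omega] 𝐟[m + 2, by omega] * Sm = Sm * tvM 𝐟[0, by omega] 𝐟[m + 2, by omega])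
    (hSpow : Sm ^ (Fintype.card F - 1) = 1)
    (hSe1 : Sm *ᵥ 𝐟[1, by omega] = θ • 𝐟[1, by omega])
    (hSr3 : 𝐟[3, by omega] ᵥ* Sm = 𝐟[3, by omega]) :
    Subgroup.closure ({V0 F m, v} : Set (SpecialLinearGroup (Fin (m + 3)) F)) = ⊤ := by
  classical
  set H := Subgroup.closure ({V0 F m, v} : Set (SpecialLinearGroup (Fin (m + 3)) F)) with hH
  have hVH : V0 F m ∈ H := Subgroup.subset_closure (by simp)
  have hvH : v ∈ H := Subgroup.subset_closure (by simp)
  have hθ0 : θ ≠ 0 := by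
    obtain ⟨k, hk⟩ := hθ 1 one_ne_zero
    intro h0
    rw [h0] at hk
    rcases Nat.eq_zero_or_pos k with rfl | hk0
    · obtain ⟨k', hk'⟩ := hθ 1 one_ne_zero
      -- need another element; use card ≥ 2 trivial: 0 ^ k' = 1 forces k' = 0, fine, but no contradiction
      -- instead use: every nonzero c is a power of 0, so c = 1 or c = 0
      have := hθ (-1) (by simp)
      obtain ⟨j, hj⟩ := this
      rw [h0] at hj
      rcases Nat.eq_zero_or_pos j with rfl | hj0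
      · -- 1 = -1 : char 2; then use hSe1: S e1 = 0, but S invertible
        have h1 : Sm *ᵥ 𝐟[1, by omega] = 0 := by rw [hSe1, h0, zero_smul]
        have h2 : Sm ^ (Fintype.card F - 1) *ᵥ 𝐟[1, by omega] = 0 := by
          have hc : Fintype.card F - 1 = (Fintype.card F - 2) + 1 := by
            have := Fintype.one_lt_card (α := F)
            omega
          rw [hc, pow_succ, ← Matrix.mulVec_mulVec, h1, Matrix.mulVec_zero]
        rw [hSpow, Matrix.one_mulVec] at h2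
        exact single_ne_zero' _ h2
      · rw [zero_pow (by omega)] at hj
        have : (1 : F) = 0 := by
          have := congrArg (fun x => -x) hj
          simpa using this.symm
        exact one_ne_zero this
    · rw [zero_pow (by omega)] at hk
      exact zero_ne_one hk
  -- C = V0⁻¹ v
  set T := tvM 𝐟[0, by omega] 𝐟[m + 2, by omega] with hT
  have hτ0 : 𝐟[m + 2, by omega] ⬝ᵥ 𝐟[0, by omega] = 0 := dot_e_ne (by simp [Fin.ext_iff])
  obtain ⟨τ, hτdef⟩ : ∃ τ : SpecialLinearGroup (Fin (m + 3)) F, τ = tv _ _ hτ0 := ⟨_, rfl⟩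
  have hτval : τ.1 = tvM 𝐟[0, by omega] 𝐟[m + 2, by omega] := by rw [hτdef]; rfl
  obtain ⟨C, hCdef⟩ : ∃ C : SpecialLinearGroup (Fin (m + 3)) F, C = (V0 F m)⁻¹ * v := ⟨_, rfl⟩
  have hCH : C ∈ H := by rw [hCdef]; exact H.mul_mem (H.inv_mem hVH) hvH
  have hCval : C.1 = T * Sm := by
    rw [hCdef, Matrix.SpecialLinearGroup.coe_mul, hv, ← Matrix.mul_assoc, ← Matrix.mul_assoc]
    have : ((V0 F m)⁻¹).1 * V0M F m = 1 := inv_val_mul (V0 F m)
    rw [this, Matrix.one_mul]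
  -- τ ^ q = 1
  have hτ1 : τ.1 = tvM ((1 : F) • 𝐟[0, by omega]) 𝐟[m + 2, by omega] := by rw [hτval, one_smul]
  have hτq : τ ^ (Fintype.card F) = 1 := by
    apply Subtype.ext
    rw [pow_val τ 1 _ _ hτ0 hτ1, Nat.cast_card_eq_zero F, zero_mul, zero_smul]
    simp [tvM]
  -- C ^ (q-1) = τ ^ (q-1)
  have hCpow : C ^ (Fintype.card F - 1) = τ ^ (Fintype.card F - 1) := by
    apply Subtype.ext
    rw [Matrix.SpecialLinearGroup.coe_pow, Matrix.SpecialLinearGroup.coe_pow, hCval, hτval]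
    have hc : Commute T Sm := hcomm
    rw [hc.mul_pow, hSpow, Matrix.mul_one]
  have hτH : τ ∈ H := by
    have h1 : τ ^ (Fintype.card F - 1) ∈ H := by rw [← hCpow]; exact H.pow_mem hCH _
    have h2 : τ = (τ ^ (Fintype.card F - 1))⁻¹ := by
      have hc : Fintype.card F = (Fintype.card F - 1) + 1 := by
        have := Fintype.one_lt_card (α := F)
        omega
      have h3 : τ ^ (Fintype.card F - 1) * τ = 1 := by rw [← pow_succ, ← hc, hτq]
      exact (inv_eq_of_mul_eq_one_right h3).symm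
    rw [h2]
    exact H.inv_mem h1
  have hOne : Good H 1 := lemmaT H τ hτval hVH hτH
  -- S ∈ H
  obtain ⟨S, hSdef⟩ : ∃ S : SpecialLinearGroup (Fin (m + 3)) F, S = τ⁻¹ * C := ⟨_, rfl⟩
  have hSH : S ∈ H := by rw [hSdef]; exact H.mul_mem (H.inv_mem hτH) hCH
  have hSval : S.1 = Sm := by
    rw [hSdef, Matrix.SpecialLinearGroup.coe_mul, hCval, ← Matrix.mul_assoc]
    have : (τ⁻¹).1 * T = 1 := by rw [hT, ← hτval]; exact inv_val_mul τ
    rw [this, Matrix.one_mul]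
  -- the root element X_{13}(θ⁻¹)
  have h13 : (⟨1, by omega⟩ : Fin (m + 3)) ≠ ⟨3, by omega⟩ := by simp [Fin.ext_iff]
  have hx0 : 𝐟[3, by omega] ⬝ᵥ ((1 : F) • 𝐟[1, by omega]) = 0 := by
    rw [dotProduct_smul, dot_e_ne h13.symm, smul_zero]
  obtain ⟨x, hxH, hxv⟩ : ∃ x : SpecialLinearGroup (Fin (m + 3)) F, x ∈ H ∧
      x.1 = tvM ((1 : F) • 𝐟[1, by omega]) 𝐟[3, by omega] :=
    ⟨tv _ _ hx0, hOne _ _ h13 _ rfl, rfl⟩
  have hy : (S⁻¹ * x * S).1 = tvM (θ⁻¹ • 𝐟[1, by omega]) 𝐟[3, by omega] := by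
    apply conj_val' S x _ _ _ _ hxv
    · rw [hSval, Matrix.mulVec_smul, hSe1, smul_smul, inv_mul_cancel₀ hθ0]
    · rw [hSval, hSr3]
  have hyH : S⁻¹ * x * S ∈ H := H.mul_mem (H.mul_mem (H.inv_mem hSH) hxH) hSH
  have hθ13 : Has H θ⁻¹ ⟨1, by omega⟩ ⟨3, by omega⟩ := by
    intro x' hx'
    have : x' = S⁻¹ * x * S := Subtype.ext (by rw [hx', hy])
    rw [this]
    exact hyH
  have hGθ : Good H θ⁻¹ := good_of_has H hOne h13 hθ13
  have hpow : ∀ k : ℕ, Good H (θ⁻¹ ^ k) := by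
    intro k
    induction k with
    | zero => rw [pow_zero]; exact hOne
    | succ k ih => rw [pow_succ]; exact good_mul H hOne ih hGθ
  apply Cfsg.Agent.Lib.Helper5.eq_top_of_transvection_mem
  intro i j hij c
  by_cases hc : c = 0
  · subst hc
    rw [Matrix.SpecialLinearGroup.transvection_coeff_zero]
    exact H.one_mem
  · obtain ⟨k, hk⟩ := hθ c⁻¹ (inv_ne_zero hc)
    have hck : c = θ⁻¹ ^ k := by rw [inv_pow, hk, inv_inv]
    rw [hck]
    exact hpow k i j hij _ (single_eq_tvM i j _)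

end Cfsg.Agent.Lib.Helper79.RUn
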