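import Mathlib
import Cfsg.Agent.S2280
import Cfsg.Agent.Lib.Helper79.RUnAbs4
import Cfsg.Agent.Lib.Helper79.RUnAbs5

/-!
# S2279 part 1 (helper79): the concrete frames on `Fin (m + 3)`
-/

set_option autoImplicit false
set_option linter.unusedSectionVars false
set_option linter.unusedVariables false
set_option linter.style.haveILetI false
set_option linter.unusedSimpArgs false

open Matrix

namespace Cfsg.Agent.Lib.Helper79.RUn

open Cfsg.Agent.S2280 Cfsg.Agent.S5058 Cfsg.Agent.S5043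

variable {F : Type*} [Field F] {m : ℕ}

local notation "𝐟[" k ", " h "]" => (Pi.single (⟨k, h⟩ : Fin (m + 3)) (1 : F) : Fin (m + 3) → F)

theorem V0M_mulVec_single (i : ℕ) (hi : i + 1 < m + 3) :
    V0M F m *ᵥ 𝐟[i, by omega] = 𝐟[i, by omega] + 𝐟[i + 1, hi] := by
  funext l
  obtain ⟨l, hl⟩ := l
  rcases Nat.eq_zero_or_pos l with rfl | hpos
  · rw [V0M_mulVec_zero]
    simp [Pi.single_apply, Fin.ext_iff]
  · obtain ⟨l', rfl⟩ : ∃ l', l = l' + 1 := ⟨l - 1, by omega⟩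
    rw [V0M_mulVec_succ]
    simp only [Pi.add_apply, Pi.single_apply, Fin.ext_iff]
    by_cases h1 : l' + 1 = i <;> by_cases h2 : l' = i <;> simp [h1, h2]

theorem pair_ne (a b : ℕ) (ha : a < m + 3) (hb : b < m + 3) (hab : a ≠ b) :
    𝐟[a, ha] ⬝ᵥ 𝐟[b, hb] = 0 :=
  dot_e_ne (by simp [Fin.ext_iff, hab])

theorem pair_self (a : ℕ) (ha : a < m + 3) : 𝐟[a, ha] ⬝ᵥ 𝐟[a, ha] = 1 := dot_e_self _

/-- the frame for `n = m + 3 ≥ 5` -/
noncomputable def frame5 (hm : 2 ≤ m) : Frame5 (V0M F m) where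
  e0 := 𝐟[0, by omega]
  e1 := 𝐟[1, by omega]
  e2 := 𝐟[2, by omega]
  e3 := 𝐟[3, by omega]
  r1 := 𝐟[1, by omega]
  r2 := 𝐟[2, by omega]
  r3 := 𝐟[3, by omega]
  r4 := 𝐟[4, by omega]
  rA := 𝐟[m + 1, by omega]
  rB := 𝐟[m + 2, by omega]
  V0 := V0M_mulVec_single 0 (by omega)
  V1 := V0M_mulVec_single 1 (by omega)
  V2 := V0M_mulVec_single 2 (by omega)
  R2 := single_vecMul_V0M 1 (by omega)
  R3 := single_vecMul_V0M 2 (by omega)
  R4 := single_vecMul_V0M 3 (by omega)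
  RB := single_vecMul_V0M (m + 1) (by omega)
  p10 := pair_ne _ _ _ _ (by omega)
  p11 := pair_self _ _
  p12 := pair_ne _ _ _ _ (by omega)
  p20 := pair_ne _ _ _ _ (by omega)
  p21 := pair_ne _ _ _ _ (by omega)
  p22 := pair_self _ _
  p30 := pair_ne _ _ _ _ (by omega)
  p31 := pair_ne _ _ _ _ (by omega)
  p32 := pair_ne _ _ _ _ (by omega)
  p40 := pair_ne _ _ _ _ (by omega)
  p41 := pair_ne _ _ _ _ (by omega)
  p42 := pair_ne _ _ _ _ (by omega)
  pA0 := pair_ne _ _ _ _ (by omega)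
  pA1 := pair_ne _ _ _ _ (by omega)
  pA2 := pair_ne _ _ _ _ (by omega)
  pB0 := pair_ne _ _ _ _ (by omega)
  pB1 := pair_ne _ _ _ _ (by omega)
  pB2 := pair_ne _ _ _ _ (by omega)

/-- the frame for `n = m + 3 = 4` (any `m ≥ 1` works formally) -/
noncomputable def frame4 (hm : 1 ≤ m) : Frame4 (V0M F m) where
  e0 := 𝐟[0, by omega]
  e1 := 𝐟[1, by omega]
  e2 := 𝐟[2, by omega]
  e3 := 𝐟[3, by omega]
  r1 := 𝐟[1, by omega]
  r2 := 𝐟[2, by omega]
  r3 := 𝐟[3, by omega]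
  V0 := V0M_mulVec_single 0 (by omega)
  V1 := V0M_mulVec_single 1 (by omega)
  V2 := V0M_mulVec_single 2 (by omega)
  R2 := single_vecMul_V0M 1 (by omega)
  R3 := single_vecMul_V0M 2 (by omega)
  p10 := pair_ne _ _ _ _ (by omega)
  p11 := pair_self _ _
  p12 := pair_ne _ _ _ _ (by omega)
  p20 := pair_ne _ _ _ _ (by omega)
  p21 := pair_ne _ _ _ _ (by omega)
  p22 := pair_self _ _
  p30 := pair_ne _ _ _ _ (by omega)
  p31 := pair_ne _ _ _ _ (by omega)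
  p32 := pair_ne _ _ _ _ (by omega)

end Cfsg.Agent.Lib.Helper79.RUn
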