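import Mathlib
import Cfsg.Agent.S2280
import Cfsg.Agent.Lib.Helper79.RUnInst
import Cfsg.Agent.Lib.Helper79.RUnGen

/-!
# S2279 part 1 (helper79): `SL_n(F)`, `n ≥ 4`, `|F| ≥ 3`, is generated by two regular unipotents

`u = V₀ = 1 + L`, `v = V₀ T S` with `T = x_{0,n-1}(1)` and `S` semisimple with eigenvalues
`θ, θ⁻¹, 1, …, 1` (`θ` a generator of `Fˣ`) commuting with `T`; `(V₀⁻¹ v)^(q-1) = T⁻¹`.
-/

set_option autoImplicit false
set_option linter.unusedSectionVars false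
set_option linter.unusedVariables false
set_option linter.style.haveILetI false
set_option linter.unusedSimpArgs false

open Matrix

namespace Cfsg.Agent.Lib.Helper79.RUn

open Cfsg.Agent.S2280 Cfsg.Agent.S5058 Cfsg.Agent.S5043

variable {F : Type*} [Field F] [Fintype F] {m : ℕ}

local notation "𝐟[" k ", " h "]" => (Pi.single (⟨k, h⟩ : Fin (m + 3)) (1 : F) : Fin (m + 3) → F)

theorem V0M_sub_one : V0M F m - 1 = LM F m := by rw [V0M, add_sub_cancel_left]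

theorem regunip_V0 :
    IsNilpotent (((V0 F m : SpecialLinearGroup (Fin (m + 3)) F) : Matrix (Fin (m + 3)) (Fin (m + 3)) F) - 1) ∧
      (((V0 F m : SpecialLinearGroup (Fin (m + 3)) F) : Matrix (Fin (m + 3)) (Fin (m + 3)) F) - 1) ^ (m + 2) ≠ 0 := by
  have h : ((V0 F m : SpecialLinearGroup (Fin (m + 3)) F) : Matrix (Fin (m + 3)) (Fin (m + 3)) F) - 1
      = LM F m := V0M_sub_one
  rw [h]
  exact ⟨⟨m + 3, LM_pow_top⟩, LM_pow_ne⟩

theorem part1_of_data (hm : 1 ≤ m) (θ : F) (hθ : ∀ c : F, c ≠ 0 → ∃ k : ℕ, θ ^ k = c)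
    (Sm g gi : Matrix (Fin (m + 3)) (Fin (m + 3)) F)
    (hcert : V0M F m * tvM 𝐟[0, by omega] 𝐟[m + 2, by omega] * Sm * g = g * V0M F m)
    (hggi : g * gi = 1)
    (hcomm : tvM 𝐟[0, by omega] 𝐟[m + 2, by omega] * Sm = Sm * tvM 𝐟[0, by omega] 𝐟[m + 2, by omega])
    (hSpow : Sm ^ (Fintype.card F - 1) = 1)
    (hSe1 : Sm *ᵥ 𝐟[1, by omega] = θ • 𝐟[1, by omega])
    (hSr3 : 𝐟[3, by omega] ᵥ* Sm = 𝐟[3, by omega]) :
    ∃ u v : SpecialLinearGroup (Fin (m + 3)) F,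
      (IsNilpotent ((u : Matrix (Fin (m + 3)) (Fin (m + 3)) F) - 1) ∧
        ((u : Matrix (Fin (m + 3)) (Fin (m + 3)) F) - 1) ^ (m + 2) ≠ 0) ∧
      (IsNilpotent ((v : Matrix (Fin (m + 3)) (Fin (m + 3)) F) - 1) ∧
        ((v : Matrix (Fin (m + 3)) (Fin (m + 3)) F) - 1) ^ (m + 2) ≠ 0) ∧
      Subgroup.closure ({u, v} : Set (SpecialLinearGroup (Fin (m + 3)) F)) = ⊤ := by
  have hdet : (V0M F m * tvM 𝐟[0, by omega] 𝐟[m + 2, by omega] * Sm).det = 1 :=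
    det_of_cert _ _ _ _ hcert hggi (det_V0M F m)
  obtain ⟨v, hvdef⟩ : ∃ v : SpecialLinearGroup (Fin (m + 3)) F,
      v.1 = V0M F m * tvM 𝐟[0, by omega] 𝐟[m + 2, by omega] * Sm := ⟨⟨_, hdet⟩, rfl⟩
  refine ⟨V0 F m, v, regunip_V0, ?_, ?_⟩
  · have := regunip_of_cert (V0M F m) v.1 g gi (by rw [hvdef]; exact hcert) hggi (m + 2)
      (by rw [V0M_sub_one]; exact LM_pow_top) (by rw [V0M_sub_one]; exact LM_pow_ne)
    exact this
  · exact gen_main hm Sm θ hθ v hvdef hcomm hSpow hSe1 hSr3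

/-- **Part 1 of S2279** for `|F| ≥ 3`: two regular unipotents generating `SL_{m+3}(F)`, `m ≥ 1`. -/
theorem part1 (m : ℕ) (hm : 1 ≤ m) (hq : 3 ≤ Fintype.card F) :
    ∃ u v : SpecialLinearGroup (Fin (m + 3)) F,
      (IsNilpotent ((u : Matrix (Fin (m + 3)) (Fin (m + 3)) F) - 1) ∧
        ((u : Matrix (Fin (m + 3)) (Fin (m + 3)) F) - 1) ^ (m + 2) ≠ 0) ∧
      (IsNilpotent ((v : Matrix (Fin (m + 3)) (Fin (m + 3)) F) - 1) ∧
        ((v : Matrix (Fin (m + 3)) (Fin (m + 3)) F) - 1) ^ (m + 2) ≠ 0) ∧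
      Subgroup.closure ({u, v} : Set (SpecialLinearGroup (Fin (m + 3)) F)) = ⊤ := by
  classical
  obtain ⟨θu, hθu⟩ := IsCyclic.exists_monoid_generator (α := Fˣ)
  obtain ⟨θ, hθdef⟩ : ∃ θ : F, θ = (θu : F) := ⟨_, rfl⟩
  have hθ0 : θ ≠ 0 := by rw [hθdef]; exact θu.ne_zero
  have hθ : ∀ c : F, c ≠ 0 → ∃ k : ℕ, θ ^ k = c := by
    intro c hc
    obtain ⟨k, hk⟩ := (Submonoid.mem_powers_iff _ _).mp (hθu (Units.mk0 c hc))
    refine ⟨k, ?_⟩
    have := congrArg Units.val hk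
    rw [hθdef]
    simpa using this
  have hθ1 : θ ≠ 1 := by
    intro h1
    have hsub : (Finset.univ : Finset F) ⊆ {0, 1} := by
      intro c _
      by_cases hc : c = 0
      · simp [hc]
      · obtain ⟨k, hk⟩ := hθ c hc
        rw [h1, one_pow] at hk
        simp [← hk]
    have := Finset.card_le_card hsub
    rw [Finset.card_univ] at this
    have h2 : ({0, 1} : Finset F).card ≤ 2 := Finset.card_le_two
    omega
  obtain ⟨ε, hεdef⟩ : ∃ ε : F, ε = θ - 1 := ⟨_, rfl⟩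
  have hε : ε ≠ 0 := by rw [hεdef]; exact sub_ne_zero.mpr hθ1
  have hθε : 1 + ε = θ := by rw [hεdef]; ring
  have hθne : 1 + ε ≠ 0 := by rw [hθε]; exact hθ0
  have hpow1 : (1 + ε) ^ (Fintype.card F - 1) = 1 := by
    rw [hθε]; exact FiniteField.pow_card_sub_one_eq_one θ hθ0
  rcases Nat.lt_or_ge m 2 with hm2 | hm2
  · obtain rfl : m = 1 := by omega
    let D : Frame4 (V0M F 1) := frame4 le_rfl
    refine part1_of_data le_rfl θ hθ (D.Sm ε) (D.gm ε) (D.gi ε) (D.cert ε hε hθne)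
      (D.g_mul_gi ε hε hθne) (D.T_comm_S ε) (D.S_pow_eq_one ε hθne _ hpow1) ?_ (D.r3_vecMul_S ε)
    rw [← hθε]
    exact D.S_mulVec_e1 ε
  · let D : Frame5 (V0M F m) := frame5 hm2
    refine part1_of_data hm θ hθ (D.Sm ε) (D.gm ε) (D.gi ε) (D.cert ε hε hθne)
      (D.g_mul_gi ε hε hθne) (D.T_comm_S ε) (D.S_pow_eq_one ε hθne _ hpow1) ?_ (D.r3_vecMul_S ε)
    rw [← hθε]
    exact D.S_mulVec_e1 ε

/-- Part 1 of S2279 in the shape of the frozen statement, for `|F| ≥ 3`. -/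
theorem part1_n (n : ℕ) (hn : 4 ≤ n) (hq : 3 ≤ Fintype.card F) :
    ∃ u v : Matrix.SpecialLinearGroup (Fin n) F,
      (IsNilpotent ((u : Matrix (Fin n) (Fin n) F) - 1) ∧
        ((u : Matrix (Fin n) (Fin n) F) - 1) ^ (n - 1) ≠ 0) ∧
      (IsNilpotent ((v : Matrix (Fin n) (Fin n) F) - 1) ∧
        ((v : Matrix (Fin n) (Fin n) F) - 1) ^ (n - 1) ≠ 0) ∧
      Subgroup.closure ({u, v} : Set (Matrix.SpecialLinearGroup (Fin n) F)) = ⊤ := by
  obtain ⟨m, rfl⟩ : ∃ m, n = m + 3 := ⟨n - 3, by omega⟩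
  exact part1 m (by omega) hq

end Cfsg.Agent.Lib.Helper79.RUn
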