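import Mathlib

/-! # StepL1 for helper85 (index-p step): only fixed points count in an invariant product (helper79) -/

set_option autoImplicit false
set_option linter.unusedSectionVars false
set_option linter.style.haveILetI false

namespace Cfsg.Agent.Lib.Helper85.PStep

open MulAction

theorem prod_eq_one_of_invariant_h79 {P : Type*} [Group P] [Finite P] {p : ℕ} [Fact p.Prime]
    (hP : IsPGroup p P) {R : Type*} [MulAction P R] [Fintype R] {A : Type*} [CommGroup A]
    (hA : ∀ a : A, a ^ p = 1) (d : R → A) (hd : ∀ (a : P) (r : R), d (a • r) = d r)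
    (h1 : ∀ r ∈ MulAction.fixedPoints P R, d r = 1) : ∏ r : R, d r = 1 := by
  classical
  letI : Fintype (MulAction.orbitRel.Quotient P R) := Fintype.ofFinite _
  rw [← Finset.prod_fiberwise Finset.univ
    (fun r : R => (Quotient.mk'' r : MulAction.orbitRel.Quotient P R)) d]
  apply Finset.prod_eq_one
  intro ω _
  obtain ⟨r₀, rfl⟩ := Quotient.exists_rep ω
  have hconst : ∀ r ∈ Finset.univ.filter
      (fun r : R => (Quotient.mk'' r : MulAction.orbitRel.Quotient P R) = Quotient.mk'' r₀), d r = d r₀ := by
    intro r hr
    rw [Finset.mem_filter] at hr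
    have h2 : r ∈ MulAction.orbit P r₀ := by
      have := Quotient.exact hr.2
      exact this
    obtain ⟨a, rfl⟩ := h2
    exact hd a r₀
  rw [Finset.prod_congr rfl hconst, Finset.prod_const]
  have hcard : (Finset.univ.filter
      (fun r : R => (Quotient.mk'' r : MulAction.orbitRel.Quotient P R) = Quotient.mk'' r₀)).card =
      Nat.card (MulAction.orbit P r₀) := by
    rw [Nat.card_eq_fintype_card, ← Set.toFinset_card]
    congr 1
    ext r
    rw [Finset.mem_filter, Set.mem_toFinset]
    constructor
    · intro hr
      exact Quotient.exact hr.2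
    · intro hr
      exact ⟨Finset.mem_univ _, Quotient.sound hr⟩
  rw [hcard]
  obtain ⟨n, hn⟩ := hP.card_orbit r₀
  rw [hn]
  rcases Nat.eq_zero_or_pos n with h0 | hpos
  · subst h0
    rw [pow_zero] at hn
    have hfix : r₀ ∈ MulAction.fixedPoints P R := by
      rw [MulAction.mem_fixedPoints_iff_card_orbit_eq_one, ← Nat.card_eq_fintype_card, hn]
    rw [h1 r₀ hfix, one_pow]
  · obtain ⟨k, rfl⟩ : ∃ k, n = k + 1 := ⟨n - 1, by omega⟩
    rw [pow_succ', pow_mul, hA, one_pow]

/-- [L1] products of an invariant function over a `p`-group set: only fixed points count -/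
theorem prod_eq_prod_fixedPoints {P : Type*} [Group P] [Finite P] {p : ℕ} [Fact p.Prime]
    (hP : IsPGroup p P) {R : Type*} [MulAction P R] [Fintype R]
    [Fintype (MulAction.fixedPoints P R)] {A : Type*} [CommGroup A] (hA : ∀ a : A, a ^ p = 1)
    (c : R → A) (hc : ∀ (a : P) (r : R), c (a • r) = c r) :
    ∏ r : R, c r = ∏ r : MulAction.fixedPoints P R, c r := by
  classical
  set d : R → A := fun r => if r ∈ MulAction.fixedPoints P R then 1 else c r with hd
  have hd1 : ∏ r : R, d r = 1 := by
    apply prod_eq_one_of_invariant_h79 hP hA d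
    · intro a r
      have hiff : a • r ∈ MulAction.fixedPoints P R ↔ r ∈ MulAction.fixedPoints P R := by
        constructor
        · intro h b
          have := h (a * b * a⁻¹)
          rw [← mul_smul, mul_assoc, inv_mul_cancel, mul_one, mul_smul] at this
          exact smul_left_cancel a this
        · intro h
          rw [h a]; exact h
      simp only [hd, hiff, hc]
    · intro r hr
      simp only [hd, if_pos hr]
  have hsplit : ∀ r : R, c r = (if r ∈ MulAction.fixedPoints P R then c r else 1) * d r := by
    intro r
    by_cases h : r ∈ MulAction.fixedPoints P R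
    · simp only [hd, if_pos h, mul_one]
    · simp only [hd, if_neg h, one_mul]
  rw [Finset.prod_congr rfl (fun r _ => hsplit r), Finset.prod_mul_distrib, hd1, mul_one]
  rw [← Finset.prod_filter]
  rw [← Finset.prod_subtype (Finset.univ.filter fun r => r ∈ MulAction.fixedPoints P R)
    (p := fun r => r ∈ MulAction.fixedPoints P R) (by intro x; simp) c]

end Cfsg.Agent.Lib.Helper85.PStep
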