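import Cfsg.Agent.Lib.Helper79.TqFIXbridge
import Cfsg.Agent.Lib.Helper27.TqWITT
import Cfsg.Agent.Lib.Helper33.TqTYPEODD

/-! # Tq hive (S5973 + S5987): chunk TQ-FIXODD `fix_odd` (helper79), exact skeleton statement -/

set_option autoImplicit false
set_option linter.unusedSectionVars false
set_option linter.style.haveILetI false

namespace Cfsg.Agent.Lib.Helper59.Tq

open Polynomial Module
open Cfsg.Agent.Lib.Helper2.BG Cfsg.Agent.Lib.Helper99 Cfsg.Agent.Lib.Helper48.Ti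
open Cfsg.Agent.Lib.Helper79.TsSwap

variable {ι : Type} [Fintype ι] [DecidableEq ι] {F : Type*} [Field F] [Fintype F]

/-- TQ-FIXODD (`⟸`, `i` odd) -/
theorem fix_odd {p : ℕ} [Fact p.Prime] [CharP F p] (Q : (ι → F) → F) (d e : ℕ) (hS : Std Q d)
    (he : TypeE Q e) (r : ℕ) [Fact r.Prime] (hr2 : r ≠ 2) (hrp : r ≠ p) (i : ℕ)
    (hi : i = orderOf ((Fintype.card F : ℕ) : ZMod r)) (hio : Odd i)
    (x : GL ι F) (hx : x ∈ Cfsg.isometryGroup F Q) (hxr : x ^ r = 1) (hx1 : x ≠ 1) :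
    ∃ j, 1 ≤ j ∧ i * j + e ≤ d ∧
      ∀ m a b, a + b * i = m → b ≤ j → a + i * j + e ≤ d → FixTS Q m x := by
  obtain ⟨QF, rfl, hnd⟩ := hS.exists_form
  obtain ⟨hV, hdim, he', hQf, hinj, hss, hfr, hf1, hfix⟩ :=
    fixodd_bridge QF hnd d e hS.card he r hrp x hx hxr hx1
  obtain ⟨-, hC, -, -, hcompl, horth, -, -, -⟩ := fixodd_setup QF hV hQf hr2 hrp hfr
  obtain ⟨j, hj1, hje, hj⟩ := fixodd_abs QF hV d e hdim he' hQf hinj hss hr2 hrp hfr hf1 i hi hio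
    (fun L hLR hL hLd => plusOn_of_lagrangian QF hV hcompl horth hLR hL hLd)
    (fun hev a ha => exists_ts_of_nd QF hC hev a ha)
  exact ⟨j, hj1, hje, fun m a b h1 h2 h3 => hfix m (hj m a b h1 h2 h3)⟩

end Cfsg.Agent.Lib.Helper59.Tq
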