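import Cfsg.Agent.Lib.Helper79.TqFIXcore

/-! # Tq hive (S5973 + S5987): abstract TQ-FIXODD / TQ-FIXEVEN (helper79)

The two chunks for an abstract quadratic space, with the chunks TQ-TYPEODD, TQ-TYPEEVEN, TQ-WITT as
hypotheses (`htype`, `hwitt`). -/

set_option autoImplicit false
set_option linter.unusedSectionVars false
set_option linter.style.haveILetI false

namespace Cfsg.Agent.Lib.Helper59.Tq

open Polynomial Module
open Cfsg.Agent.Lib.Helper2.BG Cfsg.Agent.Lib.Helper99 Cfsg.Agent.Lib.Helper48.Ti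
open Cfsg.Agent.Lib.Helper79.TsSwap

variable {F V : Type*} [Field F] [AddCommGroup V] [Module F V] [FiniteDimensional F V]
variable [Fintype F] {p : ℕ} [Fact p.Prime] [CharP F p] {r : ℕ} [Fact r.Prime]

/-- the zero subspace is of plus type -/
theorem fixodd_plusOn_of_finrank_zero (Q : QuadraticForm F V) {C : Submodule F V}
    (h : finrank F C = 0) : PlusOn Q C := by
  refine ⟨⊥, bot_le, ?_, by rw [finrank_bot, h]⟩
  intro u hu
  rw [(Submodule.mem_bot F).mp hu, map_zero]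

/-- the moved part is nonzero -/
theorem fixodd_moved_pos {f : Module.End F V} (hf1 : f ≠ 1)
    (hsum : finrank F (LinearMap.ker (f - 1)) +
      finrank F (LinearMap.ker (aeval f (cyclotomic r F))) = finrank F V) :
    0 < finrank F (LinearMap.ker (aeval f (cyclotomic r F))) := by
  by_contra h
  push Not at h
  have h0 : finrank F (LinearMap.ker (aeval f (cyclotomic r F))) = 0 := by omega
  rw [h0, add_zero] at hsum
  have htop : LinearMap.ker (f - 1) = ⊤ := Submodule.eq_top_of_finrank_eq hsum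
  apply hf1
  ext v
  have hv : v ∈ LinearMap.ker (f - 1) := by rw [htop]; trivial
  rw [fix_of_mem_ker hv, Module.End.one_apply]

/-- abstract TQ-FIXODD -/
theorem fixodd_abs (Q : QuadraticForm F V) (hV : Nd (QuadraticMap.polarBilin Q) ⊤) (d e : ℕ)
    (hdim : finrank F V = 2 * d)
    (he : (e = 0 ∧ PlusOn Q ⊤) ∨ (e = 1 ∧ ¬ PlusOn Q ⊤))
    {f : Module.End F V} (hQf : ∀ v, Q (f v) = Q v) (hinj : Function.Injective f)
    (hss : f.IsSemisimple) (hr2 : r ≠ 2) (hrp : r ≠ p) (hfr : f ^ r = 1) (hf1 : f ≠ 1)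
    (i : ℕ) (hi : i = orderOf ((Fintype.card F : ℕ) : ZMod r)) (hio : Odd i)
    (htype : ∀ L : Submodule F V, L ≤ LinearMap.ker (aeval f (cyclotomic r F)) →
      (∀ u ∈ L, Q u = 0) →
      2 * finrank F L = finrank F (LinearMap.ker (aeval f (cyclotomic r F))) →
      (PlusOn Q ⊤ ↔ PlusOn Q (LinearMap.ker (f - 1))))
    (hwitt : Even (finrank F (LinearMap.ker (f - 1))) → ∀ a : ℕ,
      (2 * a + 2 ≤ finrank F (LinearMap.ker (f - 1)) ∨
        (PlusOn Q (LinearMap.ker (f - 1)) ∧ 2 * a ≤ finrank F (LinearMap.ker (f - 1)))) →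
      ∃ U : Submodule F V, U ≤ LinearMap.ker (f - 1) ∧ (∀ u ∈ U, Q u = 0) ∧ finrank F U = a) :
    ∃ j, 1 ≤ j ∧ i * j + e ≤ d ∧
      ∀ m a b, a + b * i = m → b ≤ j → a + i * j + e ≤ d →
        ∃ W : Submodule F V, finrank F W = m ∧ (∀ w ∈ W, Q w = 0) ∧ Inv f W := by
  obtain ⟨hf, hC, hR, hsum, hcompl, horth, hβ, hβf, hβR⟩ :=
    fixodd_setup Q hV hQf hr2 hrp hfr
  set C := LinearMap.ker (f - 1) with hCdef
  set R := LinearMap.ker (aeval f (cyclotomic r F)) with hRdef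
  have hrF : (r : F) ≠ 0 := natCast_ne_zero_of_ne_char hrp
  have hcop : IsCoprime (X - 1 : F[X]) (cyclotomic r F) := isCoprime_X_sub_one_cyclotomic hrF
  have hkill : aeval f ((X - 1 : F[X]) * cyclotomic r F) = 0 := aeval_kill_of_pow hfr
  have hdeg : AllIrrDeg (cyclotomic r F) i := by
    rw [hi]
    exact allIrrDeg_cyclotomic hrp
  have hP0 : cyclotomic r F ≠ 0 := cyclotomic_ne_zero r F
  have hRf : Inv f R := inv_ker_aeval f _
  have hRk : ∀ v ∈ R, aeval f (cyclotomic r F) v = 0 := fun v hv => LinearMap.mem_ker.mp hv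
  have hRpos : 0 < finrank F R := fixodd_moved_pos hf1 hsum
  have hdvd : i ∣ finrank F R := dvd_finrank_of_inv hss hP0 hdeg _ _ rfl hRf hRk
  have heven : Even (finrank F R) := even_finrank_of_nd hβ hβR
  have h2i : 2 * i ∣ finrank F R := by
    have hcop2 : Nat.Coprime 2 i := (Nat.coprime_two_left).mpr hio
    exact hcop2.mul_dvd_of_dvd_of_dvd heven.two_dvd hdvd
  obtain ⟨j, hj⟩ := h2i
  have hi1 : 1 ≤ i := hio.pos
  have hj1 : 1 ≤ j := by
    rcases Nat.eq_zero_or_pos j with h | h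
    · rw [h, mul_zero] at hj
      omega
    · exact h
  -- invariant totally singular subspaces of the moved part
  have hgood : ∀ b ≤ j, ∃ U : Submodule F V, U ≤ R ∧ Inv f U ∧ (∀ u ∈ U, Q u = 0) ∧
      finrank F U = b * i := by
    intro b hb
    have hbi : b * i ≤ j * i := Nat.mul_le_mul_right i hb
    obtain ⟨U, hUR, hUf, hUti, hUdim⟩ :=
      exists_ti_odd hβ hβf hinj hss hP0 hio hdeg hcop hkill (b * i) R hβR hRf
        (by rw [hj]; nlinarith) (by rw [Nat.mul_mod_left]; omega)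
    exact ⟨U, hUR, hUf, fixodd_ts_of_ti Q hQf hr2 hrp hfr hUR hUf hUti, hUdim⟩
  obtain ⟨L, hLR, -, hLts, hLdim⟩ := hgood j le_rfl
  have hplus : PlusOn Q ⊤ ↔ PlusOn Q C := htype L hLR hLts (by rw [hLdim, hj]; ring)
  have hCdim : finrank F C + 2 * (i * j) = 2 * d := by rw [← hdim, ← hsum, hj]; ring
  have hCev : Even (finrank F C) := ⟨d - i * j, by omega⟩
  have hije : i * j + e ≤ d := by
    rcases he with ⟨he0, -⟩ | ⟨he1, hnp⟩
    · omega
    · have hC0 : finrank F C ≠ 0 := fun h0 =>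
        hnp (hplus.mpr (fixodd_plusOn_of_finrank_zero Q h0))
      omega
  refine ⟨j, hj1, hije, ?_⟩
  intro m a b hm hb ha
  obtain ⟨U₂, hU₂R, hU₂f, hU₂ts, hU₂dim⟩ := hgood b hb
  obtain ⟨U₁, hU₁C, hU₁ts, hU₁dim⟩ := hwitt hCev a (by
    rcases he with ⟨he0, hp⟩ | ⟨he1, -⟩
    · right
      exact ⟨hplus.mp hp, by omega⟩
    · left
      omega)
  obtain ⟨h1, h2, h3⟩ := fixodd_glue Q (le_refl C) hcompl.disjoint horth hU₁C hU₁ts hU₂R hU₂f hU₂ts
  exact ⟨U₁ ⊔ U₂, by rw [h1, hU₁dim, hU₂dim, hm], h2, h3⟩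

/-- abstract TQ-FIXEVEN -/
theorem fixeven_abs (Q : QuadraticForm F V) (hV : Nd (QuadraticMap.polarBilin Q) ⊤) (d e : ℕ)
    (hdim : finrank F V = 2 * d)
    (he : (e = 0 ∧ PlusOn Q ⊤) ∨ (e = 1 ∧ ¬ PlusOn Q ⊤))
    {f : Module.End F V} (hQf : ∀ v, Q (f v) = Q v) (hinj : Function.Injective f)
    (hss : f.IsSemisimple) (hr2 : r ≠ 2) (hrp : r ≠ p) (hfr : f ^ r = 1) (hf1 : f ≠ 1)
    (i : ℕ) (hi : i = orderOf ((Fintype.card F : ℕ) : ZMod r)) (hie : Even i)
    (htype : ∀ N : ℕ, finrank F (LinearMap.ker (aeval f (cyclotomic r F))) = i * N →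
      (PlusOn Q (LinearMap.ker (f - 1)) ↔ (PlusOn Q ⊤ ↔ Even N)))
    (hwitt : Even (finrank F (LinearMap.ker (f - 1))) → ∀ a : ℕ,
      (2 * a + 2 ≤ finrank F (LinearMap.ker (f - 1)) ∨
        (PlusOn Q (LinearMap.ker (f - 1)) ∧ 2 * a ≤ finrank F (LinearMap.ker (f - 1)))) →
      ∃ U : Submodule F V, U ≤ LinearMap.ker (f - 1) ∧ (∀ u ∈ U, Q u = 0) ∧ finrank F U = a) :
    ∃ N, 1 ≤ N ∧ i * N ≤ 2 * d ∧ (i * N = 2 * d → (N + e) % 2 = 0) ∧
      ∀ m a b, a + b * i = m → (b = 0 ∨ 2 * b + (r - 1) / i ≤ N + 1) →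
        2 * a + 2 * ((N + e) % 2) + i * N ≤ 2 * d →
        ∃ W : Submodule F V, finrank F W = m ∧ (∀ w ∈ W, Q w = 0) ∧ Inv f W := by
  obtain ⟨hf, hC, hR, hsum, hcompl, horth, hβ, hβf, hβR⟩ :=
    fixodd_setup Q hV hQf hr2 hrp hfr
  set C := LinearMap.ker (f - 1) with hCdef
  set R := LinearMap.ker (aeval f (cyclotomic r F)) with hRdef
  have hdeg : AllIrrDeg (cyclotomic r F) i := by
    rw [hi]
    exact allIrrDeg_cyclotomic hrp
  have hP0 : cyclotomic r F ≠ 0 := cyclotomic_ne_zero r F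
  have hi0 : 0 < i := by
    rw [hi]
    exact orderOf_card_pos hrp
  have hfb : FactorBound (cyclotomic r F) ((r - 1) / i) := by
    rw [hi]
    exact factorBound_cyclotomic hrp
  have hRf : Inv f R := inv_ker_aeval f _
  have hRk : ∀ v ∈ R, aeval f (cyclotomic r F) v = 0 := fun v hv => LinearMap.mem_ker.mp hv
  have hRpos : 0 < finrank F R := fixodd_moved_pos hf1 hsum
  obtain ⟨N, hN⟩ : i ∣ finrank F R := dvd_finrank_of_inv hss hP0 hdeg _ _ rfl hRf hRk
  have hN1 : 1 ≤ N := by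
    rcases Nat.eq_zero_or_pos N with h | h
    · rw [h, mul_zero] at hN
      omega
    · exact h
  have hNdiv : finrank F R / i = N := by rw [hN, Nat.mul_div_cancel_left _ hi0]
  have hCdim : finrank F C + i * N = 2 * d := by rw [← hdim, ← hsum, hN]
  have hiN : Even (i * N) := hie.mul_right N
  have hCev : Even (finrank F C) := by
    obtain ⟨k, hk⟩ := hiN
    exact ⟨d - k, by omega⟩
  -- the type of the fixed space
  have hplusC : PlusOn Q C ↔ (N + e) % 2 = 0 := by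
    rw [htype N hN]
    rcases he with ⟨he0, hp⟩ | ⟨he1, hnp⟩
    · rw [he0, add_zero, iff_true_left hp, Nat.even_iff]
    · rw [he1, iff_false_left hnp, Nat.not_even_iff_odd, Nat.odd_iff]
      omega
  refine ⟨N, hN1, by omega, ?_, ?_⟩
  · intro h
    have h0 : finrank F C = 0 := by omega
    exact hplusC.mp (fixodd_plusOn_of_finrank_zero Q h0)
  intro m a b hm hb ha
  obtain ⟨U₂, hU₂R, hU₂f, hU₂ti, hU₂dim⟩ :=
    fixeven_sharp hβ hβf hinj hss (squarefree_cyclotomic_of_ne hrp) hi0 hdeg hfb b R hβR hRf hRk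
      (by
        rw [hNdiv]
        rcases hb with h | h
        · exact Or.inl h
        · right; omega)
  have hU₂ts := fixodd_ts_of_ti Q hQf hr2 hrp hfr hU₂R hU₂f hU₂ti
  obtain ⟨U₁, hU₁C, hU₁ts, hU₁dim⟩ := hwitt hCev a (by
    rcases Nat.mod_two_eq_zero_or_one (N + e) with h | h
    · right
      exact ⟨hplusC.mpr h, by omega⟩
    · left
      omega)
  obtain ⟨h1, h2, h3⟩ := fixodd_glue Q (le_refl C) hcompl.disjoint horth hU₁C hU₁ts hU₂R hU₂f hU₂ts
  exact ⟨U₁ ⊔ U₂, by rw [h1, hU₁dim, hU₂dim, hm], h2, h3⟩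

end Cfsg.Agent.Lib.Helper59.Tq
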