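import Cfsg.Agent.Lib.Helper79.TqFIXabs
import Cfsg.Agent.Lib.Helper40.SemisimpleConj

/-! # Tq hive (S5973 + S5987): bridge from a matrix isometry of odd prime order to the abstract
data used by `fixodd_abs` / `fixeven_abs` (helper79) -/

set_option autoImplicit false
set_option linter.unusedSectionVars false
set_option linter.style.haveILetI false

namespace Cfsg.Agent.Lib.Helper59.Tq

open Polynomial Module
open Cfsg.Agent.Lib.Helper2.BG Cfsg.Agent.Lib.Helper99 Cfsg.Agent.Lib.Helper48.Ti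
open Cfsg.Agent.Lib.Helper79.TsSwap

variable {ι : Type} [Fintype ι] [DecidableEq ι] {F : Type*} [Field F] [Fintype F]

/-- the abstract data of a matrix isometry of odd prime order -/
theorem fixodd_bridge {p : ℕ} [Fact p.Prime] [CharP F p] (QF : QuadraticForm F (ι → F))
    (hnd : (QuadraticMap.polarBilin QF).Nondegenerate) (d e : ℕ)
    (hcard : Fintype.card ι = 2 * d) (he : TypeE (⇑QF) e)
    (r : ℕ) [Fact r.Prime] (hrp : r ≠ p)
    (x : GL ι F) (hx : x ∈ Cfsg.isometryGroup F (⇑QF)) (hxr : x ^ r = 1) (hx1 : x ≠ 1) :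
    Nd (QuadraticMap.polarBilin QF) ⊤ ∧ finrank F (ι → F) = 2 * d ∧
    ((e = 0 ∧ PlusOn QF ⊤) ∨ (e = 1 ∧ ¬ PlusOn QF ⊤)) ∧
    (∀ v, QF (Matrix.toLin' (x : Matrix ι ι F) v) = QF v) ∧
    Function.Injective (Matrix.toLin' (x : Matrix ι ι F)) ∧
    Module.End.IsSemisimple (Matrix.toLin' (x : Matrix ι ι F)) ∧
    (Matrix.toLin' (x : Matrix ι ι F)) ^ r = 1 ∧ Matrix.toLin' (x : Matrix ι ι F) ≠ 1 ∧
    ∀ m, (∃ W : Submodule F (ι → F), finrank F W = m ∧ (∀ w ∈ W, QF w = 0) ∧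
      Inv (Matrix.toLin' (x : Matrix ι ι F)) W) → FixTS (⇑QF) m x := by
  have hrF : (r : F) ≠ 0 := natCast_ne_zero_of_ne_char hrp
  have hAr : (x : Matrix ι ι F) ^ r = 1 := by
    rw [← Units.val_pow_eq_pow_val, hxr, Units.val_one]
  have hfr : (Matrix.toLin' (x : Matrix ι ι F)) ^ r = 1 := by
    rw [← Matrix.toLin'_pow, hAr, Matrix.toLin'_one]
    rfl
  have hr1 : 1 ≤ r := (Fact.out : r.Prime).one_lt.le
  have hplus : IsPlus (⇑QF) ↔ PlusOn QF ⊤ := by
    constructor
    · rintro ⟨U, hU, hUd⟩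
      exact ⟨U, le_top, hU, by rw [hUd, finrank_top, Module.finrank_fintype_fun_eq_card]⟩
    · rintro ⟨U, -, hU, hUd⟩
      exact ⟨U, hU, by rw [hUd, finrank_top, Module.finrank_fintype_fun_eq_card]⟩
  refine ⟨fun u _ hu => hnd.1 u (fun v => hu v Submodule.mem_top),
    by rw [Module.finrank_fintype_fun_eq_card, hcard], ?_, ?_, ?_,
    Cfsg.Agent.Lib.Helper40.SemisimpleConj.isSemisimple_toLin'_of_pow_eq_one _ r hrF hAr, hfr,
    ?_, ?_⟩
  · rcases he with ⟨h0, hp⟩ | ⟨h1, hnp⟩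
    · exact Or.inl ⟨h0, hplus.mp hp⟩
    · exact Or.inr ⟨h1, fun h => hnp (hplus.mpr h)⟩
  · intro v
    rw [Matrix.toLin'_apply]
    exact hx v v
  · intro u v huv
    have h := pow_pred_mul hr1 hfr
    have h' : (Matrix.toLin' (x : Matrix ι ι F)) ^ (r - 1) * Matrix.toLin' (x : Matrix ι ι F)
        = 1 := by
      rw [← pow_succ, Nat.sub_add_cancel hr1, hfr]
    have hu := congrArg (fun g : Module.End F (ι → F) => g u) h'
    have hv := congrArg (fun g : Module.End F (ι → F) => g v) h'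
    simp only [Module.End.mul_apply, Module.End.one_apply] at hu hv
    rw [← hu, ← hv, huv]
  · intro h
    apply hx1
    apply Units.ext
    have : Matrix.toLin' (x : Matrix ι ι F) = Matrix.toLin' (1 : Matrix ι ι F) := by
      rw [h, Matrix.toLin'_one]
      rfl
    rw [Units.val_one]
    exact Matrix.toLin'.injective this
  · rintro m ⟨W, hWm, hWts, hWf⟩
    exact ⟨W, hWm, hWts, (inv_iff_map_le _ W).mp hWf⟩

end Cfsg.Agent.Lib.Helper59.Tq
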