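import Cfsg.Agent.Lib.Helper79.TqFIXabs

/-! # Tq hive (S5973 + S5987): the converse of `fixodd_abs` (helper79), for TQ-DERODD

For an isometry `f` of odd prime order `r ≠ p`, `i = ord_r(q)` odd, whose moved part
`R = ker Φ_r(f)` has dimension `2 i j`: every invariant totally singular subspace has dimension
`a + b i` with `b ≤ j` and `a + i j + e ≤ d`.  (The chunks TQ-TYPEODD and TQ-WITT (2) are
hypotheses.) -/

set_option autoImplicit false
set_option linter.unusedSectionVars false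
set_option linter.style.haveILetI false

namespace Cfsg.Agent.Lib.Helper59.Tq

open Polynomial Module
open Cfsg.Agent.Lib.Helper2.BG Cfsg.Agent.Lib.Helper99 Cfsg.Agent.Lib.Helper48.Ti
open Cfsg.Agent.Lib.Helper79.TsSwap

variable {F V : Type*} [Field F] [AddCommGroup V] [Module F V] [FiniteDimensional F V]
variable [Fintype F] {p : ℕ} [Fact p.Prime] [CharP F p] {r : ℕ} [Fact r.Prime]

/-- the splitting of an invariant subspace along `C = ker (f - 1)` and `R = ker Φ_r(f)`, with the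
divisibility of the moved part -/
theorem fixodd_split_inv {f : Module.End F V} (hss : f.IsSemisimple) (hrp : r ≠ p)
    (hfr : f ^ r = 1) (i : ℕ) (hi : i = orderOf ((Fintype.card F : ℕ) : ZMod r))
    {W : Submodule F V} (hWf : Inv f W) :
    finrank F W = finrank F ↥(W ⊓ LinearMap.ker (f - 1)) +
        finrank F ↥(W ⊓ LinearMap.ker (aeval f (cyclotomic r F))) ∧
      i ∣ finrank F ↥(W ⊓ LinearMap.ker (aeval f (cyclotomic r F))) := by
  have hrF : (r : F) ≠ 0 := natCast_ne_zero_of_ne_char hrp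
  have hcop : IsCoprime (X - 1 : F[X]) (cyclotomic r F) := isCoprime_X_sub_one_cyclotomic hrF
  have hkill : aeval f ((X - 1 : F[X]) * cyclotomic r F) = 0 := aeval_kill_of_pow hfr
  have hWP : ∀ v ∈ W, aeval f ((X - 1) * cyclotomic r F) v = 0 := by
    intro v _; rw [hkill, LinearMap.zero_apply]
  obtain ⟨-, -, hfr'⟩ := finrank_inv_split hcop hWf hWP
  rw [fix_aeval_X_sub_one] at hfr'
  have hdeg : AllIrrDeg (cyclotomic r F) i := by
    rw [hi]
    exact allIrrDeg_cyclotomic hrp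
  refine ⟨hfr', dvd_finrank_of_inv hss (cyclotomic_ne_zero r F) hdeg _ _ rfl
    (hWf.inf (inv_ker_aeval f _)) (fun v hv => LinearMap.mem_ker.mp hv.2)⟩

/-- converse of `fixodd_abs` (abstract TQ-DERODD, necessity half) -/
theorem fixodd_conv_abs (Q : QuadraticForm F V) (hV : Nd (QuadraticMap.polarBilin Q) ⊤) (d e : ℕ)
    (hdim : finrank F V = 2 * d)
    (he : (e = 0 ∧ PlusOn Q ⊤) ∨ (e = 1 ∧ ¬ PlusOn Q ⊤))
    {f : Module.End F V} (hQf : ∀ v, Q (f v) = Q v) (hinj : Function.Injective f)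
    (hss : f.IsSemisimple) (hr2 : r ≠ 2) (hrp : r ≠ p) (hfr : f ^ r = 1)
    (i : ℕ) (hi : i = orderOf ((Fintype.card F : ℕ) : ZMod r)) (hio : Odd i) (j : ℕ)
    (hj : finrank F (LinearMap.ker (aeval f (cyclotomic r F))) = 2 * (i * j))
    (htype : ∀ L : Submodule F V, L ≤ LinearMap.ker (aeval f (cyclotomic r F)) →
      (∀ u ∈ L, Q u = 0) →
      2 * finrank F L = finrank F (LinearMap.ker (aeval f (cyclotomic r F))) →
      (PlusOn Q ⊤ ↔ PlusOn Q (LinearMap.ker (f - 1))))
    (hbound : Even (finrank F (LinearMap.ker (f - 1))) → ¬ PlusOn Q (LinearMap.ker (f - 1)) →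
      ∀ U : Submodule F V, U ≤ LinearMap.ker (f - 1) → (∀ u ∈ U, Q u = 0) →
        2 * finrank F U + 2 ≤ finrank F (LinearMap.ker (f - 1))) :
    ∀ (m : ℕ) (W : Submodule F V), finrank F W = m → (∀ w ∈ W, Q w = 0) → Inv f W →
      ∃ a b, a + b * i = m ∧ b ≤ j ∧ a + i * j + e ≤ d := by
  obtain ⟨hf, hC, hR, hsum, hcompl, horth, hβ, hβf, hβR⟩ :=
    fixodd_setup Q hV hQf hr2 hrp hfr
  set C := LinearMap.ker (f - 1) with hCdef
  set R := LinearMap.ker (aeval f (cyclotomic r F)) with hRdef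
  have hrF : (r : F) ≠ 0 := natCast_ne_zero_of_ne_char hrp
  have hcop : IsCoprime (X - 1 : F[X]) (cyclotomic r F) := isCoprime_X_sub_one_cyclotomic hrF
  have hkill : aeval f ((X - 1 : F[X]) * cyclotomic r F) = 0 := aeval_kill_of_pow hfr
  have hdeg : AllIrrDeg (cyclotomic r F) i := by
    rw [hi]
    exact allIrrDeg_cyclotomic hrp
  have hP0 : cyclotomic r F ≠ 0 := cyclotomic_ne_zero r F
  have hRf : Inv f R := inv_ker_aeval f _
  have hi1 : 1 ≤ i := hio.pos
  have hBs : ∀ u v, QuadraticMap.polarBilin Q u v = 0 → QuadraticMap.polarBilin Q v u = 0 := by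
    intro u v h
    change QuadraticMap.polar Q v u = 0
    rw [QuadraticMap.polar_comm]
    exact h
  -- a Lagrangian of the moved part
  obtain ⟨L, hLR, hLf, hLti, hLdim⟩ :=
    exists_ti_odd hβ hβf hinj hss hP0 hio hdeg hcop hkill (j * i) R hβR hRf
      (by rw [hj]; nlinarith) (by rw [Nat.mul_mod_left]; omega)
  have hLts := fixodd_ts_of_ti Q hQf hr2 hrp hfr hLR hLf hLti
  have hplus : PlusOn Q ⊤ ↔ PlusOn Q C := htype L hLR hLts (by rw [hLdim, hj]; ring)
  have hCdim : finrank F C + 2 * (i * j) = 2 * d := by rw [← hdim, ← hsum, hj]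
  have hCev : Even (finrank F C) := ⟨d - i * j, by omega⟩
  intro m W hWm hWts hWf
  obtain ⟨hsplit, ⟨b, hb⟩⟩ := fixodd_split_inv hss hrp hfr i hi hWf
  have hWti : TI (QuadraticMap.polarBilin Q) W := fun u hu v hv => ti_polar_of_ts Q hWts u hu v hv
  have hRbound : 2 * finrank F ↥(W ⊓ R) ≤ finrank F R :=
    ti_bound_refl hBs hR inf_le_right (fun u hu v hv => hWti u hu.1 v hv.1)
  have hCbound : 2 * finrank F ↥(W ⊓ C) ≤ finrank F C :=
    ti_bound_refl hBs hC inf_le_right (fun u hu v hv => hWti u hu.1 v hv.1)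
  refine ⟨finrank F ↥(W ⊓ C), b, ?_, ?_, ?_⟩
  · rw [← hWm, hsplit, hb, mul_comm]
  · rw [hb, hj] at hRbound
    have h1 : i * b ≤ i * j := by omega
    exact Nat.le_of_mul_le_mul_left h1 hi1
  · rcases he with ⟨he0, -⟩ | ⟨he1, hnp⟩
    · omega
    · have hnpC : ¬ PlusOn Q C := fun h => hnp (hplus.mpr h)
      have := hbound hCev hnpC (W ⊓ C) inf_le_right (fun u hu => hWts u hu.1)
      omega

end Cfsg.Agent.Lib.Helper59.Tq
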