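import Mathlib
import Cfsg.Agent.Lib.Helper79.TsSplit

/-! # Invariant totally singular subspaces of the moved part, any characteristic (helper79)

For an isometry `x` of a quadratic form `Q` and an `x`-invariant subspace `U` killed by a polynomial
prime to `X - 1`, `Q` vanishes on `U` as soon as the polar form does (in characteristic two this
uses that `x - 1` is onto on `U`). -/

set_option autoImplicit false
set_option linter.unusedSectionVars false
set_option linter.style.haveILetI false

namespace Cfsg.Agent.Lib.Helper79.TsSwap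

open Polynomial Module
open Cfsg.Agent.Lib.Helper2.BG Cfsg.Agent.Lib.Helper99 Cfsg.Agent.Lib.Helper48.Ti

variable {F V : Type*} [Field F] [AddCommGroup V] [Module F V]

/-- on an invariant subspace killed by a polynomial prime to `X - 1`, the map `f - 1` is onto -/
theorem exists_preimage_sub_one [FiniteDimensional F V] {f : Module.End F V} {P : F[X]}
    (hcop : IsCoprime (X - 1 : F[X]) P) {U : Submodule F V} (hUf : Inv f U)
    (hUP : ∀ v ∈ U, aeval f P v = 0) (v : V) (hv : v ∈ U) :
    ∃ w ∈ U, f w - w = v := by
  have hmaps : ∀ w ∈ U, (f - 1) w ∈ U := by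
    intro w hw
    rw [LinearMap.sub_apply, Module.End.one_apply]
    exact U.sub_mem (hUf w hw) hw
  set h : U →ₗ[F] U := (f - 1).restrict hmaps with hh
  have hinj : Function.Injective h := by
    rw [← LinearMap.ker_eq_bot, LinearMap.ker_eq_bot']
    intro w hw
    have hw0 : (f - 1) (w : V) = 0 := by
      have := congrArg (fun z : U => (z : V)) hw
      simpa [hh] using this
    obtain ⟨a, b, hab⟩ := hcop
    have h3 : (w : V) = aeval f (a * (X - 1) + b * P) (w : V) := by
      rw [hab]; simp
    rw [map_add, map_mul, map_mul, LinearMap.add_apply, Module.End.mul_apply, Module.End.mul_apply,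
      fix_aeval_X_sub_one, hw0, hUP _ w.2, map_zero, map_zero, add_zero] at h3
    exact Subtype.ext h3
  have hsurj : Function.Surjective h := LinearMap.surjective_of_injective hinj
  obtain ⟨w, hw⟩ := hsurj ⟨v, hv⟩
  refine ⟨w, w.2, ?_⟩
  have := congrArg (fun z : U => (z : V)) hw
  simpa [hh] using this

/-- **Totally singular = totally isotropic on invariant subspaces of the moved part**, in any
characteristic. -/
theorem ts_of_ti_polar [FiniteDimensional F V] (Q : QuadraticForm F V) {f : Module.End F V}
    (hf : ∀ v, Q (f v) = Q v) {P : F[X]} (hcop : IsCoprime (X - 1 : F[X]) P)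
    {U : Submodule F V} (hUf : Inv f U) (hUP : ∀ v ∈ U, aeval f P v = 0)
    (hU : ∀ u ∈ U, ∀ v ∈ U, QuadraticMap.polar Q u v = 0) : ∀ u ∈ U, Q u = 0 := by
  intro u hu
  by_cases h2 : (2 : F) = 0
  · obtain ⟨w, hw, rfl⟩ := exists_preimage_sub_one hcop hUf hUP u hu
    have h1 : Q (f w - w) = Q (f w) + Q (-w) + QuadraticMap.polar Q (f w) (-w) := by
      unfold QuadraticMap.polar
      rw [sub_eq_add_neg]
      ring
    rw [h1, QuadraticMap.map_neg, hf, QuadraticMap.polar_neg_right, hU _ (hUf w hw) w hw, neg_zero,
      add_zero, ← two_mul, h2, zero_mul]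
  · have h1 := hU u hu u hu
    rw [QuadraticMap.polar_self] at h1
    have h3 : (2 : F) * Q u = 0 := by
      simpa [two_mul, two_smul] using h1
    rcases mul_eq_zero.mp h3 with h0 | h0
    · exact absurd h0 h2
    · exact h0

/-- conversely a subspace on which `Q` vanishes is totally isotropic for the polar form -/
theorem ti_polar_of_ts (Q : QuadraticForm F V) {U : Submodule F V} (hU : ∀ u ∈ U, Q u = 0) :
    ∀ u ∈ U, ∀ v ∈ U, QuadraticMap.polar Q u v = 0 := by
  intro u hu v hv
  unfold QuadraticMap.polar
  rw [hU _ (U.add_mem hu hv), hU u hu, hU v hv]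
  ring

end Cfsg.Agent.Lib.Helper79.TsSwap
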