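import Mathlib
import Cfsg.Prelude.Def_ClassicalGeometry
import Cfsg.Prelude.Def_GeometricClasses
import Cfsg.Agent.Lib.Helper99.SympForm
import Cfsg.Agent.Lib.Helper59.TqDefs
import Cfsg.Agent.Lib.Helper48.TiInd
import Cfsg.Agent.Lib.Helper48.TiCYC
import Cfsg.Agent.Lib.Helper79.TsSwap
import Cfsg.Agent.Lib.Helper79.TsSplit
import Cfsg.Agent.Lib.Helper79.TsTransfer
import Cfsg.Agent.Lib.Helper79.TsChar2

/-! # Tq hive (S5973 + S5987): abstract core of TQ-FIXODD / TQ-FIXEVEN (helper79)

For an isometry `f` of odd prime order `r ≠ p` of a nondegenerate quadratic space `(V, Q)` over a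
finite field (ANY characteristic): `V = C ⟂ R`, `C = ker (f - 1)`, `R = ker Φ_r(f)`; the form
`β = swap B f` is alternating, nondegenerate on `R`, and the invariant subspaces of `R` that are
totally isotropic for `β` are totally singular for `Q`.  -/

set_option autoImplicit false
set_option linter.unusedSectionVars false
set_option linter.style.haveILetI false

namespace Cfsg.Agent.Lib.Helper59.Tq

open Polynomial Module
open Cfsg.Agent.Lib.Helper2.BG Cfsg.Agent.Lib.Helper99 Cfsg.Agent.Lib.Helper48.Ti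
open Cfsg.Agent.Lib.Helper79.TsSwap

variable {F V : Type*} [Field F] [AddCommGroup V] [Module F V] [FiniteDimensional F V]

/-- the sharp version of helper48's `exists_ti_even` inside a subspace killed by `P`: an invariant
totally isotropic subspace of dimension `b i` exists as soon as `b = 0` or `τ + 2 b ≤ N + 1`. -/
theorem fixeven_sharp [Finite F] {B : V →ₗ[F] V →ₗ[F] F} (hB : ∀ v, B v v = 0)
    {f : Module.End F V} (hf : Isom B f)
    (hinj : Function.Injective f) (hss : f.IsSemisimple) {P : F[X]} (hsq : Squarefree P)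
    {i τ : ℕ} (hi0 : 0 < i) (hdeg : AllIrrDeg P i) (hτ : FactorBound P τ) :
    ∀ (b : ℕ) (Z : Submodule F V), Nd B Z → Inv f Z → (∀ v ∈ Z, aeval f P v = 0) →
      (b = 0 ∨ τ + 2 * b ≤ finrank F Z / i + 1) → Good B f Z (b * i) := by
  have hP0 : P ≠ 0 := hsq.ne_zero
  intro b
  induction b with
  | zero =>
    intro Z _ _ _ _
    refine ⟨⊥, bot_le, inv_bot f, ?_, by simp⟩
    intro u hu v _
    rw [(Submodule.mem_bot F).mp hu, map_zero, LinearMap.zero_apply]
  | succ b ih =>
    intro Z hZ hZf hk hb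
    have hb' : τ + 2 * (b + 1) ≤ finrank F Z / i + 1 := by
      rcases hb with h | h
      · omega
      · exact h
    have hdvd : i ∣ finrank F Z := dvd_finrank_of_inv hss hP0 hdeg _ _ rfl hZf hk
    obtain ⟨N, hN⟩ := hdvd
    have hNdiv : finrank F Z / i = N := by rw [hN, Nat.mul_div_cancel_left _ hi0]
    rw [hNdiv] at hb'
    have hbig : i * τ < finrank F Z := by
      rw [hN]
      exact Nat.mul_lt_mul_of_pos_left (by omega) hi0
    obtain ⟨φ, hφ, hφP, hφdim⟩ := exists_factor_large hss hsq hdeg hτ hZf hk hbig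
    have hφi : φ.natDegree = i := hdeg φ hφ hφP
    have hZ₁f : Inv f (Z ⊓ LinearMap.ker (aeval f φ)) := hZf.inf (inv_ker_aeval f φ)
    obtain ⟨Y, hYZ₁, hYf, hYti, hYi⟩ :=
      exists_ti_irreducible_cw hB hf hss hφ hZ₁f (fun v hv => LinearMap.mem_ker.mp hv.2)
        (by rw [hφi]; omega)
    rw [hφi] at hYi
    have hYZ : Y ≤ Z := hYZ₁.trans inf_le_left
    have h2N : 2 ≤ N := by
      have h1 : finrank F ↥(Z ⊓ LinearMap.ker (aeval f φ)) ≤ finrank F Z :=
        Submodule.finrank_mono inf_le_left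
      rw [hN] at h1
      have h2 : 2 * i ≤ i * N := le_trans hφdim h1
      by_contra hcon
      push Not at hcon
      have h3 : i * N ≤ i * 1 := Nat.mul_le_mul_left i (by omega)
      omega
    have key := ind_step (m := b * i) hB hf hinj hss hZ hZf hYZ hYf hYti (by
      intro Z' hZ'Z hZ'f hZ'nd hdim
      rw [hYi] at hdim
      refine ih Z' hZ'nd hZ'f (fun v hv => hk v (hZ'Z hv)) ?_
      right
      have e4 : finrank F Z' / i = N - 2 := by
        have h1 : finrank F Z' = i * (N - 2) := by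
          have h3 : i * N = i * (N - 2) + 2 * i := by
            obtain ⟨k, rfl⟩ := Nat.exists_eq_add_of_le h2N
            rw [Nat.add_sub_cancel_left]
            ring
          omega
        rw [h1, Nat.mul_div_cancel_left _ hi0]
      rw [e4]
      omega)
    rw [hYi] at key
    have e : (b + 1) * i = i + b * i := by ring
    rw [e]
    exact key

section quad

variable [Fintype F] {p : ℕ} [Fact p.Prime] [CharP F p] {r : ℕ} [Fact r.Prime]

/-- the structure of an isometry of odd prime order `r ≠ p` of a quadratic space -/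
theorem fixodd_setup (Q : QuadraticForm F V) (hV : Nd (QuadraticMap.polarBilin Q) ⊤)
    {f : Module.End F V} (hQf : ∀ v, Q (f v) = Q v) (hr2 : r ≠ 2) (hrp : r ≠ p)
    (hfr : f ^ r = 1) :
    Isom (QuadraticMap.polarBilin Q) f ∧
    Nd (QuadraticMap.polarBilin Q) (LinearMap.ker (f - 1)) ∧
    Nd (QuadraticMap.polarBilin Q) (LinearMap.ker (aeval f (cyclotomic r F))) ∧
    finrank F (LinearMap.ker (f - 1)) + finrank F (LinearMap.ker (aeval f (cyclotomic r F)))
      = finrank F V ∧
    IsCompl (LinearMap.ker (f - 1)) (LinearMap.ker (aeval f (cyclotomic r F))) ∧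
    (∀ c ∈ LinearMap.ker (f - 1), ∀ x ∈ LinearMap.ker (aeval f (cyclotomic r F)),
      QuadraticMap.polar Q c x = 0) ∧
    (∀ v, swap (QuadraticMap.polarBilin Q) f v v = 0) ∧
    Isom (swap (QuadraticMap.polarBilin Q) f) f ∧
    Nd (swap (QuadraticMap.polarBilin Q) f) (LinearMap.ker (aeval f (cyclotomic r F))) := by
  set B : V →ₗ[F] V →ₗ[F] F := QuadraticMap.polarBilin Q with hBdef
  have hBs : ∀ u v, B u v = B v u := fun u v => QuadraticMap.polar_comm Q u v
  have hf : Isom B f := by
    intro u v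
    change QuadraticMap.polar Q (f u) (f v) = QuadraticMap.polar Q u v
    unfold QuadraticMap.polar
    rw [← map_add, hQf, hQf, hQf]
  have hrF : (r : F) ≠ 0 := natCast_ne_zero_of_ne_char hrp
  have hcop : IsCoprime (X - 1 : F[X]) (cyclotomic r F) := isCoprime_X_sub_one_cyclotomic hrF
  have hcop2 : IsCoprime (X ^ 2 - 1 : F[X]) (cyclotomic r F) :=
    isCoprime_X_sq_sub_one_cyclotomic hr2 hrF
  have hkill : aeval f ((X - 1 : F[X]) * cyclotomic r F) = 0 := aeval_kill_of_pow hfr
  have hr1 : 1 ≤ r := (Fact.out : r.Prime).one_lt.le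
  obtain ⟨hC, hR, hsum⟩ := fix_split_symm hBs hf hcop hkill hV (inv_top f)
  simp only [top_inf_eq, finrank_top] at hC hR hsum
  have e1 : finrank F ↥((⊤ : Submodule F V) ⊓ LinearMap.ker (f - 1))
      = finrank F ↥(LinearMap.ker (f - 1)) :=
    congrArg (fun S : Submodule F V => finrank F ↥S) (top_inf_eq _)
  have e2 : finrank F ↥((⊤ : Submodule F V) ⊓ LinearMap.ker (aeval f (cyclotomic r F)))
      = finrank F ↥(LinearMap.ker (aeval f (cyclotomic r F))) :=
    congrArg (fun S : Submodule F V => finrank F ↥S) (top_inf_eq _)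
  rw [e1, e2] at hsum
  have hWP : ∀ v ∈ (⊤ : Submodule F V), aeval f ((X - 1) * cyclotomic r F) v = 0 := by
    intro v _; rw [hkill, LinearMap.zero_apply]
  obtain ⟨hsplit, hdisj, _⟩ := finrank_inv_split hcop (inv_top f) hWP
  simp only [fix_aeval_X_sub_one, top_inf_eq] at hsplit hdisj
  refine ⟨hf, hC, hR, hsum, ⟨hdisj, codisjoint_iff.mpr hsplit.symm⟩, ?_,
    swap_self_of_symm hBs f, isom_swap hf, ?_⟩
  · intro c hc x hx
    exact fix_orth hf hcop hc hx
  · exact nd_swap hf hr1 hfr hcop2 (inv_ker_aeval f _) (fun v hv => LinearMap.mem_ker.mp hv) hR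

/-- invariant subspaces of `R` that are totally isotropic for the swapped form are totally
singular -/
theorem fixodd_ts_of_ti (Q : QuadraticForm F V) {f : Module.End F V}
    (hQf : ∀ v, Q (f v) = Q v) (hr2 : r ≠ 2) (hrp : r ≠ p) (hfr : f ^ r = 1)
    {U : Submodule F V} (hUR : U ≤ LinearMap.ker (aeval f (cyclotomic r F))) (hUf : Inv f U)
    (hU : TI (swap (QuadraticMap.polarBilin Q) f) U) : ∀ u ∈ U, Q u = 0 := by
  have hf : Isom (QuadraticMap.polarBilin Q) f := by
    intro u v
    change QuadraticMap.polar Q (f u) (f v) = QuadraticMap.polar Q u v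
    unfold QuadraticMap.polar
    rw [← map_add, hQf, hQf, hQf]
  have hrF : (r : F) ≠ 0 := natCast_ne_zero_of_ne_char hrp
  have hr1 : 1 ≤ r := (Fact.out : r.Prime).one_lt.le
  have hk : ∀ v ∈ U, aeval f (cyclotomic r F) v = 0 := fun v hv => LinearMap.mem_ker.mp (hUR hv)
  have hti : TI (QuadraticMap.polarBilin Q) U :=
    ti_of_ti_swap hf hr1 hfr (isCoprime_X_sq_sub_one_cyclotomic hr2 hrF) hUf hk hU
  exact ts_of_ti_polar Q hQf (isCoprime_X_sub_one_cyclotomic hrF) hUf hk
    (fun u hu v hv => hti u hu v hv)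

/-- glueing a totally singular subspace of the fixed space and an invariant totally singular
subspace of the moved part -/
theorem fixodd_glue (Q : QuadraticForm F V) {f : Module.End F V}
    {C R : Submodule F V} (hC : C ≤ LinearMap.ker (f - 1)) (hdis : Disjoint C R)
    (horth : ∀ c ∈ C, ∀ x ∈ R, QuadraticMap.polar Q c x = 0)
    {U₁ U₂ : Submodule F V} (h1C : U₁ ≤ C) (h1 : ∀ u ∈ U₁, Q u = 0) (h2R : U₂ ≤ R)
    (h2f : Inv f U₂) (h2 : ∀ u ∈ U₂, Q u = 0) :
    finrank F ↥(U₁ ⊔ U₂) = finrank F U₁ + finrank F U₂ ∧ (∀ w ∈ U₁ ⊔ U₂, Q w = 0) ∧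
      Inv f (U₁ ⊔ U₂) := by
  refine ⟨finrank_sup_of_disjoint' _ _ (hdis.mono h1C h2R), ?_, ?_⟩
  · intro w hw
    obtain ⟨a, ha, b, hb, rfl⟩ := Submodule.mem_sup.mp hw
    have := horth a (h1C ha) b (h2R hb)
    unfold QuadraticMap.polar at this
    have e : Q (a + b) = (Q (a + b) - Q a - Q b) + Q a + Q b := by ring
    rw [e, this, h1 a ha, h2 b hb]
    ring
  · apply Inv.sup _ h2f
    intro v hv
    rw [fix_of_mem_ker (hC (h1C hv))]
    exact hv

end quad

end Cfsg.Agent.Lib.Helper59.Tq
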