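import Mathlib
import Cfsg.Prelude.Def_ClassicalGeometry
import Cfsg.Prelude.Def_GeometricClasses
import Cfsg.Agent.Lib.Helper43.OddOrthGram
import Cfsg.Agent.Lib.Helper99.SympForm
import Cfsg.Agent.Lib.Helper79.TsTransfer

/-! # Bridges between the frozen vocabulary and the abstract one (helper79, S5972 hive) -/

set_option autoImplicit false
set_option linter.unusedSectionVars false
set_option linter.style.haveILetI false

namespace Cfsg.Agent.Lib.Helper79.TsSwap

open Polynomial Module Matrix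
open Cfsg.Agent.Lib.Helper2.BG Cfsg.Agent.Lib.Helper99 Cfsg.Agent.Lib.Helper48.Ti

variable {F : Type*} [Field F]

/-- the polar form of `x₀² + Σ xᵢyᵢ` as a bilinear map -/
noncomputable def orthB (d : ℕ) (F : Type*) [Field F] :
    (Unit ⊕ (Fin d ⊕ Fin d) → F) →ₗ[F] (Unit ⊕ (Fin d ⊕ Fin d) → F) →ₗ[F] F :=
  QuadraticMap.polarBilin (Cfsg.Agent.Lib.Helper43.oddForm d F)

theorem orthB_apply (d : ℕ) (u v : Unit ⊕ (Fin d ⊕ Fin d) → F) :
    orthB d F u v = QuadraticMap.polar (Cfsg.quadFormOdd d F) u v := by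
  rw [Cfsg.Agent.Lib.Helper43.oddForm_coe]
  rfl

theorem orthB_symm (d : ℕ) (u v : Unit ⊕ (Fin d ⊕ Fin d) → F) :
    orthB d F u v = orthB d F v u := by
  rw [orthB_apply, orthB_apply, QuadraticMap.polar_comm]

theorem orthB_self (d : ℕ) (v : Unit ⊕ (Fin d ⊕ Fin d) → F) :
    orthB d F v v = 2 * Cfsg.quadFormOdd d F v := by
  rw [orthB_apply, Cfsg.Agent.Lib.Helper43.oddForm_coe, QuadraticMap.polar_self]
  simp [two_mul]

theorem orthB_nd (h2 : (2 : F) ≠ 0) (d : ℕ) : Nd (orthB d F) ⊤ := by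
  intro u _ hu
  have h := (Cfsg.Agent.Lib.Helper43.OddOrth.oddForm_nondegenerate (F := F) (m := d) h2).1
  exact h u (fun v => hu v Submodule.mem_top)

theorem mem_isometryGroup_odd_iff (d : ℕ) (x : GL (Unit ⊕ (Fin d ⊕ Fin d)) F) :
    x ∈ Cfsg.isometryGroup F (Cfsg.quadFormOdd d F) ↔
      ∀ u, Cfsg.quadFormOdd d F
        ((x : Matrix (Unit ⊕ (Fin d ⊕ Fin d)) (Unit ⊕ (Fin d ⊕ Fin d)) F) *ᵥ u) =
          Cfsg.quadFormOdd d F u := by
  constructor
  · intro h u
    exact h u u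
  · intro h u v
    exact h u

theorem isom_orthB_of_preserves (d : ℕ)
    (A : Matrix (Unit ⊕ (Fin d ⊕ Fin d)) (Unit ⊕ (Fin d ⊕ Fin d)) F)
    (hA : ∀ u, Cfsg.quadFormOdd d F (A *ᵥ u) = Cfsg.quadFormOdd d F u) :
    Isom (orthB d F) (Matrix.toLin' A) := by
  intro u v
  rw [orthB_apply, orthB_apply]
  unfold QuadraticMap.polar
  rw [← map_add, Matrix.toLin'_apply, Matrix.toLin'_apply, Matrix.toLin'_apply, hA, hA, hA]

theorem ti_orthB_iff (h2 : (2 : F) ≠ 0) (d : ℕ)
    (W : Submodule F (Unit ⊕ (Fin d ⊕ Fin d) → F)) :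
    TI (orthB d F) W ↔ ∀ w ∈ W, Cfsg.quadFormOdd d F w = 0 := by
  constructor
  · intro h w hw
    have := h w hw w hw
    rw [orthB_self] at this
    rcases mul_eq_zero.mp this with h0 | h0
    · exact absurd h0 h2
    · exact h0
  · intro h u hu v hv
    rw [orthB_apply]
    unfold QuadraticMap.polar
    rw [h _ (W.add_mem hu hv), h u hu, h v hv]
    ring

theorem isom_sympB_of_mem (d : ℕ) (y : ↥(Matrix.symplecticGroup (Fin d) F)) :
    Isom (sympB (F := F) d)
      (Matrix.toLin' (y : Matrix (Fin d ⊕ Fin d) (Fin d ⊕ Fin d) F)) := by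
  intro u v
  exact sympB_preserved d _ y.2 u v

theorem ti_sympB_iff (d : ℕ) (W : Submodule F (Fin d ⊕ Fin d → F)) :
    TI (sympB (F := F) d) W ↔ ∀ u ∈ W, ∀ v ∈ W, Cfsg.sympForm d F u v = 0 := by
  constructor
  · intro h u hu v hv
    rw [← sympB_apply]
    exact h u hu v hv
  · intro h u hu v hv
    rw [sympB_apply]
    exact h u hu v hv

theorem finrank_orth (d : ℕ) : finrank F (Unit ⊕ (Fin d ⊕ Fin d) → F) = 2 * d + 1 := by
  rw [Module.finrank_fintype_fun_eq_card]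
  simp
  ring

theorem finrank_symp (d : ℕ) : finrank F (Fin d ⊕ Fin d → F) = 2 * d := by
  rw [Module.finrank_fintype_fun_eq_card]
  simp
  ring

theorem toLin'_eq_one_iff {n : Type*} [Fintype n] [DecidableEq n] (A : Matrix n n F) :
    Matrix.toLin' A = 1 ↔ A = 1 := by
  constructor
  · intro h
    apply Matrix.toLin'.injective
    rw [h, Matrix.toLin'_one]
    rfl
  · intro h
    rw [h, Matrix.toLin'_one]
    rfl

end Cfsg.Agent.Lib.Helper79.TsSwap
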