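import Mathlib
import Cfsg.Agent.Lib.Helper55.TsBASE
import Cfsg.Agent.Lib.Helper79.TsBridge
import Cfsg.Agent.Lib.Helper33.TiBASE
import Cfsg.Agent.Lib.Helper2.TsEXTSP

/-! # S5972 hive: from the symplectic group to the odd-dimensional orthogonal group (helper79) -/

set_option autoImplicit false
set_option linter.unusedSectionVars false
set_option linter.style.haveILetI false

namespace Cfsg.Agent.Lib.Helper79.TsSwap

open Polynomial Module Matrix
open Cfsg.Agent.Lib.Helper2.BG Cfsg.Agent.Lib.Helper99 Cfsg.Agent.Lib.Helper48.Ti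

/-- totally isotropic subspaces of a relatively nondegenerate subspace for a symmetric form over a
finite field of odd characteristic -/
theorem exists_ti_of_nd_symm {F V : Type*} [Field F] [Finite F] [AddCommGroup V] [Module F V]
    [FiniteDimensional F V] {B : V →ₗ[F] V →ₗ[F] F} (h2 : (2 : F) ≠ 0)
    (hs : ∀ u v, B u v = B v u) {Z : Submodule F V} (hZ : Nd B Z) {m : ℕ}
    (hm : 2 * m + 1 ≤ finrank F Z) :
    ∃ U : Submodule F V, U ≤ Z ∧ TI B U ∧ finrank F U = m := by
  apply Cfsg.Agent.Lib.Helper67.Ts.exists_ts_of_nd h2 hs hZ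
  omega

variable {F : Type*} [Field F] [Fintype F]

/-- CORR-A: if every element of order `r` of `Sp_{2d}(q)` fixes a totally isotropic `m`-space then
every isometry of order `r` of the odd-dimensional quadratic form fixes a totally singular
`m`-space -/
theorem corr_A (h2 : (2 : F) ≠ 0) (d m : ℕ) (r : ℕ) [hr : Fact r.Prime] (hr2 : r ≠ 2)
    (hrF : (r : F) ≠ 0)
    (hSp : ∀ y : ↥(Matrix.symplecticGroup (Fin d) F),
      (∃ z : F, ((y ^ r : ↥(Matrix.symplecticGroup (Fin d) F)) :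
        Matrix (Fin d ⊕ Fin d) (Fin d ⊕ Fin d) F) = z • 1) →
      (∀ z : F, (y : Matrix (Fin d ⊕ Fin d) (Fin d ⊕ Fin d) F) ≠ z • 1) →
      ∃ W : Submodule F (Fin d ⊕ Fin d → F), finrank F W = m ∧
        (∀ u ∈ W, ∀ v ∈ W, Cfsg.sympForm d F u v = 0) ∧
        W.map (Matrix.toLin' (y : Matrix (Fin d ⊕ Fin d) (Fin d ⊕ Fin d) F)) ≤ W)
    (x : GL (Unit ⊕ (Fin d ⊕ Fin d)) F)
    (hx : x ∈ Cfsg.isometryGroup F (Cfsg.quadFormOdd d F)) (hxr : orderOf x = r) :
    ∃ W : Submodule F (Unit ⊕ (Fin d ⊕ Fin d) → F), finrank F W = m ∧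
      (∀ w ∈ W, Cfsg.quadFormOdd d F w = 0) ∧
      W.map (Matrix.toLin'
        (x : Matrix (Unit ⊕ (Fin d ⊕ Fin d)) (Unit ⊕ (Fin d ⊕ Fin d)) F)) ≤ W := by
  have hr1 : 1 ≤ r := hr.out.one_lt.le
  -- the isometry `f`
  have hfI : Isom (orthB d F) (Matrix.toLin'
      (x : Matrix (Unit ⊕ (Fin d ⊕ Fin d)) (Unit ⊕ (Fin d ⊕ Fin d)) F)) :=
    isom_orthB_of_preserves d _ ((mem_isometryGroup_odd_iff d x).mp hx)
  have hfr : (Matrix.toLin'
      (x : Matrix (Unit ⊕ (Fin d ⊕ Fin d)) (Unit ⊕ (Fin d ⊕ Fin d)) F)) ^ r = 1 := by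
    rw [← Matrix.toLin'_pow, toLin'_eq_one_iff, ← Units.val_pow_eq_pow_val, ← hxr,
      pow_orderOf_eq_one, Units.val_one]
  generalize hfdef : (Matrix.toLin'
      (x : Matrix (Unit ⊕ (Fin d ⊕ Fin d)) (Unit ⊕ (Fin d ⊕ Fin d)) F)) = f at hfI hfr ⊢
  have hcop : IsCoprime (X - 1 : F[X]) (cyclotomic r F) := isCoprime_X_sub_one_cyclotomic hrF
  have hcop2 : IsCoprime (X ^ 2 - 1 : F[X]) (cyclotomic r F) :=
    isCoprime_X_sq_sub_one_cyclotomic hr2 hrF
  have hkill : aeval f ((X - 1 : F[X]) * cyclotomic r F) = 0 := aeval_kill_of_pow hfr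
  obtain ⟨hC, hR, hsum⟩ :=
    fix_split_symm (orthB_symm d) hfI hcop hkill (orthB_nd h2 d) (inv_top f)
  rw [top_inf_eq] at hC hR
  rw [top_inf_eq, top_inf_eq, finrank_top, finrank_orth] at hsum
  have hRf : Inv f (LinearMap.ker (aeval f (cyclotomic r F))) := inv_ker_aeval f _
  have hRP : ∀ v ∈ LinearMap.ker (aeval f (cyclotomic r F)), aeval f (cyclotomic r F) v = 0 :=
    fun v hv => LinearMap.mem_ker.mp hv
  have hRsw : Nd (swap (orthB d F) f) (LinearMap.ker (aeval f (cyclotomic r F))) :=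
    nd_swap hfI hr1 hfr hcop2 hRf hRP hR
  have halt : ∀ v, swap (orthB d F) f v v = 0 := swap_self_of_symm (orthB_symm d) f
  obtain ⟨e, he⟩ := even_finrank_of_nd halt hRsw
  have hed : e ≤ d := by omega
  -- the abstract symplectic space
  obtain ⟨y, j, hj, hjB, hjf, hperp⟩ := exists_symp_ext (F := F) d e hed
    ((swap (orthB d F) f).domRestrict₁₂ (LinearMap.ker (aeval f (cyclotomic r F)))
      (LinearMap.ker (aeval f (cyclotomic r F))))
    (fun v => by rw [LinearMap.domRestrict₁₂_apply]; exact halt _)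
    (fun u hu => by
      apply Subtype.ext
      apply hRsw u u.2
      intro v hv
      have := hu ⟨v, hv⟩
      rwa [LinearMap.domRestrict₁₂_apply] at this)
    (by rw [he]; ring)
    (f.restrict hRf)
    (fun u v => by
      rw [LinearMap.domRestrict₁₂_apply, LinearMap.domRestrict₁₂_apply]
      exact isom_swap hfI _ _)
  have hgI : Isom (sympB (F := F) d)
      (Matrix.toLin' (y : Matrix (Fin d ⊕ Fin d) (Fin d ⊕ Fin d) F)) := isom_sympB_of_mem d y
  generalize hgdef : (Matrix.toLin' (y : Matrix (Fin d ⊕ Fin d) (Fin d ⊕ Fin d) F)) = g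
    at hgI hjf hperp
  have hjf' : ∀ u : ↥(LinearMap.ker (aeval f (cyclotomic r F))),
      g (j u) = j ⟨f u, inv_ker_aeval f _ u u.2⟩ := by
    intro u
    rw [hjf u]
    rfl
  have hjB' : ∀ u v : ↥(LinearMap.ker (aeval f (cyclotomic r F))),
      sympB (F := F) d (j u) (j v) = 1 * swap (orthB d F) f (u : _) (v : _) := by
    intro u v
    rw [sympB_apply, hjB, one_mul, LinearMap.domRestrict₁₂_apply]
  have hrefl : ∀ u v, sympB (F := F) d u v = 0 → sympB (F := F) d v u = 0 := by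
    intro u v h
    rw [skew_of_alt (sympB_self d) v u, h, neg_zero]
  have hperp' : ∀ w, (∀ u, sympB (F := F) d (j u) w = 0) → g w = w := by
    intro w hw
    apply hperp w
    intro u
    rw [← sympB_apply]
    exact hw u
  obtain ⟨hkill₂, hjr, hdim⟩ := ext_struct (B₂ := sympB (F := F) d) (f₂ := g) hcop hrefl
    (swap (orthB d F) f) hRsw j hj hjf' one_ne_zero hjB' hperp'
  rw [finrank_symp] at hdim
  have hgr : g ^ r = 1 := pow_eq_one_of_aeval_kill hkill₂
  -- `y` has order dividing `r` and is not scalar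
  have hyr : ((y ^ r : ↥(Matrix.symplecticGroup (Fin d) F)) :
      Matrix (Fin d ⊕ Fin d) (Fin d ⊕ Fin d) F) = (1 : F) • 1 := by
    rw [one_smul, SubmonoidClass.coe_pow, ← toLin'_eq_one_iff, Matrix.toLin'_pow, hgdef, hgr]
  have hns : ∀ z : F, (y : Matrix (Fin d ⊕ Fin d) (Fin d ⊕ Fin d) F) ≠ z • 1 := by
    intro z hz
    have hgz : ∀ w, g w = z • w := by
      intro w
      rw [← hgdef, hz, Matrix.toLin'_apply, Matrix.smul_mulVec, Matrix.one_mulVec]
    have hfz : ∀ u ∈ LinearMap.ker (aeval f (cyclotomic r F)), f u = z • u := by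
      intro u hu
      have h1 := hjf' ⟨u, hu⟩
      rw [hgz, ← map_smul] at h1
      have h2 := congrArg Subtype.val (hj h1)
      exact h2.symm
    have hRbot : ∀ u ∈ LinearMap.ker (aeval f (cyclotomic r F)), u = 0 := by
      intro u hu
      apply hRsw u hu
      intro v hv
      rw [swap_apply, hfz u hu, hfz v hv, map_smul, map_smul, LinearMap.smul_apply, sub_self]
    have hR0 : finrank F ↥(LinearMap.ker (aeval f (cyclotomic r F))) = 0 := by
      rw [Submodule.finrank_eq_zero, Submodule.eq_bot_iff]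
      exact hRbot
    have hCtop : LinearMap.ker (f - 1) = ⊤ := by
      apply Submodule.eq_top_of_finrank_eq
      rw [finrank_orth]
      omega
    have hf1 : f = 1 := by
      apply LinearMap.ext
      intro v
      have : v ∈ LinearMap.ker (f - 1) := by rw [hCtop]; exact Submodule.mem_top
      rw [fix_of_mem_ker this, Module.End.one_apply]
    have hx1 : x = 1 := by
      apply Units.ext
      rw [Units.val_one, ← toLin'_eq_one_iff, hfdef, hf1]
    rw [hx1, orderOf_one] at hxr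
    exact hr.out.one_lt.ne hxr
  obtain ⟨W', hW'm, hW'ti, hW'inv⟩ := hSp y ⟨1, hyr⟩ hns
  rw [hgdef] at hW'inv
  have hgood₂ : Good (sympB (F := F) d) g ⊤ m :=
    ⟨W', le_top, (inv_iff_map_le g W').mpr hW'inv, (ti_sympB_iff d W').mpr hW'ti, hW'm⟩
  -- nondegeneracy of the fixed space of `g`
  obtain ⟨hC₂, -, -⟩ := fix_split (sympB_self d) hgI hcop hkill₂ (sympB_nd d) (inv_top g)
  rw [top_inf_eq] at hC₂
  have hbase : ∀ a : ℕ, 2 * a ≤ finrank F (LinearMap.ker (g - 1)) →
      ∃ U : Submodule F (Unit ⊕ (Fin d ⊕ Fin d) → F), U ≤ LinearMap.ker (f - 1) ∧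
        TI (orthB d F) U ∧ finrank F U = a := by
    intro a ha
    apply exists_ti_of_nd_symm h2 (orthB_symm d) hC
    omega
  obtain ⟨W, -, hWf, hWti, hWm⟩ := good_transfer hfI hgI hr1 hfr hcop hcop2 hkill hkill₂ hrefl hC₂
    j hj hjr hjf' one_ne_zero hjB' hbase hgood₂
  exact ⟨W, hWm, (ti_orthB_iff h2 d W).mp hWti, (inv_iff_map_le f W).mp hWf⟩

end Cfsg.Agent.Lib.Helper79.TsSwap
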