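import Mathlib
import Cfsg.Agent.Lib.Helper79.TsBridge
import Cfsg.Agent.Lib.Helper33.TiBASE
import Cfsg.Agent.Lib.Helper99.TsEXTO
import Cfsg.Agent.Lib.Helper9.TsOMEGAODD

/-! # S5972 hive: from the odd-dimensional orthogonal group to the symplectic group (helper79) -/

set_option autoImplicit false
set_option linter.unusedSectionVars false
set_option linter.style.haveILetI false

namespace Cfsg.Agent.Lib.Helper79.TsSwap

open Polynomial Module Matrix
open Cfsg.Agent.Lib.Helper2.BG Cfsg.Agent.Lib.Helper99 Cfsg.Agent.Lib.Helper48.Ti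

variable {F : Type*} [Field F] [Fintype F]

/-- a scalar `z` with `z • 1` symplectic satisfies `z * z = 1` -/
theorem scalar_sq_of_isom (d : ℕ) (hd : 1 ≤ d) (z : F)
    (h : ∀ u v : Fin d ⊕ Fin d → F, sympB (F := F) d (z • u) (z • v) = sympB (F := F) d u v) :
    z * z = 1 := by
  have hne : (Pi.single (Sum.inl (⟨0, hd⟩ : Fin d)) (1 : F) : Fin d ⊕ Fin d → F) ≠ 0 := by
    intro h0
    have := congrFun h0 (Sum.inl (⟨0, hd⟩ : Fin d))
    simp at this
  have hex : ∃ v, sympB (F := F) d (Pi.single (Sum.inl (⟨0, hd⟩ : Fin d)) (1 : F)) v ≠ 0 := by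
    by_contra hcon
    push Not at hcon
    exact hne (sympB_nd (F := F) d _ Submodule.mem_top (fun v _ => hcon v))
  obtain ⟨v, hv⟩ := hex
  have h1 := h (Pi.single (Sum.inl (⟨0, hd⟩ : Fin d)) (1 : F)) v
  rw [map_smul, map_smul, LinearMap.smul_apply, smul_eq_mul, smul_eq_mul, ← mul_assoc] at h1
  have h2 : (z * z - 1) * sympB (F := F) d (Pi.single (Sum.inl (⟨0, hd⟩ : Fin d)) (1 : F)) v
      = 0 := by
    rw [sub_mul, h1, one_mul, sub_self]
  rcases mul_eq_zero.mp h2 with h0 | h0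
  · exact sub_eq_zero.mp h0
  · exact absurd h0 hv

/-- CORR-B: if every element of order `r` of `Ω_{2d+1}(q)` fixes a totally singular `m`-space then
every element of order `r` (modulo scalars) of `Sp_{2d}(q)` fixes a totally isotropic
`m`-space -/
theorem corr_B (h2 : (2 : F) ≠ 0) (d m : ℕ) (hd : 1 ≤ d) (r : ℕ) [hr : Fact r.Prime]
    (hr2 : r ≠ 2) (hrF : (r : F) ≠ 0)
    (hΩ : ∀ x : GL (Unit ⊕ (Fin d ⊕ Fin d)) F, x ∈ Cfsg.Geo.omegaGL (Cfsg.quadFormOdd d F) →
      orderOf x = r →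
      ∃ W : Submodule F (Unit ⊕ (Fin d ⊕ Fin d) → F), finrank F W = m ∧
        (∀ w ∈ W, Cfsg.quadFormOdd d F w = 0) ∧
        W.map (Matrix.toLin'
          (x : Matrix (Unit ⊕ (Fin d ⊕ Fin d)) (Unit ⊕ (Fin d ⊕ Fin d)) F)) ≤ W)
    (y : ↥(Matrix.symplecticGroup (Fin d) F))
    (hyr : ∃ z : F, ((y ^ r : ↥(Matrix.symplecticGroup (Fin d) F)) :
      Matrix (Fin d ⊕ Fin d) (Fin d ⊕ Fin d) F) = z • 1)
    (hns : ∀ z : F, (y : Matrix (Fin d ⊕ Fin d) (Fin d ⊕ Fin d) F) ≠ z • 1) :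
    ∃ W : Submodule F (Fin d ⊕ Fin d → F), finrank F W = m ∧
      (∀ u ∈ W, ∀ v ∈ W, Cfsg.sympForm d F u v = 0) ∧
      W.map (Matrix.toLin' (y : Matrix (Fin d ⊕ Fin d) (Fin d ⊕ Fin d) F)) ≤ W := by
  have hr1 : 1 ≤ r := hr.out.one_lt.le
  have hrodd : Odd r := hr.out.odd_of_ne_two hr2
  obtain ⟨z, hz⟩ := hyr
  have hg₀I : Isom (sympB (F := F) d)
      (Matrix.toLin' (y : Matrix (Fin d ⊕ Fin d) (Fin d ⊕ Fin d) F)) := isom_sympB_of_mem d y
  have hg₀r : (Matrix.toLin' (y : Matrix (Fin d ⊕ Fin d) (Fin d ⊕ Fin d) F)) ^ r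
      = z • (1 : Module.End F (Fin d ⊕ Fin d → F)) := by
    rw [← Matrix.toLin'_pow, ← SubmonoidClass.coe_pow, hz, map_smul, Matrix.toLin'_one]
    rfl
  have hzz : z * z = 1 := by
    apply scalar_sq_of_isom d hd z
    intro u v
    have h1 := isom_sympB_of_mem d (y ^ r) u v
    rw [hz, Matrix.toLin'_apply, Matrix.toLin'_apply, Matrix.smul_mulVec, Matrix.smul_mulVec,
      Matrix.one_mulVec, Matrix.one_mulVec] at h1
    exact h1
  have hz0 : z ≠ 0 := by
    intro h0
    rw [h0, mul_zero] at hzz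
    exact zero_ne_one hzz
  generalize hg₀def : (Matrix.toLin' (y : Matrix (Fin d ⊕ Fin d) (Fin d ⊕ Fin d) F)) = g₀
    at hg₀I hg₀r ⊢
  -- the normalised isometry `g = z • g₀` with `g ^ r = 1`
  have hgI : Isom (sympB (F := F) d) (z • g₀) := by
    intro u v
    rw [LinearMap.smul_apply, LinearMap.smul_apply, map_smul, map_smul, LinearMap.smul_apply,
      smul_eq_mul, smul_eq_mul, ← mul_assoc, hzz, one_mul]
    exact hg₀I u v
  have hgr : (z • g₀) ^ r = 1 := by
    rw [_root_.smul_pow, hg₀r, smul_smul]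
    obtain ⟨k, hk⟩ := hrodd
    have : z ^ r * z = 1 := by
      rw [← pow_succ, hk]
      have e : 2 * k + 1 + 1 = 2 * (k + 1) := by ring
      rw [e, pow_mul, pow_two, hzz, one_pow]
    rw [this, one_smul]
  have hgw : ∀ w, (z • g₀) w = z • g₀ w := fun w => rfl
  generalize hgdef : z • g₀ = g at hgI hgr hgw
  have hcop : IsCoprime (X - 1 : F[X]) (cyclotomic r F) := isCoprime_X_sub_one_cyclotomic hrF
  have hcop2 : IsCoprime (X ^ 2 - 1 : F[X]) (cyclotomic r F) :=
    isCoprime_X_sq_sub_one_cyclotomic hr2 hrF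
  have hkill : aeval g ((X - 1 : F[X]) * cyclotomic r F) = 0 := aeval_kill_of_pow hgr
  obtain ⟨hC, hR, hsum⟩ :=
    fix_split (sympB_self d) hgI hcop hkill (sympB_nd d) (inv_top g)
  rw [top_inf_eq] at hC hR
  rw [top_inf_eq, top_inf_eq, finrank_top, finrank_symp] at hsum
  have hRf : Inv g (LinearMap.ker (aeval g (cyclotomic r F))) := inv_ker_aeval g _
  have hRP : ∀ v ∈ LinearMap.ker (aeval g (cyclotomic r F)), aeval g (cyclotomic r F) v = 0 :=
    fun v hv => LinearMap.mem_ker.mp hv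
  have hRsw : Nd (swap (sympB (F := F) d) g) (LinearMap.ker (aeval g (cyclotomic r F))) :=
    nd_swap hgI hr1 hgr hcop2 hRf hRP hR
  have hsymm : ∀ u v, swap (sympB (F := F) d) g u v = swap (sympB (F := F) d) g v u :=
    swap_symm_of_alt (sympB_self d) g
  obtain ⟨e, he⟩ := even_finrank_of_nd (sympB_self d) hR
  have hed : e ≤ d := by omega
  -- the abstract orthogonal space
  obtain ⟨x, j, l, hxO, hl, hj, hjB, hjf, hperp⟩ := exists_orth_ext (F := F) h2 d e hed
    ((swap (sympB (F := F) d) g).domRestrict₁₂ (LinearMap.ker (aeval g (cyclotomic r F)))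
      (LinearMap.ker (aeval g (cyclotomic r F))))
    (fun u v => by
      rw [LinearMap.domRestrict₁₂_apply, LinearMap.domRestrict₁₂_apply]; exact hsymm _ _)
    (fun u hu => by
      apply Subtype.ext
      apply hRsw u u.2
      intro v hv
      have := hu ⟨v, hv⟩
      rwa [LinearMap.domRestrict₁₂_apply] at this)
    (by rw [he]; ring)
    (g.restrict hRf)
    (fun u v => by
      rw [LinearMap.domRestrict₁₂_apply, LinearMap.domRestrict₁₂_apply]
      exact isom_swap hgI _ _)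
  have hfI : Isom (orthB d F) (Matrix.toLin'
      (x : Matrix (Unit ⊕ (Fin d ⊕ Fin d)) (Unit ⊕ (Fin d ⊕ Fin d)) F)) :=
    isom_orthB_of_preserves d _ ((mem_isometryGroup_odd_iff d x).mp hxO)
  generalize hfdef : (Matrix.toLin'
      (x : Matrix (Unit ⊕ (Fin d ⊕ Fin d)) (Unit ⊕ (Fin d ⊕ Fin d)) F)) = f at hfI hjf hperp
  have hjf' : ∀ u : ↥(LinearMap.ker (aeval g (cyclotomic r F))),
      f (j u) = j ⟨g u, inv_ker_aeval g _ u u.2⟩ := by
    intro u
    rw [hjf u]
    rfl
  have hjB' : ∀ u v : ↥(LinearMap.ker (aeval g (cyclotomic r F))),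
      orthB d F (j u) (j v) = l * swap (sympB (F := F) d) g (u : _) (v : _) := by
    intro u v
    rw [orthB_apply, hjB, LinearMap.domRestrict₁₂_apply]
  have hrefl : ∀ u v, orthB d F u v = 0 → orthB d F v u = 0 := by
    intro u v h
    rw [orthB_symm d v u, h]
  have hperp' : ∀ w, (∀ u, orthB d F (j u) w = 0) → f w = w := by
    intro w hw
    apply hperp w
    intro u
    rw [← orthB_apply]
    exact hw u
  obtain ⟨hkill₂, hjr, hdim⟩ := ext_struct (B₂ := orthB d F) (f₂ := f) hcop hrefl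
    (swap (sympB (F := F) d) g) hRsw j hj hjf' hl hjB' hperp'
  rw [finrank_orth] at hdim
  have hfr : f ^ r = 1 := pow_eq_one_of_aeval_kill hkill₂
  -- `x` has order `r`
  have hxr1 : x ^ r = 1 := by
    apply Units.ext
    rw [Units.val_pow_eq_pow_val, Units.val_one, ← toLin'_eq_one_iff, Matrix.toLin'_pow, hfdef,
      hfr]
  have hx1 : x ≠ 1 := by
    intro hx1
    have hf1 : f = 1 := by
      rw [← hfdef, hx1, Units.val_one, Matrix.toLin'_one]
      rfl
    have hgu : ∀ u ∈ LinearMap.ker (aeval g (cyclotomic r F)), g u = u := by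
      intro u hu
      have h1 := hjf' ⟨u, hu⟩
      rw [hf1, Module.End.one_apply] at h1
      have h2 := congrArg Subtype.val (hj h1)
      exact h2.symm
    have hRbot : ∀ u ∈ LinearMap.ker (aeval g (cyclotomic r F)), u = 0 := by
      intro u hu
      apply hRsw u hu
      intro v hv
      rw [swap_apply, hgu u hu, hgu v hv, sub_self]
    have hR0 : finrank F ↥(LinearMap.ker (aeval g (cyclotomic r F))) = 0 := by
      rw [Submodule.finrank_eq_zero, Submodule.eq_bot_iff]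
      exact hRbot
    have hCtop : LinearMap.ker (g - 1) = ⊤ := by
      apply Submodule.eq_top_of_finrank_eq
      rw [finrank_symp]
      omega
    have hg1 : ∀ w, g₀ w = z • w := by
      intro w
      have hw : w ∈ LinearMap.ker (g - 1) := by rw [hCtop]; exact Submodule.mem_top
      have h1 := fix_of_mem_ker hw
      rw [hgw] at h1
      calc g₀ w = (z * z) • g₀ w := by rw [hzz, one_smul]
        _ = z • (z • g₀ w) := by rw [mul_smul]
        _ = z • w := by rw [h1]
    apply hns z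
    apply Matrix.toLin'.injective
    apply LinearMap.ext
    intro w
    rw [hg₀def, hg1 w, map_smul, Matrix.toLin'_one]
    rfl
  have hxr : orderOf x = r := by
    rcases (Nat.dvd_prime hr.out).mp (orderOf_dvd_of_pow_eq_one hxr1) with h | h
    · exact absurd (orderOf_eq_one_iff.mp h) hx1
    · exact h
  have hxΩ : x ∈ Cfsg.Geo.omegaGL (Cfsg.quadFormOdd d F) :=
    mem_omegaGL_of_odd_order h2 d x hxO (by rw [hxr]; exact hrodd)
  obtain ⟨W', hW'm, hW'ts, hW'inv⟩ := hΩ x hxΩ hxr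
  rw [hfdef] at hW'inv
  have hgood₂ : Good (orthB d F) f ⊤ m :=
    ⟨W', le_top, (inv_iff_map_le f W').mpr hW'inv, (ti_orthB_iff h2 d W').mpr hW'ts, hW'm⟩
  obtain ⟨hC₂, -, -⟩ :=
    fix_split_symm (orthB_symm d) hfI hcop hkill₂ (orthB_nd h2 d) (inv_top f)
  rw [top_inf_eq] at hC₂
  have hbase : ∀ a : ℕ, 2 * a ≤ finrank F (LinearMap.ker (f - 1)) →
      ∃ U : Submodule F (Fin d ⊕ Fin d → F), U ≤ LinearMap.ker (g - 1) ∧
        TI (sympB (F := F) d) U ∧ finrank F U = a := by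
    intro a ha
    apply exists_ti_of_nd (sympB_self d) hC
    omega
  obtain ⟨W, -, hWg, hWti, hWm⟩ := good_transfer hgI hfI hr1 hgr hcop hcop2 hkill hkill₂ hrefl
    hC₂ j hj hjr hjf' hl hjB' hbase hgood₂
  refine ⟨W, hWm, (ti_sympB_iff d W).mp hWti, (inv_iff_map_le g₀ W).mp ?_⟩
  intro w hw
  have h1 := hWg w hw
  rw [hgw] at h1
  have : g₀ w = z • (z • g₀ w) := by rw [← mul_smul, hzz, one_smul]
  rw [this]
  exact W.smul_mem z h1

end Cfsg.Agent.Lib.Helper79.TsSwap
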