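import Mathlib
import Cfsg.Agent.Lib.Helper79.TsCorrA
import Cfsg.Agent.Lib.Helper79.TsCorrB

/-! # S5972 hive: the reduction of the odd-order case to the symplectic row (helper79) -/

set_option autoImplicit false
set_option linter.unusedSectionVars false
set_option linter.style.haveILetI false

namespace Cfsg.Agent.Lib.Helper79.TsSwap

open Polynomial Module Matrix

theorem two_ne_zero_of_odd_card {F : Type*} [Field F] [Fintype F]
    (hqodd : Odd (Fintype.card F)) : (2 : F) ≠ 0 := by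
  intro h2
  have hchar : ringChar F = 2 := by
    have hdvd : ringChar F ∣ 2 := by
      rw [← CharP.cast_eq_zero_iff F (ringChar F) 2]
      exact_mod_cast h2
    rcases (Nat.dvd_prime Nat.prime_two).mp hdvd with h | h
    · exact absurd h (CharP.ringChar_ne_one)
    · exact h
  have := FiniteField.even_card_iff_char_two.mp hchar
  rcases hqodd with ⟨k, hk⟩
  omega

theorem natCast_ne_zero_of_ne {F : Type*} [Field F] {p : ℕ} [hp : Fact p.Prime] [CharP F p]
    {r : ℕ} [hr : Fact r.Prime] (hrp : r ≠ p) : (r : F) ≠ 0 := by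
  intro h
  rw [CharP.cast_eq_zero_iff F p r] at h
  exact hrp ((Nat.prime_dvd_prime_iff_eq hp.out hr.out).mp h).symm

/-- **The reduction of the odd-order case of S5972 to S5955.**  For `r` an odd prime different from
the characteristic, every element of order `r` of `Ω_{2d+1}(q)` fixes a totally singular `m`-space
if and only if every element of order `r` (modulo scalars) of `Sp_{2d}(q)` fixes a totally
isotropic `m`-space. -/
theorem odd_iff {F : Type*} [Field F] [Fintype F] {p : ℕ} [Fact p.Prime] [CharP F p]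
    (hqodd : Odd (Fintype.card F)) (d m : ℕ) (hd : 1 ≤ d) (hm : 1 ≤ m) (hmd : m ≤ d)
    (r : ℕ) [Fact r.Prime] (hr2 : r ≠ 2) (hrp : r ≠ p) :
    (∀ x : GL (Unit ⊕ (Fin d ⊕ Fin d)) F, x ∈ Cfsg.Geo.omegaGL (Cfsg.quadFormOdd d F) →
      orderOf x = r →
      ∃ W : Submodule F (Unit ⊕ (Fin d ⊕ Fin d) → F), Module.finrank F ↥W = m ∧
        (∀ w ∈ W, Cfsg.quadFormOdd d F w = 0) ∧
        W.map (Matrix.toLin'
          (x : Matrix (Unit ⊕ (Fin d ⊕ Fin d)) (Unit ⊕ (Fin d ⊕ Fin d)) F)) ≤ W) ↔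
    (∀ x : ↥(Matrix.symplecticGroup (Fin d) F),
      (∃ z : F, ((x ^ r : ↥(Matrix.symplecticGroup (Fin d) F)) :
        Matrix (Fin d ⊕ Fin d) (Fin d ⊕ Fin d) F) =
          z • (1 : Matrix (Fin d ⊕ Fin d) (Fin d ⊕ Fin d) F)) →
      (∀ z : F, (x : Matrix (Fin d ⊕ Fin d) (Fin d ⊕ Fin d) F) ≠
        z • (1 : Matrix (Fin d ⊕ Fin d) (Fin d ⊕ Fin d) F)) →
      ∃ W : Submodule F (Fin d ⊕ Fin d → F), Module.finrank F ↥W = m ∧
        (∀ u ∈ W, ∀ v ∈ W, Cfsg.sympForm d F u v = 0) ∧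
        W.map (Matrix.toLin' (x : Matrix (Fin d ⊕ Fin d) (Fin d ⊕ Fin d) F)) ≤ W) := by
  have h2 : (2 : F) ≠ 0 := two_ne_zero_of_odd_card hqodd
  have hrF : (r : F) ≠ 0 := natCast_ne_zero_of_ne hrp
  constructor
  · intro hΩ y hyr hns
    exact corr_B h2 d m hd r hr2 hrF hΩ y hyr hns
  · intro hSp x hx hxr
    refine corr_A h2 d m r hr2 hrF hSp x ?_ hxr
    obtain ⟨s, -, rfl⟩ := hx
    exact s.2

end Cfsg.Agent.Lib.Helper79.TsSwap
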